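import Cfsg.Agent.Lib.SL2.Basic
import Cfsg.Agent.Lib.LinearGroups.Basic

/-!
# `SL(2, q)`: class representatives and centraliser orders
-/

set_option autoImplicit false
set_option linter.unusedSectionVars false

namespace Cfsg.Agent.SL2

open Matrix

variable {F : Type*} [Field F]

local notation "G" => Matrix.SpecialLinearGroup (Fin 2) F
local notation "M2" => Matrix (Fin 2) (Fin 2) F

/-- Diagonal element. -/
def dd (a : Fˣ) : G := ⟨!![(a : F), 0; 0, (a : F)⁻¹], by simp [Matrix.det_fin_two]⟩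

/-- Upper unitriangular element. -/
def uu (s : F) : G := ⟨!![1, s; 0, 1], by simp [Matrix.det_fin_two]⟩

@[simp] theorem tr_dd (a : Fˣ) : tr (dd a) = (a : F) + (a : F)⁻¹ := by simp [tr, dd]

@[simp] theorem tr_uu (s : F) : tr (uu s) = 2 := by simp [tr, uu]; norm_num

theorem dd_mul (a b : Fˣ) : dd a * dd b = dd (a * b) := by
  apply Subtype.ext
  rw [Matrix.SpecialLinearGroup.coe_mul]
  apply mext <;> simp [dd, Matrix.mul_apply, Fin.sum_univ_two, mul_comm]

theorem uu_mul (a b : F) : uu a * uu b = uu (a + b) := by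
  apply Subtype.ext
  rw [Matrix.SpecialLinearGroup.coe_mul]
  apply mext <;> simp [uu, Matrix.mul_apply, Fin.sum_univ_two, add_comm]

theorem dd_one : dd (1 : Fˣ) = 1 := by apply ext4 <;> simp [dd]

theorem uu_zero : uu (0 : F) = 1 := by apply ext4 <;> simp [uu]

/-- The diagonal torus as a homomorphism. -/
def ddHom : Fˣ →* G where
  toFun := dd
  map_one' := dd_one
  map_mul' a b := (dd_mul a b).symm

theorem dd_injective : Function.Injective (dd (F := F)) := fun a b h =>
  Units.ext (by simpa [dd] using congrArg (fun g : G => (g : M2) 0 0) h)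

theorem dd_inv (a : Fˣ) : (dd a)⁻¹ = dd a⁻¹ := (map_inv ddHom a).symm

theorem tr_sq_dd {a : Fˣ} (h : (a : F) ^ 2 ≠ 1) : tr (dd a) ^ 2 ≠ 4 := by
  intro h4
  apply h
  rw [tr_dd] at h4
  have h' : ((a : F) ^ 2 - 1) ^ 2 = 0 := by
    have : (a : F) * (a : F)⁻¹ = 1 := mul_inv_cancel₀ a.ne_zero
    linear_combination ((a : F) ^ 2) * h4 - (2 * (a : F) ^ 2 + 1 + (a : F) * (a : F)⁻¹) * this
  exact sub_eq_zero.1 (pow_eq_zero_iff two_ne_zero |>.1 h')

theorem not_scal_uu {s : F} (hs : s ≠ 0) : ¬ Scal (uu s) := fun h => hs (by simpa [uu] using h.1)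

/-- A root of the characteristic polynomial gives a triangular form. -/
theorem exists_upper {g : G} {a : F} (ha : a * (tr g - a) = 1) :
    ∃ P : G, ((P⁻¹ * g * P : G) : M2) 1 0 = 0 := by
  by_cases hc : (g : M2) 1 0 = 0
  · exact ⟨1, by simpa using hc⟩
  · let P : G := ⟨!![a - (g : M2) 1 1, -((g : M2) 1 0)⁻¹; (g : M2) 1 0, 0], by
      rw [Matrix.det_fin_two]; simp [hc]⟩
    refine ⟨P, ?_⟩
    rw [Matrix.SpecialLinearGroup.coe_mul, Matrix.SpecialLinearGroup.coe_mul, coe_inv']
    have hd := det_eq g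
    simp [P, tr, Matrix.mul_apply, Fin.sum_univ_two] at ha ⊢
    grind

theorem upper_root {g : G} (h : (g : M2) 1 0 = 0) :
    (g : M2) 0 0 * (tr g - (g : M2) 0 0) = 1 ∧ (g : M2) 0 0 ≠ 0 ∧
      (g : M2) 1 1 = ((g : M2) 0 0)⁻¹ := by
  have hd := det_eq g
  rw [h, mul_zero, sub_zero] at hd
  have h0 : (g : M2) 0 0 ≠ 0 := left_ne_zero_of_mul_eq_one hd
  exact ⟨by rw [tr]; linear_combination hd, h0, eq_inv_of_mul_eq_one_right hd⟩

/-- `g` has no eigenvector in `F²`. -/
def NoEig (g : G) : Prop :=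
  ∀ (c : F) (v : Fin 2 → F), v ≠ 0 → (g : M2).mulVec v ≠ c • v

theorem noEig_iff (g : G) : NoEig g ↔ ∀ a : F, a * (tr g - a) ≠ 1 := by
  constructor
  · intro h a ha
    obtain ⟨P, hP⟩ := exists_upper ha
    have e : (P : M2) * ((P⁻¹ * g * P : G) : M2) = (g : M2) * (P : M2) := by
      rw [← Matrix.SpecialLinearGroup.coe_mul, ← Matrix.SpecialLinearGroup.coe_mul,
        show P * (P⁻¹ * g * P) = g * P by group]
    generalize P⁻¹ * g * P = B at e hP
    refine h ((B : M2) 0 0) (fun i => (P : M2) i 0) ?_ ?_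
    · intro h0
      have hd := det_eq P
      rw [show (P : M2) 0 0 = 0 from congrFun h0 0, show (P : M2) 1 0 = 0 from congrFun h0 1] at hd
      simp at hd
    · funext i
      have := congrFun (congrFun e i) 0
      simp [Matrix.mul_apply, Fin.sum_univ_two, hP] at this
      simp [Matrix.mulVec, dotProduct, Fin.sum_univ_two]
      linear_combination -this
  · intro h c v hv hgv
    have hd := det_eq g
    have e0 := congrFun hgv 0
    have e1 := congrFun hgv 1
    simp [Matrix.mulVec, dotProduct, Fin.sum_univ_two] at e0 e1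
    apply h c
    have h0 : (c * c - tr g * c + 1) * v 0 = 0 := by
      rw [tr]
      linear_combination ((g : M2) 1 1 - c) * e0 - (g : M2) 0 1 * e1 + (-1 : F) * hd * v 0
    have h1 : (c * c - tr g * c + 1) * v 1 = 0 := by
      rw [tr]
      linear_combination ((g : M2) 0 0 - c) * e1 - (g : M2) 1 0 * e0 + (-1 : F) * hd * v 1
    by_contra hne
    refine hv (funext fun i => ?_)
    have hne' : c * c - tr g * c + 1 ≠ 0 := fun h' => hne (by linear_combination -h')
    fin_cases i
    · exact (mul_eq_zero.1 h0).resolve_left hne'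
    · exact (mul_eq_zero.1 h1).resolve_left hne'

theorem noEig_conj (g h : G) : NoEig (h * g * h⁻¹) ↔ NoEig g := by
  rw [noEig_iff, noEig_iff, tr_conj]

theorem NoEig.tr_sq {g : G} (h : NoEig g) : tr g ^ 2 ≠ 4 := by
  intro h4
  rw [noEig_iff] at h
  by_cases h2 : (2 : F) = 0
  · have h0 : tr g = 0 := pow_eq_zero_iff two_ne_zero |>.1 (by linear_combination h4 + 2 * h2)
    exact h 1 (by rw [h0]; linear_combination -h2)
  · apply h (tr g / 2)
    field_simp
    linear_combination h4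

theorem exists_dd_conj [Fintype F] {g : G} (ht : tr g ^ 2 ≠ 4) {a : F}
    (ha : a * (tr g - a) = 1) :
    ∃ (u : Fˣ) (P : G), (u : F) = a ∧ (u : F) ^ 2 ≠ 1 ∧ P * dd u * P⁻¹ = g := by
  have ha0 : a ≠ 0 := left_ne_zero_of_mul_eq_one ha
  have htr : tr (dd (Units.mk0 a ha0)) = tr g := by
    rw [tr_dd]
    simp only [Units.val_mk0]
    rw [← eq_inv_of_mul_eq_one_right ha]
    ring
  obtain ⟨P, hP⟩ := isConj_of_tr htr (htr ▸ ht)
  refine ⟨Units.mk0 a ha0, P, rfl, ?_, hP⟩
  intro h1
  rw [Units.val_mk0] at h1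
  apply ht
  have : tr g = 2 * a := by linear_combination a * ha + (a - tr g) * h1
  rw [this]
  linear_combination 4 * h1

/-- A non-scalar element of trace `± 2` is conjugate to a triangular one. -/
theorem exists_unip_conj {g : G} (hg : ¬ Scal g) (ht : tr g ^ 2 = 4) :
    ∃ (ε s : F) (P : G), ε ^ 2 = 1 ∧ s ≠ 0 ∧ tr g = 2 * ε ∧
      ((P⁻¹ * g * P : G) : M2) = !![ε, s; 0, ε] := by
  obtain ⟨ε, hε, hε2⟩ : ∃ ε : F, ε ^ 2 = 1 ∧ tr g = 2 * ε := by
    by_cases h2 : (2 : F) = 0
    · exact ⟨1, one_pow 2, by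
        rw [mul_one, h2]
        exact pow_eq_zero_iff two_ne_zero |>.1 (by linear_combination ht + 2 * h2)⟩
    · exact ⟨tr g / 2, by field_simp; linear_combination ht, by field_simp⟩
  obtain ⟨P, hP⟩ := exists_upper (g := g) (a := ε) (by rw [hε2]; linear_combination hε)
  obtain ⟨hu, hu0, hu1⟩ := upper_root hP
  have htr : tr (P⁻¹ * g * P) = tr g := by simpa using tr_conj g P⁻¹
  rw [htr, hε2] at hu
  have h00 : ((P⁻¹ * g * P : G) : M2) 0 0 = ε := sub_eq_zero.1 (pow_eq_zero_iff two_ne_zero |>.1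
    (by linear_combination hε - hu))
  have h11 : ((P⁻¹ * g * P : G) : M2) 1 1 = ε := by
    rw [hu1, h00]; exact inv_eq_of_mul_eq_one_right (by linear_combination hε)
  refine ⟨ε, _, P, hε, ?_, hε2, mext (by simpa using h00) (by simp; rfl) (by simpa using hP)
    (by simpa using h11)⟩
  intro hs
  refine hg ?_
  have h := not_scal_conj hg P⁻¹
  rw [inv_inv] at h
  exact absurd ⟨hs, hP, h00.trans h11.symm⟩ h

/-- Conjugates of `g` correspond to cosets of the centraliser. -/
theorem index_cent (g : G) : (cent g).index = Nat.card {h : G // ∃ P : G, P * g * P⁻¹ = h} := by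
  let f : G ⧸ cent g → {h : G // ∃ P : G, P * g * P⁻¹ = h} :=
    Quotient.lift (fun x : G => ⟨x * g * x⁻¹, x, rfl⟩) fun x y hxy => by
      have h := mem_cent.1 (QuotientGroup.leftRel_apply.1 hxy)
      apply Subtype.ext
      calc x * g * x⁻¹ = x * (g * (x⁻¹ * y)) * y⁻¹ := by group
        _ = x * (x⁻¹ * y * g) * y⁻¹ := by rw [h]
        _ = y * g * y⁻¹ := by group
  refine Nat.card_congr (Equiv.ofBijective f ⟨fun x y => ?_, fun ⟨h, P, hP⟩ =>
    ⟨QuotientGroup.mk P, Subtype.ext hP⟩⟩)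
  induction x using QuotientGroup.induction_on with | _ x => ?_
  induction y using QuotientGroup.induction_on with | _ y => ?_
  intro hxy
  have h : x * g * x⁻¹ = y * g * y⁻¹ := congrArg Subtype.val hxy
  refine QuotientGroup.eq.2 (mem_cent.2 ?_)
  calc g * (x⁻¹ * y) = x⁻¹ * (x * g * x⁻¹) * y := by group
    _ = x⁻¹ * (y * g * y⁻¹) * y := by rw [h]
    _ = x⁻¹ * y * g := by group

variable [Fintype F]

local notation "q" => Fintype.card F

theorem two_le_q : 2 ≤ q := Fintype.one_lt_card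

theorem card_G : Nat.card G = q * ((q - 1) * (q + 1)) := by
  have h := LinGrp.natCard_SL_mul (F := F) 2 (by norm_num)
  rw [Fin.prod_univ_two] at h
  simp only [Fin.val_zero, Fin.val_one, pow_zero, pow_one] at h
  have hq := two_le_q (F := F)
  refine Nat.eq_of_mul_eq_mul_left (Nat.sub_pos_of_lt (hq)) ?_
  rw [h, show q ^ 2 - 1 = (q - 1) * (q + 1) by rw [← one_pow 2, Nat.sq_sub_sq, one_pow, mul_comm],
    show q ^ 2 - q = q * (q - 1) by rw [Nat.mul_sub_one, pow_two]]
  ring

theorem nat_card_F : Nat.card F = q := Nat.card_eq_fintype_card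

theorem card_cent_regular {g : G} (ht : tr g ^ 2 ≠ 4) :
    ((∀ a : F, a * (tr g - a) ≠ 1) ∧ Nat.card (cent g) = q + 1 ∧ (cent g).index = q * (q - 1)) ∨
      ((∃ a : F, a * (tr g - a) = 1) ∧ Nat.card (cent g) = q - 1 ∧
        (cent g).index = q * (q + 1)) := by
  have hi : (cent g).index = q * (q - 1) + q * nroots (tr g) := by
    rw [index_cent, ← nat_card_F, ← card_trace]
    exact Nat.card_congr (Equiv.subtypeEquivRight fun h =>
      ⟨fun ⟨P, hP⟩ => hP ▸ tr_conj g P, fun hh => isConj_of_tr hh.symm ht⟩)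
  have hm := (cent g).card_mul_index
  rw [card_G] at hm
  have hq := two_le_q (F := F)
  rcases nroots_cases ht with ⟨hr, hno⟩ | ⟨hr, hex⟩ <;> rw [hr] at hi
  · rw [mul_zero, add_zero] at hi
    refine Or.inl ⟨hno, ?_, hi⟩
    rw [hi, ← mul_assoc, ← mul_assoc, mul_comm _ (q + 1)] at hm
    refine Nat.eq_of_mul_eq_mul_right (Nat.mul_pos (by omega : 0 < q) (by omega : 0 < q - 1)) ?_
    linarith [hm]
  · have hi' : (cent g).index = q * (q + 1) := by
      rw [hi, ← mul_add]; congr 1; omega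
    refine Or.inr ⟨hex, ?_, hi'⟩
    rw [hi'] at hm
    refine Nat.eq_of_mul_eq_mul_right (Nat.mul_pos (by omega : 0 < q) (by omega : 0 < q + 1)) ?_
    linarith [hm]

theorem card_cent_noEig {g : G} (h : NoEig g) :
    Nat.card (cent g) = q + 1 ∧ (cent g).index = q * (q - 1) := by
  rcases card_cent_regular h.tr_sq with ⟨-, h1⟩ | ⟨⟨a, ha⟩, -⟩
  · exact h1
  · exact absurd ha ((noEig_iff g).1 h a)

theorem card_cent_split {g : G} (ht : tr g ^ 2 ≠ 4) {a : F} (ha : a * (tr g - a) = 1) :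
    Nat.card (cent g) = q - 1 ∧ (cent g).index = q * (q + 1) := by
  rcases card_cent_regular ht with ⟨h, -⟩ | ⟨-, h1⟩
  · exact absurd ha (h a)
  · exact h1

/-- Coordinates on a centraliser. -/
noncomputable def centEquiv {g : G} (hg : ¬ Scal g) :
    cent g ≃ {v : F × F // v.1 ^ 2 + v.1 * v.2 * tr g + v.2 ^ 2 = 1} :=
  (Equiv.ofBijective
    (fun v => (⟨⟨v.1.1 • (1 : M2) + v.1.2 • (g : M2), by rw [det_lin]; exact v.2⟩,
      (mem_cent_iff hg).2 ⟨_, _, rfl⟩⟩ : cent g))
    ⟨fun v w h => by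
      have h' := coeff_unique hg (congrArg (fun x : cent g => ((x : G) : M2)) h)
      exact Subtype.ext (Prod.ext h'.1 h'.2),
    fun x => by
      obtain ⟨a, b, hab⟩ := (mem_cent_iff hg).1 x.2
      exact ⟨⟨(a, b), by rw [← det_lin, ← hab]; exact (x : G).det_coe⟩,
        Subtype.ext (Subtype.ext hab.symm)⟩⟩).symm

theorem card_cent_unip {g : G} (hg : ¬ Scal g) (ht : tr g ^ 2 = 4) :
    Nat.card (cent g) = Nat.card {s : F // s ^ 2 = 1} * q := by
  obtain ⟨ε, s, P, hε, -, hε2, -⟩ := exists_unip_conj hg ht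
  rw [Nat.card_congr (centEquiv hg), ← nat_card_F, ← Nat.card_prod]
  refine Nat.card_congr
    { toFun := fun v => (⟨v.1.1 + ε * v.1.2, by
        linear_combination v.2 + v.1.2 ^ 2 * hε - v.1.1 * v.1.2 * hε2⟩, v.1.2)
      invFun := fun w => ⟨(w.1.1 - ε * w.2, w.2), by
        dsimp only
        linear_combination w.1.2 - w.2 ^ 2 * hε + (w.1.1 - ε * w.2) * w.2 * hε2⟩
      left_inv := fun v => by ext <;> simp
      right_inv := fun w => by ext <;> simp }

theorem card_sq_one (hodd : Odd q) : Nat.card {s : F // s ^ 2 = 1} = 2 := by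
  classical
  have h2 : (1 : F) ≠ -1 := by
    intro h
    have h0 : (2 : F) = 0 := by linear_combination h
    have : CharP F 2 := CharTwo.of_one_ne_zero_of_two_eq_zero one_ne_zero h0
    exact Nat.not_even_iff_odd.2 hodd (Nat.even_iff.2
      (FiniteField.even_card_of_char_two (ringChar.eq F 2)))
  rw [Nat.card_eq_fintype_card, Fintype.card_subtype,
    show (Finset.univ.filter fun s : F => s ^ 2 = 1) = {1, -1} from ?_, Finset.card_pair h2]
  ext s; simp [sq_eq_one_iff]

theorem two_ne_zero' (hodd : Odd q) : (2 : F) ≠ 0 := by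
  intro h0
  have : CharP F 2 := CharTwo.of_one_ne_zero_of_two_eq_zero one_ne_zero h0
  exact Nat.not_even_iff_odd.2 hodd (Nat.even_iff.2
    (FiniteField.even_card_of_char_two (ringChar.eq F 2)))

theorem exists_noEig : ∃ g : G, NoEig g := by
  classical
  have hlt : (Finset.univ.image fun a : Fˣ => (a : F) + (a : F)⁻¹).card < q := by
    refine lt_of_le_of_lt Finset.card_image_le ?_
    rw [Finset.card_univ, Fintype.card_units]
    have := two_le_q (F := F); omega
  obtain ⟨t, -, ht⟩ := Finset.exists_mem_notMem_of_card_lt_card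
    (s := Finset.univ.image fun a : Fˣ => (a : F) + (a : F)⁻¹) (t := (Finset.univ : Finset F))
    (by simpa using hlt)
  refine ⟨comp t, (noEig_iff _).2 fun a ha => ht ?_⟩
  rw [tr_comp] at ha
  have ha0 : a ≠ 0 := left_ne_zero_of_mul_eq_one ha
  refine Finset.mem_image.2 ⟨Units.mk0 a ha0, Finset.mem_univ _, ?_⟩
  rw [Units.val_mk0, ← eq_inv_of_mul_eq_one_right ha]
  ring

end Cfsg.Agent.SL2
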