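import Cfsg.Agent.Lib.SL2.Tori
import Cfsg.Agent.Lib.Recog.PGLTwoOrders

/-!
# `PSL(2, q)`: class sizes and products of two classes
-/

set_option autoImplicit false
set_option linter.unusedSectionVars false

namespace Cfsg.Agent.SL2

open Matrix

variable {F : Type*} [Field F]

local notation "G" => Matrix.SpecialLinearGroup (Fin 2) F
local notation "M2" => Matrix (Fin 2) (Fin 2) F
local notation "PS" => Matrix.ProjectiveSpecialLinearGroup (Fin 2) F

/-- The projection. -/
def π : G →* PS := QuotientGroup.mk' _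

theorem π_surjective : Function.Surjective (π (F := F)) := QuotientGroup.mk'_surjective _

theorem π_eq_one {g : G} : π g = 1 ↔ Scal g :=
  (QuotientGroup.eq_one_iff g).trans (scal_iff_mem_center g).symm

theorem π_eq_iff {g h : G} : π g = π h ↔ h = g ∨ h = -g := by
  rw [← inv_mul_eq_one, ← map_inv, ← map_mul, π_eq_one, scal_iff, inv_mul_eq_one,
    inv_mul_eq_iff_eq_mul, mul_neg, mul_one, eq_comm (a := g)]

theorem π_neg (g : G) : π (-g) = π g := π_eq_iff.2 (Or.inr (neg_neg g).symm)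

theorem π_conj (g P : G) : π (P * g * P⁻¹) = π P * π g * (π P)⁻¹ := by
  rw [map_mul, map_mul, map_inv]

theorem index_centralizer_singleton {H : Type*} [Group H] (g : H) :
    (Subgroup.centralizer ({g} : Set H)).index =
      Nat.card {h : H // ∃ P : H, P * g * P⁻¹ = h} := by
  have hm : ∀ z : H, z ∈ Subgroup.centralizer ({g} : Set H) ↔ g * z = z * g := fun z => by
    simp [Subgroup.mem_centralizer_iff]
  let f : H ⧸ Subgroup.centralizer ({g} : Set H) → {h : H // ∃ P : H, P * g * P⁻¹ = h} :=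
    Quotient.lift (fun x : H => ⟨x * g * x⁻¹, x, rfl⟩) fun x y hxy => by
      have h := (hm _).1 (QuotientGroup.leftRel_apply.1 hxy)
      apply Subtype.ext
      calc x * g * x⁻¹ = x * (g * (x⁻¹ * y)) * y⁻¹ := by group
        _ = x * (x⁻¹ * y * g) * y⁻¹ := by rw [h]
        _ = y * g * y⁻¹ := by group
  refine Nat.card_congr (Equiv.ofBijective f ⟨fun x y => ?_, fun ⟨h, P, hP⟩ =>
    ⟨QuotientGroup.mk P, Subtype.ext hP⟩⟩)
  induction x using QuotientGroup.induction_on with | _ x => ?_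
  induction y using QuotientGroup.induction_on with | _ y => ?_
  intro hxy
  have h : x * g * x⁻¹ = y * g * y⁻¹ := congrArg Subtype.val hxy
  refine QuotientGroup.eq.2 ((hm _).2 ?_)
  calc g * (x⁻¹ * y) = x⁻¹ * (x * g * x⁻¹) * y := by group
    _ = x⁻¹ * (y * g * y⁻¹) * y := by rw [h]
    _ = x⁻¹ * y * g := by group

/-- Class sizes upstairs and downstairs. -/
theorem index_psl_of_not_conj [Finite F] {g : G} (h : ∀ P : G, P * g * P⁻¹ = -g → -g = g) :
    (Subgroup.centralizer ({π g} : Set PS)).index = (cent g).index := by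
  rw [index_centralizer_singleton, index_cent]
  refine (Nat.card_congr (Equiv.ofBijective
    (fun x : {y : G // ∃ P : G, P * g * P⁻¹ = y} =>
      (⟨π x.1, by obtain ⟨P, hP⟩ := x.2; exact ⟨π P, by rw [← π_conj, hP]⟩⟩ :
        {y : PS // ∃ P : PS, P * π g * P⁻¹ = y})) ⟨?_, ?_⟩)).symm
  · rintro ⟨a, P, hP⟩ ⟨b, Q, hQ⟩ he
    rcases π_eq_iff.1 (congrArg Subtype.val he) with e | e
    · exact Subtype.ext e.symm
    · apply Subtype.ext
      dsimp only
      have key : Q⁻¹ * P * g * (Q⁻¹ * P)⁻¹ = -g := by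
        calc Q⁻¹ * P * g * (Q⁻¹ * P)⁻¹ = Q⁻¹ * (P * g * P⁻¹) * Q := by group
          _ = Q⁻¹ * (-(Q * g * Q⁻¹)) * Q := by
            have e' : b = -a := e
            rw [hP, hQ, e', neg_neg]
          _ = -g := by rw [mul_neg, neg_mul]; congr 1; group
      have hg := h _ key
      rw [← hP, ← hQ]
      calc P * g * P⁻¹ = Q * (Q⁻¹ * P * g * (Q⁻¹ * P)⁻¹) * Q⁻¹ := by group
        _ = Q * g * Q⁻¹ := by rw [key, hg]
  · rintro ⟨y, P, hP⟩
    obtain ⟨P, rfl⟩ := π_surjective P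
    exact ⟨⟨P * g * P⁻¹, P, rfl⟩, Subtype.ext ((π_conj g P).trans hP)⟩

theorem index_psl_of_conj [Finite F] {g : G} {P₀ : G} (h : P₀ * g * P₀⁻¹ = -g) (hne : -g ≠ g) :
    2 * (Subgroup.centralizer ({π g} : Set PS)).index = (cent g).index := by
  rw [index_centralizer_singleton, index_cent, mul_comm,
    show (Nat.card {y : PS // ∃ P : PS, P * π g * P⁻¹ = y} * 2) =
      Nat.card ({y : PS // ∃ P : PS, P * π g * P⁻¹ = y} × Bool) by
      rw [Nat.card_prod, Nat.card_eq_fintype_card (α := Bool), Fintype.card_bool]]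
  classical
  have hc : ∀ y : {y : PS // ∃ P : PS, P * π g * P⁻¹ = y}, ∃ P : G, π (P * g * P⁻¹) = y.1 := by
    rintro ⟨y, P, hP⟩
    obtain ⟨P, rfl⟩ := π_surjective P
    exact ⟨P, by rw [π_conj, hP]⟩
  choose Pf hPf using hc
  have hneg : ∀ P : G, P * P₀ * g * (P * P₀)⁻¹ = -(P * g * P⁻¹) := fun P => by
    rw [show P * P₀ * g * (P * P₀)⁻¹ = P * (P₀ * g * P₀⁻¹) * P⁻¹ by group, h, mul_neg, neg_mul]
  refine Nat.card_congr (Equiv.ofBijective (fun w : {y : PS // ∃ P : PS, P * π g * P⁻¹ = y} × Bool =>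
      (if w.2 then ⟨-(Pf w.1 * g * (Pf w.1)⁻¹), Pf w.1 * P₀, hneg _⟩
        else ⟨Pf w.1 * g * (Pf w.1)⁻¹, _, rfl⟩ : {y : G // ∃ P : G, P * g * P⁻¹ = y})) ⟨?_, ?_⟩)
  · rintro ⟨y, b⟩ ⟨z, c⟩ he
    have e1 : π (Pf y * g * (Pf y)⁻¹) = π (Pf z * g * (Pf z)⁻¹) := by
      have := congrArg (fun w : {y : G // ∃ P : G, P * g * P⁻¹ = y} => π w.1) he
      cases b <;> cases c <;> simpa [π_neg] using this
    have hyz : y = z := Subtype.ext (by rw [← hPf y, ← hPf z, e1])
    subst hyz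
    congr 1
    have hd : ∀ P : G, -(P * g * P⁻¹) ≠ P * g * P⁻¹ := fun P hh => hne (by
      have := congrArg (fun x => P⁻¹ * x * P) hh
      simpa [mul_assoc] using this)
    have he' := congrArg Subtype.val he
    cases b <;> cases c <;> simp at he' ⊢
    · exact absurd he'.symm (hd _)
    · exact absurd he' (hd _)
  · rintro ⟨x, P, hP⟩
    let y : {y : PS // ∃ P : PS, P * π g * P⁻¹ = y} := ⟨π x, π P, by rw [← π_conj, hP]⟩
    rcases π_eq_iff.1 (hPf y) with e | e
    · exact ⟨(y, false), Subtype.ext (by simpa using e.symm)⟩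
    · exact ⟨(y, true), Subtype.ext (by simpa using e.symm)⟩

theorem neg_eq_self [CharP F 2] (g : G) : -g = g := by
  apply ext4 <;> simp [CharTwo.neg_eq]

theorem neg_ne_self (h2 : (2 : F) ≠ 0) (g : G) : -g ≠ g := by
  intro h
  have hd := det_eq g
  have e : ∀ i j, (g : M2) i j = 0 := fun i j => by
    have := congrArg (fun x : G => (x : M2) i j) h
    simp at this
    exact (mul_eq_zero.1 (show (2 : F) * (g : M2) i j = 0 by linear_combination -this)).resolve_left h2
  rw [e 0 0, e 0 1] at hd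
  simp at hd

/-- A conjugate with non-zero lower left entry. -/
theorem exists_conj_lower {g : G} (hg : ¬ Scal g) :
    ∃ P : G, ((P * g * P⁻¹ : G) : M2) 1 0 ≠ 0 := by
  by_cases hc : (g : M2) 1 0 = 0
  · by_cases hb : (g : M2) 0 1 = 0
    · obtain ⟨P, hP⟩ : ∃ P : G, (P : M2) = !![1, 0; 1, 1] :=
        ⟨⟨!![1, 0; 1, 1], by simp [Matrix.det_fin_two]⟩, rfl⟩
      refine ⟨P, ?_⟩
      have : (g : M2) 0 0 - (g : M2) 1 1 ≠ 0 := fun h => hg ⟨hb, hc, sub_eq_zero.1 h⟩
      rw [Matrix.SpecialLinearGroup.coe_mul, Matrix.SpecialLinearGroup.coe_mul, coe_inv']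
      intro h
      apply this
      simp [tr, hP, Matrix.vecMul, dotProduct, Matrix.mul_apply, Fin.sum_univ_two, hc, hb] at h
      linear_combination h
    · obtain ⟨P, hP⟩ : ∃ P : G, (P : M2) = !![0, 1; -1, 0] :=
        ⟨⟨!![0, 1; -1, 0], by simp [Matrix.det_fin_two]⟩, rfl⟩
      refine ⟨P, ?_⟩
      rw [Matrix.SpecialLinearGroup.coe_mul, Matrix.SpecialLinearGroup.coe_mul, coe_inv']
      simp [tr, hP, Matrix.vecMul, dotProduct, Matrix.mul_apply, Fin.sum_univ_two, hb]
  · exact ⟨1, by simpa using hc⟩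

theorem card_quad_roots [Fintype F] [DecidableEq F] {a : F} (ha : a ≠ 0) (b c : F) :
    (Finset.univ.filter fun x : F => a * x ^ 2 + b * x + c = 0).card ≤ 2 := by
  have hdeg : (Polynomial.C a * Polynomial.X ^ 2 + Polynomial.C b * Polynomial.X + Polynomial.C c :
      Polynomial F).natDegree = 2 := Polynomial.natDegree_quadratic ha
  refine le_trans ?_ ((Polynomial.card_roots' _).trans hdeg.le)
  refine le_trans (Finset.card_le_card (t := (Polynomial.roots
    (Polynomial.C a * Polynomial.X ^ 2 + Polynomial.C b * Polynomial.X + Polynomial.C c)).toFinset)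
    fun x hx => ?_) (Multiset.toFinset_card_le _)
  rw [Multiset.mem_toFinset, Polynomial.mem_roots (fun h => by rw [h] at hdeg; simp at hdeg)]
  simpa [Polynomial.IsRoot] using (Finset.mem_filter.1 hx).2

/-- Arad-Herzog for `PSL(2, q)`. -/
theorem not_single_class [Fintype F] (h4 : 4 ≤ Fintype.card F) {a b : PS} (ha : a ≠ 1) (hb : b ≠ 1)
    (c : PS) : {g : PS | ∃ u v : PS, g = (u * a * u⁻¹) * (v * b * v⁻¹)} ≠ {g | IsConj c g} := by
  classical
  intro heq
  obtain ⟨A, rfl⟩ := π_surjective a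
  obtain ⟨B, rfl⟩ := π_surjective b
  obtain ⟨C, rfl⟩ := π_surjective c
  obtain ⟨P, hP⟩ := exists_conj_lower (g := A) fun h => ha (π_eq_one.2 h)
  obtain ⟨Q, hQ⟩ := exists_conj_lower (g := B) fun h => hb (π_eq_one.2 h)
  have key : ∀ x : F,
      tr ((P * A * P⁻¹) * ((uu x) * (Q * B * Q⁻¹) *
        (uu x)⁻¹)) = tr C ∨
      tr ((P * A * P⁻¹) * ((uu x) * (Q * B * Q⁻¹) *
        (uu x)⁻¹)) = -tr C := by
    intro x
    generalize uu x = U
    have hmem : π ((P * A * P⁻¹) * (U * (Q * B * Q⁻¹) * U⁻¹)) ∈ {g : PS | IsConj (π C) g} := by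
      rw [← heq]
      exact ⟨π P, π (U * Q), by simp only [map_mul, map_inv]; group⟩
    obtain ⟨R, hR⟩ := isConj_iff.1 hmem
    obtain ⟨R, rfl⟩ := π_surjective R
    rw [← π_conj] at hR
    rcases π_eq_iff.1 hR with e | e <;> rw [e]
    · left; rw [tr_conj]
    · right; rw [tr_neg, tr_conj]
  generalize P * A * P⁻¹ = A' at key hP
  generalize Q * B * Q⁻¹ = B' at key hQ
  set a2 := -((A' : M2) 1 0 * (B' : M2) 1 0)
  set a1 := (A' : M2) 0 0 * (B' : M2) 1 0 + (A' : M2) 1 0 * (B' : M2) 1 1 -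
    (A' : M2) 1 0 * (B' : M2) 0 0 - (A' : M2) 1 1 * (B' : M2) 1 0
  set a0 := (A' : M2) 0 0 * (B' : M2) 0 0 + (A' : M2) 0 1 * (B' : M2) 1 0 +
    (A' : M2) 1 0 * (B' : M2) 0 1 + (A' : M2) 1 1 * (B' : M2) 1 1
  have ha2 : a2 ≠ 0 := neg_ne_zero.2 (mul_ne_zero hP hQ)
  have key' : ∀ x : F, a2 * x ^ 2 + a1 * x + (a0 - tr C) = 0 ∨
      a2 * x ^ 2 + a1 * x + (a0 + tr C) = 0 := by
    intro x
    have e : ∀ U : G, (U : M2) = !![1, x; 0, 1] →
        tr (A' * (U * B' * U⁻¹)) = a2 * x ^ 2 + a1 * x + a0 := by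
      intro U hU
      rw [tr, Matrix.SpecialLinearGroup.coe_mul, Matrix.SpecialLinearGroup.coe_mul,
        Matrix.SpecialLinearGroup.coe_mul, coe_inv']
      simp [tr, hU, Matrix.vecMul, dotProduct, Matrix.mul_apply, Fin.sum_univ_two, Matrix.one_fin_two, a2, a1, a0]
      ring
    rcases key x with k | k <;> rw [e _ rfl] at k
    · left; linear_combination k
    · right; linear_combination k
  have h1 := card_quad_roots ha2 a1 (a0 - tr C)
  have h2 := card_quad_roots ha2 a1 (a0 + tr C)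
  have hu : (Finset.univ.filter fun x : F => a2 * x ^ 2 + a1 * x + (a0 - tr C) = 0) ∪
      (Finset.univ.filter fun x : F => a2 * x ^ 2 + a1 * x + (a0 + tr C) = 0) = Finset.univ :=
    Finset.eq_univ_of_forall fun x => by simpa using key' x
  by_cases hF : (2 : F) = 0
  · have : CharP F 2 := CharTwo.of_one_ne_zero_of_two_eq_zero one_ne_zero hF
    rw [show a0 + tr C = a0 - tr C from (CharTwo.sub_eq_add a0 _).symm, Finset.union_self] at hu
    rw [hu, Finset.card_univ] at h1
    omega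
  · have hcard := Finset.card_union_le (Finset.univ.filter fun x : F =>
      a2 * x ^ 2 + a1 * x + (a0 - tr C) = 0)
      (Finset.univ.filter fun x : F => a2 * x ^ 2 + a1 * x + (a0 + tr C) = 0)
    rw [hu, Finset.card_univ] at hcard
    have : Odd (Fintype.card F) := by
      rw [Nat.odd_iff]
      exact FiniteField.odd_card_of_char_ne_two fun h => hF (by
        have : CharP F 2 := h ▸ ringChar.charP F
        exact CharTwo.two_eq_zero)
    obtain ⟨k, hk⟩ := this
    omega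

/-- Writing a non-scalar element as a product with prescribed traces. -/
theorem exists_factor {h : G} (hh : ¬ Scal h) {t t' x y : F}
    (he : x * (t - x) - y * (t' + y - tr h * x) = 1) :
    ∃ A : G, tr A = t ∧ tr (A⁻¹ * h) = t' := by
  obtain ⟨R, hR⟩ := exists_conj_lower hh
  set h' := R * h * R⁻¹ with hh'
  have htr : tr h' = tr h := tr_conj h R
  have hd := det_eq h'
  set c := (h' : M2) 1 0 with hc
  let u : GL (Fin 2) F := Matrix.GeneralLinearGroup.mkOfDetNeZero
    (!![1, (h' : M2) 0 0; 0, c] : M2) (by simpa [Matrix.det_fin_two] using hR)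
  have hu : (u : M2) * !![0, -1; 1, tr h] = (h' : M2) * (u : M2) := by
    have e : (u : M2) = !![1, (h' : M2) 0 0; 0, c] := rfl
    rw [e, ← htr]
    apply mext <;> simp [tr, Matrix.mul_apply, Fin.sum_univ_two, c] <;> grind
  set A0 : M2 := !![x, y; t' + y - tr h * x, t - x] with hA0
  have hA0d : A0.det = 1 := by rw [hA0, Matrix.det_fin_two]; simpa using he
  let A : G := ⟨(u : M2) * A0 * ((u⁻¹ : GL (Fin 2) F) : M2), by
    rw [Matrix.det_mul_right_comm, ← Units.val_mul, mul_inv_cancel, Units.val_one, one_mul, hA0d]⟩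
  have hA : tr A = t := by
    rw [← trace_eq]
    show ((u : M2) * A0 * ((u⁻¹ : GL (Fin 2) F) : M2)).trace = t
    rw [Matrix.trace_units_conj, hA0, Matrix.trace_fin_two]
    simp
  refine ⟨R⁻¹ * A * R, ?_, ?_⟩
  · have := tr_conj A R⁻¹
    rw [inv_inv] at this
    rw [this, hA]
  · rw [show (R⁻¹ * A * R)⁻¹ * h = R⁻¹ * (A⁻¹ * (R * h * R⁻¹)) * R by group, ← hh']
    have := tr_conj (A⁻¹ * h') R⁻¹
    rw [inv_inv] at this
    rw [this, ← trace_eq, Matrix.SpecialLinearGroup.coe_mul, coe_inv', sub_mul, smul_mul_assoc,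
      one_mul, Matrix.trace_sub, Matrix.trace_smul, trace_eq, hA, htr]
    have e : (A : M2) * (h' : M2) =
        (u : M2) * (A0 * !![0, -1; 1, tr h]) * ((u⁻¹ : GL (Fin 2) F) : M2) := by
      have e1 : (h' : M2) = (u : M2) * !![0, -1; 1, tr h] * ((u⁻¹ : GL (Fin 2) F) : M2) := by
        rw [hu, mul_assoc, ← Units.val_mul, mul_inv_cancel, Units.val_one, mul_one]
      show (u : M2) * A0 * ((u⁻¹ : GL (Fin 2) F) : M2) * (h' : M2) = _
      rw [e1]
      simp only [mul_assoc, Units.inv_mul_cancel_left]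
    rw [e, Matrix.trace_units_conj, Matrix.trace_fin_two, hA0]
    simp [Matrix.mul_apply, Fin.sum_univ_two]
    ring

variable [Fintype F]

theorem exists_pair_of_factor {s h : G} (hs : tr s ^ 2 ≠ 4) {x y t' : F}
    (ht' : t' = tr s ∨ t' = -tr s)
    (he : x * (tr s - x) - y * (t' + y - tr h * x) = 1) (hh : ¬ Scal h) :
    ∃ u v : PS, π h = (u * π s * u⁻¹) * (v * π s * v⁻¹) := by
  obtain ⟨A, hA, hB⟩ := exists_factor hh he
  obtain ⟨P, hP⟩ := isConj_of_tr hA.symm hs
  obtain ⟨Q, hQ⟩ : ∃ Q : G, π (Q * s * Q⁻¹) = π (A⁻¹ * h) := by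
    rcases ht' with e | e
    · obtain ⟨Q, hQ⟩ := isConj_of_tr (hB.trans e).symm hs
      exact ⟨Q, by rw [hQ]⟩
    · obtain ⟨Q, hQ⟩ := isConj_of_tr (g := -s) ((tr_neg s).trans (hB.trans e).symm)
        (by rwa [tr_neg, neg_sq])
      refine ⟨Q, ?_⟩
      rw [← hQ, mul_neg, neg_mul, π_neg]
  refine ⟨π P, π Q, ?_⟩
  rw [← π_conj, ← π_conj, hP, hQ, ← map_mul, mul_inv_cancel_left]

theorem square_odd {p : ℕ} [Fact p.Prime] [CharP F p] (hp : p ≠ 2) {x g : PS} (hx2 : 2 < orderOf x)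
    (hxp : ¬ p ∣ orderOf x) (hg : g ≠ 1) :
    ∃ u v : PS, g = (u * x * u⁻¹) * (v * x * v⁻¹) := by
  obtain ⟨s, rfl⟩ := π_surjective x
  obtain ⟨h, rfl⟩ := π_surjective g
  have hh : ¬ Scal h := fun e => hg (π_eq_one.2 e)
  have hchar : ringChar F ≠ 2 := by rw [ringChar.eq F p]; exact hp
  have h2 : (2 : F) ≠ 0 := Ring.two_ne_zero hchar
  have ht0 : tr s ≠ 0 := by
    intro h0
    have : orderOf (π s) ∣ 2 := orderOf_dvd_of_pow_eq_one (by
      rw [← map_pow, π_eq_one, scal_iff, pow_two]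
      right
      apply Subtype.ext
      rw [Matrix.SpecialLinearGroup.coe_mul, mul_self, h0]
      simp)
    have := Nat.le_of_dvd two_pos this
    omega
  have hs : tr s ^ 2 ≠ 4 := by
    intro h4
    set ε := tr s / 2 with hε
    have e1 : (s : M2).trace = ε + ε := by rw [trace_eq, hε]; field_simp; ring
    have e2 : (s : M2).det = ε * ε := by
      rw [s.det_coe, hε]; field_simp; linear_combination -h4
    have hd : orderOf (π s) ∣ p := orderOf_dvd_of_pow_eq_one
      ((Recog.PGLTwo.sl_mk_pow_eq_one_iff s p).2 ⟨_, Recog.PGLTwo.pow_char_of_double e1 e2⟩)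
    rcases (Nat.dvd_prime Fact.out).1 hd with e | e
    · omega
    · exact hxp (e ▸ dvd_rfl)
  by_cases hu : tr h ^ 2 = 4
  · set ε := tr h / 2 with hε
    have hu2 : tr h = 2 * ε := by rw [hε]; field_simp
    have hε2 : ε * ε = 1 := by rw [hε]; field_simp; linear_combination hu
    have hne : 2 * ε * tr s ≠ 0 := mul_ne_zero (mul_ne_zero h2 (left_ne_zero_of_mul_eq_one hε2)) ht0
    have hy : (2 * ε * tr s) * (2 * ε * tr s)⁻¹ = 1 := mul_inv_cancel₀ hne
    refine exists_pair_of_factor hs (x := ε * (2 * ε * tr s)⁻¹) (y := (2 * ε * tr s)⁻¹)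
      (t' := -ε * tr s) ?_ ?_ hh
    · rcases mul_self_eq_one_iff.1 hε2 with e | e <;> rw [e]
      · right; ring
      · left; ring
    · rw [hu2]
      linear_combination hy + (2 * ε * tr s)⁻¹ ^ 2 * hε2
  · have h4 : (4 : F) ≠ 0 := by rw [show (4 : F) = 2 * 2 by norm_num]; exact mul_ne_zero h2 h2
    obtain ⟨z, y, hzy⟩ := FiniteField.exists_root_sum_quadratic
      (f := Polynomial.X ^ 2)
      (g := Polynomial.C (4 - tr h ^ 2) * Polynomial.X ^ 2 +
        Polynomial.C (4 * tr s - 2 * tr h * tr s) * Polynomial.X + Polynomial.C (4 - tr s ^ 2))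
      (Polynomial.degree_X_pow 2) (Polynomial.degree_quadratic (sub_ne_zero.2 (Ne.symm hu)))
      (FiniteField.odd_card_of_char_ne_two hchar)
    simp at hzy
    refine exists_pair_of_factor hs (x := (z + tr h * y + tr s) / 2) (y := y) (t' := tr s)
      (Or.inl rfl) ?_ hh
    field_simp
    linear_combination -hzy

theorem square_even [CharP F 2] {x g : PS} (hx2 : 2 < orderOf x)
    (hxq : ¬ orderOf x ∣ Fintype.card F + 1) (hg : g ≠ 1) :
    ∃ u v : PS, g = (u * x * u⁻¹) * (v * x * v⁻¹) := by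
  obtain ⟨s, rfl⟩ := π_surjective x
  obtain ⟨h, rfl⟩ := π_surjective g
  have hh : ¬ Scal h := fun e => hg (π_eq_one.2 e)
  have h2 : (2 : F) = 0 := CharTwo.two_eq_zero
  have hs : tr s ^ 2 ≠ 4 := by
    intro h4
    have h0 : tr s = 0 := pow_eq_zero_iff two_ne_zero |>.1 (by linear_combination h4 + 2 * h2)
    have : orderOf (π s) ∣ 2 := orderOf_dvd_of_pow_eq_one (by
      rw [← map_pow, π_eq_one, scal_iff, pow_two]
      right
      apply Subtype.ext
      rw [Matrix.SpecialLinearGroup.coe_mul, mul_self, h0]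
      simp)
    have := Nat.le_of_dvd two_pos this
    omega
  obtain ⟨a, ha⟩ : ∃ a : F, a * (tr s - a) = 1 := by
    by_contra hcon
    push Not at hcon
    rcases card_cent_regular hs with ⟨-, hc, -⟩ | ⟨⟨a, ha⟩, -⟩
    · exact hxq (((orderOf_map_dvd π s)).trans (hc ▸ Subgroup.orderOf_dvd_natCard _ (self_mem_cent s)))
    · exact hcon a ha
  by_cases hu : tr h = 0
  · refine exists_pair_of_factor hs (x := a) (y := 0) (t' := tr s) (Or.inl rfl) ?_ hh
    linear_combination ha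
  · obtain ⟨x, hx⟩ := FiniteField.isSquare_of_char_two (ringChar.eq F 2)
      (-((tr s / tr h) ^ 2 + tr s * (tr s / tr h) + 1))
    refine exists_pair_of_factor hs (x := x) (y := tr s / tr h) (t' := tr s) (Or.inl rfl) ?_ hh
    have hy : tr h * (tr s / tr h) = tr s := mul_div_cancel₀ _ hu
    linear_combination hx + x * hy + (x * tr s) * h2

end Cfsg.Agent.SL2
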