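import Cfsg.Agent.Lib.SL2.DicksonArith

/-!
# Subfield subgroups of `PSL(2, q)`
-/

set_option autoImplicit false
set_option linter.unusedSectionVars false

namespace Cfsg.Agent.SL2

open Matrix

variable {F : Type*} [Field F]

local notation "G" => Matrix.SpecialLinearGroup (Fin 2) F
local notation "M2" => Matrix (Fin 2) (Fin 2) F
local notation "PS" => Matrix.ProjectiveSpecialLinearGroup (Fin 2) F
local notation "PG" => Matrix.ProjGenLinGroup (Fin 2) F

/-- `PSL(2, q)` inside `PGL(2, q)`. -/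
abbrev R0 : Subgroup PG := (Matrix.ProjectiveSpecialLinearGroup.toPGL (n := Fin 2) (R := F)).range

/-- The embedding of `PSL(2, q)` into `PGL(2, q)` twisted by `γ`. -/
def conjEmb (γ : PG) : PS →* PG :=
  (MulAut.conj γ).toMonoidHom.comp Matrix.ProjectiveSpecialLinearGroup.toPGL

theorem conjEmb_injective (γ : PG) : Function.Injective (conjEmb γ) :=
  (MulAut.conj γ).injective.comp Matrix.ProjectiveSpecialLinearGroup.toPGL_injective

theorem conjEmb_mk (g : GL (Fin 2) F) (s : G) :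
    conjEmb (Matrix.ProjGenLinGroup.mk g) (π s) =
      Matrix.ProjGenLinGroup.mk (g * Matrix.SpecialLinearGroup.toGL s * g⁻¹) := by
  rw [map_mul, map_mul, map_inv]
  rfl

theorem conj_mem_R0 {y : PG} (hy : y ∈ (R0 : Subgroup PG)) (γ : PG) :
    γ * y * γ⁻¹ ∈ (R0 : Subgroup PG) := by
  obtain ⟨x, rfl⟩ := hy
  obtain ⟨s, rfl⟩ := π_surjective x
  induction γ using Matrix.ProjGenLinGroup.induction_on with | mk g => ?_
  refine ⟨π ⟨(g : M2) * (s : M2) * ((g⁻¹ : GL (Fin 2) F) : M2), ?_⟩, ?_⟩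
  · rw [Matrix.det_mul, Matrix.det_mul, s.det_coe, mul_one, ← Matrix.det_mul, Units.mul_inv,
      Matrix.det_one]
  · rw [← map_inv]
    show Matrix.ProjGenLinGroup.mk _ =
      Matrix.ProjGenLinGroup.mk g * Matrix.ProjGenLinGroup.mk _ * Matrix.ProjGenLinGroup.mk g⁻¹
    rw [← map_mul, ← map_mul]
    congr 1
    exact Units.ext rfl

theorem range_conjEmb (γ : PG) : (conjEmb γ).range = (R0 : Subgroup PG) := by
  ext y
  constructor
  · rintro ⟨x, rfl⟩
    exact conj_mem_R0 ⟨x, rfl⟩ γ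
  · intro hy
    obtain ⟨x, hx⟩ := conj_mem_R0 hy γ⁻¹
    exact ⟨x, show γ * Matrix.ProjectiveSpecialLinearGroup.toPGL x * γ⁻¹ = y by rw [hx]; group⟩

theorem map_conjEmb (H : Subgroup PS) (γ : PG) :
    H.map (conjEmb γ) =
      (H.map Matrix.ProjectiveSpecialLinearGroup.toPGL).map (MulAut.conj γ).toMonoidHom :=
  (Subgroup.map_map _ _ _).symm

/-- Maximality seen inside `PGL(2, q)`. -/
theorem coatom_map {M : Subgroup PS} (hM : IsCoatom M) (γ : PG) {X : Subgroup PG}
    (h : M.map (conjEmb γ) ≤ X) (hX : X ≤ R0) : X = M.map (conjEmb γ) ∨ X = R0 := by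
  have e : (X.comap (conjEmb γ)).map (conjEmb γ) = X := by
    rw [Subgroup.map_comap_eq, range_conjEmb, inf_eq_right.2 hX]
  rcases (Subgroup.map_le_iff_le_comap.1 h).eq_or_lt with h' | h'
  · exact Or.inl (by rw [h', e])
  · right
    rw [← e, hM.2 _ h', ← MonoidHom.range_eq_map, range_conjEmb]

theorem card_map_conjEmb (H : Subgroup PS) (γ : PG) : Nat.card (H.map (conjEmb γ)) = Nat.card H :=
  Subgroup.card_map_of_injective (conjEmb_injective γ)

theorem card_R0 : Nat.card (R0 : Subgroup PG) = Nat.card PS :=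
  (Nat.card_congr (MonoidHom.ofInjective Matrix.ProjectiveSpecialLinearGroup.toPGL_injective).toEquiv).symm

section Sub

variable {K : Type*} [Field K]

/-- The image of `PSL(2, K)`. -/
def kg (φ : K →+* F) : Subgroup PG :=
  ((Matrix.ProjGenLinGroup.map φ).comp Matrix.ProjectiveSpecialLinearGroup.toPGL).range

/-- The image of `PGL(2, K)`. -/
def pg (φ : K →+* F) : Subgroup PG := (Matrix.ProjGenLinGroup.map φ).range

theorem kg_le_pg (φ : K →+* F) : kg φ ≤ pg φ := by
  rintro _ ⟨x, rfl⟩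
  exact ⟨_, rfl⟩

theorem kg_le_R0 (φ : K →+* F) : kg φ ≤ R0 := by
  rintro _ ⟨x, rfl⟩
  obtain ⟨s, rfl⟩ := π_surjective x
  refine ⟨π (Matrix.SpecialLinearGroup.map φ s), ?_⟩
  show Matrix.ProjGenLinGroup.mk _ = Matrix.ProjGenLinGroup.map φ (Matrix.ProjGenLinGroup.mk _)
  rw [Matrix.ProjGenLinGroup.map_mk]
  congr 1
  exact Units.ext rfl

theorem card_kg (φ : K →+* F) :
    Nat.card (kg φ) = Nat.card (Matrix.ProjectiveSpecialLinearGroup (Fin 2) K) :=
  (Nat.card_congr (MonoidHom.ofInjective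
    (f := (Matrix.ProjGenLinGroup.map φ).comp Matrix.ProjectiveSpecialLinearGroup.toPGL)
      ((pglMap_injective φ).comp Matrix.ProjectiveSpecialLinearGroup.toPGL_injective)).toEquiv).symm

theorem card_pg (φ : K →+* F) :
    Nat.card (pg φ) = Nat.card (Matrix.ProjGenLinGroup (Fin 2) K) :=
  (Nat.card_congr (MonoidHom.ofInjective (pglMap_injective φ)).toEquiv).symm

/-- A subgroup with image `PSL(2, K)`. -/
theorem iso_of_map_eq_kg {φ : K →+* F} {H : Subgroup PS} {γ : PG} (h : H.map (conjEmb γ) = kg φ) :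
    Nonempty (H ≃* Matrix.ProjectiveSpecialLinearGroup (Fin 2) K) :=
  ⟨((H.equivMapOfInjective _ (conjEmb_injective γ)).trans (MulEquiv.subgroupCongr h)).trans
    (MonoidHom.ofInjective
      (f := (Matrix.ProjGenLinGroup.map φ).comp Matrix.ProjectiveSpecialLinearGroup.toPGL)
      ((pglMap_injective φ).comp Matrix.ProjectiveSpecialLinearGroup.toPGL_injective)).symm⟩

/-- A subgroup with image `PGL(2, K)`. -/
theorem iso_of_map_eq_pg {φ : K →+* F} {H : Subgroup PS} {γ : PG} (h : H.map (conjEmb γ) = pg φ) :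
    Nonempty (H ≃* Matrix.ProjGenLinGroup (Fin 2) K) :=
  ⟨((H.equivMapOfInjective _ (conjEmb_injective γ)).trans (MulEquiv.subgroupCongr h)).trans
    (MonoidHom.ofInjective (pglMap_injective φ)).symm⟩

theorem exists_subgroup_kg (φ : K →+* F) : ∃ H : Subgroup PS, H.map (conjEmb 1) = kg φ :=
  ⟨(kg φ).comap (conjEmb 1), by
    rw [Subgroup.map_comap_eq, range_conjEmb, inf_eq_right.2 (kg_le_R0 φ)]⟩

theorem kg_mono {L : Type*} [Field L] {φ : K →+* F} {ψ : L →+* F} {χ : K →+* L}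
    (h : φ = ψ.comp χ) : kg φ ≤ kg ψ := by
  subst h
  rintro _ ⟨x, rfl⟩
  obtain ⟨s, rfl⟩ := π_surjective x
  refine ⟨π (Matrix.SpecialLinearGroup.map χ s), ?_⟩
  show Matrix.ProjGenLinGroup.map ψ (Matrix.ProjGenLinGroup.mk _) =
    Matrix.ProjGenLinGroup.map (ψ.comp χ) (Matrix.ProjGenLinGroup.mk _)
  rw [Matrix.ProjGenLinGroup.map_mk, Matrix.ProjGenLinGroup.map_mk]
  congr 1
  exact Units.ext rfl

theorem pg_mono {L : Type*} [Field L] {φ : K →+* F} {ψ : L →+* F} {χ : K →+* L}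
    (h : φ = ψ.comp χ) : pg φ ≤ pg ψ := by
  subst h
  rintro _ ⟨x, rfl⟩
  induction x using Matrix.ProjGenLinGroup.induction_on with | mk g => ?_
  exact ⟨Matrix.ProjGenLinGroup.mk (Matrix.GeneralLinearGroup.map χ g), by
    rw [Matrix.ProjGenLinGroup.map_mk, Matrix.ProjGenLinGroup.map_mk]; congr 1⟩

theorem pg_le_R0 {φ : K →+* F} (h : ∀ c : K, IsSquare (φ c)) : pg φ ≤ R0 := by
  rintro _ ⟨x, rfl⟩
  induction x using Matrix.ProjGenLinGroup.induction_on with | mk g => ?_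
  obtain ⟨r, hr⟩ := h ((g : Matrix (Fin 2) (Fin 2) K).det)
  have hd : φ (g : Matrix (Fin 2) (Fin 2) K).det ≠ 0 :=
    (map_ne_zero φ).2 (g.isUnit.map Matrix.detMonoidHom).ne_zero
  have hr0 : r ≠ 0 := fun h0 => hd (by rw [hr, h0, mul_zero])
  refine ⟨π ⟨r⁻¹ • (g : Matrix (Fin 2) (Fin 2) K).map φ, ?_⟩, ?_⟩
  · rw [Matrix.det_smul, Fintype.card_fin, ← RingHom.mapMatrix_apply, ← RingHom.map_det, hr]
    field_simp
  · show Matrix.ProjGenLinGroup.mk _ = _
    rw [Matrix.ProjGenLinGroup.map_mk, Matrix.ProjGenLinGroup.mk_eq_mk_iff]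
    refine ⟨Units.mk0 r hr0, Units.ext ?_⟩
    show (r⁻¹ • (g : Matrix (Fin 2) (Fin 2) K).map φ) * Matrix.scalar (Fin 2) r =
      (g : Matrix (Fin 2) (Fin 2) K).map φ
    ext i j
    fin_cases i <;> fin_cases j <;>
      simp [Matrix.mul_apply, Fin.sum_univ_two, hr0, mul_comm, mul_left_comm]

theorem pg_inf_R0 {φ : K →+* F} (h : ∀ c : K, IsSquare (φ c) → IsSquare c) :
    pg φ ⊓ R0 = kg φ := by
  refine le_antisymm ?_ (le_inf (kg_le_pg φ) (kg_le_R0 φ))
  rintro y ⟨⟨x, rfl⟩, hy⟩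
  induction x using Matrix.ProjGenLinGroup.induction_on with | mk g => ?_
  obtain ⟨z, hz⟩ := hy
  obtain ⟨s, rfl⟩ := π_surjective z
  have hz' : Matrix.ProjGenLinGroup.mk (Matrix.SpecialLinearGroup.toGL s) =
      Matrix.ProjGenLinGroup.mk (Matrix.GeneralLinearGroup.map φ g) := hz
  obtain ⟨c, hc⟩ := Matrix.ProjGenLinGroup.mk_eq_mk_iff.1 hz'
  have hdet := congrArg (fun u : GL (Fin 2) F => (u : M2).det) hc
  simp [Matrix.det_mul, s.det_coe] at hdet
  obtain ⟨r, hr⟩ := h (g : Matrix (Fin 2) (Fin 2) K).det ⟨(c : F), by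
    rw [RingHom.map_det, ← pow_two]; exact hdet.symm⟩
  have hd : (g : Matrix (Fin 2) (Fin 2) K).det ≠ 0 := (g.isUnit.map Matrix.detMonoidHom).ne_zero
  have hr0 : r ≠ 0 := fun h0 => hd (by rw [hr, h0, mul_zero])
  refine ⟨π ⟨r⁻¹ • (g : Matrix (Fin 2) (Fin 2) K), ?_⟩, ?_⟩
  · rw [Matrix.det_smul, Fintype.card_fin, hr]
    field_simp
  · show Matrix.ProjGenLinGroup.map φ (Matrix.ProjGenLinGroup.mk _) = _
    congr 1
    rw [Matrix.ProjGenLinGroup.mk_eq_mk_iff]
    refine ⟨Units.mk0 r hr0, Units.ext ?_⟩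
    show (r⁻¹ • (g : Matrix (Fin 2) (Fin 2) K)) * Matrix.scalar (Fin 2) r =
      (g : Matrix (Fin 2) (Fin 2) K)
    ext i j
    fin_cases i <;> fin_cases j <;>
      simp [Matrix.mul_apply, Fin.sum_univ_two, hr0, mul_comm, mul_left_comm]

variable [Fintype F] [Fintype K]

theorem finrank_eq {m : ℕ} (hm : Fintype.card K ^ m = Fintype.card F) (φ : K →+* F) :
    letI := φ.toAlgebra
    Module.finrank K F = m := by
  letI := φ.toAlgebra
  exact Nat.pow_right_injective Fintype.one_lt_card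
    ((Module.card_eq_pow_finrank (K := K) (V := F)).symm.trans hm.symm)

theorem isSquare_of_odd {φ : K →+* F} {m : ℕ} (hm : Fintype.card K ^ m = Fintype.card F) (hodd : Odd m)
    {c : K} (h : IsSquare (φ c)) : IsSquare c := by
  rcases eq_or_ne c 0 with rfl | hc
  · exact ⟨0, by simp⟩
  letI := φ.toAlgebra
  obtain ⟨s, hs⟩ := h
  have h1 : c ^ m = Algebra.norm K s * Algebra.norm K s := by
    rw [← map_mul, ← hs, ← finrank_eq hm φ]
    exact (Algebra.norm_algebraMap c).symm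
  obtain ⟨j, rfl⟩ := hodd
  refine ⟨Algebra.norm K s / c ^ j, ?_⟩
  field_simp
  linear_combination h1

theorem isSquare_of_even {φ : K →+* F} {m : ℕ} (hm : Fintype.card K ^ m = Fintype.card F) (heven : Even m)
    (h2 : ringChar F ≠ 2) (c : K) : IsSquare (φ c) := by
  rcases eq_or_ne c 0 with rfl | hc
  · exact ⟨0, by simp⟩
  obtain ⟨j, rfl⟩ := heven
  obtain ⟨i, hi⟩ : Odd (Fintype.card K ^ j) := by
    have hF : Odd (Fintype.card F) := by
      rw [Nat.odd_iff]; exact FiniteField.odd_card_of_char_ne_two h2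
    rw [← hm, pow_add, Nat.odd_mul] at hF
    exact hF.1
  rw [FiniteField.isSquare_iff h2 ((map_ne_zero φ).2 hc), ← hm, pow_add, hi, ← map_pow]
  obtain ⟨a, ha⟩ : Fintype.card K - 1 ∣ 2 * i := by
    have := Nat.sub_dvd_pow_sub_pow (Fintype.card K) 1 j
    rwa [one_pow, hi, Nat.add_sub_cancel] at this
  rw [show (2 * i + 1) * (2 * i + 1) / 2 = (2 * i) * (i + 1) by
      have : (2 * i + 1) * (2 * i + 1) = 2 * (2 * i * (i + 1)) + 1 := by ring
      omega,
    ha, mul_assoc, pow_mul, FiniteField.pow_card_sub_one_eq_one c hc, one_pow, map_one]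

theorem natCard_fix {p : ℕ} [Fact p.Prime] [CharP F p] {n e : ℕ} (hq : Fintype.card F = p ^ n)
    (he : e ∣ n) : ∃ L : Subfield F, Nat.card L = p ^ e ∧ ∀ x : F, x ^ p ^ e = x → x ∈ L := by
  haveI : ExpChar F p := ExpChar.prime Fact.out
  let L : Subfield F := RingHom.eqLocusField (iterateFrobenius F p e) (RingHom.id F)
  have hmem : ∀ x : F, x ∈ L ↔ x ^ p ^ e = x := fun x => by
    show iterateFrobenius F p e x = x ↔ _
    rw [iterateFrobenius_def]
  have hpe : 1 ≤ p ^ e := Nat.one_le_pow _ _ (Fact.out : p.Prime).pos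
  have hker : (Units.map (L.subtype : L →* F)).range = (powMonoidHom (p ^ e - 1) : Fˣ →* Fˣ).ker := by
    ext u
    have hu : (u : F) ^ p ^ e = u ↔ u ^ (p ^ e - 1) = 1 := by
      rw [← Units.val_pow_eq_pow_val, ← Units.ext_iff,
        show u ^ p ^ e = u ^ (p ^ e - 1) * u by rw [← pow_succ]; congr 1; omega, mul_eq_right]
    rw [MonoidHom.mem_ker, powMonoidHom_apply, ← hu, ← hmem]
    constructor
    · rintro ⟨v, rfl⟩
      exact (v : L).2
    · intro h
      exact ⟨Units.mk0 ⟨(u : F), h⟩ fun e => u.ne_zero (congrArg Subtype.val e), Units.ext rfl⟩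
  have hc : Nat.card Lˣ = p ^ e - 1 := by
    have hinj : Function.Injective (Units.map (L.subtype : L →* F)) :=
      Units.map_injective L.subtype.injective
    rw [Nat.card_congr (MonoidHom.ofInjective hinj).toEquiv, hker, IsCyclic.card_powMonoidHom_ker,
      Nat.card_units, Nat.card_eq_fintype_card, hq, Nat.pow_sub_one_gcd_pow_sub_one,
      Nat.gcd_eq_right he]
  rw [Nat.card_units] at hc
  have hL : 1 < Nat.card L := Finite.one_lt_card
  exact ⟨L, by omega, fun x hx => (hmem x).2 hx⟩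

/-- Intermediate fields. -/
theorem exists_between {φ : K →+* F} {m a : ℕ} (hm : Fintype.card K ^ m = Fintype.card F) (ha : a ∣ m) :
    ∃ (L : Subfield F) (χ : K →+* L), Nat.card L = Fintype.card K ^ a ∧ φ = L.subtype.comp χ := by
  classical
  obtain ⟨i, hp, hk⟩ := FiniteField.card K (ringChar K)
  haveI : Fact (ringChar K).Prime := ⟨hp⟩
  haveI : CharP F (ringChar K) := (φ.charP_iff φ.injective (ringChar K)).1 inferInstance
  obtain ⟨L, hL, hmem⟩ := natCard_fix (F := F) (p := ringChar K) (n := (i : ℕ) * m) (e := i * a)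
    (by rw [← hm, hk, ← pow_mul]) (Nat.mul_dvd_mul_left _ ha)
  refine ⟨L, φ.codRestrict L fun c => hmem _ ?_, by rw [hL, hk, ← pow_mul], rfl⟩
  rw [← map_pow, pow_mul, ← hk, FiniteField.pow_card_pow]

/-- A field of order `k`, where `q` is a power of `k`, embeds. -/
theorem exists_embedding {m : ℕ} (hm : Fintype.card K ^ m = Fintype.card F) (hm0 : m ≠ 0) :
    Nonempty (K →+* F) := by
  classical
  obtain ⟨i, hp, hk⟩ := FiniteField.card K (ringChar K)
  obtain ⟨n, hp', hq⟩ := FiniteField.card F (ringChar F)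
  haveI : Fact (ringChar K).Prime := ⟨hp⟩
  have hpp : ringChar K = ringChar F := by
    rw [hk, hq] at hm
    exact (Nat.prime_dvd_prime_iff_eq hp hp').1 (hp.dvd_of_dvd_pow
      (hm ▸ dvd_pow (dvd_pow_self _ i.ne_zero) hm0))
  haveI : CharP F (ringChar K) := hpp ▸ ringChar.charP F
  obtain ⟨L, hL, -⟩ := natCard_fix (F := F) (p := ringChar K) (n := (i : ℕ) * m) (e := (i : ℕ))
    (by rw [← hm, hk, ← pow_mul]) (dvd_mul_right _ _)
  haveI : Fintype L := Fintype.ofFinite L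
  exact ⟨L.subtype.comp (FiniteField.ringEquivOfCardEq (K := K) (K' := L)
    (by rw [← Nat.card_eq_fintype_card (α := L), hL, hk])).toRingHom⟩

end Sub

end Cfsg.Agent.SL2
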