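import Cfsg.Agent.Lib.SL2.DicksonTorus
import Cfsg.Agent.Lib.Zassenhaus.Nonsolvable

/-!
# Sizes and solvability of the subgroups of `PSL(2, q)`
-/

set_option autoImplicit false
set_option linter.unusedSectionVars false

namespace Cfsg.Agent.SL2

open Matrix

variable {F : Type*} [Field F] [Fintype F]

local notation "G" => Matrix.SpecialLinearGroup (Fin 2) F
local notation "PS" => Matrix.ProjectiveSpecialLinearGroup (Fin 2) F
local notation "q" => Fintype.card F

theorem card_alt_four : Nat.card (alternatingGroup (Fin 4)) = 12 := by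
  have : 2 * Nat.card (alternatingGroup (Fin 4)) = (4 : ℕ).factorial :=
    SmallSimple.card_alternating_fin (by norm_num)
  rw [show (4 : ℕ).factorial = 24 from rfl] at this
  omega

theorem card_alt_five : Nat.card (alternatingGroup (Fin 5)) = 60 := by
  have : 2 * Nat.card (alternatingGroup (Fin 5)) = (5 : ℕ).factorial :=
    SmallSimple.card_alternating_fin (by norm_num)
  rw [show (5 : ℕ).factorial = 120 from rfl] at this
  omega

theorem card_perm_four : Nat.card (Equiv.Perm (Fin 4)) = 24 := by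
  rw [Nat.card_perm, Nat.card_fin]; rfl

/-- The order of a proper subgroup. -/
theorem card_le_borel (h4 : 4 ≤ q) (hq : q ≠ 5 ∧ q ≠ 7 ∧ q ≠ 9 ∧ q ≠ 11) {H : Subgroup PS}
    (hH : H ≠ ⊤) : Nat.gcd 2 (q - 1) * Nat.card H ≤ q * (q - 1) := by
  classical
  haveI : Finite PS := Finite.of_surjective _ π_surjective
  obtain ⟨n, hp, hn⟩ := FiniteField.card F (ringChar F)
  haveI : Fact (ringChar F).Prime := ⟨hp⟩
  set d := Nat.gcd 2 (q - 1)
  have hd : d ≤ 2 := Nat.gcd_le_left _ two_pos
  have hB : 4 * (q - 1) ≤ q * (q - 1) := Nat.mul_le_mul_right _ h4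
  have tor : ∀ r : G, tr r ^ 2 ≠ 4 → d * Nat.card (torus r) ≤ q + 1 := fun r ht => by
    rw [card_torus]
    rcases card_cent_regular ht with ⟨-, h, -⟩ | ⟨-, h, -⟩ <;> rw [h] <;> omega
  have big : ringChar F ≠ 2 → ∀ c : ℕ, c ≤ 60 → d * c ≤ q * (q - 1) := by
    intro h2 c hc
    obtain ⟨j, hj⟩ : Odd q := hn ▸ (hp.odd_of_ne_two h2).pow
    have h13 : 13 * 12 ≤ q * (q - 1) := Nat.mul_le_mul (by omega) (by omega)
    calc d * c ≤ 2 * 60 := Nat.mul_le_mul hd hc
      _ ≤ q * (q - 1) := by omega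
  rcases dickson (ringChar F) H with ⟨r, ht, hle, -⟩ | ⟨r, ht, hle, -⟩ | ⟨g, hg⟩ | ⟨h2, ⟨e⟩⟩ | ⟨h2, ⟨e⟩⟩ |
    ⟨h2, -, ⟨e⟩⟩ | ⟨K, γ, hK, hcase⟩
  · have := Nat.mul_le_mul_left d (Subgroup.card_le_of_le hle)
    have := tor r ht
    omega
  · have h1 := Nat.mul_le_mul_left d (Subgroup.card_le_of_le hle)
    rw [card_NT ht, mul_left_comm] at h1
    have := tor r ht
    omega
  · have hle : H ≤ (B0 : Subgroup PS).map (MulAut.conj g⁻¹).toMonoidHom := fun x hx =>
      ⟨g * x * g⁻¹, hg x hx, by simp [mul_assoc]⟩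
    refine (Nat.mul_le_mul_left d (Subgroup.card_le_of_le hle)).trans ?_
    rw [Subgroup.card_map_of_injective (f := (MulAut.conj g⁻¹).toMonoidHom) (MulAut.conj g⁻¹).injective, card_B0]
  · exact big h2 _ (by rw [Nat.card_congr e.toEquiv, card_alt_four]; norm_num)
  · exact big h2 _ (by rw [Nat.card_congr e.toEquiv, card_perm_four]; norm_num)
  · exact big h2 _ (by rw [Nat.card_congr e.toEquiv, card_alt_five])
  · haveI : Fintype K := Fintype.ofFinite K
    have hsq := lt_card_of_ne_top hH (hcase.imp And.left And.left)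
    rw [Nat.card_eq_fintype_card] at hsq hK
    haveI : Finite (Matrix.ProjGenLinGroup (Fin 2) K) := Finite.of_surjective _ Matrix.ProjGenLinGroup.mk_surjective
    have hc : Nat.card H ≤ Fintype.card K * ((Fintype.card K - 1) * (Fintype.card K + 1)) := by
      rw [← card_pgl]
      rcases hcase with ⟨⟨e⟩, -⟩ | ⟨⟨e⟩, -⟩ <;> rw [Nat.card_congr e.toEquiv]
      exact psl_le_pgl
    obtain ⟨j, hj⟩ : ∃ j, Fintype.card K = j + 1 := ⟨_, (Nat.sub_add_cancel Fintype.card_pos).symm⟩
    rw [hj] at hc hsq hK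
    calc d * Nat.card H ≤ 2 * ((j + 1) * (j * (j + 2))) := Nat.mul_le_mul hd (by simpa using hc)
      _ ≤ ((j + 1) * (j + 1)) * (j * (j + 2)) := by
        rw [← mul_assoc]
        exact Nat.mul_le_mul_right _ (Nat.mul_le_mul_right _ (by omega))
      _ ≤ q * (q - 1) := Nat.mul_le_mul hsq (by
        have : j * (j + 2) + 1 = (j + 1) * (j + 1) := by ring
        omega)

theorem isSolvable_dihedral (n : ℕ) : Group.IsSolvable (DihedralGroup n) := by
  let s : DihedralGroup n → Multiplicative (ZMod 2) := fun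
    | .r _ => 1
    | .sr _ => Multiplicative.ofAdd 1
  let f : DihedralGroup n →* Multiplicative (ZMod 2) := MonoidHom.mk' s (by
    rintro (a | a) (b | b) <;> simp [s] <;> decide)
  let g : Multiplicative (ZMod n) →* DihedralGroup n := MonoidHom.mk'
    (fun a => DihedralGroup.r a.toAdd) (by intro a b; simp)
  refine Group.isSolvable_of_ker_le_range g f fun x hx => ?_
  rcases x with a | a
  · exact ⟨Multiplicative.ofAdd a, rfl⟩
  · exact absurd (MonoidHom.mem_ker.1 hx) (by simp [f, s])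

theorem isSolvable_B0 : Group.IsSolvable (B0 : Subgroup PS) := by
  obtain ⟨ψ, hψ⟩ := exists_borelHom (F := F)
  haveI : Group.IsSolvable ψ.ker := Group.isSolvable_of_comm fun a b =>
    Subtype.ext (Subtype.ext (W0_comm (hψ _ a.2) (hψ _ b.2)))
  exact Group.isSolvable_of_ker_le_range ψ.ker.subtype ψ (by rw [Subgroup.range_subtype])

/-- Subgroups not of polyhedral or subfield type are solvable. -/
theorem isSolvable_of_proper (p : ℕ) [Fact p.Prime] [CharP F p] (H : Subgroup PS) :
    Group.IsSolvable H ∨ (p ≠ 2 ∧ p ≠ 5 ∧ Nonempty (H ≃* alternatingGroup (Fin 5))) ∨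
      ∃ K : Subfield F, 4 ≤ Nat.card K ∧
        (Nonempty (H ≃* Matrix.ProjectiveSpecialLinearGroup (Fin 2) K) ∨
          Nonempty (H ≃* Matrix.ProjGenLinGroup (Fin 2) K)) := by
  classical
  haveI : Finite PS := Finite.of_surjective _ π_surjective
  haveI h4 : Group.IsSolvable (Equiv.Perm (Fin 4)) := Zassenhaus.perm_fin_four_isSolvable
  rcases dickson p H with ⟨r, ht, hle, hc⟩ | ⟨r, ht, hle, -⟩ | ⟨g, hg⟩ | ⟨-, ⟨e⟩⟩ | ⟨-, ⟨e⟩⟩ |
    ⟨h2, h5, he⟩ | ⟨K, γ, hK, hcase⟩
  · exact Or.inl (Group.isSolvable_of_comm fun a b => hc.commGroup.mul_comm a b)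
  · left
    obtain ⟨e⟩ := NT_equiv_dihedral ht
    haveI := isSolvable_dihedral (Nat.card (torus r))
    exact Group.isSolvable_of_isSolvable_injective (f := e.toMonoidHom.comp (Subgroup.inclusion hle))
      (e.injective.comp (Subgroup.inclusion_injective hle))
  · left
    haveI := isSolvable_B0 (F := F)
    let f : H →* (B0 : Subgroup PS) :=
      ((MulAut.conj g).toMonoidHom.comp H.subtype).codRestrict _ fun x => hg x x.2
    refine Group.isSolvable_of_isSolvable_injective (f := f) fun a b hab => ?_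
    exact Subtype.ext ((MulAut.conj g).injective (congrArg Subtype.val hab))
  · exact Or.inl (Group.isSolvable_of_isSolvable_injective
      (f := (alternatingGroup (Fin 4)).subtype.comp e.toMonoidHom)
      ((Subgroup.subtype_injective _).comp e.injective))
  · exact Or.inl (Group.isSolvable_of_isSolvable_injective (f := e.toMonoidHom) e.injective)
  · exact Or.inr (Or.inl ⟨h2, h5, he⟩)
  · exact Or.inr (Or.inr ⟨K, hK, hcase.imp And.left And.left⟩)

end Cfsg.Agent.SL2
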