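import Cfsg.Agent.Lib.SL2.DicksonExist

/-!
# Arithmetical conditions for polyhedral subgroups of `PSL(2, q)`
-/

set_option autoImplicit false
set_option linter.unusedSectionVars false

namespace Cfsg.Agent.SL2

open Matrix

variable {F : Type*} [Field F]

local notation "G" => Matrix.SpecialLinearGroup (Fin 2) F
local notation "M2" => Matrix (Fin 2) (Fin 2) F
local notation "PS" => Matrix.ProjectiveSpecialLinearGroup (Fin 2) F

theorem pow_five_expand (g : G) : ((g ^ 5 : G) : M2) =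
    -(tr g ^ 3 - 2 * tr g) • (1 : M2) + (tr g ^ 4 - 3 * tr g ^ 2 + 1) • (g : M2) := by
  rw [Matrix.SpecialLinearGroup.coe_pow, show (5 : ℕ) = 2 + 2 + 1 from rfl, pow_add, pow_add, pow_one,
    pow_two, mul_self]
  rw [sub_mul (tr g • (g : M2)) 1 (tr g • (g : M2) - 1), one_mul, smul_mul_assoc, mul_sub, mul_one,
    mul_smul_comm, mul_self]
  simp only [sub_mul, smul_sub, smul_smul, smul_mul_assoc, mul_self, one_mul]
  match_scalars <;> ring

variable [Fintype F]

local notation "q" => Fintype.card F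

theorem card_psl_dvd : Nat.card PS ∣ q * ((q - 1) * (q + 1)) := ⟨Nat.gcd 2 (q - 1), by rw [mul_comm (Nat.card PS), card_psl]⟩

/-- The golden ratio. -/
theorem exists_phi (h : 5 ∣ q * ((q - 1) * (q + 1))) : ∃ φ : F, φ ^ 2 = φ + 1 := by
  by_cases h5 : (5 : F) = 0
  · exact ⟨3, by linear_combination h5⟩
  haveI : Finite PS := Finite.of_surjective _ π_surjective
  haveI : Fact (Nat.Prime 5) := ⟨by norm_num⟩
  haveI : Fact (Nat.Prime (ringChar F)) := ⟨CharP.char_is_prime F _⟩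
  rw [← card_G] at h
  obtain ⟨g, hg⟩ := exists_prime_orderOf_dvd_card' 5 h
  have hg5 : g ^ 5 = 1 := hg ▸ pow_orderOf_eq_one g
  have hns : ¬ Scal g := fun hs => by
    have h2 : g ^ 2 = 1 := by
      rcases (scal_iff _).1 hs with e | e <;> rw [e, pow_two] <;> simp
    have := hg ▸ orderOf_dvd_of_pow_eq_one h2
    omega
  have he := congrArg Subtype.val hg5
  rw [pow_five_expand, Matrix.SpecialLinearGroup.coe_one] at he
  have h0 : (-(tr g ^ 3 - 2 * tr g)) • (1 : M2) + (tr g ^ 4 - 3 * tr g ^ 2 + 1) • (g : M2) =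
      (1 : F) • (1 : M2) + (0 : F) • (g : M2) := by rw [he]; simp
  obtain ⟨-, h4⟩ := coeff_unique hns h0
  rcases mul_eq_zero.1 (show (tr g ^ 2 - tr g - 1) * (tr g ^ 2 + tr g - 1) = 0 by
    linear_combination h4) with e | e
  · exact ⟨tr g, by linear_combination e⟩
  · exact ⟨-tr g, by linear_combination e⟩

theorem exists_sqrt_two (h : q ^ 2 % 16 = 1) : ∃ t : F, t ^ 2 = 2 := by
  obtain ⟨t, ht⟩ : IsSquare (2 : F) := by
    rw [FiniteField.isSquare_two_iff]
    constructor <;> intro h8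
    all_goals
      rw [← Nat.mod_add_div q 8, h8] at h
      ring_nf at h
      omega
  exact ⟨t, by rw [ht, pow_two]⟩

/-- An element of order four. -/
theorem sq_mod_of_orderOf_four {x : PS} (hx : orderOf x = 4) : q ^ 2 % 16 = 1 := by
  haveI : Finite PS := Finite.of_surjective _ π_surjective
  haveI : Fact (Nat.Prime (ringChar F)) := ⟨CharP.char_is_prime F _⟩
  obtain ⟨s, rfl⟩ := π_surjective x
  have hs : tr s ^ 2 ≠ 4 := fun h4 => by
    have h := orderOf_dvd_of_pow_eq_one (not_semisimple_pow (p := ringChar F) h4)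
    rw [hx] at h
    rcases (Nat.dvd_prime (Fact.out : (ringChar F).Prime)).1 h with e | e
    · omega
    · exact absurd (e ▸ (Fact.out : (ringChar F).Prime)) (by norm_num)
  have h := hx ▸ Subgroup.orderOf_dvd_natCard _ (pi_mem_torus.2 (self_mem_cent s) : π s ∈ torus s)
  have h8 : 4 * Nat.gcd 2 (q - 1) ∣ Nat.card (cent s) := by
    rw [← card_torus s, mul_comm 4]
    exact Nat.mul_dvd_mul_left _ h
  have hq := two_le_q (F := F)
  rcases Nat.even_or_odd q with ⟨k, hk⟩ | ⟨k, hk⟩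
  · exfalso
    have h4' : 4 ∣ Nat.card (cent s) := (dvd_mul_right 4 _).trans h8
    rcases card_cent_regular hs with ⟨-, hc, -⟩ | ⟨-, hc, -⟩ <;> rw [hc] at h4' <;> omega
  · rw [Nat.gcd_eq_left (show 2 ∣ q - 1 from ⟨k, by omega⟩)] at h8
    rw [Nat.pow_mod]
    rcases card_cent_regular hs with ⟨-, hc, -⟩ | ⟨-, hc, -⟩ <;> rw [hc] at h8
    · obtain h | h : q % 16 = 7 ∨ q % 16 = 15 := by omega
      all_goals rw [h]
    · obtain h | h : q % 16 = 1 ∨ q % 16 = 9 := by omega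
      all_goals rw [h]

/-- `PSL(2, 2^n)`, `n` odd, has no subgroup `A₄`. -/
theorem not_alt_four {n : ℕ} [CharP F 2] (hF : q = 2 ^ n) (hn : Odd n) (H : Subgroup PS) :
    IsEmpty (H ≃* alternatingGroup (Fin 4)) := by
  refine ⟨fun e => ?_⟩
  haveI : Fact (Nat.Prime 2) := ⟨Nat.prime_two⟩
  haveI : Finite PS := Finite.of_surjective _ π_surjective
  have key : ∃ v x : alternatingGroup (Fin 4), v ^ 2 = 1 ∧ v ≠ 1 ∧ x ^ 3 = 1 ∧ x ≠ 1 ∧
      v * (x * v * x⁻¹) = (x * v * x⁻¹) * v := by decide +kernel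
  obtain ⟨v, x, hv, hv1, hx, hx1, hvx⟩ := key
  set V : PS := ((e.symm v : H) : PS)
  set X : PS := ((e.symm x : H) : PS)
  have hV : V ^ 2 = 1 := by
    show ((e.symm v : H) : PS) ^ 2 = 1
    rw [← SubgroupClass.coe_pow, ← map_pow, hv, map_one, Subgroup.coe_one]
  have hV1 : V ≠ 1 := fun h => hv1 (e.symm.injective (Subtype.ext (h.trans (by rw [map_one]; rfl))))
  have hX : X ^ 3 = 1 := by
    show ((e.symm x : H) : PS) ^ 3 = 1
    rw [← SubgroupClass.coe_pow, ← map_pow, hx, map_one, Subgroup.coe_one]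
  have hX1 : X ≠ 1 := fun h => hx1 (e.symm.injective (Subtype.ext (h.trans (by rw [map_one]; rfl))))
  have hVX : V * (X * V * X⁻¹) = (X * V * X⁻¹) * V := by
    have := congrArg (fun z => ((e.symm z : H) : PS)) hvx
    simpa only [map_mul, map_inv, Subgroup.coe_mul, Subgroup.coe_inv] using this
  obtain ⟨g, b, hb, hg⟩ := exists_conj_uu (p := 2) (k := 1) hV1 (by simpa using hV)
  have hu : g * (X * V * X⁻¹) * g⁻¹ ∈ (W0 : Subgroup PS) := by
    refine commute_uu_eq hb ?_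
    rw [← hg]
    calc g * (X * V * X⁻¹) * g⁻¹ * (g * V * g⁻¹) = g * (X * V * X⁻¹ * V) * g⁻¹ := by group
      _ = g * (V * (X * V * X⁻¹)) * g⁻¹ := by rw [hVX]
      _ = g * V * g⁻¹ * (g * (X * V * X⁻¹) * g⁻¹) := by group
  have hXB : g * X * g⁻¹ ∈ (B0 : Subgroup PS) := by
    refine conj_uu_upper hb (W0_le_B0 ?_)
    rw [← hg, show g * X * g⁻¹ * (g * V * g⁻¹) * (g * X * g⁻¹)⁻¹ = g * (X * V * X⁻¹) * g⁻¹ by group]
    exact hu
  obtain ⟨ψ, hψ⟩ := exists_borelHom (F := F)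
  have h3 : (⟨_, hXB⟩ : (B0 : Subgroup PS)) ^ 3 = 1 := Subtype.ext (by
    show (g * X * g⁻¹) ^ 3 = 1
    rw [conj_pow, hX, mul_one, mul_inv_cancel])
  have h1 : ψ ⟨_, hXB⟩ = 1 := by
    refine orderOf_eq_one_iff.1 (Nat.eq_one_of_dvd_coprimes (a := 3) (b := 2 ^ n - 1) ?_
      (orderOf_dvd_of_pow_eq_one (by rw [← map_pow, h3, map_one])) ?_)
    · refine (Nat.Prime.coprime_iff_not_dvd Nat.prime_three).2 fun hd => ?_
      obtain ⟨k, rfl⟩ := hn
      have h4 : 2 ^ (2 * k + 1) % 3 = 2 := by rw [pow_succ, pow_mul, Nat.mul_mod, Nat.pow_mod]; simp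
      obtain ⟨P, hP⟩ : ∃ P : ℕ, 2 ^ (2 * k + 1) = P := ⟨_, rfl⟩
      rw [hP] at h4 hd
      omega
    · classical
      rw [← hF, ← Fintype.card_units]
      exact orderOf_dvd_card
  have h2 := B0_exponent (p := 2) (hψ _ h1)
  have h23 : (g * X * g⁻¹) ^ 1 = 1 := by
    have h2' : (g * X * g⁻¹) ^ 2 = 1 := h2
    rw [conj_pow, conj_eq_one_iff] at h2'
    rw [pow_one, conj_eq_one_iff, ← pow_one X]
    rw [show X ^ 1 = X ^ 3 * (X ^ 2)⁻¹ by group, hX, h2']
    group
  rw [pow_one, conj_eq_one_iff] at h23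
  exact hX1 h23

end Cfsg.Agent.SL2
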