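import Cfsg.Agent.Lib.SL2.DicksonKleinCount
import Cfsg.Agent.Lib.SL2.DicksonArith

/-!
# The classes of four-groups in `PSL(2, q)`, `q` odd
-/

set_option autoImplicit false
set_option linter.unusedSectionVars false

namespace Cfsg.Agent.SL2

open Matrix

variable {F : Type*} [Field F] [Fintype F]

local notation "PS" => Matrix.ProjectiveSpecialLinearGroup (Fin 2) F
local notation "q" => Fintype.card F

theorem isKleinFour_map {V : Subgroup PS} (hV : IsKleinFour V) (g : PS) :
    IsKleinFour (V.map (MulAut.conj g).toMonoidHom) := by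
  let e := V.equivMapOfInjective (MulAut.conj g).toMonoidHom (MulAut.conj g).injective
  exact ⟨by rw [← Nat.card_congr e.toEquiv, hV.card_four],
    by rw [← Monoid.exponent_eq_of_mulEquiv e, hV.exponent_two]⟩

/-- The classes of four-groups. -/
theorem klein_classes (hodd : Odd q) :
    ((q % 8 = 3 ∨ q % 8 = 5) → ∀ V W : Subgroup PS, IsKleinFour V → IsKleinFour W →
        ∃ g : PS, W = V.map (MulAut.conj g).toMonoidHom) ∧
      ((q % 8 = 1 ∨ q % 8 = 7) → ∃ V₁ V₂ : Subgroup PS, IsKleinFour V₁ ∧ IsKleinFour V₂ ∧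
        (¬ ∃ g : PS, V₂ = V₁.map (MulAut.conj g).toMonoidHom) ∧
        ∀ W : Subgroup PS, IsKleinFour W → (∃ g : PS, W = V₁.map (MulAut.conj g).toMonoidHom) ∨
          (∃ g : PS, W = V₂.map (MulAut.conj g).toMonoidHom)) := by
  classical
  haveI : Finite PS := Finite.of_surjective _ π_surjective
  obtain ⟨n, hp, -⟩ := FiniteField.card F (ringChar F)
  haveI : Fact (ringChar F).Prime := ⟨hp⟩
  have h2 := two_ne_zero' hodd
  obtain ⟨j, hj⟩ := id hodd
  have hcard := card_klein hodd
  have hP : 2 * Nat.card PS = q * ((q - 1) * (q + 1)) := by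
    rw [← card_psl, Nat.gcd_eq_left (show 2 ∣ q - 1 from ⟨j, by omega⟩)]
  set S : Set (Subgroup PS) := {V | IsKleinFour V}
  have hS : 12 * S.ncard = Nat.card PS := by
    rw [← Nat.card_coe_set_eq]; exact hcard
  let O : Subgroup PS → Set (Subgroup PS) := fun V => {W | SL2Sub.Shape.Conj V W}
  have hOS : ∀ V : Subgroup PS, IsKleinFour V → O V ⊆ S := by
    rintro V hV _ ⟨g, rfl⟩
    exact isKleinFour_map hV g
  have hO : ∀ V : Subgroup PS, IsKleinFour V → (O V).ncard * Nat.card (Subgroup.normalizer (V : Set PS)) = Nat.card PS := by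
    intro V hV
    rw [← Nat.card_coe_set_eq, ← (Subgroup.normalizer (V : Set PS)).index_mul_card, ← SL2Sub.Shape.card_conj]
    rfl
  have symm : ∀ {V W : Subgroup PS}, W ∈ O V → ∃ g : PS, W = V.map (MulAut.conj g).toMonoidHom :=
    fun ⟨g, hg⟩ => ⟨g, hg.symm⟩
  have hpos : 0 < Nat.card PS := Nat.card_pos
  constructor
  · intro h8 V W hV hW
    rcases normalizer_klein_cases hodd hV with hc | hc
    · refine symm ((Set.eq_of_subset_of_ncard_le (hOS V hV) ?_ (Set.toFinite S)).symm ▸ hW : W ∈ O V)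
      have := hO V hV
      rw [hc] at this
      omega
    · exfalso
      have h24 := hc ▸ Subgroup.card_subgroup_dvd_card (Subgroup.normalizer (V : Set PS))
      have h48 : 48 ∣ q * ((q - 1) * (q + 1)) := hP ▸ Nat.mul_dvd_mul_left 2 h24
      have h16 : 16 ∣ (q - 1) * (q + 1) := by
        refine Nat.Coprime.dvd_of_dvd_mul_left ?_ ((by norm_num : 16 ∣ 48).trans h48)
        rw [show 16 = 2 ^ 4 from rfl]
        exact Nat.Coprime.pow_left _ ((Nat.Prime.coprime_iff_not_dvd Nat.prime_two).2 (by omega))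
      obtain ⟨i, hi⟩ : ∃ i, q = 8 * i + 3 ∨ q = 8 * i + 5 := ⟨q / 8, by omega⟩
      obtain ⟨c, hc'⟩ := h16
      rcases hi with hi | hi <;> rw [hi] at hc'
      · rw [show (8 * i + 3 - 1) * (8 * i + 3 + 1) = 16 * (4 * (i * i) + 3 * i) + 8 by
          rw [show 8 * i + 3 - 1 = 8 * i + 2 by omega]; ring] at hc'
        omega
      · rw [show (8 * i + 5 - 1) * (8 * i + 5 + 1) = 16 * (4 * (i * i) + 5 * i + 1) + 8 by
          rw [show 8 * i + 5 - 1 = 8 * i + 4 by omega]; ring] at hc'
        omega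
  · intro h8
    obtain ⟨t, ht⟩ := exists_sqrt_two (F := F) (by
      rw [Nat.pow_mod]
      obtain h | h | h | h : q % 16 = 1 ∨ q % 16 = 7 ∨ q % 16 = 9 ∨ q % 16 = 15 := by omega
      all_goals rw [h])
    obtain ⟨H, ⟨e⟩⟩ := exists_perm_four h2 ht
    obtain ⟨u, huH, v, hvH, hu, hv, hu1, hv1, huv, hc, hall⟩ := four_of_perm_four e
    set V₁ := Subgroup.closure ({u, v} : Set PS)
    have hV₁ : IsKleinFour V₁ :=
      isKleinFour_closure h2 (orderOf_two_iff.2 ⟨hu, hu1⟩) (orderOf_two_iff.2 ⟨hv, hv1⟩) (Ne.symm huv) hc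
    have hnorm : H ≤ Subgroup.normalizer (V₁ : Set PS) := fun x hx => by
      haveI : Finite (V₁ : Set PS) := (Set.toFinite _).to_subtype
      refine Subgroup.mem_normalizer_fintype fun y hy => ?_
      have hmap : V₁.map (MulAut.conj x).toMonoidHom ≤ V₁ := by
        rw [MonoidHom.map_closure, Subgroup.closure_le]
        rintro _ ⟨z, hz, rfl⟩
        have h4 : ∀ w ∈ four u v, w ∈ V₁ := by
          rintro w (rfl | rfl | rfl)
          · exact Subgroup.subset_closure (by simp)
          · exact Subgroup.subset_closure (by simp)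
          · exact mul_mem (Subgroup.subset_closure (by simp)) (Subgroup.subset_closure (by simp))
        rcases hz with rfl | rfl
        · exact h4 _ (hall x hx).1
        · exact h4 _ (hall x hx).2
      exact hmap ⟨y, hy, rfl⟩
    have h24 : Nat.card (Subgroup.normalizer (V₁ : Set PS)) = 24 := by
      have := Subgroup.card_le_of_le hnorm
      rw [Nat.card_congr e.toEquiv, Nat.card_perm, Nat.card_fin] at this
      simp only [show (4 : ℕ).factorial = 24 from rfl] at this
      rcases normalizer_klein_cases hodd hV₁ with h | h <;> omega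
    have hhalf : ∀ V : Subgroup PS, IsKleinFour V → 2 * (O V).ncard = S.ncard := fun V hV => by
      have := hO V hV
      rw [← card_normalizer_klein hodd (ringChar F) hV₁ hV, h24] at this
      omega
    obtain ⟨V₂, hV₂, hnot⟩ : ∃ V₂ ∈ S, V₂ ∉ O V₁ := by
      by_contra hcon
      push Not at hcon
      have := Set.ncard_le_ncard (show S ⊆ O V₁ from hcon)
      have := hhalf V₁ hV₁
      omega
    refine ⟨V₁, V₂, hV₁, hV₂, fun ⟨g, hg⟩ => hnot ⟨g, hg.symm⟩, fun W hW => ?_⟩
    have hdis : Disjoint (O V₁) (O V₂) := Set.disjoint_left.2 fun A ⟨a, ha⟩ ⟨b, hb⟩ => hnot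
      ⟨b⁻¹ * a, by rw [← SL2Sub.Shape.map_conj_conj, ha, ← hb, SL2Sub.Shape.map_conj_conj, inv_mul_cancel, SL2Sub.Shape.map_conj_one]⟩
    have hall' : O V₁ ∪ O V₂ = S := Set.eq_of_subset_of_ncard_le
      (Set.union_subset (hOS V₁ hV₁) (hOS V₂ hV₂)) (by
        rw [Set.ncard_union_eq hdis]
        have := hhalf V₁ hV₁
        have := hhalf V₂ hV₂
        omega) (Set.toFinite S)
    exact (hall'.symm ▸ hW : W ∈ O V₁ ∪ O V₂).imp symm symm

end Cfsg.Agent.SL2
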