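import Cfsg.Agent.Lib.SL2.DicksonSub
import Cfsg.Agent.Lib.Recog.PGLTwoOrders

/-!
# Normalisers of tori and the Borel subgroup of `PSL(2, q)`
-/

set_option autoImplicit false
set_option linter.unusedSectionVars false

namespace Cfsg.Agent.SL2

open Matrix

variable {F : Type*} [Field F]

local notation "G" => Matrix.SpecialLinearGroup (Fin 2) F
local notation "M2" => Matrix (Fin 2) (Fin 2) F
local notation "PS" => Matrix.ProjectiveSpecialLinearGroup (Fin 2) F
local notation "q" => Fintype.card F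

/-- The normaliser of a torus. -/
abbrev NT (r : G) : Subgroup PS := Subgroup.normalizer (torus r : Set PS)

theorem pi_mem_NT {r s : G} : π s ∈ NT r ↔ s ∈ Subgroup.normalizer (cent r : Set G) := by
  rw [Subgroup.mem_normalizer_iff, Subgroup.mem_normalizer_iff]
  constructor
  · intro h t
    rw [← pi_mem_torus, ← pi_mem_torus, π_conj]
    exact h (π t)
  · intro h y
    obtain ⟨t, rfl⟩ := π_surjective y
    rw [← π_conj, pi_mem_torus, pi_mem_torus]
    exact h t

theorem NT_eq_map (r : G) : NT r = (Subgroup.normalizer (cent r : Set G)).map π := by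
  ext y
  obtain ⟨s, rfl⟩ := π_surjective y
  rw [pi_mem_NT]
  refine ⟨fun h => ⟨s, h, rfl⟩, ?_⟩
  rintro ⟨t, ht, e⟩
  rcases π_eq_iff.1 e with e | e <;> rw [e]
  · exact ht
  · rw [show -t = (-1 : G) * t by simp]
    exact mul_mem (Subgroup.le_normalizer (neg_one_mem_cent r)) ht

variable [Fintype F]

theorem card_map_pi (C : Subgroup G) (hC : (-1 : G) ∈ C) :
    Nat.gcd 2 (q - 1) * Nat.card (C.map π) = Nat.card C := by
  have hsurj := (π (F := F)).subgroupMap_surjective C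
  have hker : Nat.card ((π (F := F)).subgroupMap C).ker = Nat.gcd 2 (q - 1) := by
    have h := LinGrp.natCard_center_SL (n := Fin 2) (F := F)
    rw [Fintype.card_fin, Nat.card_eq_fintype_card (α := F)] at h
    rw [← h]
    refine Nat.card_congr
      { toFun := fun x => ⟨x.1.1, ?_⟩
        invFun := fun z => ⟨⟨z.1, ?_⟩, ?_⟩
        left_inv := fun x => rfl
        right_inv := fun z => rfl }
    · exact (scal_iff_mem_center _).1 (π_eq_one.1 (congrArg Subtype.val x.2))
    · rcases (scal_iff _).1 ((scal_iff_mem_center _).2 z.2) with e | e <;> rw [e]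
      · exact one_mem C
      · exact hC
    · exact Subtype.ext (π_eq_one.2 ((scal_iff_mem_center _).2 z.2))
  rw [← hker, Subgroup.card_eq_card_quotient_mul_card_subgroup ((π (F := F)).subgroupMap C).ker,
    Nat.card_congr (QuotientGroup.quotientKerEquivOfSurjective _ hsurj).toEquiv, mul_comm]

theorem card_NT {r : G} (ht : tr r ^ 2 ≠ 4) : Nat.card (NT r) = 2 * Nat.card (torus r) := by
  have h1 := card_map_pi _ (Subgroup.le_normalizer (neg_one_mem_cent r))
  rw [← NT_eq_map, card_normalizer_cent ht, ← card_torus, mul_left_comm] at h1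
  exact Nat.eq_of_mul_eq_mul_left (Nat.gcd_pos_of_pos_left _ two_pos) h1

theorem card_B0 : Nat.gcd 2 (q - 1) * Nat.card (B0 : Subgroup PS) = q * (q - 1) := by
  classical
  have h : Nat.card (upperB (F := F)) = Nat.card (Fˣ × F) := Nat.card_congr upperEquiv
  rw [B0, card_map_pi _ (show (-1 : G) ∈ upperB (F := F) from by
    show ((-1 : G) : M2) 1 0 = 0
    simp), h, Nat.card_prod, Nat.card_units, Nat.card_eq_fintype_card, mul_comm]

theorem B0_ne_top : (B0 : Subgroup PS) ≠ ⊤ := by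
  intro h
  have h1 := card_B0 (F := F)
  rw [h, Subgroup.card_top, card_psl] at h1
  have h2 := two_le_q (F := F)
  have : q * ((q - 1) * 1) < q * ((q - 1) * (q + 1)) :=
    Nat.mul_lt_mul_of_pos_left (Nat.mul_lt_mul_of_pos_left (by omega) (by omega)) (by omega)
  rw [mul_one] at this
  omega

theorem NT_ne_top {r : G} (ht : tr r ^ 2 ≠ 4) (h3 : 3 ≤ q) : NT r ≠ ⊤ := by
  intro h
  have h1 := card_NT ht
  rw [h, Subgroup.card_top] at h1
  have h2 := card_psl (F := F)
  rw [h1, mul_left_comm, card_torus] at h2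
  have : 3 * (2 * (q + 1)) ≤ q * ((q - 1) * (q + 1)) :=
    Nat.mul_le_mul h3 (Nat.mul_le_mul_right _ (by omega))
  rcases card_cent_regular ht with ⟨-, hc, -⟩ | ⟨-, hc, -⟩ <;> rw [hc] at h2 <;> omega

theorem torus_lt_NT {r : G} (ht : tr r ^ 2 ≠ 4) : torus r < NT r := by
  haveI : Finite PS := Finite.of_surjective _ π_surjective
  refine lt_of_le_of_ne Subgroup.le_normalizer fun e => ?_
  have h1 := card_NT ht
  rw [← e] at h1
  have := Nat.card_pos (α := torus r)
  omega

theorem card_torus_pos (r : G) : 0 < Nat.card (torus r) := by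
  haveI : Finite PS := Finite.of_surjective _ π_surjective
  exact Nat.card_pos

/-- A generator of the torus and an inverting involution. -/
theorem exists_gen_invert {r : G} (ht : tr r ^ 2 ≠ 4) :
    ∃ d w : PS, orderOf d = Nat.card (torus r) ∧ Subgroup.zpowers d = torus r ∧ w ∈ NT r ∧
      w ∉ torus r ∧ w * w = 1 ∧ w * d * w⁻¹ = d⁻¹ := by
  haveI : Finite PS := Finite.of_surjective _ π_surjective
  haveI := isCyclic_torus ht
  obtain ⟨⟨d, hd⟩, hgen⟩ := IsCyclic.exists_ofOrder_eq_natCard (α := torus r)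
  obtain ⟨x, hx⟩ := exists_invert ht
  have hxN : x ∈ Subgroup.normalizer (cent r : Set G) := (mem_normalizer_cent ht).2 (Or.inr hx)
  have hxc : x ∉ cent r := fun h => ne_inv ht (by
    rw [← hx, mul_inv_eq_iff_eq_mul.2 (mem_cent.1 h).symm])
  obtain ⟨-, hsq⟩ := sq_of_mem_normalizer ht hxN hxc
  refine ⟨d, π x, (Subgroup.orderOf_mk d hd).symm.trans hgen, ?_, pi_mem_NT.2 hxN,
    fun h => hxc (pi_mem_torus.1 h), by rw [← map_mul, hsq, π_neg, map_one], ?_⟩
  · refine Subgroup.eq_of_le_of_card_ge (Subgroup.zpowers_le.2 hd) (le_of_eq ?_)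
    rw [Nat.card_zpowers, ← hgen, Subgroup.orderOf_mk]
  · obtain ⟨c, hc, rfl⟩ := hd
    rcases normalizer_act ht hxN with ⟨h, -⟩ | ⟨-, h⟩
    · exact absurd h hxc
    · rw [← π_conj, h c hc, map_inv]

theorem NT_equiv_dihedral {r : G} (ht : tr r ^ 2 ≠ 4) :
    Nonempty (NT r ≃* DihedralGroup (Nat.card (torus r))) := by
  haveI : Finite PS := Finite.of_surjective _ π_surjective
  obtain ⟨d, w, hd, hz, hw, hwn, hw2, hinv⟩ := exists_gen_invert ht
  haveI : NeZero (orderOf d) := ⟨(orderOf_pos d).ne'⟩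
  obtain ⟨e⟩ := Invol.nonempty_dihedralEquiv hw2 hinv (hz ▸ hwn)
  have hcl : Subgroup.closure ({w, d} : Set PS) = NT r := by
    refine Subgroup.eq_of_le_of_card_ge ((Subgroup.closure_le _).2 ?_) (le_of_eq ?_)
    · rintro y (rfl | rfl)
      · exact hw
      · exact Subgroup.le_normalizer (hz ▸ Subgroup.mem_zpowers y)
    · rw [← Nat.card_congr e.toEquiv, DihedralGroup.nat_card, hd, card_NT ht]
  rw [← hd]
  exact ⟨(MulEquiv.subgroupCongr hcl).symm.trans e.symm⟩

theorem torus_eq_of_cent_eq {r r' : G} (h : cent r = cent r') : torus r = torus r' := by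
  rw [torus, torus, h]

/-- Tori of the same order are conjugate. -/
theorem exists_torus_conj (hodd : Odd q) {r r' : G} (ht : tr r ^ 2 ≠ 4) (ht' : tr r' ^ 2 ≠ 4)
    (hc : Nat.card (torus r) = Nat.card (torus r')) : ∃ P : G, torus (P * r * P⁻¹) = torus r' := by
  have hcard : Nat.card (cent r) = Nat.card (cent r') := by rw [← card_torus, ← card_torus, hc]
  have hq := two_le_q (F := F)
  rcases card_cent_regular ht with ⟨h1, h2, -⟩ | ⟨⟨a, ha⟩, h2, -⟩ <;>
    rcases card_cent_regular ht' with ⟨h1', h2', -⟩ | ⟨⟨a', ha'⟩, h2', -⟩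
  · obtain ⟨P, hP⟩ := exists_conj_mem_cent hodd ((noEig_iff r').2 h1') ((noEig_iff r).2 h1)
    exact ⟨P, torus_eq_of_cent_eq (cent_eq (scal_of_tr_sq_ne ht') hP
      (not_scal_conj (scal_of_tr_sq_ne ht) P))⟩
  · omega
  · omega
  · obtain ⟨u, P, -, hu, hP⟩ := exists_dd_conj ht ha
    obtain ⟨u', P', -, hu', hP'⟩ := exists_dd_conj ht' ha'
    refine ⟨P' * P⁻¹, torus_eq_of_cent_eq ?_⟩
    rw [← hP, ← hP', show P' * P⁻¹ * (P * dd u * P⁻¹) * (P' * P⁻¹)⁻¹ = P' * dd u * P'⁻¹ by group]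
    ext x
    rw [cent_conj, cent_conj, mem_cent_dd hu, mem_cent_dd hu']

theorem isCoatom_NT_of_conj {r : G} (P : G) (h : IsCoatom (NT r)) : IsCoatom (NT (P * r * P⁻¹)) := by
  have e : NT (P * r * P⁻¹) = (MulAut.conj (π P)).mapSubgroup (NT r) := by
    rw [MulEquiv.coe_mapSubgroup, NT_eq_map, NT_eq_map]
    ext y
    obtain ⟨s, rfl⟩ := π_surjective y
    rw [← NT_eq_map, ← NT_eq_map, pi_mem_NT, Subgroup.mem_map_equiv, MulAut.conj_symm_apply, ← map_inv,
      ← map_mul, ← map_mul, pi_mem_NT, Subgroup.mem_normalizer_iff, Subgroup.mem_normalizer_iff]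
    constructor
    · intro h' t
      have := h' (P * t * P⁻¹)
      rw [cent_conj, cent_conj, show P⁻¹ * (P * t * P⁻¹) * P = t by group] at this
      rw [this, show P⁻¹ * (s * (P * t * P⁻¹) * s⁻¹) * P = P⁻¹ * s * P * t * (P⁻¹ * s * P)⁻¹ by group]
    · intro h' t
      rw [cent_conj, cent_conj, h' (P⁻¹ * t * P),
        show P⁻¹ * s * P * (P⁻¹ * t * P) * (P⁻¹ * s * P)⁻¹ = P⁻¹ * (s * t * s⁻¹) * P by group]
  rw [e, OrderIso.isCoatom_iff]
  exact h

/-- Element orders in `PGL(2, k)` are at most `k + 1`. -/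
theorem orderOf_pgl_le {K : Type*} [Field K] [Fintype K] (x : Matrix.ProjGenLinGroup (Fin 2) K) :
    orderOf x ≤ Fintype.card K + 1 := by
  classical
  obtain ⟨i, hp, hk⟩ := FiniteField.card K (ringChar K)
  haveI : Fact (ringChar K).Prime := ⟨hp⟩
  have h2 : 2 ≤ Fintype.card K := Fintype.one_lt_card
  have hpk : ringChar K ≤ Fintype.card K := hk ▸ Nat.le_self_pow i.ne_zero _
  obtain h | h | h : orderOf x = ringChar K ∨ orderOf x ∣ Fintype.card K - 1 ∨
      orderOf x ∣ Fintype.card K + 1 := Recog.PGLTwo.pgl_orders (p := ringChar K) x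
  · omega
  · have := Nat.le_of_dvd (by omega) h; omega
  · exact Nat.le_of_dvd (by omega) h

/-- A torus element and an inverting element. -/
theorem not_inverted_in_B0 {p : ℕ} [Fact p.Prime] [CharP F p] {g x w : PS}
    (hx : g * x * g⁻¹ ∈ (B0 : Subgroup PS)) (hw : g * w * g⁻¹ ∈ (B0 : Subgroup PS))
    (hinv : w * x * w⁻¹ = x⁻¹) (hp : ¬ p ∣ orderOf x) : x ^ 2 = 1 := by
  obtain ⟨ψ, hψ⟩ := exists_borelHom (F := F)
  set X : (B0 : Subgroup PS) := ⟨_, hx⟩
  set W : (B0 : Subgroup PS) := ⟨_, hw⟩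
  have e : W * X * W⁻¹ = X⁻¹ := Subtype.ext (by
    show g * w * g⁻¹ * (g * x * g⁻¹) * (g * w * g⁻¹)⁻¹ = (g * x * g⁻¹)⁻¹
    rw [show g * w * g⁻¹ * (g * x * g⁻¹) * (g * w * g⁻¹)⁻¹ = g * (w * x * w⁻¹) * g⁻¹ by group, hinv]
    group)
  have e1 := congrArg ψ e
  rw [map_mul, map_mul, map_inv, map_inv, mul_comm, ← mul_assoc, inv_mul_cancel, one_mul,
    eq_inv_iff_mul_eq_one, ← map_mul] at e1
  have e2 := B0_exponent (p := p) (hψ _ e1)
  have e3 : (g * (x * x) * g⁻¹) ^ p = 1 := by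
    rw [← e2]
    show _ = (g * x * g⁻¹ * (g * x * g⁻¹)) ^ p
    group
  rw [conj_pow, conj_eq_one_iff, ← pow_two, ← pow_mul, ← orderOf_dvd_iff_pow_eq_one] at e3
  exact orderOf_dvd_iff_pow_eq_one.1
    (((Nat.Prime.coprime_iff_not_dvd Fact.out).2 hp).symm.dvd_of_dvd_mul_right e3)

/-- A proper subgroup with image of a projective group over a subfield. -/
theorem lt_card_of_ne_top {H : Subgroup PS} (hH : H ≠ ⊤) {K : Subfield F}
    (hK : Nonempty (H ≃* Matrix.ProjectiveSpecialLinearGroup (Fin 2) K) ∨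
      Nonempty (H ≃* Matrix.ProjGenLinGroup (Fin 2) K)) : Nat.card K * Nat.card K ≤ q := by
  classical
  haveI : Finite PS := Finite.of_surjective _ π_surjective
  haveI : Fintype K := Fintype.ofFinite K
  rw [Nat.card_eq_fintype_card]
  set m := Module.finrank K F
  have hm : q = Fintype.card K ^ m := Module.card_eq_pow_finrank (K := K) (V := F)
  have hm0 : 0 < m := Module.finrank_pos
  rcases (show m = 1 ∨ 2 ≤ m by omega) with h1 | h2
  · exfalso
    refine hH (Subgroup.eq_top_of_le_card _ ?_)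
    have e : q = Fintype.card K := by rw [hm, h1, pow_one]
    have hP := card_psl (F := K)
    have hF := card_psl (F := F)
    rw [e, ← hP] at hF
    have hle : Nat.card PS = Nat.card (Matrix.ProjectiveSpecialLinearGroup (Fin 2) K) :=
      Nat.eq_of_mul_eq_mul_left (Nat.gcd_pos_of_pos_left _ two_pos) hF
    rcases hK with h | h <;> obtain ⟨f⟩ := h <;> rw [hle, Nat.card_congr f.toEquiv]
    exact psl_le_pgl
  · rw [hm]
    calc Fintype.card K * Fintype.card K = Fintype.card K ^ 2 := by ring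
      _ ≤ Fintype.card K ^ m := Nat.pow_le_pow_right Fintype.card_pos h2

/-- Orders in the polyhedral groups. -/
theorem orders_alt_four : ∀ x w : alternatingGroup (Fin 4), w * x * w⁻¹ = x⁻¹ → x ^ 2 = 1 := by
  decide +kernel

theorem orders_perm_four : ∀ x : Equiv.Perm (Fin 4), x ^ 2 = 1 ∨ x ^ 3 = 1 ∨ x ^ 4 = 1 := by
  decide +kernel

theorem orders_alt_five : ∀ x : alternatingGroup (Fin 5), x ^ 2 = 1 ∨ x ^ 3 = 1 ∨ x ^ 5 = 1 := by
  decide +kernel

/-- The torus normaliser is maximal apart from small exceptions. -/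
theorem isCoatom_NT {r : G} (ht : tr r ^ 2 ≠ 4) (h3 : 3 ≤ Nat.card (torus r)) (h7 : q ≠ 7) (h9 : q ≠ 9)
    (h11 : q = 11 → Nat.card (torus r) ≠ 5) (hq3 : 3 ≤ q) : IsCoatom (NT r) := by
  classical
  haveI : Finite PS := Finite.of_surjective _ π_surjective
  obtain ⟨n, hpp, hq⟩ := FiniteField.card F (ringChar F)
  set p := ringChar F with hpdef
  haveI : Fact p.Prime := ⟨hpp⟩
  have hq2 := two_le_q (F := F)
  obtain ⟨d, w, hd, hz, hw, hwn, hw2, hinv⟩ := exists_gen_invert ht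
  set k := Nat.card (torus r) with hkdef
  have hd2 : d ^ 2 ≠ 1 := fun h => by
    have := Nat.le_of_dvd two_pos (orderOf_dvd_of_pow_eq_one h)
    omega
  have hdk : Nat.gcd 2 (q - 1) * k = q - 1 ∨ Nat.gcd 2 (q - 1) * k = q + 1 := by
    rw [hkdef, card_torus]
    rcases card_cent_regular ht with ⟨-, h, -⟩ | ⟨-, h, -⟩
    · exact Or.inr h
    · exact Or.inl h
  have hgcd : Nat.gcd 2 (q - 1) ≤ 2 := Nat.gcd_le_left _ two_pos
  refine ⟨NT_ne_top ht hq3, fun H hlt => ?_⟩
  by_contra hH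
  have hdN : d ∈ NT r := Subgroup.le_normalizer (hz ▸ Subgroup.mem_zpowers d)
  have hdH : d ∈ H := hlt.le hdN
  have hwH : w ∈ H := hlt.le hw
  have transfer : ∀ {A : Type} [Group A] (e : H ≃* A), ∃ x w' : A, orderOf x = k ∧ w' * x * w'⁻¹ = x⁻¹ :=
    fun e => ⟨e ⟨d, hdH⟩, e ⟨w, hwH⟩, by rw [MulEquiv.orderOf_eq, Subgroup.orderOf_mk, hd], by
      rw [← map_inv, ← map_mul, ← map_mul, ← map_inv]
      exact congrArg e (Subtype.ext hinv)⟩
  rcases dickson p H with ⟨r', ht'', hle, -⟩ | ⟨r', ht', hle, -⟩ | ⟨g, hg⟩ | ⟨-, ⟨e⟩⟩ | ⟨hp2, ⟨e⟩⟩ |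
    ⟨hp2, hp5, ⟨e⟩⟩ | ⟨K, γ, hK, hcase⟩
  · -- a torus is commutative
    obtain ⟨a, ha, rfl⟩ := hle hdH
    obtain ⟨b, hb, rfl⟩ := hle hwH
    rw [← π_conj, show b * a * b⁻¹ = a from mul_inv_eq_iff_eq_mul.2 (cent_comm (scal_of_tr_sq_ne ht'') hb ha),
      eq_inv_iff_mul_eq_one, ← pow_two] at hinv
    exact hd2 hinv
  · have hd' : d ∈ NT r' := hle hdH
    obtain ⟨s, rfl⟩ := π_surjective d
    rw [pi_mem_NT] at hd'
    have hsq : π s ^ 2 ∈ torus r' := by
      rw [← map_pow, pi_mem_torus]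
      rcases normalizer_act ht' hd' with ⟨h, -⟩ | ⟨h, -⟩
      · exact pow_mem h 2
      · rw [pow_two, (sq_of_mem_normalizer ht' hd' h).2]
        exact neg_one_mem_cent r'
    have heq : torus r = torus r' := torus_eq_of_mem (scal_of_tr_sq_ne ht) (scal_of_tr_sq_ne ht') hd2
      (pow_mem (hz ▸ Subgroup.mem_zpowers _) 2) hsq
    have : H ≤ NT r := by rw [NT, heq]; exact hle
    exact hlt.not_ge this
  · refine hd2 (not_inverted_in_B0 (p := p) (hg d hdH) (hg w hwH) hinv fun hdvd => ?_)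
    rw [hd] at hdvd
    have hpq : p ∣ q := hq ▸ dvd_pow_self p n.ne_zero
    have h1 : p ∣ Nat.gcd 2 (q - 1) * k := dvd_mul_of_dvd_right hdvd _
    rcases hdk with h | h <;> rw [h] at h1
    · have := Nat.dvd_sub hpq h1
      rw [show q - (q - 1) = 1 by omega] at this
      exact hpp.one_lt.ne' (Nat.dvd_one.1 this)
    · exact hpp.one_lt.ne' (Nat.dvd_one.1 ((Nat.dvd_add_right hpq).1 h1))
  · obtain ⟨x, w', hx, hxw⟩ := transfer e
    have := Nat.le_of_dvd two_pos (hx ▸ orderOf_dvd_of_pow_eq_one (orders_alt_four x w' hxw))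
    omega
  · obtain ⟨x, w', hx, -⟩ := transfer e
    have hk : k = 3 ∨ k = 4 := by
      rcases orders_perm_four x with h | h | h <;>
        have hdv := hx ▸ orderOf_dvd_of_pow_eq_one h <;>
        have := Nat.le_of_dvd (by norm_num) hdv
      · omega
      · omega
      · omega
    obtain ⟨j, hj⟩ : Odd q := hq ▸ (hpp.odd_of_ne_two hp2).pow
    have hqodd : Nat.gcd 2 (q - 1) = 2 := Nat.gcd_eq_left ⟨j, by omega⟩
    rw [hqodd] at hdk
    have h5 : q = 5 := by omega
    have key : ∃ x : Equiv.Perm (Fin 4), x ^ 4 = 1 ∧ x ^ 2 ≠ 1 := by decide +kernel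
    obtain ⟨y, hy4, hy2⟩ := key
    have hy : orderOf (e.symm y : PS) = 4 := by
      rw [Subgroup.orderOf_coe, MulEquiv.orderOf_eq]
      haveI : Fact (Nat.Prime 2) := ⟨Nat.prime_two⟩
      exact orderOf_eq_prime_pow (p := 2) (n := 1) hy2 hy4
    have := sq_mod_of_orderOf_four hy
    rw [h5] at this
    norm_num at this
  · obtain ⟨x, w', hx, -⟩ := transfer e
    have hk : k = 3 ∨ k = 4 ∨ k = 5 := by
      rcases orders_alt_five x with h | h | h <;>
        have := Nat.le_of_dvd (by norm_num) (hx ▸ orderOf_dvd_of_pow_eq_one h) <;> omega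
    have hk4 : k ≠ 4 := fun h4 => by
      rcases orders_alt_five x with h | h | h <;>
        have hh := hx ▸ orderOf_dvd_of_pow_eq_one h <;> rw [h4] at hh <;> norm_num at hh
    obtain ⟨j, hj⟩ : Odd q := hq ▸ (hpp.odd_of_ne_two hp2).pow
    have hqodd : Nat.gcd 2 (q - 1) = 2 := Nat.gcd_eq_left ⟨j, by omega⟩
    rw [hqodd] at hdk
    have h5 : q = 5 := by
      rcases hk with hk' | hk' | hk'
      · omega
      · omega
      · have : q ≠ 11 := fun e => h11 e hk'
        omega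
    rw [h5] at hq
    exact hp5 ((Nat.prime_dvd_prime_iff_eq hpp (by norm_num)).1 (hq ▸ dvd_pow_self p n.ne_zero))
  · haveI : Fintype K := Fintype.ofFinite K
    have hsq := lt_card_of_ne_top hH (hcase.imp And.left And.left)
    rw [Nat.card_eq_fintype_card] at hsq hK
    have hle : k ≤ Fintype.card K + 1 := by
      rcases hcase with ⟨⟨e⟩, -⟩ | ⟨⟨e⟩, -⟩
      · rw [← hd, ← Subgroup.orderOf_mk d hdH, ← e.orderOf_eq,
          ← orderOf_injective _ Matrix.ProjectiveSpecialLinearGroup.toPGL_injective]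
        exact orderOf_pgl_le _
      · rw [← hd, ← Subgroup.orderOf_mk d hdH, ← e.orderOf_eq]
        exact orderOf_pgl_le _
    have h4 : 4 * Fintype.card K ≤ q := (Nat.mul_le_mul_right _ hK).trans hsq
    have hmul : Nat.gcd 2 (q - 1) * k ≤ 2 * k := Nat.mul_le_mul_right _ hgcd
    omega

end Cfsg.Agent.SL2
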