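import Cfsg.Agent.Lib.SL2.DicksonKlein
import Cfsg.Agent.Lib.SL2.DicksonTorus

/-!
# The maximal subgroups of `PSL(2, q)`
-/

set_option autoImplicit false
set_option linter.unusedSectionVars false

namespace Cfsg.Agent.SL2

open Matrix

variable {F : Type*} [Field F] [Fintype F]

local notation "G" => Matrix.SpecialLinearGroup (Fin 2) F
local notation "M2" => Matrix (Fin 2) (Fin 2) F
local notation "PS" => Matrix.ProjectiveSpecialLinearGroup (Fin 2) F
local notation "PG" => Matrix.ProjGenLinGroup (Fin 2) F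
local notation "q" => Fintype.card F

theorem pgl_lt_psl {K L : Type*} [Field K] [Fintype K] [Field L] [Fintype L]
    (h : Fintype.card K * Fintype.card K ≤ Fintype.card L) :
    Nat.card (Matrix.ProjGenLinGroup (Fin 2) K) <
      Nat.card (Matrix.ProjectiveSpecialLinearGroup (Fin 2) L) := by
  have hk : 2 ≤ Fintype.card K := Fintype.one_lt_card
  have hl : 4 ≤ Fintype.card L := le_trans (Nat.mul_le_mul hk hk) h
  have hP := card_psl (F := L)
  have hd : Nat.gcd 2 (Fintype.card L - 1) * Nat.card (Matrix.ProjectiveSpecialLinearGroup (Fin 2) L) ≤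
      2 * Nat.card (Matrix.ProjectiveSpecialLinearGroup (Fin 2) L) :=
    Nat.mul_le_mul_right _ (Nat.gcd_le_left _ two_pos)
  rw [card_pgl]
  set k := Fintype.card K
  set l := Fintype.card L
  have hkk : 2 * k ≤ k * k := Nat.mul_le_mul_right k hk
  have h1 : 2 * (k * ((k - 1) * (k + 1))) < l * ((l - 1) * (l + 1)) := by
    rw [← mul_assoc]
    exact Nat.mul_lt_mul_of_le_of_lt (by omega)
      (Nat.mul_lt_mul_of_le_of_lt (by omega) (by omega) (by omega)) (by omega)
  omega

theorem psl_lt_psl {K L : Type*} [Field K] [Fintype K] [Field L] [Fintype L]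
    (h : Fintype.card K * Fintype.card K ≤ Fintype.card L) :
    Nat.card (Matrix.ProjectiveSpecialLinearGroup (Fin 2) K) <
      Nat.card (Matrix.ProjectiveSpecialLinearGroup (Fin 2) L) :=
  psl_le_pgl.trans_lt (pgl_lt_psl h)

theorem card_pgl_eq {K : Type*} [Field K] [Fintype K] :
    Nat.card (Matrix.ProjGenLinGroup (Fin 2) K) =
      Nat.gcd 2 (Fintype.card K - 1) * Nat.card (Matrix.ProjectiveSpecialLinearGroup (Fin 2) K) := by
  rw [card_pgl, card_psl]

theorem sq_le_pow {k m : ℕ} (hk : 1 ≤ k) (hm : 2 ≤ m) : k * k ≤ k ^ m :=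
  (pow_two k).symm.le.trans (Nat.pow_le_pow_right hk hm)

theorem ne_top_of_coatom_map {M : Subgroup PS} (hM : IsCoatom M) {γ : PG} :
    M.map (conjEmb γ) ≠ R0 := by
  intro h
  refine hM.1 (Subgroup.map_injective (conjEmb_injective γ) ?_)
  rw [h, ← MonoidHom.range_eq_map, range_conjEmb]

/-- A maximal subgroup of subfield type. -/
theorem coatom_kform {K : Type} [Field K] [Fintype K] (φ : K →+* F) {m : ℕ}
    (hm : Fintype.card K ^ m = q) {M : Subgroup PS} (hM : IsCoatom M) {γ : PG}
    (h : M.map (conjEmb γ) = kg φ ∨ M.map (conjEmb γ) = pg φ) :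
    (m.Prime ∧ (Odd q → Odd m) ∧ Nonempty (M ≃* Matrix.ProjectiveSpecialLinearGroup (Fin 2) K)) ∨
      (Odd q ∧ m = 2 ∧ Nonempty (M ≃* Matrix.ProjGenLinGroup (Fin 2) K)) := by
  classical
  haveI : Finite PG := Finite.of_surjective _ Matrix.ProjGenLinGroup.mk_surjective
  have hk : 2 ≤ Fintype.card K := Fintype.one_lt_card
  have hm0 : m ≠ 0 := fun e => by
    rw [e, pow_zero] at hm
    have := two_le_q (F := F)
    omega
  have hpar : Odd q ↔ Odd (Fintype.card K) := by rw [← hm, Nat.odd_pow_iff hm0]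
  have hsq : Even m → Odd q → ∀ c : K, IsSquare (φ c) := fun he ho =>
    isSquare_of_even hm he fun h2 => by
      haveI : CharP F 2 := h2 ▸ ringChar.charP F
      have := FiniteField.even_card_of_char_two (F := F) h2
      obtain ⟨j, hj⟩ := ho
      omega
  -- in even characteristic the two types coincide
  have h' : M.map (conjEmb γ) = kg φ ∨ (Odd q ∧ M.map (conjEmb γ) = pg φ) := by
    rcases h with h | h
    · exact Or.inl h
    rcases Nat.even_or_odd q with he | ho
    · left
      rw [h]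
      refine (Subgroup.eq_of_le_of_card_ge (kg_le_pg φ) (le_of_eq ?_)).symm
      rw [card_kg, card_pg, card_pgl_eq]
      obtain ⟨j, hj⟩ : Even (Fintype.card K) :=
        Nat.not_odd_iff_even.1 fun ho => Nat.not_odd_iff_even.2 he (hpar.2 ho)
      rw [Nat.Coprime.gcd_eq_one (by
        refine (Nat.Prime.coprime_iff_not_dvd Nat.prime_two).2 ?_
        omega), one_mul]
    · exact Or.inr ⟨ho, h⟩
  have hodd2 : Odd q → Nat.card (Matrix.ProjGenLinGroup (Fin 2) K) =
      2 * Nat.card (Matrix.ProjectiveSpecialLinearGroup (Fin 2) K) := fun ho => by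
    obtain ⟨j, hj⟩ := hpar.1 ho
    rw [card_pgl_eq, Nat.gcd_eq_left ⟨j, by omega⟩]
  haveI : Finite (Matrix.ProjectiveSpecialLinearGroup (Fin 2) K) := Finite.of_surjective _ π_surjective
  have hpos : 0 < Nat.card (Matrix.ProjectiveSpecialLinearGroup (Fin 2) K) := Nat.card_pos
  rcases h' with h | ⟨ho, h⟩
  · have hne : m ≠ 1 := fun e => by
      refine ne_top_of_coatom_map hM (γ := γ) ?_
      rw [h]
      refine Subgroup.eq_of_le_of_card_ge (kg_le_R0 φ) (le_of_eq ?_)
      rw [card_R0, card_kg]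
      have he : Fintype.card K = q := by rw [← hm, e, pow_one]
      have hP := card_psl (F := K)
      rw [he, ← card_psl (F := F)] at hP
      exact (Nat.eq_of_mul_eq_mul_left (Nat.gcd_pos_of_pos_left _ two_pos) hP).symm
    have hKF : Fintype.card K * Fintype.card K ≤ q := hm ▸ sq_le_pow (by omega) (by omega)
    refine Or.inl ⟨Nat.prime_def_lt.2 ⟨by omega, fun a ha had => ?_⟩, fun ho => ?_, iso_of_map_eq_kg h⟩
    · by_contra ha1
      obtain ⟨L, χ, hL, hφ⟩ := exists_between (φ := φ) hm had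
      haveI : Fintype L := Fintype.ofFinite L
      rw [Nat.card_eq_fintype_card] at hL
      obtain ⟨b, hb⟩ := had
      have ha2 : 2 ≤ a := by
        have : a ≠ 0 := fun e => hm0 (by rw [hb, e, zero_mul])
        omega
      have hb2 : 2 ≤ b := by
        rcases b with _ | _ | b
        · simp at hb; omega
        · simp at hb; omega
        · omega
      rcases coatom_map hM γ (h.le.trans (kg_mono hφ)) (kg_le_R0 _) with e | e <;>
        have e' := congrArg (fun X : Subgroup PG => Nat.card X) e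
      · rw [h, card_kg, card_kg] at e'
        have := psl_lt_psl (K := K) (L := L) (hL ▸ sq_le_pow (by omega) ha2)
        omega
      · rw [card_kg, card_R0] at e'
        have hq : Fintype.card L ^ b = q := by rw [hL, ← pow_mul, ← hb, hm]
        have := psl_lt_psl (K := L) (L := F) (hq ▸ sq_le_pow Fintype.card_pos hb2)
        omega
    · by_contra hev
      rw [Nat.not_odd_iff_even] at hev
      rcases coatom_map hM γ (h.le.trans (kg_le_pg φ)) (pg_le_R0 (hsq hev ho)) with e | e <;>
        have e' := congrArg (fun X : Subgroup PG => Nat.card X) e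
      · rw [h, card_pg, card_kg, hodd2 ho] at e'
        omega
      · rw [card_pg, card_R0] at e'
        have := pgl_lt_psl (K := K) (L := F) hKF
        omega
  · have hpg : pg φ ≤ R0 := by
      rw [← h]
      exact (Subgroup.map_le_range _ _).trans (range_conjEmb γ).le
    have hev : Even m := by
      by_contra hev
      rw [Nat.not_even_iff_odd] at hev
      have e := pg_inf_R0 (φ := φ) fun c hc => isSquare_of_odd hm hev hc
      rw [inf_eq_left.2 hpg] at e
      have e' := congrArg (fun X : Subgroup PG => Nat.card X) e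
      rw [card_pg, card_kg, hodd2 ho] at e'
      omega
    refine Or.inr ⟨ho, ?_, iso_of_map_eq_pg h⟩
    obtain ⟨j, hj⟩ := hev
    by_contra hne
    have hj2 : 2 ≤ j := by omega
    obtain ⟨L, χ, hL, hφ⟩ := exists_between (φ := φ) hm (a := j) ⟨2, by omega⟩
    haveI : Fintype L := Fintype.ofFinite L
    rw [Nat.card_eq_fintype_card] at hL
    have hLF : Fintype.card L ^ 2 = q := by rw [hL, ← pow_mul, ← hm]; congr 1; omega
    have hLR : pg L.subtype ≤ R0 := pg_le_R0 (isSquare_of_even hLF even_two fun h2 => by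
      haveI : CharP F 2 := h2 ▸ ringChar.charP F
      have := FiniteField.even_card_of_char_two (F := F) h2
      obtain ⟨i, hi⟩ := ho
      omega)
    have hlt := pgl_lt_psl (K := K) (L := L) (hL ▸ sq_le_pow (by omega) hj2)
    have hle := psl_le_pgl (L := L)
    rcases coatom_map hM γ (h.le.trans (pg_mono hφ)) hLR with e | e <;>
      have e' := congrArg (fun X : Subgroup PG => Nat.card X) e
    · rw [h, card_pg, card_pg] at e'
      omega
    · rw [card_pg, card_R0] at e'
      have := pgl_lt_psl (K := L) (L := F) (pow_two (Fintype.card L) ▸ hLF.le)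
      omega

/-- The stabiliser of a four-group is proper. -/
theorem stab_ne_R0 (h3 : (3 : F) ≠ 0) {a b : F} (h : a ^ 2 + b ^ 2 = -1) : stab h ≠ (R0 : Subgroup PG) := by
  intro e
  have hu : Matrix.ProjectiveSpecialLinearGroup.toPGL (π (uu (1 : F))) ∈ stab h := by
    rw [e]; exact ⟨_, rfl⟩
  have := (Subgroup.mem_set_normalizer_iff.1 hu.2
    (Matrix.ProjectiveSpecialLinearGroup.toPGL (π I0))).1 (by simp)
  rw [← map_inv, ← map_mul, ← map_mul, ← π_conj, fourPG, four, ← map_mul, ← map_mul] at this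
  rcases this with e | e | e <;>
    rcases π_eq_iff.1 (Matrix.ProjectiveSpecialLinearGroup.toPGL_injective e) with e | e <;>
    have e00 := congrArg (fun x : G => (x : M2) 0 0) e <;>
    have e01 := congrArg (fun x : G => (x : M2) 0 1) e <;>
    have e10 := congrArg (fun x : G => (x : M2) 1 0) e <;>
    simp only [Matrix.SpecialLinearGroup.coe_mul, coe_inv', Matrix.SpecialLinearGroup.coe_neg] at e00 e01 e10 <;>
    simp [I0, J0, uu, tr, Matrix.mul_apply, Fin.sum_univ_two, Matrix.vecMul, dotProduct] at e00 e01 e10 <;>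
    refine h3 ?_
  all_goals first
    | linear_combination e01 - e10
    | linear_combination e10 - e01
    | linear_combination e01 + e10
    | linear_combination -e01 - e10

/-- Traces of elements of order `2`, `3`, `5`. -/
theorem tr_mem_of_pow {R : Subring F} {t : F} (ht : t ∈ R) (hφ : t ^ 2 = t + 1) {s : G}
    (h : π s ^ 2 = 1 ∨ π s ^ 3 = 1 ∨ π s ^ 5 = 1) : tr s ∈ R := by
  by_cases hs : Scal s
  · rcases (scal_iff s).1 hs with e | e <;> rw [e] <;> simp [tr]
    · exact add_mem (one_mem R) (one_mem R)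
    · exact add_mem (neg_mem (one_mem R)) (neg_mem (one_mem R))
  have key : ∀ k : ℕ, π s ^ k = 1 → ∀ c₀ c₁ : F, ((s ^ k : G) : M2) = c₀ • (1 : M2) + c₁ • (s : M2) →
      c₁ = 0 := by
    intro k hk c₀ c₁ he
    rw [← map_pow, π_eq_one, scal_iff] at hk
    rcases hk with e | e <;> rw [e] at he
    · exact (coeff_unique hs (a := c₀) (b := c₁) (a' := 1) (b' := 0) (by rw [← he]; simp)).2
    · exact (coeff_unique hs (a := c₀) (b := c₁) (a' := -1) (b' := 0) (by rw [← he]; simp)).2
  rcases h with h | h | h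
  · rw [key 2 h (-1) (tr s) (by
      rw [Matrix.SpecialLinearGroup.coe_pow, pow_two, mul_self]; module)]
    exact zero_mem R
  · have e := key 3 h (-tr s) (tr s ^ 2 - 1) (by
      rw [Matrix.SpecialLinearGroup.coe_pow, pow_succ, pow_two, mul_self, sub_mul, one_mul,
        smul_mul_assoc, mul_self]
      module)
    rcases sq_eq_one_iff.1 (sub_eq_zero.1 e) with e | e <;> rw [e]
    · exact one_mem R
    · exact neg_mem (one_mem R)
  · have e := key 5 h _ _ (pow_five_expand s)
    rcases mul_eq_zero.1 (show (tr s ^ 2 - tr s - 1) * (tr s ^ 2 + tr s - 1) = 0 by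
      linear_combination e) with e | e
    · rcases mul_eq_zero.1 (show (tr s - t) * (tr s - (1 - t)) = 0 by linear_combination e - hφ) with e | e <;>
        rw [sub_eq_zero.1 e]
      · exact ht
      · exact sub_mem (one_mem R) ht
    · rcases mul_eq_zero.1 (show (tr s + t) * (tr s + (1 - t)) = 0 by linear_combination e - hφ) with e | e <;>
        rw [eq_neg_of_add_eq_zero_left e]
      · exact neg_mem ht
      · exact neg_mem (sub_mem (one_mem R) ht)

theorem coatom_alt_five {p : ℕ} [Fact p.Prime] [CharP F p] (hp2 : p ≠ 2) (hp5 : p ≠ 5) {M : Subgroup PS}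
    (hM : IsCoatom M) (e : M ≃* alternatingGroup (Fin 5)) :
    (q % 10 = 1 ∨ q % 10 = 9) ∧ (q = p ∨ (q = p ^ 2 ∧ (p % 10 = 3 ∨ p % 10 = 7))) := by
  classical
  haveI : Finite PS := Finite.of_surjective _ π_surjective
  haveI : Finite PG := Finite.of_surjective _ Matrix.ProjGenLinGroup.mk_surjective
  have hp : p.Prime := Fact.out
  obtain ⟨n, -, hq⟩ := FiniteField.card F p
  have h2 : (2 : F) ≠ 0 := two_ne_zero' (hq ▸ (hp.odd_of_ne_two hp2).pow)
  have hMc : Nat.card M = 60 := by
    rw [Nat.card_congr e.toEquiv]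
    have : 2 * Nat.card (alternatingGroup (Fin 5)) = (5 : ℕ).factorial :=
      SmallSimple.card_alternating_fin (by norm_num)
    rw [show (5 : ℕ).factorial = 120 from rfl] at this
    omega
  have h5 : 5 ∣ q * ((q - 1) * (q + 1)) :=
    (show 5 ∣ 60 by norm_num).trans (hMc ▸ (Subgroup.card_subgroup_dvd_card M).trans card_psl_dvd)
  have hp10 : p % 10 = 1 ∨ p % 10 = 3 ∨ p % 10 = 7 ∨ p % 10 = 9 := by
    obtain ⟨j, hj⟩ := hp.odd_of_ne_two hp2
    have : ¬ 5 ∣ p := fun h => hp5 ((Nat.prime_dvd_prime_iff_eq (by norm_num) hp).1 h).symm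
    omega
  have hq10 : q % 10 = 1 ∨ q % 10 = 9 := by
    obtain ⟨j, hj⟩ : Odd q := hq ▸ (hp.odd_of_ne_two hp2).pow
    have hq5 : ¬ 5 ∣ q := fun h => hp5
      ((Nat.prime_dvd_prime_iff_eq (by norm_num) hp).1 ((Nat.Prime.dvd_of_dvd_pow (by norm_num) (hq ▸ h)))).symm
    rcases (Nat.Prime.dvd_mul (by norm_num)).1 (((Nat.Prime.dvd_mul (by norm_num)).1 h5).resolve_left hq5)
      with h | h <;> omega
  refine ⟨hq10, ?_⟩
  obtain ⟨t, ht⟩ := exists_phi h5
  have hroot : ∀ x : F, x ^ 2 = x + 1 → x = t ∨ x = 1 - t := fun x hx =>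
    (mul_eq_zero.1 (show (x - t) * (x - (1 - t)) = 0 by linear_combination hx - ht)).imp
      sub_eq_zero.1 sub_eq_zero.1
  obtain ⟨L, hL, htL, hLp⟩ : ∃ (e : ℕ), (e ∣ (n : ℕ)) ∧ t ^ p ^ e = t ∧
      (e = 1 ∨ (e = 2 ∧ (p % 10 = 3 ∨ p % 10 = 7))) := by
    rcases hroot (t ^ p) (by
      rw [← pow_mul, mul_comm p 2, pow_mul, ht, add_pow_char, one_pow]) with h | h
    · exact ⟨1, one_dvd _, by rw [pow_one, h], Or.inl rfl⟩
    · have hne : t ^ p ≠ t := fun h' => by
        have h5' : (5 : F) = 0 := by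
          have e1 : 2 * t = 1 := by linear_combination h'.symm.trans h
          linear_combination (2 * t - 1) * e1 - 4 * ht
        refine hp5 ((Nat.prime_dvd_prime_iff_eq hp (by norm_num)).1 ((CharP.cast_eq_zero_iff F p 5).1 ?_))
        exact_mod_cast h5'
      refine ⟨2, ?_, ?_, Or.inr ⟨rfl, ?_⟩⟩
      · rw [← even_iff_two_dvd]
        by_contra hodd
        rw [Nat.not_even_iff_odd] at hodd
        obtain ⟨j, hj⟩ := hodd
        have key : ∀ i : ℕ, t ^ p ^ (2 * i) = t := by
          intro i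
          induction i with
          | zero => simp
          | succ i ih =>
            rw [show 2 * (i + 1) = 2 * i + 1 + 1 by ring, pow_succ, pow_succ, pow_mul, pow_mul, ih, h,
              sub_pow_char, one_pow, h]
            ring
        have := FiniteField.pow_card t
        rw [hq, hj, pow_succ, pow_mul, key] at this
        exact hne this
      · rw [pow_two, pow_mul, h, sub_pow_char, one_pow, h]; ring
      · by_contra h37
        obtain ⟨t0, ht0⟩ : ∃ x : ZMod p, x ^ 2 = x + 1 := by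
          refine exists_phi (F := ZMod p) ?_
          rw [ZMod.card]
          have : 5 ∣ p - 1 ∨ 5 ∣ p + 1 := by omega
          rcases this with h | h
          · exact dvd_mul_of_dvd_right (dvd_mul_of_dvd_left h _) _
          · exact dvd_mul_of_dvd_right (dvd_mul_of_dvd_right h _) _
        set x := ZMod.castHom (dvd_refl p) F t0
        have hx : x ^ p = x := by rw [← map_pow, ZMod.pow_card]
        rcases hroot x (by rw [← map_pow, ht0, map_add, map_one]) with e | e
        · exact hne (e ▸ hx)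
        · rw [e, sub_pow_char, one_pow] at hx
          exact hne (by linear_combination -hx)
  obtain ⟨K, hK, hKmem⟩ := natCard_fix (F := F) hq hL
  haveI : Fintype K := Fintype.ofFinite K
  obtain ⟨u, huM, v, hvM, hu, hv, hu1, hv1, huv, hc, -⟩ := hasKlein_alt_five e
  obtain ⟨a, b, hab⟩ := exists_sum_sq (F := F) p
  obtain ⟨γ, hgu, hgv⟩ := exists_gamma h2 hab hu hv hu1 hv1 huv hc
  have hle : M.map (conjEmb γ) ≤ kg K.subtype := map_le_kg h2 hab K.subtype huM hvM hgu hgv fun s hs => by
    refine tr_mem_of_pow (R := K.subtype.range) ⟨⟨t, hKmem t htL⟩, rfl⟩ ht ?_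
    have key := orders_alt_five (e ⟨π s, hs⟩)
    simp only [← map_pow, MulEquiv.map_eq_one_iff, Subtype.ext_iff, SubgroupClass.coe_pow,
      Subgroup.coe_one] at key
    simpa only [← map_pow] using key
  have hcases : q = p ^ L := by
    rw [Nat.card_eq_fintype_card] at hK
    rcases coatom_map hM γ hle (kg_le_R0 _) with h | h <;>
      have h' := congrArg (fun X : Subgroup PG => Nat.card X) h
    · exfalso
      rw [card_kg, card_map_conjEmb, hMc] at h'
      rcases Nat.lt_or_ge (Fintype.card K) 4 with h4 | h4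
      · have hP := card_psl (F := K)
        rw [h'] at hP
        have h3 : Fintype.card K = 2 ∨ Fintype.card K = 3 := by
          have := Fintype.one_lt_card (α := K); omega
        rcases h3 with h3 | h3 <;> rw [h3] at hP <;> norm_num at hP
      · have := (sixty_le_card_psl h4).2 h'.le
        rcases hLp with rfl | ⟨rfl, -⟩
        · rw [pow_one] at hK
          have h4' : ¬ (4 : ℕ).Prime := by norm_num
          have : p ≠ 4 := fun e => h4' (e ▸ hp)
          omega
        · have := hp.two_le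
          have : p * p ≤ 5 := by rw [← pow_two, ← hK]; omega
          have : p ≤ 2 := by nlinarith
          omega
    · rw [card_kg, card_R0] at h'
      rw [← hK]
      obtain ⟨j, hj⟩ := hL
      have hqK : Fintype.card K ^ j = q := by rw [hK, ← pow_mul, ← hj, hq]
      have hj0 : j ≠ 0 := fun e => n.ne_zero (by rw [hj, e, mul_zero])
      rcases (show j = 1 ∨ 2 ≤ j by omega) with rfl | hj2
      · rw [pow_one] at hqK; exact hqK.symm
      · have := psl_lt_psl (K := K) (L := F) (hqK ▸ sq_le_pow Fintype.card_pos hj2)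
        omega
  rcases hLp with rfl | ⟨rfl, h⟩
  · exact Or.inl (by rw [hcases, pow_one])
  · exact Or.inr ⟨hcases, h⟩

theorem coatom_four {p : ℕ} [Fact p.Prime] [CharP F p] (hp2 : p ≠ 2) (h4 : 4 ≤ q) {M : Subgroup PS}
    (hM : IsCoatom M)
    (e : Nonempty (M ≃* alternatingGroup (Fin 4)) ∨ Nonempty (M ≃* Equiv.Perm (Fin 4))) :
    (∃ m : ℕ, p ^ m = q ∧
      ((m.Prime ∧ (Odd q → Odd m) ∧ Nonempty (M ≃* Matrix.ProjectiveSpecialLinearGroup (Fin 2) (ZMod p))) ∨
        (Odd q ∧ m = 2 ∧ Nonempty (M ≃* Matrix.ProjGenLinGroup (Fin 2) (ZMod p))))) ∨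
      (q = p ∧ (p % 8 = 3 ∨ p % 8 = 5) ∧ ¬ (p % 10 = 1 ∨ p % 10 = 9) ∧
        Nonempty (M ≃* alternatingGroup (Fin 4))) ∨
      (q = p ∧ (p % 8 = 1 ∨ p % 8 = 7) ∧ Nonempty (M ≃* Equiv.Perm (Fin 4))) := by
  classical
  haveI : Finite PS := Finite.of_surjective _ π_surjective
  haveI : Finite PG := Finite.of_surjective _ Matrix.ProjGenLinGroup.mk_surjective
  have hp : p.Prime := Fact.out
  obtain ⟨n, -, hq⟩ := FiniteField.card F p
  have hodd : Odd q := hq ▸ (hp.odd_of_ne_two hp2).pow
  have h2 : (2 : F) ≠ 0 := two_ne_zero' hodd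
  obtain ⟨a, b, hab⟩ := exists_sum_sq (F := F) p
  obtain ⟨u, huM, v, hvM, hu, hv, hu1, hv1, huv, hc, hall⟩ := e.elim
    (fun ⟨e⟩ => four_of_alt_four e) (fun ⟨e⟩ => four_of_perm_four e)
  obtain ⟨γ, hgu, hgv⟩ := exists_gamma h2 hab hu hv hu1 hv1 huv hc
  have hle : M.map (conjEmb γ) ≤ stab hab := by
    rintro _ ⟨x, hx, rfl⟩
    exact conjEmb_mem_stab hab hgu hgv hu hv hc (hall x hx).1 (hall x hx).2
  set φ0 := ZMod.castHom (dvd_refl p) F
  have hm0 : Fintype.card (ZMod p) ^ (n : ℕ) = q := by rw [ZMod.card, hq]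
  by_cases hqp : q = p
  swap
  · left
    have hn2 : 2 ≤ (n : ℕ) := by
      have : (n : ℕ) ≠ 1 := fun e => hqp (by rw [hq, e, pow_one])
      have := n.pos
      omega
    refine ⟨n, hq.symm, coatom_kform φ0 hm0 hM (γ := γ) ?_⟩
    have hle' : M.map (conjEmb γ) ≤ pg φ0 ⊓ R0 := le_inf (hle.trans (stab_le_pg h2 hab φ0)) (hle.trans inf_le_left)
    rcases coatom_map hM γ hle' inf_le_right with h | h
    · rcases Nat.even_or_odd (n : ℕ) with hn | hn
      · right
        rw [← h, inf_eq_left]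
        exact pg_le_R0 (isSquare_of_even hm0 hn fun h2' => h2 (by
          have : CharP F 2 := h2' ▸ ringChar.charP F
          exact CharTwo.two_eq_zero))
      · left
        rw [← h]
        exact pg_inf_R0 fun c hc => isSquare_of_odd hm0 hn hc
    · exfalso
      have h' := Nat.card_le_card_of_injective _ (Subgroup.inclusion_injective (inf_eq_right.1 h))
      rw [card_R0, card_pg] at h'
      have := pgl_lt_psl (K := ZMod p) (L := F) (by rw [← hm0]; exact sq_le_pow Fintype.card_pos hn2)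
      omega
  right
  have hp5 : 5 ≤ p := by
    rw [hqp] at h4
    obtain ⟨j, hj⟩ := hp.odd_of_ne_two hp2
    omega
  have h3 : (3 : F) ≠ 0 := fun h => by
    have : p = 3 := (Nat.prime_dvd_prime_iff_eq hp Nat.prime_three).1
      ((CharP.cast_eq_zero_iff F p 3).1 (by exact_mod_cast h))
    omega
  have hstab : stab hab = M.map (conjEmb γ) :=
    (coatom_map hM γ hle inf_le_left).resolve_right (stab_ne_R0 h3 hab)
  rcases e with he | he
  · left
    obtain ⟨e⟩ := he
    have hMc : Nat.card M = 12 := by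
      rw [Nat.card_congr e.toEquiv]
      have : 2 * Nat.card (alternatingGroup (Fin 4)) = (4 : ℕ).factorial :=
        SmallSimple.card_alternating_fin (by norm_num)
      rw [show (4 : ℕ).factorial = 24 from rfl] at this
      omega
    obtain ⟨j, hj⟩ := hp.odd_of_ne_two hp2
    refine ⟨hqp, ?_, fun h10 => ?_, ⟨e⟩⟩
    · by_contra h8
      have h16 : q ^ 2 % 16 = 1 := by
        rw [hqp, Nat.pow_mod]
        obtain h | h | h | h : p % 16 = 1 ∨ p % 16 = 7 ∨ p % 16 = 9 ∨ p % 16 = 15 := by omega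
        all_goals rw [h]
      obtain ⟨t, ht⟩ := exists_sqrt_two (F := F) h16
      obtain ⟨H, ⟨e'⟩⟩ := exists_perm_four h2 ht
      obtain ⟨u', huH, v', hvH, hu', hv', hu1', hv1', huv', hc', hall'⟩ := four_of_perm_four e'
      obtain ⟨γ', hgu', hgv'⟩ := exists_gamma h2 hab hu' hv' hu1' hv1' huv' hc'
      have hle'' : H.map (conjEmb γ') ≤ stab hab := by
        rintro _ ⟨x, hx, rfl⟩
        exact conjEmb_mem_stab hab hgu' hgv' hu' hv' hc' (hall' x hx).1 (hall' x hx).2
      have hc24 := Nat.card_le_card_of_injective _ (Subgroup.inclusion_injective hle'')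
      rw [card_map_conjEmb, Nat.card_congr e'.toEquiv, Nat.card_perm, Nat.card_fin, hstab,
        card_map_conjEmb, hMc] at hc24
      norm_num [Nat.factorial] at hc24
    · have h5 : 5 ∣ q * ((q - 1) * (q + 1)) := by
        rw [hqp]
        rcases h10 with h | h
        · exact dvd_mul_of_dvd_right (dvd_mul_of_dvd_left (by omega) _) _
        · exact dvd_mul_of_dvd_right (dvd_mul_of_dvd_right (by omega) _) _
      obtain ⟨t, ht⟩ := exists_phi (F := F) h5
      obtain ⟨H, ⟨e'⟩⟩ := exists_alt_five ht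
      obtain ⟨u', huH, v', hvH, hu', hv', hu1', hv1', huv', hc', h12⟩ := hasKlein_alt_five e'
      obtain ⟨γ', hgu', hgv'⟩ := exists_gamma h2 hab hu' hv' hu1' hv1' huv' hc'
      have hXc : Nat.card (H.map (conjEmb γ')) = 60 := by
        rw [card_map_conjEmb, Nat.card_congr e'.toEquiv]
        have : 2 * Nat.card (alternatingGroup (Fin 5)) = (5 : ℕ).factorial :=
          SmallSimple.card_alternating_fin (by norm_num)
        rw [show (5 : ℕ).factorial = 120 from rfl] at this
        omega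
      have hbig : 12 ≤ Nat.card ↥(stab hab ⊓ H.map (conjEmb γ')) := h12.trans
        (Nat.card_le_card_of_injective (fun x => ⟨conjEmb γ' x.1,
          conjEmb_mem_stab hab hgu' hgv' hu' hv' hc' x.2.1 x.2.2, ⟨x.1, x.1.2, rfl⟩⟩)
          fun x y h => Subtype.ext (Subtype.ext (conjEmb_injective γ' (congrArg Subtype.val h))))
      have hsub : stab hab ≤ H.map (conjEmb γ') := by
        refine inf_eq_left.1 (Subgroup.eq_of_le_of_card_ge inf_le_left ?_)
        rw [show Nat.card (stab hab) = 12 by rw [hstab, card_map_conjEmb, hMc]]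
        exact hbig
      rcases coatom_map hM γ (hle.trans hsub) ((Subgroup.map_le_range _ _).trans (range_conjEmb γ').le) with h | h <;>
        have h' := congrArg (fun X : Subgroup PG => Nat.card X) h
      · rw [hXc, card_map_conjEmb, hMc] at h'
        omega
      · rw [hXc, card_R0] at h'
        have := (sixty_le_card_psl (L := F) h4).2 h'.ge
        omega
  · right
    obtain ⟨e⟩ := he
    have key : ∃ x : Equiv.Perm (Fin 4), x ^ 4 = 1 ∧ x ^ 2 ≠ 1 := by decide +kernel
    obtain ⟨y, hy4, hy2⟩ := key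
    have hy : orderOf (e.symm y : PS) = 4 := by
      rw [Subgroup.orderOf_coe, MulEquiv.orderOf_eq]
      haveI : Fact (Nat.Prime 2) := ⟨Nat.prime_two⟩
      exact orderOf_eq_prime_pow (p := 2) (n := 1) hy2 hy4
    have h16 := sq_mod_of_orderOf_four hy
    rw [hqp, Nat.pow_mod] at h16
    refine ⟨hqp, ?_, ⟨e⟩⟩
    have : p % 16 < 16 := Nat.mod_lt _ (by norm_num)
    interval_cases h : p % 16 <;> first | omega | simp at h16

/-- The maximal subgroups of `PSL(2, q)`. -/
theorem coatom_cases (p : ℕ) [Fact p.Prime] [CharP F p] (h4 : 4 ≤ q) {M : Subgroup PS} (hM : IsCoatom M) :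
    (∃ r : G, tr r ^ 2 ≠ 4 ∧ M = NT r) ∨
    (Nat.gcd 2 (q - 1) * Nat.card M = q * (q - 1)) ∨
    (∃ (K : Type) (_ : Field K) (_ : Fintype K) (m : ℕ), Fintype.card K ^ m = q ∧ 3 ≤ Fintype.card K ∧
      ((m.Prime ∧ (Odd q → Odd m) ∧ Nonempty (M ≃* Matrix.ProjectiveSpecialLinearGroup (Fin 2) K)) ∨
        (Odd q ∧ m = 2 ∧ Nonempty (M ≃* Matrix.ProjGenLinGroup (Fin 2) K)))) ∨
    (p ≠ 2 ∧ p ≠ 5 ∧ (q % 10 = 1 ∨ q % 10 = 9) ∧ (q = p ∨ (q = p ^ 2 ∧ (p % 10 = 3 ∨ p % 10 = 7))) ∧
      Nonempty (M ≃* alternatingGroup (Fin 5))) ∨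
    (q = p ∧ (p % 8 = 3 ∨ p % 8 = 5) ∧ ¬ (p % 10 = 1 ∨ p % 10 = 9) ∧
      Nonempty (M ≃* alternatingGroup (Fin 4))) ∨
    (q = p ∧ (p % 8 = 1 ∨ p % 8 = 7) ∧ Nonempty (M ≃* Equiv.Perm (Fin 4))) := by
  classical
  haveI : Finite PS := Finite.of_surjective _ π_surjective
  have four : p ≠ 2 → Nonempty (M ≃* alternatingGroup (Fin 4)) ∨ Nonempty (M ≃* Equiv.Perm (Fin 4)) →
      (∃ (K : Type) (_ : Field K) (_ : Fintype K) (m : ℕ), Fintype.card K ^ m = q ∧ 3 ≤ Fintype.card K ∧
        ((m.Prime ∧ (Odd q → Odd m) ∧ Nonempty (M ≃* Matrix.ProjectiveSpecialLinearGroup (Fin 2) K)) ∨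
          (Odd q ∧ m = 2 ∧ Nonempty (M ≃* Matrix.ProjGenLinGroup (Fin 2) K)))) ∨
      (q = p ∧ (p % 8 = 3 ∨ p % 8 = 5) ∧ ¬ (p % 10 = 1 ∨ p % 10 = 9) ∧
        Nonempty (M ≃* alternatingGroup (Fin 4))) ∨
      (q = p ∧ (p % 8 = 1 ∨ p % 8 = 7) ∧ Nonempty (M ≃* Equiv.Perm (Fin 4))) := by
    intro hp2 e
    rcases coatom_four hp2 h4 hM e with ⟨m, hm, h⟩ | h | h
    · refine Or.inl ⟨ZMod p, inferInstance, inferInstance, m, by rw [ZMod.card]; exact hm, ?_, h⟩
      rw [ZMod.card]
      have := (Fact.out : p.Prime).two_le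
      omega
    · exact Or.inr (Or.inl h)
    · exact Or.inr (Or.inr h)
  rcases dickson p M with ⟨r, ht, hle, -⟩ | ⟨r, ht, hle, -⟩ | ⟨g, hg⟩ | ⟨hp2, he⟩ | ⟨hp2, he⟩ |
    ⟨hp2, hp5, ⟨e⟩⟩ | ⟨K, γ, hK, hcase⟩
  · exfalso
    exact NT_ne_top ht (by omega) (hM.2 _ (lt_of_le_of_lt hle (torus_lt_NT ht)))
  · refine Or.inl ⟨r, ht, ?_⟩
    rcases hle.eq_or_lt with h | h
    · exact h
    · exact absurd (hM.2 _ h) (NT_ne_top ht (by omega))
  · refine Or.inr (Or.inl ?_)
    have hle : M ≤ (B0 : Subgroup PS).map (MulAut.conj g⁻¹).toMonoidHom := fun x hx =>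
      ⟨g * x * g⁻¹, hg x hx, by simp [mul_assoc]⟩
    have hne : (B0 : Subgroup PS).map (MulAut.conj g⁻¹).toMonoidHom ≠ ⊤ := fun h =>
      B0_ne_top (Subgroup.map_injective (MulAut.conj g⁻¹).injective (by
        rw [h, Subgroup.map_top_of_surjective _ (MulAut.conj g⁻¹).surjective]))
    rcases hle.eq_or_lt with h | h
    · rw [h, Subgroup.card_map_of_injective (f := (MulAut.conj g⁻¹).toMonoidHom) (MulAut.conj g⁻¹).injective,
        card_B0]
    · exact absurd (hM.2 _ h) hne
  · rcases four hp2 (Or.inl he) with h | h | h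
    · exact Or.inr (Or.inr (Or.inl h))
    · exact Or.inr (Or.inr (Or.inr (Or.inr (Or.inl h))))
    · exact Or.inr (Or.inr (Or.inr (Or.inr (Or.inr h))))
  · rcases four hp2 (Or.inr he) with h | h | h
    · exact Or.inr (Or.inr (Or.inl h))
    · exact Or.inr (Or.inr (Or.inr (Or.inr (Or.inl h))))
    · exact Or.inr (Or.inr (Or.inr (Or.inr (Or.inr h))))
  · obtain ⟨h10, hqp⟩ := coatom_alt_five hp2 hp5 hM e
    exact Or.inr (Or.inr (Or.inr (Or.inl ⟨hp2, hp5, h10, hqp, ⟨e⟩⟩)))
  · refine Or.inr (Or.inr (Or.inl ?_))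
    obtain ⟨L, iF, iT, m, hm, hL, ⟨ε⟩⟩ := exists_model (p := p) K
    refine ⟨L, iF, iT, m, hm, by omega, coatom_kform (K.subtype.comp ε.symm.toRingHom) hm hM (γ := γ) ?_⟩
    have hφ : K.subtype = (K.subtype.comp ε.symm.toRingHom).comp ε.toRingHom := by
      ext c; simp
    rcases hcase with ⟨-, h⟩ | ⟨-, h⟩ <;> rw [← map_conjEmb] at h
    · left
      rw [h]
      exact le_antisymm (kg_mono (φ := K.subtype) hφ) (kg_mono (ψ := K.subtype) rfl)
    · right
      rw [h]
      exact le_antisymm (pg_mono (φ := K.subtype) hφ) (pg_mono (ψ := K.subtype) rfl)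

end Cfsg.Agent.SL2
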