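import Cfsg.Agent.Lib.SL2.DicksonMinimal
import Cfsg.Agent.Lib.SL2.DicksonCoatom

/-!
# Maximal subgroups of polyhedral and of subfield type
-/

set_option autoImplicit false
set_option linter.unusedSectionVars false

namespace Cfsg.Agent.SL2

open Matrix

variable {F : Type*} [Field F] [Fintype F]

local notation "G" => Matrix.SpecialLinearGroup (Fin 2) F
local notation "M2" => Matrix (Fin 2) (Fin 2) F
local notation "PS" => Matrix.ProjectiveSpecialLinearGroup (Fin 2) F
local notation "PG" => Matrix.ProjGenLinGroup (Fin 2) F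
local notation "q" => Fintype.card F

/-- Squares in a torus normaliser commute. -/
theorem sq_comm_of_mem_NT {r : G} (ht : tr r ^ 2 ≠ 4) {x y : PS} (hx : x ∈ NT r) (hy : y ∈ NT r) :
    x ^ 2 * y ^ 2 = y ^ 2 * x ^ 2 := by
  have key : ∀ z ∈ NT r, ∃ c ∈ cent r, π c = z ^ 2 := by
    intro z hz
    obtain ⟨s, rfl⟩ := π_surjective z
    refine ⟨s ^ 2, ?_, map_pow π s 2⟩
    rw [pi_mem_NT] at hz
    rcases normalizer_act ht hz with ⟨h, -⟩ | ⟨h, -⟩
    · exact pow_mem h 2
    · rw [pow_two, (sq_of_mem_normalizer ht hz h).2]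
      exact neg_one_mem_cent r
  obtain ⟨a, ha, ea⟩ := key x hx
  obtain ⟨b, hb, eb⟩ := key y hy
  rw [← ea, ← eb, ← map_mul, ← map_mul, cent_comm (scal_of_tr_sq_ne ht) ha hb]

/-- Elements of order `p` of the Borel subgroup commute. -/
theorem comm_of_pow_char {p : ℕ} [Fact p.Prime] [CharP F p] {g x y : PS}
    (hgx : g * x * g⁻¹ ∈ (B0 : Subgroup PS)) (hgy : g * y * g⁻¹ ∈ (B0 : Subgroup PS))
    (hx : x ^ p = 1) (hy : y ^ p = 1) : x * y = y * x := by
  classical
  obtain ⟨ψ, hψ⟩ := exists_borelHom (F := F)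
  obtain ⟨n, hp, hn⟩ := FiniteField.card F p
  have key : ∀ z : PS, ∀ h : g * z * g⁻¹ ∈ (B0 : Subgroup PS), z ^ p = 1 →
      g * z * g⁻¹ ∈ (W0 : Subgroup PS) := by
    intro z h hz
    refine hψ ⟨_, h⟩ (orderOf_eq_one_iff.1 ?_)
    refine Nat.eq_one_of_dvd_coprimes (a := p) (b := q - 1) ?_ (orderOf_dvd_of_pow_eq_one ?_) ?_
    · refine (Nat.Prime.coprime_iff_not_dvd hp).2 fun hd => ?_
      have h1 := Nat.dvd_sub (hn ▸ dvd_pow_self p n.ne_zero : p ∣ q) hd
      have := two_le_q (F := F)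
      rw [show q - (q - 1) = 1 by omega] at h1
      exact hp.one_lt.ne' (Nat.dvd_one.1 h1)
    · rw [← map_pow, ← map_one ψ]
      congr 1
      exact Subtype.ext (by rw [SubgroupClass.coe_pow, conj_pow, hz, mul_one, mul_inv_cancel]; rfl)
    · rw [← Fintype.card_units]
      exact orderOf_dvd_card
  have := W0_comm (key x hgx hx) (key y hgy hy)
  rw [show g * x * g⁻¹ * (g * y * g⁻¹) = g * (x * y) * g⁻¹ by group,
    show g * y * g⁻¹ * (g * x * g⁻¹) = g * (y * x) * g⁻¹ by group] at this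
  exact mul_left_cancel (mul_right_cancel this)

/-- A subgroup of order prime to `p` of the Borel subgroup is commutative. -/
theorem comm_of_coprime {p : ℕ} [Fact p.Prime] [CharP F p] {g : PS} {H : Subgroup PS}
    (hg : ∀ x ∈ H, g * x * g⁻¹ ∈ (B0 : Subgroup PS)) (hp : ¬ p ∣ Nat.card H) (a b : H) :
    a * b = b * a := by
  haveI : Finite PS := Finite.of_surjective _ π_surjective
  obtain ⟨ψ, hψ⟩ := exists_borelHom (F := F)
  let f : H →* Fˣ := ψ.comp (((MulAut.conj g).toMonoidHom.comp H.subtype).codRestrict _ fun x => hg x x.2)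
  have hf : Function.Injective f := by
    rw [injective_iff_map_eq_one]
    intro z hz
    have h : (g * (z : PS) * g⁻¹) ^ p = 1 := B0_exponent (p := p) (hψ _ hz)
    rw [conj_pow, conj_eq_one_iff] at h
    have h1 : orderOf z ∣ p := orderOf_dvd_of_pow_eq_one (Subtype.ext (by simpa using h))
    rcases (Nat.dvd_prime Fact.out).1 h1 with e | e
    · exact orderOf_eq_one_iff.1 e
    · exact absurd (e ▸ orderOf_dvd_natCard z) hp
  exact hf (by rw [map_mul, map_mul, mul_comm])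

/-- No proper subfield subgroup over a prime field. -/
theorem not_subfield_of_prime {p : ℕ} [Fact p.Prime] [CharP F p] (hq : q = p) {H : Subgroup PS}
    (hH : H ≠ ⊤) {K : Subfield F}
    (hK : Nonempty (H ≃* Matrix.ProjectiveSpecialLinearGroup (Fin 2) K) ∨
      Nonempty (H ≃* Matrix.ProjGenLinGroup (Fin 2) K)) : False := by
  haveI : Fintype K := Fintype.ofFinite K
  haveI : CharP K p := K.subtype.charP K.subtype.injective p
  obtain ⟨j, hp, hj⟩ := FiniteField.card K p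
  have h := lt_card_of_ne_top hH hK
  rw [Nat.card_eq_fintype_card, hj, hq] at h
  have h1 : p ≤ p ^ (j : ℕ) := Nat.le_self_pow j.ne_zero p
  have : 2 * p ≤ p ^ (j : ℕ) * p ^ (j : ℕ) := Nat.mul_le_mul (hp.two_le.trans h1) h1
  have := hp.two_le
  omega

theorem coatom_perm_four {p : ℕ} [Fact p.Prime] [CharP F p] (hq : q = p) (hp : 7 ≤ p) {H : Subgroup PS}
    (e : H ≃* Equiv.Perm (Fin 4)) : IsCoatom H := by
  haveI : Finite PS := Finite.of_surjective _ π_surjective
  have hHc : Nat.card H = 24 := by rw [Nat.card_congr e.toEquiv, card_perm_four]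
  constructor
  · intro h
    have hP := card_psl (F := F)
    rw [h, Subgroup.card_top] at hHc
    rw [hHc, hq] at hP
    have h1 : 7 * (6 * 8) ≤ p * ((p - 1) * (p + 1)) :=
      Nat.mul_le_mul hp (Nat.mul_le_mul (by omega) (by omega))
    have : Nat.gcd 2 (p - 1) ≤ 2 := Nat.gcd_le_left _ two_pos
    omega
  intro X hlt
  by_contra hX
  have hgt : 24 < Nat.card X := by
    by_contra h
    exact hlt.ne (Subgroup.eq_of_le_of_card_ge hlt.le (by omega))
  have hdvd : 24 ∣ Nat.card X := hHc ▸ Subgroup.card_dvd_of_le hlt.le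
  have key : ∃ x y : Equiv.Perm (Fin 4), x ^ 2 * y ^ 2 ≠ y ^ 2 * x ^ 2 := by decide +kernel
  obtain ⟨x, y, hxy⟩ := key
  have hsq : ∀ r : G, tr r ^ 2 ≠ 4 → ¬ H ≤ NT r := by
    intro r ht hle
    refine hxy (e.symm.injective (Subtype.ext ?_))
    simp only [map_mul, map_pow, Subgroup.coe_mul, SubgroupClass.coe_pow]
    exact sq_comm_of_mem_NT ht (hle (e.symm x).2) (hle (e.symm y).2)
  rcases dickson p X with ⟨r, ht, hle, -⟩ | ⟨r, ht, hle, -⟩ | ⟨g, hg⟩ | ⟨-, ⟨e'⟩⟩ | ⟨-, ⟨e'⟩⟩ |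
    ⟨-, -, ⟨e'⟩⟩ | ⟨K, γ, -, hc⟩
  · exact hsq r ht (hlt.le.trans (hle.trans (torus_lt_NT ht).le))
  · exact hsq r ht (hlt.le.trans hle)
  · refine hxy ?_
    have hp24 : ¬ p ∣ Nat.card H := by
      rw [hHc]
      intro h
      have := Nat.le_of_dvd (by norm_num) h
      have hpp : p.Prime := Fact.out
      interval_cases p <;> first | omega | (norm_num at hpp)
    have hc := comm_of_coprime (p := p) (fun z hz => hg z (hlt.le hz)) hp24 (e.symm (x ^ 2)) (e.symm (y ^ 2))
    rw [← map_mul, ← map_mul] at hc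
    exact e.symm.injective hc
  · rw [Nat.card_congr e'.toEquiv, card_alt_four] at hgt
    omega
  · rw [Nat.card_congr e'.toEquiv, card_perm_four] at hgt
    omega
  · rw [Nat.card_congr e'.toEquiv, card_alt_five] at hdvd
    omega
  · exact not_subfield_of_prime (p := p) hq hX (hc.imp And.left And.left)

theorem coatom_alt_four {p : ℕ} [Fact p.Prime] [CharP F p] (hq : q = p) (hp : 5 ≤ p)
    (h8 : p % 8 = 3 ∨ p % 8 = 5) (h10 : p % 10 ≠ 1 ∧ p % 10 ≠ 9) {H : Subgroup PS}
    (e : H ≃* alternatingGroup (Fin 4)) : IsCoatom H := by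
  haveI : Finite PS := Finite.of_surjective _ π_surjective
  have hHc : Nat.card H = 12 := by rw [Nat.card_congr e.toEquiv, card_alt_four]
  constructor
  · intro h
    have hP := card_psl (F := F)
    rw [h, Subgroup.card_top] at hHc
    rw [hHc, hq] at hP
    have h1 : 5 * (4 * 6) ≤ p * ((p - 1) * (p + 1)) :=
      Nat.mul_le_mul hp (Nat.mul_le_mul (by omega) (by omega))
    have : Nat.gcd 2 (p - 1) ≤ 2 := Nat.gcd_le_left _ two_pos
    omega
  intro X hlt
  by_contra hX
  have hgt : 12 < Nat.card X := by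
    by_contra h
    exact hlt.ne (Subgroup.eq_of_le_of_card_ge hlt.le (by omega))
  have key : ∃ x y : alternatingGroup (Fin 4), x ^ 2 * y ^ 2 ≠ y ^ 2 * x ^ 2 := by decide +kernel
  obtain ⟨x, y, hxy⟩ := key
  have hsq : ∀ r : G, tr r ^ 2 ≠ 4 → ¬ H ≤ NT r := by
    intro r ht hle
    refine hxy (e.symm.injective (Subtype.ext ?_))
    simp only [map_mul, map_pow, Subgroup.coe_mul, SubgroupClass.coe_pow]
    exact sq_comm_of_mem_NT ht (hle (e.symm x).2) (hle (e.symm y).2)
  rcases dickson p X with ⟨r, ht, hle, -⟩ | ⟨r, ht, hle, -⟩ | ⟨g, hg⟩ | ⟨-, ⟨e'⟩⟩ | ⟨-, ⟨e'⟩⟩ |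
    ⟨-, hp5, ⟨e'⟩⟩ | ⟨K, γ, -, hc⟩
  · exact hsq r ht (hlt.le.trans (hle.trans (torus_lt_NT ht).le))
  · exact hsq r ht (hlt.le.trans hle)
  · refine hxy ?_
    have hp12 : ¬ p ∣ Nat.card H := by
      rw [hHc]
      intro h
      have := Nat.le_of_dvd (by norm_num) h
      interval_cases p <;> omega
    have hc := comm_of_coprime (p := p) (fun z hz => hg z (hlt.le hz)) hp12 (e.symm (x ^ 2)) (e.symm (y ^ 2))
    rw [← map_mul, ← map_mul] at hc
    exact e.symm.injective hc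
  · rw [Nat.card_congr e'.toEquiv, card_alt_four] at hgt
    omega
  · have key4 : ∃ z : Equiv.Perm (Fin 4), z ^ 4 = 1 ∧ z ^ 2 ≠ 1 := by decide +kernel
    obtain ⟨z, hz4, hz2⟩ := key4
    have hz : orderOf (e'.symm z : PS) = 4 := by
      rw [Subgroup.orderOf_coe, MulEquiv.orderOf_eq]
      haveI : Fact (Nat.Prime 2) := ⟨Nat.prime_two⟩
      exact orderOf_eq_prime_pow (p := 2) (n := 1) hz2 hz4
    have h16 := sq_mod_of_orderOf_four hz
    rw [hq, Nat.pow_mod] at h16
    have : p % 16 < 16 := Nat.mod_lt _ (by norm_num)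
    interval_cases h : p % 16 <;> first | omega | simp at h16
  · have h5 : 5 ∣ q * ((q - 1) * (q + 1)) := (show 5 ∣ 60 by norm_num).trans
      (card_alt_five ▸ Nat.card_congr e'.toEquiv ▸ (Subgroup.card_subgroup_dvd_card X).trans card_psl_dvd)
    rw [hq] at h5
    have hpp : p.Prime := Fact.out
    have h5p : ¬ 5 ∣ p := fun h => hp5 ((Nat.prime_dvd_prime_iff_eq (by norm_num) hpp).1 h).symm
    obtain ⟨j, hj⟩ := hpp.odd_of_ne_two (by omega)
    rcases (Nat.Prime.dvd_mul (by norm_num)).1 (((Nat.Prime.dvd_mul (by norm_num)).1 h5).resolve_left h5p)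
      with h | h <;> omega
  · exact not_subfield_of_prime (p := p) hq hX (hc.imp And.left And.left)

theorem coatom_alt_five_exists {p : ℕ} [Fact p.Prime] [CharP F p]
    (h : (q = p ∧ (p % 10 = 1 ∨ p % 10 = 9)) ∨ (q = p ^ 2 ∧ (p % 10 = 3 ∨ p % 10 = 7))) {H : Subgroup PS}
    (e : H ≃* alternatingGroup (Fin 5)) : IsCoatom H := by
  haveI : Finite PS := Finite.of_surjective _ π_surjective
  have hpp : p.Prime := Fact.out
  have hHc : Nat.card H = 60 := by rw [Nat.card_congr e.toEquiv, card_alt_five]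
  have hns : ∀ Y : Subgroup PS, H ≤ Y → ¬ Group.IsSolvable Y := fun Y hY hs => by
    haveI := hs
    exact not_solvable_alt_five (Group.isSolvable_of_isSolvable_injective
      (f := (Subgroup.inclusion hY).comp e.symm.toMonoidHom)
      ((Subgroup.inclusion_injective hY).comp e.symm.injective))
  have hq7 : 7 ≤ q := by
    rcases h with ⟨hq, h⟩ | ⟨hq, h⟩ <;> rw [hq]
    · have := hpp.two_le
      omega
    · have : 3 ^ 2 ≤ p ^ 2 := Nat.pow_le_pow_left (by omega) 2
      omega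
  constructor
  · intro hT
    rw [hT, Subgroup.card_top] at hHc
    have := (sixty_le_card_psl (L := F) (by omega)).2 hHc.le
    omega
  intro X hlt
  by_contra hX
  rcases isSolvable_of_proper p X with hs | ⟨-, -, ⟨e'⟩⟩ | ⟨K, hK, hc⟩
  · exact hns X hlt.le hs
  · exact hlt.ne (Subgroup.eq_of_le_of_card_ge hlt.le (by
      rw [hHc, Nat.card_congr e'.toEquiv, card_alt_five]))
  rcases h with ⟨hq, -⟩ | ⟨hq, h37⟩
  · exact not_subfield_of_prime (p := p) hq hX hc
  haveI : Fintype K := Fintype.ofFinite K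
  haveI : CharP K p := K.subtype.charP K.subtype.injective p
  obtain ⟨j, -, hj⟩ := FiniteField.card K p
  have hsq := lt_card_of_ne_top hX hc
  rw [Nat.card_eq_fintype_card, hj, hq, ← pow_add, Nat.pow_le_pow_iff_right hpp.two_le] at hsq
  have hj1 : (j : ℕ) = 1 := by have := j.pos; omega
  rw [hj1, pow_one] at hj
  have hdvd : 5 ∣ p * ((p - 1) * (p + 1)) := by
    refine (show 5 ∣ 60 by norm_num).trans ((hHc ▸ Subgroup.card_dvd_of_le hlt.le).trans ?_)
    rw [← hj]
    rcases hc with ⟨⟨e'⟩⟩ | ⟨⟨e'⟩⟩ <;> rw [Nat.card_congr e'.toEquiv]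
    · exact card_psl_dvd
    · rw [card_pgl]
  rcases (Nat.Prime.dvd_mul (by norm_num)).1 hdvd with h | h
  · omega
  rcases (Nat.Prime.dvd_mul (by norm_num)).1 h with h | h <;> omega

/-- The lower unitriangular element. -/
def llOne : G := ⟨!![1, 0; 1, 1], by simp [Matrix.det_fin_two]⟩

theorem unipotent_pair {K : Type*} [Field K] (φ : K →+* F) (p : ℕ) [Fact p.Prime] [CharP F p]
    {H : Subgroup PS} (h : kg φ ≤ H.map (conjEmb 1)) :
    ∃ x ∈ H, ∃ y ∈ H, x ^ p = 1 ∧ y ^ p = 1 ∧ x * y ≠ y * x := by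
  have mem : ∀ (s : G) (t : Matrix.SpecialLinearGroup (Fin 2) K),
      (s : M2) = (t : Matrix (Fin 2) (Fin 2) K).map φ → π s ∈ H := by
    intro s t e
    obtain ⟨z, hz, hz'⟩ := h (show Matrix.ProjectiveSpecialLinearGroup.toPGL (π s) ∈ kg φ from
      ⟨π t, (congrArg Matrix.ProjGenLinGroup.mk (Units.ext e)).symm⟩)
    have : conjEmb 1 (π s) = Matrix.ProjectiveSpecialLinearGroup.toPGL (π s) := by
      simp [conjEmb]
    rw [← this] at hz'
    exact conjEmb_injective 1 hz' ▸ hz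
  refine ⟨π (uu 1), mem _ ⟨!![1, 1; 0, 1], by simp [Matrix.det_fin_two]⟩ ?_, π llOne,
    mem _ ⟨!![1, 0; 1, 1], by simp [Matrix.det_fin_two]⟩ ?_, not_semisimple_pow (by rw [tr_uu]; norm_num),
    not_semisimple_pow (by simp [tr, llOne]; norm_num), fun e => ?_⟩
  · apply mext <;> simp [uu]
  · apply mext <;> simp [llOne]
  · have := W0_le_B0 (commute_uu_eq one_ne_zero e.symm)
    rw [pi_mem_B0] at this
    simp [llOne] at this

/-- Subgroups of subfield type are maximal. -/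
theorem coatom_subfield {K : Type*} [Field K] [Fintype K] (φ : K →+* F) {r : ℕ} (hr : r.Prime)
    (hm : Fintype.card K ^ r = q) (hk : 3 ≤ Fintype.card K) {H : Subgroup PS}
    (h : (H.map (conjEmb 1) = kg φ ∧ (Odd q → Odd r)) ∨ (Odd q ∧ r = 2 ∧ H.map (conjEmb 1) = pg φ)) :
    IsCoatom H := by
  classical
  haveI : Finite PS := Finite.of_surjective _ π_surjective
  haveI : Finite PG := Finite.of_surjective _ Matrix.ProjGenLinGroup.mk_surjective
  haveI : Finite (Matrix.ProjectiveSpecialLinearGroup (Fin 2) K) := Finite.of_surjective _ π_surjective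
  have hpos : 0 < Nat.card (Matrix.ProjectiveSpecialLinearGroup (Fin 2) K) := Nat.card_pos
  obtain ⟨i, hp, hki⟩ := FiniteField.card K (ringChar K)
  set p := ringChar K
  haveI : Fact p.Prime := ⟨hp⟩
  haveI : CharP F p := (φ.charP_iff φ.injective p).1 inferInstance
  have hsqle : Fintype.card K * Fintype.card K ≤ q := hm ▸ sq_le_pow (by omega) hr.two_le
  have hle : kg φ ≤ H.map (conjEmb 1) := by
    rcases h with ⟨h, -⟩ | ⟨-, -, h⟩ <;> rw [h]
    exact kg_le_pg φ
  have hHle : Nat.card H ≤ Nat.card (Matrix.ProjGenLinGroup (Fin 2) K) := by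
    rw [← card_map_conjEmb H 1]
    rcases h with ⟨h, -⟩ | ⟨-, -, h⟩ <;> rw [h]
    · rw [card_kg]; exact psl_le_pgl
    · rw [card_pg]
  refine ⟨fun hT => ?_, fun X hlt => ?_⟩
  · rw [hT, Subgroup.card_top] at hHle
    have := pgl_lt_psl (K := K) (L := F) hsqle
    omega
  by_contra hX
  obtain ⟨x, hx, y, hy, hxp, hyp, hxy⟩ := unipotent_pair φ p hle
  have hgt : Nat.card H < Nat.card X := by
    by_contra h'
    exact hlt.ne (Subgroup.eq_of_le_of_card_ge hlt.le (by omega))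
  have hnB : ¬ ∃ g : PS, ∀ z ∈ X, g * z * g⁻¹ ∈ (B0 : Subgroup PS) := fun ⟨g, hg⟩ =>
    hxy (comm_of_pow_char (p := p) (hg x (hlt.le hx)) (hg y (hlt.le hy)) hxp hyp)
  have hHdvd : Nat.card (Matrix.ProjectiveSpecialLinearGroup (Fin 2) K) ∣ Nat.card H := by
    rw [← card_map_conjEmb H 1, ← card_kg φ]
    exact Subgroup.card_dvd_of_le hle
  rcases eq_or_ne (Fintype.card K) 3 with h3 | h3
  · -- the field of three elements
    have hp3 : p = 3 := (Nat.prime_dvd_prime_iff_eq hp Nat.prime_three).1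
      ((dvd_pow_self p i.ne_zero).trans (dvd_of_eq (hki.symm.trans h3)))
    rw [h3] at hm hsqle
    have hHc : (Nat.card H = 12 ∧ Odd r) ∨ (Nat.card H = 24 ∧ r = 2) := by
      have hP := card_psl (F := K)
      simp only [h3, show Nat.gcd 2 (3 - 1) = 2 from rfl] at hP
      rcases h with ⟨h, ho⟩ | ⟨-, h2, h⟩
      · left
        exact ⟨by rw [← card_map_conjEmb H 1, h, card_kg]; omega, ho (hm ▸ Odd.pow ⟨1, rfl⟩)⟩
      · right
        exact ⟨by rw [← card_map_conjEmb H 1, h, card_pg, card_pgl, h3], h2⟩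
    have hsq2 : ∀ z : PS, z ^ p = 1 → z = (z ^ 2) ^ 2 := fun z hz => by
      rw [hp3] at hz
      rw [← pow_mul, show 2 * 2 = 3 + 1 from rfl, pow_succ, hz, one_mul]
    have hnN : ∀ r' : G, tr r' ^ 2 ≠ 4 → ¬ X ≤ NT r' := by
      intro r' ht hle'
      refine hxy ?_
      rw [hsq2 x hxp, hsq2 y hyp]
      exact sq_comm_of_mem_NT ht (pow_mem (hle' (hlt.le hx)) 2) (pow_mem (hle' (hlt.le hy)) 2)
    have hdvd := Subgroup.card_dvd_of_le hlt.le
    rcases dickson p X with ⟨r', ht, hle', -⟩ | ⟨r', ht, hle', -⟩ | hB | ⟨-, ⟨e'⟩⟩ | ⟨-, ⟨e'⟩⟩ |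
      ⟨-, -, ⟨e'⟩⟩ | ⟨K', γ, hK', hc⟩
    · exact hnN r' ht (hle'.trans (torus_lt_NT ht).le)
    · exact hnN r' ht hle'
    · exact hnB hB
    · rw [Nat.card_congr e'.toEquiv, card_alt_four] at hgt
      omega
    · rw [Nat.card_congr e'.toEquiv, card_perm_four] at hgt
      rcases hHc with ⟨-, hodd⟩ | ⟨h24, -⟩
      swap
      · omega
      have key4 : ∃ z : Equiv.Perm (Fin 4), z ^ 4 = 1 ∧ z ^ 2 ≠ 1 := by decide +kernel
      obtain ⟨z, hz4, hz2⟩ := key4
      have hz : orderOf (e'.symm z : PS) = 4 := by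
        rw [Subgroup.orderOf_coe, MulEquiv.orderOf_eq]
        haveI : Fact (Nat.Prime 2) := ⟨Nat.prime_two⟩
        exact orderOf_eq_prime_pow (p := 2) (n := 1) hz2 hz4
      have h16 := sq_mod_of_orderOf_four hz
      obtain ⟨b, hb⟩ := hodd
      rw [← hm, hb, ← pow_mul] at h16
      have : 3 ^ ((2 * b + 1) * 2) % 16 = 9 := by
        rw [show (2 * b + 1) * 2 = 4 * b + 2 by ring, pow_add, pow_mul, Nat.mul_mod, Nat.pow_mod]
        simp
      omega
    · rw [Nat.card_congr e'.toEquiv, card_alt_five] at hdvd hgt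
      rcases hHc with ⟨-, hodd⟩ | ⟨h24, -⟩
      swap
      · rw [h24] at hdvd; omega
      have h5 : 5 ∣ q * ((q - 1) * (q + 1)) := (show 5 ∣ 60 by norm_num).trans
        (card_alt_five ▸ Nat.card_congr e'.toEquiv ▸ (Subgroup.card_subgroup_dvd_card X).trans card_psl_dvd)
      obtain ⟨b, hb⟩ := hodd
      have hm5 : q % 5 = 3 ∨ q % 5 = 2 := by
        rw [← hm, hb, pow_succ, pow_mul, Nat.mul_mod]
        rcases nine_pow_mod b with h | h <;> rw [h] <;> norm_num
      rcases (Nat.Prime.dvd_mul (by norm_num)).1 h5 with h | h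
      · omega
      rcases (Nat.Prime.dvd_mul (by norm_num)).1 h with h | h <;> omega
    · haveI : Fintype K' := Fintype.ofFinite K'
      haveI : CharP K' p := K'.subtype.charP K'.subtype.injective p
      obtain ⟨j, -, hj⟩ := FiniteField.card K' p
      have hs := lt_card_of_ne_top hX (hc.imp And.left And.left)
      have hmF : q = Fintype.card K' ^ Module.finrank K' F := Module.card_eq_pow_finrank
      rw [Nat.card_eq_fintype_card] at hs hK'
      rw [hj, hp3] at hs hK' hmF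
      rw [← hm, ← pow_mul] at hmF
      rw [← hm, ← pow_add, Nat.pow_le_pow_iff_right (by norm_num : 1 < 3)] at hs
      rcases (Nat.dvd_prime hr).1 (Dvd.intro _ (Nat.pow_right_injective (by norm_num : 2 ≤ 3) hmF).symm :
        (j : ℕ) ∣ r) with e | e
      · rw [e] at hK'; norm_num at hK'
      · have := hr.two_le; omega
  -- larger fields
  have hk4 : 4 ≤ Fintype.card K := by omega
  have hns : ¬ Group.IsSolvable X := by
    intro hs
    haveI := hs
    obtain ⟨H0, hH0⟩ := exists_subgroup_kg φ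
    have hH0X : H0 ≤ X := fun z hz => by
      obtain ⟨w, hw, hw'⟩ := hle (hH0 ▸ ⟨z, hz, rfl⟩ : conjEmb 1 z ∈ kg φ)
      exact hlt.le (conjEmb_injective 1 hw' ▸ hw)
    obtain ⟨e0⟩ := iso_of_map_eq_kg hH0
    exact not_solvable_psl (F := K) hk4 (Group.isSolvable_of_isSolvable_injective
      (f := (Subgroup.inclusion hH0X).comp e0.symm.toMonoidHom)
      ((Subgroup.inclusion_injective hH0X).comp e0.symm.injective))
  rcases dickson p X with ⟨r', ht, hle', hcyc⟩ | ⟨r', ht, hle', -⟩ | hB | ⟨-, ⟨e'⟩⟩ | ⟨-, ⟨e'⟩⟩ |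
    ⟨-, -, ⟨e'⟩⟩ | ⟨K', γ, hK', hc⟩
  · exact hns (Group.isSolvable_of_comm fun a b => hcyc.commGroup.mul_comm a b)
  · obtain ⟨e'⟩ := NT_equiv_dihedral ht
    haveI := isSolvable_dihedral (Nat.card (torus r'))
    exact hns (Group.isSolvable_of_isSolvable_injective (f := e'.toMonoidHom.comp (Subgroup.inclusion hle'))
      (e'.injective.comp (Subgroup.inclusion_injective hle')))
  · exact hnB hB
  · rw [Nat.card_congr e'.toEquiv, card_alt_four] at hgt
    have := (sixty_le_card_psl hk4).1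
    have := Nat.le_of_dvd Nat.card_pos hHdvd
    omega
  · rw [Nat.card_congr e'.toEquiv, card_perm_four] at hgt
    have := (sixty_le_card_psl hk4).1
    have := Nat.le_of_dvd Nat.card_pos hHdvd
    omega
  · rw [Nat.card_congr e'.toEquiv, card_alt_five] at hgt
    have := (sixty_le_card_psl hk4).1
    have := Nat.le_of_dvd Nat.card_pos hHdvd
    omega
  haveI : Fintype K' := Fintype.ofFinite K'
  haveI : CharP K' p := K'.subtype.charP K'.subtype.injective p
  obtain ⟨j, -, hj⟩ := FiniteField.card K' p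
  have hs := lt_card_of_ne_top hX (hc.imp And.left And.left)
  rw [Nat.card_eq_fintype_card] at hs
  set m' := Module.finrank K' F
  have hmF : Fintype.card K' ^ m' = q := (Module.card_eq_pow_finrank (K := K') (V := F)).symm
  have hexp : (j : ℕ) * m' = (i : ℕ) * r := by
    apply Nat.pow_right_injective hp.two_le
    show p ^ ((j : ℕ) * m') = p ^ ((i : ℕ) * r)
    rw [pow_mul, pow_mul, ← hj, ← hki, hmF, hm]
  -- divisibility of the orders
  have hXdvd : Nat.card (Matrix.ProjectiveSpecialLinearGroup (Fin 2) K) ∣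
      Fintype.card K' * ((Fintype.card K' - 1) * (Fintype.card K' + 1)) := by
    refine (hHdvd.trans (Subgroup.card_dvd_of_le hlt.le)).trans ?_
    rcases hc with ⟨⟨e'⟩, -⟩ | ⟨⟨e'⟩, -⟩ <;> rw [Nat.card_congr e'.toEquiv]
    · exact card_psl_dvd
    · rw [card_pgl]
  have hd2 : Fintype.card K * ((Fintype.card K - 1) * (Fintype.card K + 1)) ∣
      2 * (Fintype.card K' * ((Fintype.card K' - 1) * (Fintype.card K' + 1))) := by
    rw [← card_psl (F := K)]
    exact Nat.mul_dvd_mul (Nat.gcd_dvd_left _ _) hXdvd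
  have sq : ∀ a : ℕ, ((p ^ a) - 1) * (p ^ a + 1) = p ^ (2 * a) - 1 := fun a => by
    obtain ⟨c, hc⟩ : ∃ c, p ^ a = c + 1 := ⟨_, (Nat.sub_add_cancel (Nat.one_le_pow _ _ hp.pos)).symm⟩
    rw [mul_comm 2, pow_mul, hc, show (c + 1) ^ 2 = c * (c + 1 + 1) + 1 by ring, Nat.add_sub_cancel,
      Nat.add_sub_cancel]
  rw [hki, hj, sq, sq] at hd2
  have hd3 : p ^ (2 * (i : ℕ)) - 1 ∣ 2 * (p ^ (2 * (j : ℕ)) - 1) := by
    have h1 := (dvd_mul_left _ _).trans hd2
    rw [mul_left_comm 2] at h1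
    refine Nat.Coprime.dvd_of_dvd_mul_left ?_ h1
    refine Nat.Coprime.pow_right _ (Nat.coprime_comm.1 ((Nat.Prime.coprime_iff_not_dvd hp).2 fun hd => ?_))
    have h2 := Nat.dvd_sub (dvd_pow_self p (show 2 * (i : ℕ) ≠ 0 by have := i.pos; omega)) hd
    have : 0 < p ^ (2 * (i : ℕ)) := pow_pos hp.pos _
    rw [show p ^ (2 * (i : ℕ)) - (p ^ (2 * (i : ℕ)) - 1) = 1 by omega] at h2
    exact hp.one_lt.ne' (Nat.dvd_one.1 h2)
  have hij : (i : ℕ) ∣ (j : ℕ) := by
    set g := Nat.gcd (i : ℕ) (j : ℕ) with hg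
    have hgi : g ∣ (i : ℕ) := Nat.gcd_dvd_left _ _
    by_contra hn
    have hlt' : g ≠ (i : ℕ) := fun e => hn (e ▸ Nat.gcd_dvd_right _ _)
    obtain ⟨c, hc'⟩ := hgi
    have hg1 : 1 ≤ g := Nat.gcd_pos_of_pos_left _ i.pos
    have hc2 : 2 ≤ c := by
      rcases c with _ | _ | c
      · simp at hc'
      · exact absurd (by omega) hlt'
      · omega
    have h1 : p ^ (2 * (i : ℕ)) - 1 ∣ 2 * (p ^ (2 * g) - 1) := by
      have := Nat.dvd_gcd (dvd_mul_left (p ^ (2 * (i : ℕ)) - 1) 2) hd3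
      rwa [Nat.gcd_mul_left, Nat.pow_sub_one_gcd_pow_sub_one, Nat.gcd_mul_left, ← hg] at this
    have h2 : p ^ (2 * g) * p ^ (2 * g) ≤ p ^ (2 * (i : ℕ)) := by
      rw [← pow_add]
      refine Nat.pow_le_pow_right hp.pos ?_
      have : g * 2 ≤ g * c := Nat.mul_le_mul_left _ hc2
      omega
    have h4 : 4 ≤ p ^ (2 * g) :=
      le_trans (Nat.pow_le_pow_left hp.two_le 2) (Nat.pow_le_pow_right hp.pos (by omega))
    have h5 : 4 * p ^ (2 * g) ≤ p ^ (2 * g) * p ^ (2 * g) := Nat.mul_le_mul_right _ h4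
    have := Nat.le_of_dvd (by omega) h1
    omega
  obtain ⟨c, hc'⟩ := hij
  have hcr : c ∣ r := ⟨m', Nat.eq_of_mul_eq_mul_left i.pos (by rw [← hexp, hc']; ring)⟩
  have hKK : Fintype.card K' = Fintype.card K := by
    rcases (Nat.dvd_prime hr).1 hcr with rfl | hcr'
    · rw [hj, hki, hc', mul_one]
    · exfalso
      have h1 : Fintype.card K' = q := by rw [← hm, hki, hj, hc', hcr', pow_mul]
      rw [h1] at hs
      have := two_le_q (F := F)
      have : 2 * q ≤ q * q := Nat.mul_le_mul_right _ this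
      omega
  have hcP : Nat.card (Matrix.ProjectiveSpecialLinearGroup (Fin 2) K') =
      Nat.card (Matrix.ProjectiveSpecialLinearGroup (Fin 2) K) := by
    have h1 := card_psl (F := K')
    rw [hKK, ← card_psl (F := K)] at h1
    exact Nat.eq_of_mul_eq_mul_left (Nat.gcd_pos_of_pos_left _ two_pos) h1
  rcases hc with ⟨⟨e'⟩, -⟩ | ⟨⟨e'⟩, heq⟩
  · rw [Nat.card_congr e'.toEquiv, hcP] at hgt
    have := Nat.le_of_dvd Nat.card_pos hHdvd
    omega
  rw [Nat.card_congr e'.toEquiv, card_pgl_eq, hcP, hKK] at hgt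
  rcases h with ⟨h, ho⟩ | ⟨-, -, h⟩
  swap
  · rw [← card_map_conjEmb H 1, h, card_pg, card_pgl_eq] at hgt
    omega
  rw [← card_map_conjEmb H 1, h, card_kg] at hgt
  rcases Nat.even_or_odd (Fintype.card K) with ⟨a, ha⟩ | hodd
  · rw [Nat.Coprime.gcd_eq_one ((Nat.Prime.coprime_iff_not_dvd Nat.prime_two).2 (by omega)), one_mul] at hgt
    omega
  have hodr : Odd r := ho (hm ▸ hodd.pow)
  rw [← map_conjEmb] at heq
  have hmm : Fintype.card K' ^ r = q := by rw [hKK, hm]
  have hpg : pg K'.subtype ≤ R0 := by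
    rw [show pg K'.subtype = X.map (conjEmb γ) from heq.symm]
    exact (Subgroup.map_le_range _ _).trans (range_conjEmb γ).le
  have e := pg_inf_R0 (φ := K'.subtype) fun c hc => isSquare_of_odd hmm hodr hc
  rw [inf_eq_left.2 hpg] at e
  have e2 := congrArg (fun S : Subgroup PG => Nat.card S) e
  rw [card_pg, card_kg, card_pgl_eq] at e2
  obtain ⟨a, ha⟩ := hodd
  rw [hKK, hcP, Nat.gcd_eq_left (show 2 ∣ Fintype.card K - 1 from ⟨a, by omega⟩)] at e2
  omega

end Cfsg.Agent.SL2
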