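import Cfsg.Agent.Lib.SL2.DicksonPGLBase
import Cfsg.Agent.Lib.SL2.DicksonKleinClasses
import Cfsg.Agent.Lib.SL2.DicksonMax

/-!
# Maximal subgroups of `PGL(2, q)`, `q` odd, not containing `PSL(2, q)`
-/

set_option autoImplicit false
set_option linter.unusedSectionVars false

namespace Cfsg.Agent.SL2

open Matrix

variable {F : Type*} [Field F] [Fintype F]

local notation "G" => Matrix.SpecialLinearGroup (Fin 2) F
local notation "M2" => Matrix (Fin 2) (Fin 2) F
local notation "PS" => Matrix.ProjectiveSpecialLinearGroup (Fin 2) F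
local notation "PG" => Matrix.ProjGenLinGroup (Fin 2) F
local notation "q" => Fintype.card F

theorem index_R0 (hodd : Odd q) : (R0 : Subgroup PG).index = 2 := by
  haveI : Finite PS := Finite.of_surjective _ π_surjective
  obtain ⟨j, hj⟩ := hodd
  have h1 := (R0 : Subgroup PG).index_mul_card
  rw [card_R0, card_pgl, ← card_psl, Nat.gcd_eq_left (show 2 ∣ q - 1 from ⟨j, by omega⟩)] at h1
  exact Nat.eq_of_mul_eq_mul_right Nat.card_pos h1

/-- All normalisers of four-groups have order `24` when `S₄` occurs. -/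
theorem normalizer_klein_eq (hodd : Odd q) (h8 : q % 8 = 1 ∨ q % 8 = 7) {V : Subgroup PS}
    (hV : IsKleinFour V) : Nat.card (Subgroup.normalizer (V : Set PS)) = 24 := by
  classical
  haveI : Finite PS := Finite.of_surjective _ π_surjective
  obtain ⟨n, hp, -⟩ := FiniteField.card F (ringChar F)
  haveI : Fact (ringChar F).Prime := ⟨hp⟩
  have h2 := two_ne_zero' hodd
  obtain ⟨t, ht⟩ := exists_sqrt_two (F := F) (by
    rw [Nat.pow_mod]
    obtain h | h | h | h : q % 16 = 1 ∨ q % 16 = 7 ∨ q % 16 = 9 ∨ q % 16 = 15 := by omega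
    all_goals rw [h])
  obtain ⟨H, ⟨e⟩⟩ := exists_perm_four h2 ht
  obtain ⟨u, huH, v, hvH, hu, hv, hu1, hv1, huv, hc, hall⟩ := four_of_perm_four e
  have hV₁ : IsKleinFour (Subgroup.closure ({u, v} : Set PS)) :=
    isKleinFour_closure h2 (orderOf_two_iff.2 ⟨hu, hu1⟩) (orderOf_two_iff.2 ⟨hv, hv1⟩) (Ne.symm huv) hc
  rw [card_normalizer_klein hodd (ringChar F) hV hV₁]
  have hnorm : H ≤ Subgroup.normalizer ((Subgroup.closure ({u, v} : Set PS) : Subgroup PS) : Set PS) := by
    intro x hx
    haveI : Finite ((Subgroup.closure ({u, v} : Set PS) : Subgroup PS) : Set PS) :=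
      (Set.toFinite _).to_subtype
    refine Subgroup.mem_normalizer_fintype fun y hy => ?_
    have h4 : ∀ w ∈ four u v, w ∈ Subgroup.closure ({u, v} : Set PS) := by
      rintro w (rfl | rfl | rfl)
      · exact Subgroup.subset_closure (by simp)
      · exact Subgroup.subset_closure (by simp)
      · exact mul_mem (Subgroup.subset_closure (by simp)) (Subgroup.subset_closure (by simp))
    have hmap : (Subgroup.closure ({u, v} : Set PS)).map (MulAut.conj x).toMonoidHom ≤
        Subgroup.closure ({u, v} : Set PS) := by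
      rw [MonoidHom.map_closure, Subgroup.closure_le]
      rintro _ ⟨z, hz, rfl⟩
      rcases hz with rfl | rfl
      · exact h4 _ (hall x hx).1
      · exact h4 _ (hall x hx).2
    exact hmap ⟨y, hy, rfl⟩
  have := Subgroup.card_le_of_le hnorm
  rw [Nat.card_congr e.toEquiv, card_perm_four] at this
  rcases normalizer_klein_cases hodd hV₁ with h | h <;> omega

/-- Subgroups normalising the standard four-group. -/
theorem four_normalizer_card {p : ℕ} [Fact p.Prime] [CharP F p] (hodd : Odd q) {a b : ℕ}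
    (h : (a : F) ^ 2 + (b : F) ^ 2 = -1) {X : Subgroup PG} (hX : X ≤ Subgroup.normalizer (fourPG h)) :
    Nat.card X ≤ 24 ∧ (Nat.card X = 24 → Nonempty (X ≃* Equiv.Perm (Fin 4))) := by
  classical
  obtain ⟨n, hp, hn⟩ := FiniteField.card F p
  haveI : Fintype (GaloisField p (2 * n)) := Fintype.ofFinite _
  have hE : q ^ 2 = Fintype.card (GaloisField p (2 * n)) := by
    rw [← Nat.card_eq_fintype_card (α := GaloisField p (2 * n)),
      GaloisField.card p _ (by have := n.pos; omega), hn, ← pow_mul, mul_comm]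
  obtain ⟨φ⟩ := exists_embedding (F := GaloisField p (2 * n)) (K := F) hE two_ne_zero
  have hqE : Odd (Fintype.card (GaloisField p (2 * n))) := hE ▸ hodd.pow
  have h2E : (2 : GaloisField p (2 * n)) ≠ 0 := two_ne_zero' hqE
  have hch : ringChar (GaloisField p (2 * n)) ≠ 2 := fun h => by
    have := FiniteField.even_card_of_char_two (F := GaloisField p (2 * n)) h
    obtain ⟨j, hj⟩ := hqE
    omega
  have hEa : (a : GaloisField p (2 * n)) ^ 2 + (b : GaloisField p (2 * n)) ^ 2 = -1 := by
    have := congrArg φ h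
    simpa using this
  set ψ := Matrix.ProjGenLinGroup.map (n := Fin 2) φ with hψ
  have himg : ψ '' fourPG h = fourPG hEa := by
    have e1 : ∀ s : G, ψ (Matrix.ProjectiveSpecialLinearGroup.toPGL (π s)) =
        Matrix.ProjectiveSpecialLinearGroup.toPGL (π (Matrix.SpecialLinearGroup.map φ s)) := fun s => by
      show Matrix.ProjGenLinGroup.map φ (Matrix.ProjGenLinGroup.mk _) = Matrix.ProjGenLinGroup.mk _
      rw [Matrix.ProjGenLinGroup.map_mk]
      exact congrArg _ (Units.ext rfl)
    have eI : Matrix.SpecialLinearGroup.map φ I0 = I0 := by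
      apply ext4
      all_goals (show φ _ = _; simp [I0])
    have eJ : Matrix.SpecialLinearGroup.map φ (J0 h) = J0 hEa := by
      apply ext4
      all_goals (show φ _ = _; simp [J0])
    rw [fourPG, fourPG, four, four, Set.image_insert_eq, Set.image_insert_eq, Set.image_singleton, map_mul,
      e1, e1, eI, eJ]
  haveI : Finite (Matrix.ProjectiveSpecialLinearGroup (Fin 2) (GaloisField p (2 * n))) :=
    Finite.of_surjective _ π_surjective
  haveI : Finite (Matrix.ProjGenLinGroup (Fin 2) (GaloisField p (2 * n))) :=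
    Finite.of_surjective _ Matrix.ProjGenLinGroup.mk_surjective
  have hle : X.map ψ ≤ stab hEa := by
    rintro _ ⟨x, hx, rfl⟩
    refine ⟨pg_le_R0 (isSquare_of_even hE even_two hch) ⟨x, rfl⟩, ?_⟩
    haveI : Finite (fourPG hEa) := (Set.toFinite _).to_subtype
    refine Subgroup.mem_normalizer_fintype fun y hy => ?_
    rw [← himg] at hy ⊢
    obtain ⟨w, hw, rfl⟩ := hy
    exact ⟨x * w * x⁻¹, (Subgroup.mem_set_normalizer_iff.1 (hX hx) w).1 hw, by rw [map_mul, map_mul, map_inv]⟩
  have h16 : Fintype.card (GaloisField p (2 * n)) ^ 2 % 16 = 1 := by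
    obtain ⟨j, hj⟩ := hodd
    rw [← hE, ← pow_mul, show 2 * 2 = 4 from rfl, hj, Nat.pow_mod]
    obtain h | h | h | h | h | h | h | h : (2 * j + 1) % 16 = 1 ∨ (2 * j + 1) % 16 = 3 ∨
        (2 * j + 1) % 16 = 5 ∨ (2 * j + 1) % 16 = 7 ∨ (2 * j + 1) % 16 = 9 ∨ (2 * j + 1) % 16 = 11 ∨
        (2 * j + 1) % 16 = 13 ∨ (2 * j + 1) % 16 = 15 := by omega
    all_goals rw [h]
  obtain ⟨t, ht⟩ := exists_sqrt_two h16
  obtain ⟨H, ⟨e⟩⟩ := exists_perm_four h2E ht
  obtain ⟨u, huH, v, hvH, hu, hv, hu1, hv1, huv, hc, hall⟩ := four_of_perm_four e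
  obtain ⟨γ, hgu, hgv⟩ := exists_gamma h2E hEa hu hv hu1 hv1 huv hc
  have hHle : H.map (conjEmb γ) ≤ stab hEa := by
    rintro _ ⟨x, hx, rfl⟩
    exact conjEmb_mem_stab hEa hgu hgv hu hv hc (hall x hx).1 (hall x hx).2
  have hbound : Nat.card (stab hEa) ≤ 24 := by
    set S0 : Set (Matrix.ProjectiveSpecialLinearGroup (Fin 2) (GaloisField p (2 * n))) := {u, v}
    have hV := isKleinFour_closure h2E (orderOf_two_iff.2 ⟨hu, hu1⟩) (orderOf_two_iff.2 ⟨hv, hv1⟩)
      (Ne.symm huv) hc
    have hsub : stab hEa ≤ (Subgroup.normalizer ((Subgroup.closure S0 : Subgroup _) : Set _)).map (conjEmb γ) := by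
      rintro y ⟨hy0, hy⟩
      rw [← range_conjEmb γ] at hy0
      obtain ⟨x, rfl⟩ := hy0
      refine ⟨x, ?_, rfl⟩
      haveI : Finite ((Subgroup.closure S0 : Subgroup _) : Set
          (Matrix.ProjectiveSpecialLinearGroup (Fin 2) (GaloisField p (2 * n)))) := (Set.toFinite _).to_subtype
      refine Subgroup.mem_normalizer_fintype fun z hz => ?_
      have h4 : ∀ w, conjEmb γ w ∈ fourPG hEa → w ∈ Subgroup.closure S0 := by
        intro w hw
        rw [fourPG, four, ← hgu, ← hgv, ← map_mul] at hw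
        rcases hw with e | e | e
        · rw [conjEmb_injective γ e]; exact Subgroup.subset_closure (by simp [S0])
        · rw [conjEmb_injective γ e]; exact Subgroup.subset_closure (by simp [S0])
        · rw [conjEmb_injective γ e]
          exact mul_mem (Subgroup.subset_closure (by simp [S0])) (Subgroup.subset_closure (by simp [S0]))
      have hmap : (Subgroup.closure S0).map (MulAut.conj x).toMonoidHom ≤ Subgroup.closure S0 := by
        rw [MonoidHom.map_closure, Subgroup.closure_le]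
        rintro _ ⟨w, hw, rfl⟩
        refine h4 _ ?_
        show conjEmb γ (x * w * x⁻¹) ∈ _
        rw [map_mul, map_mul, map_inv]
        refine (Subgroup.mem_set_normalizer_iff.1 hy _).1 ?_
        rcases hw with rfl | rfl
        · rw [hgu]; simp
        · rw [hgv]; simp
      exact hmap ⟨z, hz, rfl⟩
    refine (Subgroup.card_le_of_le hsub).trans ?_
    rw [card_map_conjEmb]
    rcases normalizer_klein_cases hqE hV with h | h
    · exact le_of_eq_of_le h (by norm_num)
    · exact le_of_eq h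
  have hHc : Nat.card (H.map (conjEmb γ)) = 24 := by
    rw [card_map_conjEmb, Nat.card_congr e.toEquiv, card_perm_four]
  have hXc : Nat.card (X.map ψ) = Nat.card X := Subgroup.card_map_of_injective (pglMap_injective φ)
  have hXle : Nat.card X ≤ 24 := hXc ▸ (Subgroup.card_le_of_le hle).trans hbound
  refine ⟨hXle, fun h24 => ?_⟩
  have e1 : X.map ψ = stab hEa := Subgroup.eq_of_le_of_card_ge hle (by omega)
  have e2 : H.map (conjEmb γ) = stab hEa := Subgroup.eq_of_le_of_card_ge hHle (by omega)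
  exact ⟨((X.equivMapOfInjective ψ (pglMap_injective φ)).trans (MulEquiv.subgroupCongr (e1.trans e2.symm))).trans
    ((H.equivMapOfInjective _ (conjEmb_injective γ)).symm.trans e)⟩

/-- The commutator involutions of `A₄` and `S₄`. -/
theorem four_char {P : Type*} [Group P] {H : Subgroup P}
    (e : Nonempty (H ≃* alternatingGroup (Fin 4)) ∨ Nonempty (H ≃* Equiv.Perm (Fin 4))) :
    ∃ u ∈ H, ∃ v ∈ H, u * u = 1 ∧ v * v = 1 ∧ u ≠ 1 ∧ v ≠ 1 ∧ u ≠ v ∧ u * v = v * u ∧
      (∃ a ∈ H, ∃ b ∈ H, u = a * b * a⁻¹ * b⁻¹) ∧ (∃ a ∈ H, ∃ b ∈ H, v = a * b * a⁻¹ * b⁻¹) ∧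
      ∀ a ∈ H, ∀ b ∈ H, (a * b * a⁻¹ * b⁻¹) * (a * b * a⁻¹ * b⁻¹) = 1 → a * b * a⁻¹ * b⁻¹ ≠ 1 →
        a * b * a⁻¹ * b⁻¹ ∈ four u v := by
  have transfer : ∀ {A : Type} [Group A], (H ≃* A) → (∃ u v : A, u * u = 1 ∧ v * v = 1 ∧ u ≠ 1 ∧ v ≠ 1 ∧
      u ≠ v ∧ u * v = v * u ∧ (∃ a b : A, u = a * b * a⁻¹ * b⁻¹) ∧ (∃ a b : A, v = a * b * a⁻¹ * b⁻¹) ∧
      ∀ a b : A, (a * b * a⁻¹ * b⁻¹) * (a * b * a⁻¹ * b⁻¹) = 1 → a * b * a⁻¹ * b⁻¹ ≠ 1 →
        a * b * a⁻¹ * b⁻¹ = u ∨ a * b * a⁻¹ * b⁻¹ = v ∨ a * b * a⁻¹ * b⁻¹ = u * v) →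
      ∃ u ∈ H, ∃ v ∈ H, u * u = 1 ∧ v * v = 1 ∧ u ≠ 1 ∧ v ≠ 1 ∧ u ≠ v ∧ u * v = v * u ∧
        (∃ a ∈ H, ∃ b ∈ H, u = a * b * a⁻¹ * b⁻¹) ∧ (∃ a ∈ H, ∃ b ∈ H, v = a * b * a⁻¹ * b⁻¹) ∧
        ∀ a ∈ H, ∀ b ∈ H, (a * b * a⁻¹ * b⁻¹) * (a * b * a⁻¹ * b⁻¹) = 1 → a * b * a⁻¹ * b⁻¹ ≠ 1 →
          a * b * a⁻¹ * b⁻¹ ∈ four u v := by
    intro A _ f key
    obtain ⟨u, v, h1, h2, h3, h4, h5, h6, ⟨a1, b1, h7⟩, ⟨a2, b2, h8⟩, h9⟩ := key
    let g : A →* P := H.subtype.comp f.symm.toMonoidHom
    have gi : Function.Injective g := H.subtype_injective.comp f.symm.injective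
    have gm : ∀ x : A, g x ∈ H := fun x => (f.symm x).2
    refine ⟨g u, gm u, g v, gm v, by rw [← map_mul, h1, map_one], by rw [← map_mul, h2, map_one],
      fun h => h3 (gi (h.trans g.map_one.symm)), fun h => h4 (gi (h.trans g.map_one.symm)),
      fun h => h5 (gi h), by rw [← map_mul, h6, map_mul],
      ⟨g a1, gm a1, g b1, gm b1, by rw [h7]; simp⟩, ⟨g a2, gm a2, g b2, gm b2, by rw [h8]; simp⟩,
      fun a ha b hb hsq hne => ?_⟩
    have ea : g (f ⟨a, ha⟩) = a := by simp [g]
    have eb : g (f ⟨b, hb⟩) = b := by simp [g]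
    set x := f ⟨a, ha⟩
    set y := f ⟨b, hb⟩
    have hg : g (x * y * x⁻¹ * y⁻¹) = a * b * a⁻¹ * b⁻¹ := by
      rw [map_mul, map_mul, map_mul, map_inv, map_inv, ea, eb]
    rw [← hg] at hsq hne ⊢
    rw [← map_mul, ← map_one g] at hsq
    rcases h9 x y (gi hsq) (fun h => hne (by rw [h, map_one])) with h | h | h <;> rw [h]
    · exact Or.inl rfl
    · exact Or.inr (Or.inl rfl)
    · exact Or.inr (Or.inr (map_mul g u v))
  rcases e with ⟨⟨f⟩⟩ | ⟨⟨f⟩⟩
  · exact transfer f ⟨⟨Equiv.swap 0 1 * Equiv.swap 2 3, Equiv.Perm.mem_alternatingGroup.2 (by decide)⟩,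
      ⟨Equiv.swap 0 2 * Equiv.swap 1 3, Equiv.Perm.mem_alternatingGroup.2 (by decide)⟩,
      by decide, by decide, by decide, by decide, by decide, by decide,
      by decide +kernel, by decide +kernel, by decide +kernel⟩
  · exact transfer f ⟨Equiv.swap 0 1 * Equiv.swap 2 3, Equiv.swap 0 2 * Equiv.swap 1 3,
      by decide, by decide, by decide, by decide, by decide, by decide,
      by decide +kernel, by decide +kernel, by decide +kernel⟩

/-- The basic properties of a maximal subgroup not containing `PSL(2, q)`. -/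
structure PGLMax (M : Subgroup (Matrix.ProjGenLinGroup (Fin 2) F)) : Prop where
  coatom : IsCoatom M
  odd : Odd (Fintype.card F)
  big : 3 < Fintype.card F
  not_le : ¬ (R0 : Subgroup (Matrix.ProjGenLinGroup (Fin 2) F)) ≤ M

namespace PGLMax

variable {M : Subgroup (Matrix.ProjGenLinGroup (Fin 2) F)}

local notation "H" => Subgroup.comap Matrix.ProjectiveSpecialLinearGroup.toPGL M

theorem map_comap (hM : PGLMax M) : Subgroup.map Matrix.ProjectiveSpecialLinearGroup.toPGL H = M ⊓ R0 := by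
  rw [Subgroup.map_comap_eq, inf_comm]

theorem ne_top (hM : PGLMax M) : H ≠ ⊤ := fun h => hM.not_le (by
  rintro _ ⟨x, rfl⟩
  exact (h ▸ Subgroup.mem_top x : x ∈ H))

theorem card_eq (hM : PGLMax M) : Nat.card M = 2 * Nat.card H := by
  haveI : Finite PG := Finite.of_surjective _ Matrix.ProjGenLinGroup.mk_surjective
  have hidx := index_R0 hM.odd
  have hne : ¬ M ≤ R0 := fun hle => by
    rcases hle.eq_or_lt with h | h
    · exact hM.not_le h.ge
    · have h' := hM.coatom.2 _ h
      rw [h', Subgroup.index_top] at hidx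
      omega
  obtain ⟨m, hm, hm0⟩ := SetLike.not_le_iff_exists.1 hne
  have h2 : ((R0 : Subgroup PG).subgroupOf M).index = 2 := by
    rw [Subgroup.index_eq_two_iff]
    refine ⟨⟨m, hm⟩, fun y => ?_⟩
    simp only [Subgroup.mem_subgroupOf, Subgroup.coe_mul]
    rw [Subgroup.mul_mem_iff_of_index_two hidx]
    by_cases hy : (y : PG) ∈ (R0 : Subgroup PG) <;> simp [hy, hm0, Xor']
  have h3 := ((R0 : Subgroup PG).subgroupOf M).index_mul_card
  rw [h2, ← Subgroup.inf_subgroupOf_right, Nat.card_congr (Subgroup.subgroupOfEquivOfLe inf_le_right).toEquiv,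
    inf_comm, ← hM.map_comap, Subgroup.card_map_of_injective Matrix.ProjectiveSpecialLinearGroup.toPGL_injective] at h3
  exact h3.symm

theorem conj_mem (hM : PGLMax M) {m : PG} (hm : m ∈ M) {x : PS} (hx : x ∈ H) : conjAut m x ∈ H := by
  rw [Subgroup.mem_comap, toPGL_conjAut]
  exact mul_mem (mul_mem hm hx) (inv_mem hm)

theorem ne_bot (hM : PGLMax M) : H ≠ ⊥ := by
  intro h
  haveI : Finite PG := Finite.of_surjective _ Matrix.ProjGenLinGroup.mk_surjective
  haveI : Fact (Nat.Prime 2) := ⟨Nat.prime_two⟩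
  have hc := hM.card_eq
  rw [h, Subgroup.card_bot, mul_one] at hc
  obtain ⟨S, hS⟩ := (IsPGroup.of_card (p := 2) (n := 1) (by rw [hc, pow_one]) : IsPGroup 2 M).exists_le_sylow
  have hP := card_pgl (F := F)
  obtain ⟨j, hj⟩ := hM.odd
  have h4 : 2 ^ 2 ∣ Nat.card PG := by
    rw [hP, hj, show (2 * j + 1 - 1) = 2 * j by omega]
    exact ⟨(2 * j + 1) * (j * (j + 1)), by ring⟩
  have h4' := S.pow_dvd_card_of_pow_dvd_card h4
  rcases hS.eq_or_lt with e | e
  · rw [← e, hc] at h4'
    norm_num at h4'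
  · have htop := hM.coatom.2 _ e
    obtain ⟨k, hk⟩ := IsPGroup.iff_card.1 S.isPGroup'
    rw [htop, Subgroup.card_top, hP] at hk
    have hq2 : q ∣ 2 ^ k := ⟨_, hk.symm⟩
    obtain ⟨i, -, hi⟩ := (Nat.dvd_prime_pow Nat.prime_two).1 hq2
    rcases i with _ | i
    · have := hM.big
      rw [pow_zero] at hi
      omega
    · rw [hi, pow_succ'] at hj
      omega

/-- An invariant subgroup. -/
theorem of_invariant (hM : PGLMax M) {A : Subgroup PS} (h1 : A ≠ ⊥) (h2 : A ≠ ⊤)
    (hA : ∀ m ∈ M, ∀ a ∈ A, conjAut m a ∈ A) : H = Subgroup.normalizer (A : Set PS) := by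
  classical
  haveI : Finite PS := Finite.of_surjective _ π_surjective
  haveI : Finite PG := Finite.of_surjective _ Matrix.ProjGenLinGroup.mk_surjective
  set T := Matrix.ProjectiveSpecialLinearGroup.toPGL (n := Fin 2) (R := F)
  set N := Subgroup.normalizer ((A.map T : Subgroup PG) : Set PG) with hN
  haveI : Finite ((A.map T : Subgroup PG) : Set PG) := (Set.toFinite _).to_subtype
  have hMN : M ≤ N := fun m hm => by
    refine Subgroup.mem_normalizer_fintype fun y hy => ?_
    obtain ⟨a, ha, rfl⟩ := hy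
    exact ⟨conjAut m a, hA m hm a ha, toPGL_conjAut m a⟩
  have hinner : ∀ x : PS, x ∈ Subgroup.normalizer (A : Set PS) ↔ T x ∈ N := fun x => by
    rw [hN, Subgroup.mem_normalizer_iff, Subgroup.mem_normalizer_iff]
    constructor
    · intro h y
      constructor
      · rintro ⟨a, ha, rfl⟩
        exact ⟨x * a * x⁻¹, (h a).1 ha, by simp⟩
      · rintro ⟨a, ha, hay⟩
        exact ⟨x⁻¹ * a * x, (h _).2 (by simpa [mul_assoc] using ha), by rw [map_mul, map_mul, map_inv, hay]; group⟩
    · intro h y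
      have := h (T y)
      rwa [← map_inv, ← map_mul, ← map_mul,
        Subgroup.mem_map_iff_mem Matrix.ProjectiveSpecialLinearGroup.toPGL_injective,
        Subgroup.mem_map_iff_mem Matrix.ProjectiveSpecialLinearGroup.toPGL_injective] at this
  have hNM : M = N := by
    rcases hMN.eq_or_lt with h | h
    · exact h
    · exfalso
      have htop := hM.coatom.2 _ h
      haveI := isSimple_psl (F := F) (by have := hM.big; omega)
      haveI hn : A.Normal := ⟨fun a ha x => (Subgroup.mem_normalizer_iff.1 ((hinner x).2 (htop ▸ Subgroup.mem_top _)) a).1 ha⟩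
      exact (hn.eq_bot_or_eq_top).elim h1 h2
  ext x
  rw [Subgroup.mem_comap, hinner, hNM]

theorem self_normalizing (hM : PGLMax M) : Subgroup.normalizer (H : Set PS) = H :=
  (hM.of_invariant hM.ne_bot hM.ne_top fun _ hm _ hx => hM.conj_mem hm hx).symm

/-- Not inside a torus. -/
theorem not_le_torus (hM : PGLMax M) {r : G} (ht : tr r ^ 2 ≠ 4) : ¬ H ≤ torus r := by
  classical
  haveI : Finite PS := Finite.of_surjective _ π_surjective
  intro hle
  have hN : NT r ≤ H := by
    rw [← hM.self_normalizing]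
    intro x hx
    haveI : Finite (H : Set PS) := (Set.toFinite _).to_subtype
    refine Subgroup.mem_normalizer_fintype fun y hy => ?_
    obtain ⟨s, rfl⟩ := π_surjective x
    obtain ⟨c, hc, rfl⟩ := hle hy
    rw [← π_conj]
    rcases normalizer_act ht (pi_mem_NT.1 hx) with ⟨-, h⟩ | ⟨-, h⟩ <;> rw [h c hc]
    · exact hy
    · rw [map_inv]; exact inv_mem hy
  exact (torus_lt_NT ht).not_ge (hN.trans hle)

/-- Dihedral intersections are torus normalisers. -/
theorem dihedral_case (hM : PGLMax M) {r : G} (ht : tr r ^ 2 ≠ 4) {k : ℕ} (hk : 2 ≤ k)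
    (hle : H ≤ NT r) (e : H ≃* DihedralGroup k) :
    3 ≤ Nat.card (torus r) ∧ Nonempty (M ≃* DihedralGroup (2 * Nat.card (torus r))) ∧ H = NT r := by
  classical
  haveI : Finite PS := Finite.of_surjective _ π_surjective
  haveI : Finite PG := Finite.of_surjective _ Matrix.ProjGenLinGroup.mk_surjective
  rcases hk.eq_or_lt with rfl | hk3
  · exfalso
    have hV : IsKleinFour H := ⟨by rw [Nat.card_congr e.toEquiv, DihedralGroup.nat_card],
      by rw [Monoid.exponent_eq_of_mulEquiv e, DihedralGroup.exponent]; rfl⟩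
    have := normalizer_klein_cases hM.odd hV
    rw [hM.self_normalizing, hV.card_four] at this
    omega
  set d : PS := ((e.symm (DihedralGroup.r 1) : H) : PS)
  have hdH : d ∈ H := (e.symm (DihedralGroup.r 1)).2
  have hdo : orderOf d = k := by
    rw [Subgroup.orderOf_coe, MulEquiv.orderOf_eq, DihedralGroup.orderOf_r_one]
  have hmem : ∀ y ∈ H, orderOf y = k → y ∈ torus r := by
    intro y hy ho
    by_contra hT
    obtain ⟨s, rfl⟩ := π_surjective y
    have hs : s ∉ cent r := fun h => hT (pi_mem_torus.2 h)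
    have h := sq_of_mem_normalizer ht (pi_mem_NT.1 (hle hy)) hs
    have := Nat.le_of_dvd two_pos (ho ▸ orderOf_dvd_of_pow_eq_one
      (show π s ^ 2 = 1 by rw [pow_two, ← map_mul, h.2, π_neg, map_one]))
    omega
  have hdT := hmem d hdH hdo
  have hK : 3 ≤ Nat.card (torus r) := by
    have := Nat.le_of_dvd (card_torus_pos r) (hdo ▸ Subgroup.orderOf_dvd_natCard _ hdT)
    omega
  have hinv : ∀ m ∈ M, ∀ a ∈ torus r, conjAut m a ∈ torus r := by
    intro m hm a ha
    induction m using Matrix.ProjGenLinGroup.induction_on with | mk g => ?_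
    have h1 := (torus_glConj g r d).2 hdT
    have h2 := hmem _ (hM.conj_mem hm hdH) (by rw [MulEquiv.orderOf_eq, hdo])
    have hd1 : conjAut (Matrix.ProjGenLinGroup.mk g) d ≠ 1 := fun h => by
      have h' := congrArg orderOf h
      rw [MulEquiv.orderOf_eq, hdo, orderOf_one] at h'
      omega
    rw [← torus_eq_of_mem (not_scal_of_trace (show tr (glConj g r) ^ 2 ≠ 4 by rwa [tr_glConj]))
      (scal_of_tr_sq_ne ht) hd1 h1 h2]
    exact (torus_glConj g r a).2 ha
  have hH : H = NT r := hM.of_invariant (fun h => by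
      have := card_torus_pos r
      rw [h, Subgroup.card_bot] at hK
      omega)
    (fun h => NT_ne_top ht (by have := hM.big; omega)
      (top_le_iff.1 (h ▸ (torus_lt_NT ht).le))) hinv
  refine ⟨hK, ?_, hH⟩
  obtain ⟨D, ⟨eD⟩, hD⟩ := exists_pgl_dihedral hM.odd ht hK
  have hDc : Nat.card D = Nat.card M := by
    rw [Nat.card_congr eD.toEquiv, DihedralGroup.nat_card, hM.card_eq, hH, card_NT ht]
  set N := Subgroup.normalizer (((torus r).map Matrix.ProjectiveSpecialLinearGroup.toPGL : Subgroup PG) : Set PG)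
  haveI : Finite (((torus r).map Matrix.ProjectiveSpecialLinearGroup.toPGL : Subgroup PG) : Set PG) :=
    (Set.toFinite _).to_subtype
  have hle' : ∀ (S : Subgroup PG), (∀ m ∈ S, ∀ a ∈ torus r, conjAut m a ∈ torus r) → S ≤ N := fun S hS m hm => by
    refine Subgroup.mem_normalizer_fintype fun y hy => ?_
    obtain ⟨a, ha, rfl⟩ := hy
    exact ⟨conjAut m a, hS m hm a ha, toPGL_conjAut m a⟩
  rcases (hle' M hinv).eq_or_lt with h | h
  · have : D = M := Subgroup.eq_of_le_of_card_ge (h ▸ hle' D hD) hDc.ge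
    exact ⟨(MulEquiv.subgroupCongr this).symm.trans eD⟩
  · exfalso
    have htop := hM.coatom.2 _ h
    haveI := isSimple_psl (F := F) (by have := hM.big; omega)
    haveI hn : (torus r).Normal := ⟨fun a ha x => by
      have hx := (Subgroup.mem_normalizer_iff.1 (htop ▸ Subgroup.mem_top
        (Matrix.ProjectiveSpecialLinearGroup.toPGL x) : _ ∈ N) _).1 ⟨a, ha, rfl⟩
      rwa [← map_inv, ← map_mul, ← map_mul,
        Subgroup.mem_map_iff_mem Matrix.ProjectiveSpecialLinearGroup.toPGL_injective] at hx⟩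
    rcases hn.eq_bot_or_eq_top with e' | e'
    · rw [e', Subgroup.card_bot] at hK; omega
    · exact NT_ne_top ht (by have := hM.big; omega) (top_le_iff.1 (e' ▸ (torus_lt_NT ht).le))

/-- Intersections inside a Borel subgroup. -/
theorem borel_case (hM : PGLMax M) {g : PS} (hg : ∀ x ∈ H, g * x * g⁻¹ ∈ (B0 : Subgroup PS)) :
    H = (B0 : Subgroup PS).map (MulAut.conj g⁻¹).toMonoidHom := by
  classical
  haveI : Finite PS := Finite.of_surjective _ π_surjective
  obtain ⟨n, hp, hn⟩ := FiniteField.card F (ringChar F)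
  haveI : Fact (ringChar F).Prime := ⟨hp⟩
  have h2 := two_ne_zero' hM.odd
  by_cases hdvd : ringChar F ∣ Nat.card H
  swap
  · exfalso
    obtain ⟨y, hy, hy1⟩ := (Subgroup.bot_or_exists_ne_one H).resolve_left hM.ne_bot
    obtain ⟨s, hs⟩ := π_surjective (g * y * g⁻¹)
    have hsB : (s : M2) 1 0 = 0 := pi_mem_B0.1 (hs ▸ hg y hy)
    obtain ⟨-, hs00, -⟩ := upper_root hsB
    have ht : tr s ^ 2 ≠ 4 := fun h4 => by
      have h := not_semisimple_pow (p := ringChar F) h4
      rw [hs, conj_pow, conj_eq_one_iff] at h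
      rcases (Nat.dvd_prime hp).1 (orderOf_dvd_of_pow_eq_one h) with e | e
      · exact hy1 (orderOf_eq_one_iff.1 e)
      · exact hdvd (e ▸ Subgroup.orderOf_dvd_natCard _ hy)
    obtain ⟨P, hP⟩ := π_surjective g
    refine hM.not_le_torus (r := P⁻¹ * s * P⁻¹⁻¹) (by rwa [tr_conj]) fun x hx => ?_
    obtain ⟨t, ht'⟩ := π_surjective (g * x * g⁻¹)
    rw [torus_conj, map_inv, inv_inv, hP, ← ht', pi_mem_torus, mem_cent]
    have hc := congrArg Subtype.val (comm_of_coprime (p := ringChar F) hg hdvd ⟨y, hy⟩ ⟨x, hx⟩)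
    have hc' : π (s * t) = π (t * s) := by
      rw [map_mul, map_mul, hs, ht', show g * y * g⁻¹ * (g * x * g⁻¹) = g * (y * x) * g⁻¹ by group,
        show g * x * g⁻¹ * (g * y * g⁻¹) = g * (x * y) * g⁻¹ by group,
        show y * x = x * y from hc]
    refine ((π_eq_iff.1 hc').resolve_right fun e => ?_).symm
    have htB : (t : M2) 1 0 = 0 := pi_mem_B0.1 (ht' ▸ hg x hx)
    obtain ⟨-, ht00, -⟩ := upper_root htB
    have e00 := congrArg (fun z : G => (z : M2) 0 0) e
    simp only [Matrix.SpecialLinearGroup.coe_mul, Matrix.SpecialLinearGroup.coe_neg] at e00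
    simp [Matrix.mul_apply, Fin.sum_univ_two, htB, hsB] at e00
    exact mul_ne_zero h2 (mul_ne_zero ht00 hs00) (by linear_combination e00)
  obtain ⟨⟨w, hw⟩, hwo⟩ := exists_prime_orderOf_dvd_card' (ringChar F) hdvd
  rw [Subgroup.orderOf_mk] at hwo
  have hwp : w ^ ringChar F = 1 := hwo ▸ pow_orderOf_eq_one w
  have key : ∀ z : PS, ∀ h : g * z * g⁻¹ ∈ (B0 : Subgroup PS), z ^ ringChar F = 1 →
      g * z * g⁻¹ ∈ (W0 : Subgroup PS) := by
    intro z h hz
    obtain ⟨ψ, hψ⟩ := exists_borelHom (F := F)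
    refine hψ ⟨_, h⟩ (orderOf_eq_one_iff.1 ?_)
    refine Nat.eq_one_of_dvd_coprimes (a := ringChar F) (b := q - 1) ?_ (orderOf_dvd_of_pow_eq_one ?_) ?_
    · refine (Nat.Prime.coprime_iff_not_dvd hp).2 fun hd => ?_
      have h1 := Nat.dvd_sub (hn ▸ dvd_pow_self _ n.ne_zero : ringChar F ∣ q) hd
      have := hM.big
      rw [show q - (q - 1) = 1 by omega] at h1
      exact hp.one_lt.ne' (Nat.dvd_one.1 h1)
    · rw [← map_pow, ← map_one ψ]
      congr 1
      exact Subtype.ext (by rw [SubgroupClass.coe_pow, conj_pow, hz, mul_one, mul_inv_cancel]; rfl)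
    · rw [← Fintype.card_units]
      exact orderOf_dvd_card
  set A : Subgroup PS := (W0 : Subgroup PS).map (MulAut.conj g⁻¹).toMonoidHom with hAdef
  have hA : ∀ x, x ∈ A ↔ g * x * g⁻¹ ∈ (W0 : Subgroup PS) := fun x => by
    rw [hAdef, Subgroup.mem_map_equiv]
    simp
  have hw1 : w ≠ 1 := fun e => by
    rw [e, orderOf_one] at hwo
    exact hp.one_lt.ne hwo
  obtain ⟨b, hb⟩ := key w (hg w hw) hwp
  have hWB : (B0 : Subgroup PS) ≤ Subgroup.normalizer ((W0 : Subgroup PS) : Set PS) := by
    intro y hy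
    rw [Subgroup.mem_normalizer_iff]
    exact fun z => ⟨conj_mem_W0 hy, fun h => by simpa [mul_assoc] using conj_mem_W0 (inv_mem hy) h⟩
  have hH : H = Subgroup.normalizer (A : Set PS) := by
    refine hM.of_invariant (fun h => hw1 ?_) (fun h => ?_) fun m hm a ha => ?_
    · rw [← Subgroup.mem_bot, ← h, hA]; exact ⟨b, hb⟩
    · refine B0_ne_top (F := F) (eq_top_iff.2 fun y _ => W0_le_B0 ?_)
      have := (hA (g⁻¹ * y * g)).1 (h ▸ Subgroup.mem_top _)
      simpa [mul_assoc] using this
    · rw [hA]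
      have hmw := hM.conj_mem hm hw
      obtain ⟨b', hb'⟩ := key _ (hg _ hmw) (by rw [← map_pow, hwp, map_one])
      have hb0 : b' ≠ 0 := by
        rintro rfl
        rw [uu_zero, map_one, eq_comm, conj_eq_one_iff, MulEquiv.map_eq_one_iff] at hb'
        exact hw1 hb'
      refine commute_uu_eq hb0 ?_
      have hcw := W0_comm ((hA a).1 ha) ⟨b, hb⟩
      rw [show g * a * g⁻¹ * (g * w * g⁻¹) = g * (a * w) * g⁻¹ by group,
        show g * w * g⁻¹ * (g * a * g⁻¹) = g * (w * a) * g⁻¹ by group] at hcw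
      rw [hb', show g * conjAut m a * g⁻¹ * (g * conjAut m w * g⁻¹) = g * (conjAut m a * conjAut m w) * g⁻¹ by group,
        ← map_mul, mul_left_cancel (mul_right_cancel hcw), map_mul]
      group
  refine le_antisymm (fun x hx => ⟨g * x * g⁻¹, hg x hx, by simp [mul_assoc]⟩) ?_
  rw [hH]
  rintro _ ⟨y, hy, rfl⟩
  haveI : Finite (A : Set PS) := (Set.toFinite _).to_subtype
  refine Subgroup.mem_normalizer_fintype fun a ha => ?_
  rw [SetLike.mem_coe, hA] at ha ⊢
  have := conj_mem_W0 hy ha
  simpa [mul_assoc] using this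

/-- The intersection with `PSL(2, q)` after conjugation. -/
theorem map_conj_inf (hM : PGLMax M) (γ : PG) :
    Subgroup.map (conjEmb γ) H = M.map (MulAut.conj γ).toMonoidHom ⊓ R0 := by
  rw [map_conjEmb, hM.map_comap, Subgroup.map_inf_eq _ _ _ (MulAut.conj γ).injective]
  congr 1
  refine le_antisymm ?_ fun y hy => ⟨γ⁻¹ * y * γ, by simpa using conj_mem_R0 hy γ⁻¹, by simp [mul_assoc]⟩
  rintro _ ⟨y, hy, rfl⟩
  exact conj_mem_R0 hy γ

theorem conj_coatom (hM : PGLMax M) (γ : PG) : IsCoatom (M.map (MulAut.conj γ).toMonoidHom) :=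
  ((MulAut.conj γ).mapSubgroup.isCoatom_iff M).2 hM.coatom

/-- Subfield type. -/
theorem kform (hM : PGLMax M) {K : Type} [Field K] [Fintype K] (φ : K →+* F) {m : ℕ}
    (hm : Fintype.card K ^ m = q) {γ : PG} (h : M.map (MulAut.conj γ).toMonoidHom = pg φ) :
    m.Prime ∧ Odd m ∧ Nonempty (M ≃* Matrix.ProjGenLinGroup (Fin 2) K) ∧
      Subgroup.map (conjEmb γ) H = kg φ := by
  classical
  haveI : Finite PG := Finite.of_surjective _ Matrix.ProjGenLinGroup.mk_surjective
  haveI : Finite PS := Finite.of_surjective _ π_surjective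
  have hk : 2 ≤ Fintype.card K := Fintype.one_lt_card
  have hm0 : m ≠ 0 := fun e => by
    rw [e, pow_zero] at hm
    have := hM.big
    omega
  have hinf := hM.map_conj_inf γ
  have hch : ringChar F ≠ 2 := fun h' => by
    have := FiniteField.even_card_of_char_two (F := F) h'
    obtain ⟨j, hj⟩ := hM.odd
    omega
  have hodd : Odd m := by
    by_contra hev
    rw [Nat.not_odd_iff_even] at hev
    rw [h, inf_eq_left.2 (pg_le_R0 (isSquare_of_even hm hev hch)), ← h] at hinf
    have := congrArg (fun S : Subgroup PG => Nat.card S) hinf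
    rw [card_map_conjEmb, Subgroup.card_map_of_injective (f := (MulAut.conj γ).toMonoidHom)
      (MulAut.conj γ).injective, hM.card_eq] at this
    have : 0 < Nat.card H := Nat.card_pos
    omega
  rw [h, pg_inf_R0 fun c hc => isSquare_of_odd hm hodd hc] at hinf
  refine ⟨Nat.prime_def_lt.2 ⟨?_, fun a ha had => ?_⟩, hodd,
    ⟨((M.equivMapOfInjective _ (MulAut.conj γ).injective).trans (MulEquiv.subgroupCongr h)).trans
      (MonoidHom.ofInjective (pglMap_injective φ)).symm⟩, hinf⟩
  · by_contra hlt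
    have hm1 : m = 1 := by omega
    rw [hm1, pow_one] at hm
    refine (hM.conj_coatom γ).1 (Subgroup.eq_top_of_card_eq _ ?_)
    rw [h, card_pg, card_pgl, card_pgl, hm]
  · by_contra ha1
    obtain ⟨L, χ, hL, hφ⟩ := exists_between (φ := φ) hm had
    haveI : Fintype L := Fintype.ofFinite L
    rw [Nat.card_eq_fintype_card] at hL
    obtain ⟨b, hb⟩ := had
    have ha2 : 2 ≤ a := by
      have : a ≠ 0 := fun e => hm0 (by rw [hb, e, zero_mul])
      omega
    have hb2 : 2 ≤ b := by
      rcases b with _ | _ | b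
      · simp at hb; omega
      · simp at hb; omega
      · omega
    have h1 := pgl_lt_psl (K := K) (L := L) (hL ▸ sq_le_pow (by omega) ha2)
    have h2 := psl_le_pgl (L := L)
    rcases (h.le.trans (pg_mono hφ)).eq_or_lt with e | e
    · have := congrArg (fun S : Subgroup PG => Nat.card S) (h.symm.trans e)
      rw [card_pg, card_pg] at this
      omega
    · have := congrArg (fun S : Subgroup PG => Nat.card S) ((hM.conj_coatom γ).2 _ e)
      rw [card_pg, Subgroup.card_top] at this
      have hq : Fintype.card L ^ b = q := by rw [hL, ← pow_mul, ← hb, hm]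
      have h3 := pgl_lt_psl (K := L) (L := F) (hq ▸ sq_le_pow Fintype.card_pos hb2)
      have h4 := psl_le_pgl (L := F)
      omega

/-- The four types. -/
theorem cases (hM : PGLMax M) :
    (∃ r : G, tr r ^ 2 ≠ 4 ∧ 3 ≤ Nat.card (torus r) ∧
      Nonempty (M ≃* DihedralGroup (2 * Nat.card (torus r))) ∧ H = NT r) ∨
    (Nat.card M = q * (q - 1) ∧ ∃ g : PS, H = (B0 : Subgroup PS).map (MulAut.conj g⁻¹).toMonoidHom) ∨
    (Nat.Prime q ∧ (q % 8 = 3 ∨ q % 8 = 5) ∧ Nonempty (M ≃* Equiv.Perm (Fin 4)) ∧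
      Nonempty (H ≃* alternatingGroup (Fin 4))) ∨
    (∃ (K : Type) (_ : Field K) (_ : Fintype K) (φ : K →+* F) (r : ℕ) (γ : PG), r.Prime ∧ Odd r ∧
      Fintype.card K ^ r = q ∧ 3 ≤ Fintype.card K ∧ Nonempty (M ≃* Matrix.ProjGenLinGroup (Fin 2) K) ∧
      Subgroup.map (conjEmb γ) H = kg φ) := by
  classical
  haveI : Finite PS := Finite.of_surjective _ π_surjective
  haveI : Finite PG := Finite.of_surjective _ Matrix.ProjGenLinGroup.mk_surjective
  obtain ⟨n, hp, hn⟩ := FiniteField.card F (ringChar F)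
  haveI : Fact (ringChar F).Prime := ⟨hp⟩
  set p := ringChar F with hpdef
  obtain ⟨j, hj⟩ := id hM.odd
  have h2 := two_ne_zero' hM.odd
  have hp2 : p ≠ 2 := fun h => by
    have := FiniteField.even_card_of_char_two (F := F) h
    omega
  have hd : Nat.gcd 2 (q - 1) = 2 := Nat.gcd_eq_left ⟨j, by omega⟩
  have four : Nonempty (H ≃* alternatingGroup (Fin 4)) ∨ Nonempty (H ≃* Equiv.Perm (Fin 4)) →
      (Nat.Prime q ∧ (q % 8 = 3 ∨ q % 8 = 5) ∧ Nonempty (M ≃* Equiv.Perm (Fin 4)) ∧
        Nonempty (H ≃* alternatingGroup (Fin 4))) ∨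
      (∃ (K : Type) (_ : Field K) (_ : Fintype K) (φ : K →+* F) (r : ℕ) (γ : PG), r.Prime ∧ Odd r ∧
        Fintype.card K ^ r = q ∧ 3 ≤ Fintype.card K ∧ Nonempty (M ≃* Matrix.ProjGenLinGroup (Fin 2) K) ∧
        Subgroup.map (conjEmb γ) H = kg φ) := by
    intro he
    obtain ⟨u, huH, v, hvH, hu, hv, hu1, hv1, huv, hc, ⟨a1, ha1, b1, hb1, hcu⟩, ⟨a2, ha2, b2, hb2, hcv⟩,
      hall⟩ := four_char he
    obtain ⟨a, b, hab⟩ := exists_sum_sq (F := F) p
    obtain ⟨γ, hgu, hgv⟩ := exists_gamma h2 hab hu hv hu1 hv1 huv hc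
    have hinv : ∀ m ∈ M, conjAut m u ∈ four u v ∧ conjAut m v ∈ four u v := by
      intro m hm
      constructor
      · have h := hall _ (hM.conj_mem hm ha1) _ (hM.conj_mem hm hb1)
        rw [← map_inv, ← map_inv, ← map_mul, ← map_mul, ← map_mul, ← hcu, ← map_mul, hu, map_one] at h
        exact h rfl fun e => hu1 ((MulEquiv.map_eq_one_iff _).1 e)
      · have h := hall _ (hM.conj_mem hm ha2) _ (hM.conj_mem hm hb2)
        rw [← map_inv, ← map_inv, ← map_mul, ← map_mul, ← map_mul, ← hcv, ← map_mul, hv, map_one] at h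
        exact h rfl fun e => hv1 ((MulEquiv.map_eq_one_iff _).1 e)
    set V := Subgroup.closure ({u, v} : Set PS)
    have hV : IsKleinFour V :=
      isKleinFour_closure h2 (orderOf_two_iff.2 ⟨hu, hu1⟩) (orderOf_two_iff.2 ⟨hv, hv1⟩) (Ne.symm huv) hc
    have h4V : ∀ w ∈ four u v, w ∈ V := by
      rintro w (rfl | rfl | rfl)
      · exact Subgroup.subset_closure (by simp)
      · exact Subgroup.subset_closure (by simp)
      · exact mul_mem (Subgroup.subset_closure (by simp)) (Subgroup.subset_closure (by simp))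
    have hHN : H = Subgroup.normalizer (V : Set PS) := by
      refine hM.of_invariant (fun h => hu1 ?_) (fun h => ?_) fun m hm x hx => ?_
      · rw [← Subgroup.mem_bot, ← h]; exact Subgroup.subset_closure (by simp)
      · have h4 := hV.card_four
        rw [h, Subgroup.card_top] at h4
        have := (sixty_le_card_psl (L := F) (by have := hM.big; omega)).1
        omega
      · have hmap : V.map (conjAut m).toMonoidHom ≤ V := by
          rw [MonoidHom.map_closure, Subgroup.closure_le]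
          rintro _ ⟨z, hz, rfl⟩
          rcases hz with rfl | rfl
          · exact h4V _ (hinv m hm).1
          · exact h4V _ (hinv m hm).2
        exact hmap ⟨x, hx, rfl⟩
    have hX : M.map (MulAut.conj γ).toMonoidHom ≤ Subgroup.normalizer (fourPG hab) := by
      rintro _ ⟨m, hm, rfl⟩
      haveI : Finite (fourPG hab) := (Set.toFinite _).to_subtype
      refine Subgroup.mem_normalizer_fintype fun y hy => ?_
      have himg : conjEmb γ '' four u v = fourPG hab := by
        rw [four, fourPG, four, Set.image_insert_eq, Set.image_insert_eq, Set.image_singleton, map_mul, hgu, hgv]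
      rw [← himg] at hy ⊢
      obtain ⟨w, hw, rfl⟩ := hy
      refine ⟨conjAut m w, ?_, ?_⟩
      · rcases hw with rfl | rfl | rfl
        · exact (hinv m hm).1
        · exact (hinv m hm).2
        · rw [map_mul]
          obtain ⟨hmu, hmv⟩ := hinv m hm
          have hne : conjAut m u ≠ conjAut m v := fun e => huv ((conjAut m).injective e)
          have h3 : v * (u * v) = u := by rw [hc, ← mul_assoc, hv, one_mul]
          have h5 : u * (u * v) = v := by rw [← mul_assoc, hu, one_mul]
          have h6 : u * v * u = v := by rw [hc, mul_assoc, hu, mul_one]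
          have h7 : u * v * v = u := by rw [mul_assoc, hv, mul_one]
          rcases hmu with e | e | e <;> rcases hmv with e' | e' | e' <;>
            first
              | exact absurd (e.trans e'.symm) hne
              | (rw [e, e']; simp [h3, h5, h6, h7, ← hc])
      · show γ * Matrix.ProjectiveSpecialLinearGroup.toPGL (conjAut m w) * γ⁻¹ = _
        rw [toPGL_conjAut]
        show γ * (m * _ * m⁻¹) * γ⁻¹ = (γ * m * γ⁻¹) * (γ * _ * γ⁻¹) * (γ * m * γ⁻¹)⁻¹
        group
    obtain ⟨hle24, hiso⟩ := four_normalizer_card (p := p) hM.odd hab hX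
    have hMc : Nat.card (M.map (MulAut.conj γ).toMonoidHom) = 2 * Nat.card H := by
      rw [Subgroup.card_map_of_injective (f := (MulAut.conj γ).toMonoidHom) (MulAut.conj γ).injective, hM.card_eq]
    have hA : Nonempty (H ≃* alternatingGroup (Fin 4)) := he.resolve_right fun ⟨e⟩ => by
      rw [Nat.card_congr e.toEquiv, card_perm_four] at hMc
      omega
    have hH12 : Nat.card H = 12 := by
      obtain ⟨e⟩ := hA
      rw [Nat.card_congr e.toEquiv, card_alt_four]
    have h8 : q % 8 = 3 ∨ q % 8 = 5 := by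
      by_contra h8
      have h24 := normalizer_klein_eq hM.odd (by omega) hV
      rw [← hHN, hH12] at h24
      omega
    obtain ⟨eM⟩ := hiso (by rw [hMc, hH12])
    set φ0 := ZMod.castHom (dvd_refl p) F
    have hm0 : Fintype.card (ZMod p) ^ (n : ℕ) = q := by rw [ZMod.card, hn]
    rcases (hX.trans (normalizer_four_le_pg h2 hab φ0)).eq_or_lt with h | h
    · obtain ⟨hr, hro, he', hH⟩ := hM.kform φ0 hm0 h
      refine Or.inr ⟨ZMod p, inferInstance, inferInstance, φ0, n, γ, hr, hro, hm0, ?_, he', hH⟩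
      rw [ZMod.card]
      have := hp.two_le
      omega
    · left
      refine ⟨?_, h8, ⟨(M.equivMapOfInjective _ (MulAut.conj γ).injective).trans eM⟩, hA⟩
      have htop := congrArg (fun S : Subgroup PG => Nat.card S) ((hM.conj_coatom γ).2 _ h)
      rw [card_pg, Subgroup.card_top] at htop
      rcases (show (n : ℕ) = 1 ∨ 2 ≤ (n : ℕ) by have := n.pos; omega) with h1 | h2'
      · rw [hn, h1, pow_one]; exact hp
      · exfalso
        have h3 := pgl_lt_psl (K := ZMod p) (L := F) (by rw [← hm0]; exact sq_le_pow Fintype.card_pos h2')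
        have h4 := psl_le_pgl (L := F)
        omega
  rcases dickson p H with ⟨r, ht, hle, -⟩ | ⟨r, ht, hle, k, hk, -, ⟨e⟩⟩ | ⟨g, hg⟩ | ⟨-, he⟩ | ⟨-, he⟩ |
    ⟨-, hp5, ⟨e⟩⟩ | ⟨K, γ, hK, hcase⟩
  · exact absurd hle (hM.not_le_torus ht)
  · exact Or.inl ⟨r, ht, hM.dihedral_case ht hk hle e⟩
  · refine Or.inr (Or.inl ⟨?_, g, hM.borel_case hg⟩)
    have hB := card_B0 (F := F)
    rw [hd] at hB
    rw [hM.card_eq, hM.borel_case hg, Subgroup.card_map_of_injective (f := (MulAut.conj g⁻¹).toMonoidHom)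
      (MulAut.conj g⁻¹).injective, hB]
  · exact Or.inr (Or.inr (four (Or.inl he)))
  · exact Or.inr (Or.inr (four (Or.inr he)))
  · exfalso
    have hH60 : Nat.card H = 60 := by rw [Nat.card_congr e.toEquiv, card_alt_five]
    haveI : Fintype (GaloisField p (2 * n)) := Fintype.ofFinite _
    have hE : q ^ 2 = Fintype.card (GaloisField p (2 * n)) := by
      rw [← Nat.card_eq_fintype_card (α := GaloisField p (2 * n)),
        GaloisField.card p _ (by have := n.pos; omega), hn, ← pow_mul, mul_comm]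
    obtain ⟨φ⟩ := exists_embedding (F := GaloisField p (2 * n)) (K := F) hE two_ne_zero
    have hqE : Odd (Fintype.card (GaloisField p (2 * n))) := hE ▸ hM.odd.pow
    have hch : ringChar (GaloisField p (2 * n)) ≠ 2 := fun h => by
      have := FiniteField.even_card_of_char_two (F := GaloisField p (2 * n)) h
      obtain ⟨i, hi⟩ := hqE
      omega
    set X : Subgroup (Matrix.ProjectiveSpecialLinearGroup (Fin 2) (GaloisField p (2 * n))) :=
      (M.map (Matrix.ProjGenLinGroup.map φ)).comap (conjEmb 1)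
    have hXmap : X.map (conjEmb 1) = M.map (Matrix.ProjGenLinGroup.map φ) := by
      rw [Subgroup.map_comap_eq, range_conjEmb, inf_eq_right]
      exact (Subgroup.map_le_range _ _).trans (pg_le_R0 (isSquare_of_even hE even_two hch))
    let eX : X ≃* M := ((X.equivMapOfInjective _ (conjEmb_injective 1)).trans
      (MulEquiv.subgroupCongr hXmap)).trans (M.equivMapOfInjective _ (pglMap_injective φ)).symm
    have hXc : Nat.card X = 120 := by rw [Nat.card_congr eX.toEquiv, hM.card_eq, hH60]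
    have hns : ¬ Group.IsSolvable X := fun hs => by
      haveI := hs
      let f : alternatingGroup (Fin 5) →* M :=
        (Matrix.ProjectiveSpecialLinearGroup.toPGL.comp ((H).subtype.comp e.symm.toMonoidHom)).codRestrict M
          fun a => (e.symm a).2
      have hf : Function.Injective f := fun a b hab => e.symm.injective
        (Subtype.ext (Matrix.ProjectiveSpecialLinearGroup.toPGL_injective (congrArg Subtype.val hab)))
      exact not_solvable_alt_five (Group.isSolvable_of_isSolvable_injective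
        (f := eX.symm.toMonoidHom.comp f) (eX.symm.injective.comp hf))
    haveI : CharP (GaloisField p (2 * n)) p := inferInstance
    rcases isSolvable_of_proper p X with hs | ⟨-, -, ⟨e'⟩⟩ | ⟨K, hK, hc⟩
    · exact hns hs
    · rw [Nat.card_congr e'.toEquiv, card_alt_five] at hXc
      omega
    · haveI : Fintype K := Fintype.ofFinite K
      haveI : CharP K p := K.subtype.charP K.subtype.injective p
      obtain ⟨i, -, hi⟩ := FiniteField.card K p
      rw [Nat.card_eq_fintype_card] at hK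
      have hP := card_psl (F := K)
      have hG := card_pgl (F := K)
      obtain ⟨c, hc'⟩ : Odd (Fintype.card K) := hi ▸ (hp.odd_of_ne_two hp2).pow
      rw [Nat.gcd_eq_left (show 2 ∣ Fintype.card K - 1 from ⟨c, by omega⟩)] at hP
      rcases Nat.lt_or_ge (Fintype.card K) 7 with hlt | hge
      · have hk5 : Fintype.card K = 5 := by omega
        rw [hk5] at hi
        exact hp5 ((Nat.prime_dvd_prime_iff_eq hp (by norm_num)).1 (hi ▸ dvd_pow_self p i.ne_zero))
      · have h7 : 7 * (6 * 8) ≤ Fintype.card K * ((Fintype.card K - 1) * (Fintype.card K + 1)) :=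
          Nat.mul_le_mul hge (Nat.mul_le_mul (by omega) (by omega))
        rcases hc with ⟨⟨e'⟩⟩ | ⟨⟨e'⟩⟩ <;> rw [Nat.card_congr e'.toEquiv] at hXc <;> omega
  · refine Or.inr (Or.inr (Or.inr ?_))
    obtain ⟨L, iF, iT, m, hm, hL, ⟨ε⟩⟩ := exists_model (p := p) K
    haveI : Finite (Matrix.ProjectiveSpecialLinearGroup (Fin 2) L) := Finite.of_surjective _ π_surjective
    set φ : L →+* F := K.subtype.comp ε.symm.toRingHom
    have hφ : K.subtype = φ.comp ε.toRingHom := by ext c; simp [φ]
    have hcase' : Subgroup.map (conjEmb γ) H = kg φ ∨ Subgroup.map (conjEmb γ) H = pg φ := by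
      rcases hcase with ⟨-, h⟩ | ⟨-, h⟩ <;> rw [← map_conjEmb] at h
      · exact Or.inl (h.trans (le_antisymm (kg_mono (φ := K.subtype) hφ) (kg_mono (ψ := K.subtype) rfl)))
      · exact Or.inr (h.trans (le_antisymm (pg_mono (φ := K.subtype) hφ) (pg_mono (ψ := K.subtype) rfl)))
    have hkle : kg φ ≤ Subgroup.map (conjEmb γ) H := by
      rcases hcase' with h | h <;> rw [h]
      exact kg_le_pg φ
    have hsq : ∀ y ∈ Subgroup.map (conjEmb γ) H, y * y ∈ kg φ := fun y hy => by
      rcases hcase' with h | h <;> rw [h] at hy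
      · exact mul_mem hy hy
      · exact sq_mem_kg hy
    have h2L : (2 : L) ≠ 0 := fun e => h2 (by rw [← map_ofNat φ 2, e, map_zero])
    have hMle : M.map (MulAut.conj γ).toMonoidHom ≤ pg φ := by
      intro x hx
      have hmov : ∀ y ∈ kg φ, x * (y * y) * x⁻¹ ∈ kg φ := by
        intro y hy
        rw [show x * (y * y) * x⁻¹ = (x * y * x⁻¹) * (x * y * x⁻¹) by group]
        refine hsq _ ?_
        rw [hM.map_conj_inf]
        have hy' := hkle hy
        rw [hM.map_conj_inf] at hy'
        rw [Subgroup.mem_inf] at hy' ⊢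
        exact ⟨mul_mem (mul_mem hx hy'.1) (inv_mem hx), conj_mem_R0 hy'.2 x⟩
      refine mem_pg_of_conj_unip φ (fun c => ?_) fun c => ?_
      · have e : Matrix.ProjectiveSpecialLinearGroup.toPGL (π (uu (φ c))) =
            Matrix.ProjectiveSpecialLinearGroup.toPGL (π (uu (φ (c / 2)))) *
              Matrix.ProjectiveSpecialLinearGroup.toPGL (π (uu (φ (c / 2)))) := by
          rw [← map_mul, ← map_mul, uu_mul, ← map_add, show c / 2 + c / 2 = c by field_simp; ring]
        rw [e]
        refine hmov _ ⟨π (uu (c / 2)), ?_⟩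
        show Matrix.ProjGenLinGroup.map φ (Matrix.ProjGenLinGroup.mk _) = Matrix.ProjGenLinGroup.mk _
        rw [Matrix.ProjGenLinGroup.map_mk]
        exact congrArg _ (Units.ext (by
          show ((uu (c / 2) : Matrix.SpecialLinearGroup (Fin 2) L) : Matrix (Fin 2) (Fin 2) L).map φ = ((uu (φ (c / 2)) : G) : M2)
          apply mext <;> simp [uu]))
      · set h' : G := ⟨!![1, 0; φ (c / 2), 1], by simp [Matrix.det_fin_two]⟩
        have e : (⟨!![1, 0; φ c, 1], by simp [Matrix.det_fin_two]⟩ : G) = h' * h' := by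
          apply Subtype.ext
          rw [Matrix.SpecialLinearGroup.coe_mul]
          apply mext <;> simp [h', Matrix.mul_apply, Fin.sum_univ_two]
          simp only [map_ofNat]
          field_simp
          ring
        rw [e, map_mul, map_mul]
        refine hmov _ ⟨π ⟨!![1, 0; c / 2, 1], by simp [Matrix.det_fin_two]⟩, ?_⟩
        show Matrix.ProjGenLinGroup.map φ (Matrix.ProjGenLinGroup.mk _) = Matrix.ProjGenLinGroup.mk _
        rw [Matrix.ProjGenLinGroup.map_mk]
        exact congrArg _ (Units.ext (by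
          show (!![1, 0; c / 2, 1] : Matrix (Fin 2) (Fin 2) L).map φ = (h' : M2)
          apply mext <;> simp [h']))
    have hHc : Nat.card (kg φ) ≤ Nat.card H :=
      card_map_conjEmb H γ ▸ Subgroup.card_le_of_le hkle
    have hMc : Nat.card (M.map (MulAut.conj γ).toMonoidHom) = 2 * Nat.card H := by
      rw [Subgroup.card_map_of_injective (f := (MulAut.conj γ).toMonoidHom) (MulAut.conj γ).injective, hM.card_eq]
    have heq : M.map (MulAut.conj γ).toMonoidHom = pg φ := by
      refine Subgroup.eq_of_le_of_card_ge hMle ?_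
      rw [hMc, card_pg, card_pgl_eq, ← card_kg φ]
      exact Nat.mul_le_mul (Nat.gcd_le_left _ two_pos) hHc
    obtain ⟨hr, hro, he', hH⟩ := hM.kform φ hm heq
    exact ⟨L, iF, iT, φ, m, γ, hr, hro, hm, by omega, he', hH⟩

end PGLMax

end Cfsg.Agent.SL2
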