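import Cfsg.Agent.Lib.SL2.Quaternion

/-!
# Sylow `2`-subgroups of `SL(2, q)`, `q` odd: centraliser and normaliser
-/

set_option autoImplicit false
set_option linter.unusedSectionVars false

namespace Cfsg.Agent.SL2

open Matrix

variable {F : Type*} [Field F] [Fintype F]

local notation "G" => Matrix.SpecialLinearGroup (Fin 2) F
local notation "q" => Fintype.card F

/-- Structure of a Sylow `2`-subgroup inside the normaliser of a torus. -/
theorem sylow_two_structure (hodd : Odd q) (S : Sylow 2 G) :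
    ∃ (g h : G) (a : ℕ), QPair g h ∧ g ∈ (S : Subgroup G) ∧ h ∈ (S : Subgroup G) ∧ h ∉ cent g ∧
      (S : Subgroup G) ≤ Subgroup.normalizer (cent g : Set G) ∧
      a = (Nat.card (cent g)).factorization 2 ∧ 2 ≤ a ∧
      Nat.card (S : Subgroup G) = 2 ^ (a + 1) ∧
      ∀ x ∈ cent g, x ∈ (S : Subgroup G) ↔ x ^ (2 ^ a) = 1 := by
  have h2 := two_ne_zero' hodd
  obtain ⟨g, hg, hle⟩ := exists_sylow_two_torus hodd S
  have ht := tr_sq_of_tr_zero h2 (tr_zero_of_sq h2 hg)
  have hgs := scal_of_tr_sq_ne ht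
  set n := Nat.card (cent g) with hn
  set a := n.factorization 2 with ha
  have hn4 : 4 ∣ n := by
    rcases cent_sq_neg_one hodd hg with ⟨e, h4⟩ | ⟨e, h4⟩ <;> rw [hn, e] <;> omega
  have ha2 : 2 ≤ a := by
    rw [ha]
    exact (Nat.Prime.pow_dvd_iff_le_factorization Nat.prime_two Nat.card_pos.ne').1 hn4
  have hcard : Nat.card (S : Subgroup G) = 2 ^ (a + 1) := by
    rw [S.card_eq_multiplicity]
    congr 1
    have hm := (Subgroup.normalizer (cent g : Set G)).card_mul_index
    rw [card_normalizer_cent ht, ← hn] at hm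
    have hi : ¬ 2 ∣ (Subgroup.normalizer (cent g : Set G)).index := by
      intro h2i
      have hSi : (Subgroup.normalizer (cent g : Set G)).index ∣ (S : Subgroup G).index :=
        Subgroup.index_dvd_of_le hle
      exact S.not_dvd_index (h2i.trans hSi)
    rw [← hm, Nat.factorization_mul (Nat.mul_ne_zero two_ne_zero Nat.card_pos.ne')
      Subgroup.index_ne_zero_of_finite, Nat.factorization_mul two_ne_zero Nat.card_pos.ne']
    simp [Nat.factorization_eq_zero_of_not_dvd hi, Nat.prime_two.factorization_self, ← hn, ← ha, add_comm]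
  let A2 : Subgroup G :=
  { carrier := {x | x ∈ cent g ∧ x ^ (2 ^ a) = 1}
    one_mem' := ⟨one_mem _, one_pow _⟩
    mul_mem' := fun {x y} hx hy => ⟨mul_mem hx.1 hy.1, by
      rw [(show Commute x y from cent_comm hgs hx.1 hy.1).mul_pow, hx.2, hy.2, one_mul]⟩
    inv_mem' := fun {x} hx => ⟨inv_mem hx.1, by rw [inv_pow, hx.2, inv_one]⟩ }
  have hA2p : IsPGroup 2 A2 := fun x => ⟨a, Subtype.ext (by simpa using x.2.2)⟩
  have hA2N : (S : Subgroup G) ≤ Subgroup.normalizer (A2 : Set G) :=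
    hle.trans (le_normalizer_of_le_cent ht fun x hx => hx.1)
  have hsup : (S : Subgroup G) ⊔ A2 = S :=
    S.is_maximal' (IsPGroup.to_sup_of_normal_right' S.isPGroup' hA2p hA2N) le_sup_left
  have hA2S : A2 ≤ (S : Subgroup G) := hsup ▸ le_sup_right
  have hmem : ∀ x ∈ cent g, x ∈ (S : Subgroup G) ↔ x ^ (2 ^ a) = 1 := by
    refine fun x hx => ⟨fun hxS => ?_, fun hxa => hA2S ⟨hx, hxa⟩⟩
    obtain ⟨k, hk⟩ := S.isPGroup' ⟨x, hxS⟩
    have hk' : x ^ 2 ^ k = 1 := by simpa using congrArg Subtype.val hk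
    obtain ⟨j, -, hj⟩ := (Nat.dvd_prime_pow Nat.prime_two).1 (orderOf_dvd_of_pow_eq_one hk')
    refine orderOf_dvd_iff_pow_eq_one.1 ?_
    have hd : orderOf x ∣ n := hn ▸ Subgroup.orderOf_dvd_natCard _ hx
    rw [hj] at hd ⊢
    exact Nat.pow_dvd_pow 2 ((Nat.Prime.pow_dvd_iff_le_factorization Nat.prime_two Nat.card_pos.ne').1 hd)
  have hgS : g ∈ (S : Subgroup G) := (hmem g (self_mem_cent g)).2 (by
    rw [show 2 ^ a = 4 * 2 ^ (a - 2) by
      rw [show (4 : ℕ) = 2 ^ 2 from rfl, ← pow_add]; congr 1; omega, pow_mul,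
      show g ^ 4 = 1 by rw [show 4 = 2 * 2 from rfl, pow_mul, pow_two, pow_two, hg]; simp, one_pow])
  obtain ⟨h, hhS, hh⟩ : ∃ h ∈ (S : Subgroup G), h ∉ cent g := by
    by_contra hcon
    push Not at hcon
    classical
    have hcy := isCyclic_cent ht
    let : CommGroup (cent g) := IsCyclic.commGroup
    have hle2 : Nat.card (S : Subgroup G) ≤ 2 ^ a := by
      have hker : Nat.card (powMonoidHom (2 ^ a) : cent g →* cent g).ker ≤ 2 ^ a := by
        rw [IsCyclic.card_powMonoidHom_ker]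
        exact Nat.gcd_le_right _ (Nat.pow_pos two_pos)
      refine le_trans ?_ hker
      refine Nat.card_le_card_of_injective
        (fun x : (S : Subgroup G) => (⟨⟨x.1, hcon x.1 x.2⟩, by
          rw [MonoidHom.mem_ker]
          exact Subtype.ext (by simpa using (hmem x.1 (hcon x.1 x.2)).1 x.2)⟩ :
            (powMonoidHom (2 ^ a) : cent g →* cent g).ker)) ?_
      intro x y hxy
      exact Subtype.ext (congrArg (fun z : (powMonoidHom (2 ^ a) : cent g →* cent g).ker => (z.1 : G)) hxy)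
    rw [hcard, pow_succ] at hle2
    have := Nat.pow_pos (n := a) two_pos
    omega
  obtain ⟨hinv, hsq⟩ := sq_of_mem_normalizer ht (hle hhS) hh
  refine ⟨g, h, a, ⟨hg, hsq, ?_⟩, hgS, hhS, hh, hle, rfl, ha2, hcard, hmem⟩
  rw [inv_of_sq hg, mul_inv_eq_iff_eq_mul, neg_mul] at hinv
  exact hinv

theorem centralizer_sylow_two (hodd : Odd q) (S : Sylow 2 G) :
    Subgroup.centralizer ((S : Subgroup G) : Set G) = Subgroup.center G := by
  have h2 := two_ne_zero' hodd
  obtain ⟨g, h, a, hp, hgS, hhS, hh, -⟩ := sylow_two_structure hodd S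
  refine le_antisymm (fun x hx => ?_) fun x hx => Subgroup.mem_centralizer_iff.2 fun y _ =>
    Subgroup.mem_center_iff.1 hx y
  rw [← scal_iff_mem_center, scal_iff]
  exact QPair.eq_scal_of_commute h2 hp
    (mul_inv_eq_iff_eq_mul.2 (Subgroup.mem_centralizer_iff.1 hx g hgS).symm)
    (mul_inv_eq_iff_eq_mul.2 (Subgroup.mem_centralizer_iff.1 hx h hhS).symm)

theorem normalizer_sylow_two (hodd : Odd q) (S : Sylow 2 G) :
    ((q % 8 = 1 ∨ q % 8 = 7) → Subgroup.normalizer ((S : Subgroup G) : Set G) = (S : Subgroup G)) ∧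
    ((q % 8 = 3 ∨ q % 8 = 5) →
      Nat.card (Subgroup.normalizer ((S : Subgroup G) : Set G)) = 3 * Nat.card S) := by
  classical
  have h2 := two_ne_zero' hodd
  obtain ⟨g, h, a, hp, hgS, hhS, hh, hle, ha, ha2, hcard, hmem⟩ := sylow_two_structure hodd S
  have ht := tr_sq_of_tr_zero h2 (tr_zero_of_sq h2 hp.isq)
  have hgs := scal_of_tr_sq_ne ht
  have hn := cent_sq_neg_one hodd hp.isq
  constructor
  · intro hmod
    have ha3 : 3 ≤ a := by
      rw [ha]
      refine (Nat.Prime.pow_dvd_iff_le_factorization Nat.prime_two Nat.card_pos.ne').1 ?_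
      rcases hn with ⟨e, h4⟩ | ⟨e, h4⟩ <;> rw [e] <;> omega
    refine le_antisymm (fun x hx => ?_) Subgroup.le_normalizer
    rw [Subgroup.mem_normalizer_iff] at hx
    have := isCyclic_cent ht
    obtain ⟨c, hc⟩ := IsCyclic.exists_ofOrder_eq_natCard (α := cent g)
    have hn0 : Nat.card (cent g) ≠ 0 := Nat.card_pos.ne'
    set d : G := (c : G) ^ (Nat.card (cent g) / 2 ^ a) with hd
    have hdvd : 2 ^ a ∣ Nat.card (cent g) := ha ▸ Nat.ordProj_dvd _ _
    have hdord : orderOf d = 2 ^ a := by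
      rw [hd, orderOf_pow_of_dvd (Nat.div_pos (Nat.le_of_dvd Nat.card_pos hdvd) (Nat.pow_pos two_pos)).ne'
        (by rw [Subgroup.orderOf_coe, hc]; exact Nat.div_dvd_of_dvd hdvd), Subgroup.orderOf_coe, hc,
        Nat.div_div_self hdvd hn0]
    have hdc : d ∈ cent g := pow_mem c.2 _
    have hdS : d ∈ (S : Subgroup G) := (hmem d hdc).2 (hdord ▸ pow_orderOf_eq_one d)
    have h8 : 8 ≤ 2 ^ a := by
      calc 8 = 2 ^ 3 := rfl
        _ ≤ 2 ^ a := Nat.pow_le_pow_right two_pos ha3
    have hds : ¬ Scal d := fun hs => by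
      have : d ^ 2 = 1 := by rcases (scal_iff d).1 hs with e | e <;> rw [e, pow_two] <;> simp
      have := Nat.le_of_dvd two_pos (orderOf_dvd_of_pow_eq_one this)
      omega
    have hxd : x * d * x⁻¹ ∈ cent g := by
      by_contra hne
      obtain ⟨-, hsq⟩ := sq_of_mem_normalizer ht (hle ((hx d).1 hdS)) hne
      have h4 : (x * d * x⁻¹) ^ 4 = 1 := by
        rw [show 4 = 2 * 2 from rfl, pow_mul, pow_two, pow_two, hsq]; simp
      have ho : orderOf (x * d * x⁻¹) = 2 ^ a :=
        hdord ▸ orderOf_injective (MulAut.conj x).toMonoidHom (MulAut.conj x).injective d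
      have := Nat.le_of_dvd (by norm_num) (orderOf_dvd_of_pow_eq_one h4)
      omega
    have hxN : x ∈ Subgroup.normalizer (cent g : Set G) := by
      rw [Subgroup.mem_normalizer_iff]
      intro y
      have e1 := cent_eq hgs hdc hds
      have e2 := cent_eq hgs hxd (not_scal_conj hds x)
      conv_rhs => rw [← e2, cent_conj, show x⁻¹ * (x * y * x⁻¹) * x = y by group, e1]
    have key : ∀ z ∈ cent g, z * h * z⁻¹ ∈ (S : Subgroup G) → z ∈ (S : Subgroup G) := by
      intro z hz hzS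
      have e : z * z = z * h * z⁻¹ * h⁻¹ := by
        rcases normalizer_act ht (hle hhS) with ⟨hc', -⟩ | ⟨-, hh'⟩
        · exact absurd hc' hh
        · rw [show z * h * z⁻¹ * h⁻¹ = z * (h * z⁻¹ * h⁻¹) by group, hh' z⁻¹ (inv_mem hz), inv_inv]
      have hzz : (z * z) ^ 2 ^ a = 1 :=
        (hmem _ (mul_mem hz hz)).1 (e ▸ mul_mem hzS (inv_mem hhS))
      refine (hmem z hz).2 ?_
      rw [← pow_two, ← pow_mul] at hzz
      have h1 := orderOf_dvd_of_pow_eq_one hzz
      have h3 : orderOf z ∣ Nat.card (cent g) := Subgroup.orderOf_dvd_natCard _ hz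
      rw [mul_comm, ← pow_succ] at h1
      obtain ⟨j, -, hj⟩ := (Nat.dvd_prime_pow Nat.prime_two).1 h1
      refine orderOf_dvd_iff_pow_eq_one.1 ?_
      rw [hj] at h3 ⊢
      exact Nat.pow_dvd_pow 2 (ha ▸ (Nat.Prime.pow_dvd_iff_le_factorization Nat.prime_two hn0).1 h3)
    by_cases hxc : x ∈ cent g
    · exact key x hxc ((hx h).1 hhS)
    · have hxh : x * h⁻¹ ∈ cent g := by
        obtain ⟨hinv, -⟩ := sq_of_mem_normalizer ht hxN hxc
        obtain ⟨hinvh, -⟩ := sq_of_mem_normalizer ht (hle hhS) hh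
        refine mem_cent.2 (mul_inv_eq_iff_eq_mul.1 ?_).symm
        have e : h⁻¹ * g * h = g⁻¹ := by
          have : g = h * g⁻¹ * h⁻¹ := by
            rw [show h * g⁻¹ * h⁻¹ = (h * g * h⁻¹)⁻¹ by group, hinvh, inv_inv]
          nth_rewrite 1 [this]; group
        rw [show x * h⁻¹ * g * (x * h⁻¹)⁻¹ = x * (h⁻¹ * g * h) * x⁻¹ by group, e,
          show x * g⁻¹ * x⁻¹ = (x * g * x⁻¹)⁻¹ by group, hinv, inv_inv]
      have hxhS : x * h⁻¹ * h * (x * h⁻¹)⁻¹ ∈ (S : Subgroup G) := by
        rw [show x * h⁻¹ * h * (x * h⁻¹)⁻¹ = x * h * x⁻¹ by group]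
        exact (hx h).1 hhS
      have := mul_mem (key _ hxh hxhS) hhS
      rwa [inv_mul_cancel_right] at this
  · intro hmod
    have ha' : a = 2 := by
      refine le_antisymm (not_lt.1 fun h3 => ?_) ha2
      rw [ha] at h3
      have h8 := (Nat.Prime.pow_dvd_iff_le_factorization Nat.prime_two Nat.card_pos.ne').2
        (show 3 ≤ (Nat.card (cent g)).factorization 2 from h3)
      rcases hn with ⟨e, h4⟩ | ⟨e, h4⟩ <;> rw [e] at h8 <;> omega
    have hQS : hp.Q = (S : Subgroup G) := by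
      refine Subgroup.eq_of_le_of_card_ge (fun x hx => ?_) (by rw [hcard, ha', hp.card_Q h2]; norm_num)
      obtain ⟨y, hy, hxy⟩ := hp.mem_Q_cases h2 hx
      have hneg : (-1 : G) ∈ (S : Subgroup G) := hp.isq ▸ mul_mem hgS hgS
      have hy' : y ∈ (S : Subgroup G) := by
        simp only [Set.mem_insert_iff, Set.mem_singleton_iff] at hy
        rcases hy with rfl | rfl | rfl | rfl
        exacts [one_mem _, hgS, hhS, mul_mem hgS hhS]
      rcases hxy with rfl | rfl
      · exact hy'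
      · rw [← neg_one_mul]; exact mul_mem hneg hy'
    rw [← hQS, hp.card_Q h2]
    rcases hp.card_normalizer_cases h2 with e | e
    · exact e
    · exfalso
      have hd : 2 ^ 4 ∣ Nat.card G := (show 2 ^ 4 ∣ 48 by norm_num).trans
        (e ▸ Subgroup.card_subgroup_dvd_card _)
      have := Nat.le_of_dvd Nat.card_pos (S.pow_dvd_card_of_pow_dvd_card hd)
      rw [hcard, ha'] at this
      norm_num at this

end Cfsg.Agent.SL2
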