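import Cfsg.Agent.Lib.SL2.Elements

/-!
# Tori of `SL(2, q)` and their normalisers
-/

set_option autoImplicit false
set_option linter.unusedSectionVars false

namespace Cfsg.Agent.SL2

open Matrix

variable {F : Type*} [Field F]

local notation "G" => Matrix.SpecialLinearGroup (Fin 2) F
local notation "M2" => Matrix (Fin 2) (Fin 2) F

/-- Number of classes of a group with a cyclic subgroup of index `2` inverted outside. -/
theorem card_conjClasses_invert {N : Type*} [Group N] [Finite N] (C : Subgroup N) [IsCyclic C]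
    {m : ℕ} (hC : Nat.card C = 2 * m) (hN : Nat.card N = 2 * (2 * m))
    (hinv : ∀ x ∉ C, ∀ c ∈ C, x * c * x⁻¹ = c⁻¹) :
    Nat.card (ConjClasses N) = m + 3 := by
  classical
  have := Fintype.ofFinite N
  let : CommGroup C := IsCyclic.commGroup
  have hm : 0 < m := by
    have := Nat.card_pos (α := C)
    omega
  have hidx : C.index = 2 := by
    have := C.card_mul_index
    rw [hC, hN, mul_comm 2 (2 * m)] at this
    exact Nat.eq_of_mul_eq_mul_left (by omega) this
  have hsq : Nat.card {c : C // c ^ 2 = 1} = 2 := by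
    have : Nat.card (powMonoidHom 2 : C →* C).ker = 2 := by
      rw [IsCyclic.card_powMonoidHom_ker, hC, Nat.gcd_comm, Nat.gcd_mul_right_right]
    exact (Nat.card_congr (Equiv.subtypeEquivRight fun c => by simp [MonoidHom.mem_ker])).trans this
  have comm : ∀ a ∈ C, ∀ b ∈ C, Commute a b := fun a ha b hb =>
    congrArg Subtype.val (mul_comm (⟨a, ha⟩ : C) ⟨b, hb⟩)
  have hcent : ∀ x : N, Nat.card {y : N // Commute x y} =
      if x ∈ C then (if x ^ 2 = 1 then 2 * (2 * m) else 2 * m) else 4 := by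
    intro x
    by_cases hx : x ∈ C
    · by_cases h2 : x ^ 2 = 1
      · rw [if_pos hx, if_pos h2, ← hN]
        refine Nat.card_congr (Equiv.subtypeUnivEquiv fun y => ?_)
        by_cases hy : y ∈ C
        · exact comm x hx y hy
        · have h := hinv y hy x hx
          rw [inv_eq_of_mul_eq_one_right (show x * x = 1 by rw [← pow_two, h2])] at h
          exact (mul_inv_eq_iff_eq_mul.1 h).symm
      · rw [if_pos hx, if_neg h2, ← hC]
        refine Nat.card_congr (Equiv.subtypeEquivRight fun y => ⟨fun hc => ?_, comm x hx y⟩)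
        by_contra hy
        have h := hinv y hy x hx
        rw [mul_inv_eq_iff_eq_mul.2 hc.symm.eq] at h
        exact h2 (by rw [pow_two]; nth_rewrite 1 [h]; exact inv_mul_cancel x)
    · rw [if_neg hx]
      let f : {c : C // c ^ 2 = 1} × Bool → {y : N // Commute x y} := fun w =>
        ⟨if w.2 then (w.1.1 : N) * x else w.1.1, by
          have hc : Commute x (w.1.1 : N) := by
            have h := hinv x hx _ w.1.1.2
            rw [inv_eq_of_mul_eq_one_right (show ((w.1.1 : C) : N) * w.1.1 = 1 by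
              rw [← Subgroup.coe_mul, ← pow_two, w.1.2, Subgroup.coe_one])] at h
            exact mul_inv_eq_iff_eq_mul.1 h
          cases w.2
          · simpa using hc
          · simpa using hc.mul_right (Commute.refl x)⟩
      have hf : Function.Bijective f := by
        constructor
        · rintro ⟨c, b⟩ ⟨c', b'⟩ h
          have h' := congrArg Subtype.val h
          have hb : b = b' := by
            cases b <;> cases b' <;> simp [f] at h' ⊢
            · exact hx ((C.mul_mem_cancel_left c'.1.2).1 (h' ▸ c.1.2))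
            · exact hx ((C.mul_mem_cancel_left c.1.2).1 (h'.symm ▸ c'.1.2))
          subst hb
          cases b <;> simp [f] at h' ⊢ <;> exact Subtype.ext h'
        · rintro ⟨y, hy⟩
          have key : ∀ c ∈ C, Commute x c → c ^ 2 = 1 := fun c hc hxc => by
            have h := hinv x hx c hc
            rw [mul_inv_eq_iff_eq_mul.2 hxc.eq] at h
            rw [pow_two]; nth_rewrite 1 [h]; exact inv_mul_cancel c
          by_cases hyC : y ∈ C
          · exact ⟨(⟨⟨y, hyC⟩, Subtype.ext (key y hyC hy)⟩, false), Subtype.ext (by simp [f])⟩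
          · have hc : y * x⁻¹ ∈ C := by
              rw [Subgroup.mul_mem_iff_of_index_two hidx, Subgroup.inv_mem_iff]
              exact iff_of_false hyC hx
            refine ⟨(⟨⟨y * x⁻¹, hc⟩, Subtype.ext (key _ hc
              (hy.mul_right (Commute.refl x).inv_right))⟩, true), Subtype.ext (by simp [f])⟩
      rw [← Nat.card_congr (Equiv.ofBijective f hf), Nat.card_prod, hsq, Nat.card_eq_fintype_card,
        Fintype.card_bool]
  have h := card_comm_eq_card_conjClasses_mul_card N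
  rw [Nat.card_congr (Equiv.subtypeProdEquivSigmaSubtype fun a b => Commute a b), Nat.card_sigma,
    Finset.sum_congr rfl (fun x _ => hcent x), hN] at h
  rw [Finset.sum_ite, Finset.sum_const, Finset.sum_ite, Finset.sum_const, Finset.sum_const] at h
  have hA : (Finset.univ.filter fun x : N => x ∈ C).card = 2 * m := by
    rw [← hC, Nat.card_eq_fintype_card, Fintype.card_subtype]
  have hB : ((Finset.univ.filter fun x : N => x ∈ C).filter fun x => x ^ 2 = 1).card = 2 := by
    refine Eq.trans ?_ hsq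
    rw [Nat.card_eq_fintype_card, ← Fintype.card_coe]
    refine Fintype.card_congr
      { toFun := fun x => ⟨⟨x.1, (Finset.mem_filter.1 (Finset.mem_filter.1 x.2).1).2⟩,
          Subtype.ext (Finset.mem_filter.1 x.2).2⟩
        invFun := fun c => ⟨c.1.1, Finset.mem_filter.2 ⟨Finset.mem_filter.2
          ⟨Finset.mem_univ _, c.1.2⟩, by simpa using congrArg Subtype.val c.2⟩⟩
        left_inv := fun x => rfl
        right_inv := fun c => rfl }
  have hD := Finset.card_filter_add_card_filter_not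
    (s := Finset.univ.filter fun x : N => x ∈ C) (fun x => x ^ 2 = 1)
  have hE := Finset.card_filter_add_card_filter_not
    (s := (Finset.univ : Finset N)) (fun x => x ∈ C)
  rw [Finset.card_univ, ← Nat.card_eq_fintype_card, hN] at hE
  rw [hA, hB] at hD
  rw [hA] at hE
  rw [hB, show ((Finset.univ.filter fun x : N => x ∈ C).filter fun x => ¬x ^ 2 = 1).card
    = 2 * m - 2 by omega, show (Finset.univ.filter fun x : N => ¬x ∈ C).card = 2 * m by omega] at h
  simp only [smul_eq_mul] at h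
  refine Nat.eq_of_mul_eq_mul_right (show 0 < 2 * (2 * m) by omega) ?_
  rw [← h]
  obtain ⟨k, rfl⟩ : ∃ k, m = k + 1 := ⟨m - 1, by omega⟩
  rw [show 2 * (k + 1) - 2 = 2 * k by omega]
  ring

theorem conj_lin {g h : G} {x : G} {a b : F}
    (hh : (h : M2) = a • (1 : M2) + b • (g : M2)) :
    ((x * h * x⁻¹ : G) : M2) = a • (1 : M2) + b • ((x * g * x⁻¹ : G) : M2) := by
  simp only [Matrix.SpecialLinearGroup.coe_mul, hh, mul_add, add_mul, mul_smul_comm,
    smul_mul_assoc, mul_one]
  rw [← Matrix.SpecialLinearGroup.coe_mul, mul_inv_cancel, Matrix.SpecialLinearGroup.coe_one]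

/-- An element of the normaliser centralises or inverts the torus. -/
theorem normalizer_act {g : G} (ht : tr g ^ 2 ≠ 4) {x : G}
    (hx : x ∈ Subgroup.normalizer (cent g : Set G)) :
    (x ∈ cent g ∧ ∀ c ∈ cent g, x * c * x⁻¹ = c) ∨ (x ∉ cent g ∧ ∀ c ∈ cent g, x * c * x⁻¹ = c⁻¹) := by
  have hg := scal_of_tr_sq_ne ht
  by_cases hxc : x ∈ cent g
  · exact Or.inl ⟨hxc, fun c hc => mul_inv_eq_iff_eq_mul.2 (cent_comm hg hxc hc)⟩
  · refine Or.inr ⟨hxc, fun c hc => ?_⟩
    obtain ⟨hinv, -⟩ := sq_of_mem_normalizer ht hx hxc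
    obtain ⟨a, b, hab⟩ := (mem_cent_iff hg).1 hc
    apply Subtype.ext
    rw [conj_lin hab, hinv, coe_inv', coe_inv', hab]
    have : tr c = 2 * a + b * tr g := by
      simp only [tr, hab]; simp; ring
    rw [this]
    module

theorem le_normalizer_of_le_cent {g : G} (ht : tr g ^ 2 ≠ 4) {S : Subgroup G} (hS : S ≤ cent g) :
    Subgroup.normalizer (cent g : Set G) ≤ Subgroup.normalizer (S : Set G) := by
  intro x hx
  rw [Subgroup.mem_normalizer_iff] at *
  have key : ∀ z : G, z ∈ Subgroup.normalizer (cent g : Set G) → ∀ c ∈ S, z * c * z⁻¹ ∈ S := by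
    intro z hz c hc
    rcases normalizer_act ht hz with ⟨-, h⟩ | ⟨-, h⟩ <;> rw [h c (hS hc)]
    · exact hc
    · exact S.inv_mem hc
  intro c
  refine ⟨key x (Subgroup.mem_normalizer_iff.2 hx) c, fun hc => ?_⟩
  have := key x⁻¹ (inv_mem (Subgroup.mem_normalizer_iff.2 hx)) _ hc
  rwa [show x⁻¹ * (x * c * x⁻¹) * x⁻¹⁻¹ = c by group] at this

variable [Fintype F]

local notation "q" => Fintype.card F

theorem card_normalizer_cent {g : G} (ht : tr g ^ 2 ≠ 4) :
    Nat.card (Subgroup.normalizer (cent g : Set G)) = 2 * Nat.card (cent g) := by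
  obtain ⟨w, hw⟩ := exists_invert ht
  have hwN : w ∈ Subgroup.normalizer (cent g : Set G) := (mem_normalizer_cent ht).2 (Or.inr hw)
  have hwc : w ∉ cent g := fun h => ne_inv ht (by
    rw [← hw, mul_inv_eq_iff_eq_mul.2 (mem_cent.1 h).symm])
  have e2 : Nat.card (cent g × Bool) = 2 * Nat.card (cent g) := by
    rw [Nat.card_prod, Nat.card_eq_fintype_card (α := Bool), Fintype.card_bool, mul_comm]
  rw [← e2]
  refine (Nat.card_congr (Equiv.ofBijective
    (fun v : cent g × Bool => (⟨if v.2 then (v.1 : G) * w else v.1, ?_⟩ :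
      Subgroup.normalizer (cent g : Set G))) ⟨?_, ?_⟩)).symm
  · split_ifs
    · exact mul_mem (Subgroup.le_normalizer v.1.2) hwN
    · exact Subgroup.le_normalizer v.1.2
  · rintro ⟨c, b⟩ ⟨c', b'⟩ h
    have h' := congrArg Subtype.val h
    cases b <;> cases b' <;> simp at h' ⊢
    · exact h'
    · exact absurd ((Subgroup.mul_mem_cancel_left _ c'.2).1 (h' ▸ c.2)) hwc
    · exact absurd ((Subgroup.mul_mem_cancel_left _ c.2).1 (h'.symm ▸ c'.2)) hwc
    · exact h'
  · rintro ⟨x, hx⟩
    rcases normalizer_act ht hx with ⟨hxc, -⟩ | ⟨hxc, h⟩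
    · exact ⟨(⟨x, hxc⟩, false), rfl⟩
    · refine ⟨(⟨x * w⁻¹, mem_cent.2 ?_⟩, true), Subtype.ext (by simp)⟩
      have hxg := h g (self_mem_cent g)
      have e1 : x * w⁻¹ * g * (x * w⁻¹)⁻¹ = g := by
        have : w⁻¹ * g * w = g⁻¹ := by
          have h1 : g = w * g⁻¹ * w⁻¹ := by
            rw [show w * g⁻¹ * w⁻¹ = (w * g * w⁻¹)⁻¹ by group, hw, inv_inv]
          nth_rewrite 1 [h1]; group
        rw [show x * w⁻¹ * g * (x * w⁻¹)⁻¹ = x * (w⁻¹ * g * w) * x⁻¹ by group, this,
          show x * g⁻¹ * x⁻¹ = (x * g * x⁻¹)⁻¹ by group, hxg, inv_inv]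
      exact (mul_inv_eq_iff_eq_mul.1 e1).symm

theorem card_classes_normalizer (hodd : Odd q) {g : G} (ht : tr g ^ 2 ≠ 4) :
    Nat.card (ConjClasses (Subgroup.normalizer (cent g : Set G))) =
      Nat.card (cent g) / 2 + 3 := by
  have := isCyclic_cent ht
  let e := Subgroup.subgroupOfEquivOfLe (Subgroup.le_normalizer (H := cent g))
  have : IsCyclic ((cent g).subgroupOf (Subgroup.normalizer (cent g : Set G))) :=
    isCyclic_of_surjective e.symm e.symm.surjective
  obtain ⟨k, hk⟩ := hodd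
  have heven : Nat.card (cent g) = 2 * (Nat.card (cent g) / 2) := by
    rcases card_cent_regular ht with ⟨-, h, -⟩ | ⟨-, h, -⟩ <;> omega
  refine card_conjClasses_invert ((cent g).subgroupOf _) ?_ ?_ ?_
  · rw [Nat.card_congr e.toEquiv, ← heven]
  · rw [card_normalizer_cent ht, ← heven]
  · rintro ⟨x, hx⟩ hxC ⟨c, hc'⟩ hc
    rcases normalizer_act ht hx with ⟨h, -⟩ | ⟨-, h⟩
    · exact absurd (Subgroup.mem_subgroupOf.2 h) hxC
    · exact Subtype.ext (h c hc)

theorem not_isSquare_disc {t : F} (hodd : Odd q) (h : ∀ a : F, a * (t - a) ≠ 1) :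
    ¬ IsSquare (t ^ 2 - 4) := by
  rintro ⟨r, hr⟩
  have h2 := two_ne_zero' hodd
  apply h ((t + r) / 2)
  field_simp
  linear_combination hr

/-- Every element without eigenvector is conjugate into any non-split torus. -/
theorem exists_conj_mem_cent (hodd : Odd q) {g g0 : G} (h0 : NoEig g0) (h : NoEig g) :
    ∃ P : G, P * g * P⁻¹ ∈ cent g0 := by
  classical
  have hchar : ringChar F ≠ 2 := fun hc => two_ne_zero' hodd (by
    have : CharP F 2 := hc ▸ ringChar.charP F
    exact CharTwo.two_eq_zero)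
  have hx := not_isSquare_disc hodd ((noEig_iff g).1 h)
  have hy := not_isSquare_disc hodd ((noEig_iff g0).1 h0)
  have hy0 : tr g0 ^ 2 - 4 ≠ 0 := sub_ne_zero.2 h0.tr_sq
  obtain ⟨b, hb⟩ : IsSquare ((tr g ^ 2 - 4) / (tr g0 ^ 2 - 4)) := by
    have e1 := (quadraticChar_neg_one_iff_not_isSquare (F := F)).2 hx
    have e2 := (quadraticChar_neg_one_iff_not_isSquare (F := F)).2 hy
    rw [← quadraticChar_one_iff_isSquare (div_ne_zero (sub_ne_zero.2 h.tr_sq) hy0)]
    have : quadraticChar F ((tr g ^ 2 - 4) / (tr g0 ^ 2 - 4)) * quadraticChar F (tr g0 ^ 2 - 4) =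
        quadraticChar F (tr g ^ 2 - 4) := by
      rw [← map_mul, div_mul_cancel₀ _ hy0]
    rw [e1, e2] at this
    linarith
  rw [div_eq_iff hy0] at hb
  have h2 := two_ne_zero' hodd
  set a : F := (tr g - b * tr g0) / 2 with ha
  have ha2 : 2 * a = tr g - b * tr g0 := by rw [ha]; field_simp
  have hdet : (a • (1 : M2) + b • (g0 : M2)).det = 1 := by
    rw [det_lin]
    refine mul_left_cancel₀ (mul_ne_zero h2 h2) ?_
    linear_combination (2 * a + tr g - b * tr g0 + 2 * b * tr g0) * ha2 + hb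
  let c : G := ⟨a • (1 : M2) + b • (g0 : M2), hdet⟩
  have htr : tr c = tr g := by
    simp [tr, c] at ha2 ⊢
    linear_combination ha2
  obtain ⟨P, hP⟩ := isConj_of_tr htr.symm h.tr_sq
  exact ⟨P, hP ▸ (mem_cent_iff (scal_of_tr_sq_ne h0.tr_sq)).2 ⟨a, b, rfl⟩⟩

theorem centralizer_cent {g : G} (hg : ¬ Scal g) :
    Subgroup.centralizer (cent g : Set G) = cent g :=
  le_antisymm (fun x hx => mem_cent.2 (Subgroup.mem_centralizer_iff.1 hx g (self_mem_cent g)))
    fun x hx => Subgroup.mem_centralizer_iff.2 fun c hc => cent_comm hg hc hx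

theorem mem_cent_dd {a : Fˣ} (h : (a : F) ^ 2 ≠ 1) {x : G} :
    x ∈ cent (dd a) ↔ (x : M2) 0 1 = 0 ∧ (x : M2) 1 0 = 0 := by
  constructor
  · intro hx
    obtain ⟨u, v, huv⟩ := (mem_cent_iff (scal_of_tr_sq_ne (tr_sq_dd h))).1 hx
    rw [huv]; simp [dd]
  · rintro ⟨h1, h2⟩
    rw [mem_cent]
    apply Subtype.ext
    rw [Matrix.SpecialLinearGroup.coe_mul, Matrix.SpecialLinearGroup.coe_mul]
    apply mext <;> simp [dd, Matrix.mul_apply, Fin.sum_univ_two, h1, h2, mul_comm]

/-- An odd prime Sylow subgroup lies in a torus. -/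
theorem exists_sylow_torus (hodd : Odd q) {ℓ : ℕ} [Fact ℓ.Prime] (hℓ : ℓ ≠ 2) {n : ℕ}
    (hn : n = q - 1 ∧ ℓ ∣ q - 1 ∨ n = q + 1 ∧ ℓ ∣ q + 1) (P : Sylow ℓ G) :
    ∃ g : G, tr g ^ 2 ≠ 4 ∧ Nat.card (cent g) = n ∧ (P : Subgroup G) ≤ cent g := by
  have hp : ℓ.Prime := Fact.out
  obtain ⟨k, hk⟩ := id hodd
  have hq := two_le_q (F := F)
  have hl3 : 3 ≤ ℓ := by have := hp.two_le; omega
  have hl2 : ¬ ℓ ∣ 2 := fun h => by have := Nat.le_of_dvd two_pos h; omega
  obtain ⟨g0, hg0, hc, hidx⟩ : ∃ g0 : G, tr g0 ^ 2 ≠ 4 ∧ Nat.card (cent g0) = n ∧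
      ¬ ℓ ∣ (cent g0).index := by
    rcases hn with ⟨rfl, hd⟩ | ⟨rfl, hd⟩
    · have hq4 : 4 ≤ q := by
        have := Nat.le_of_dvd (by omega) hd
        omega
      obtain ⟨ω, hω⟩ := IsCyclic.exists_generator (α := Fˣ)
      have hord : orderOf ω = q - 1 := by
        rw [orderOf_eq_card_of_forall_mem_zpowers hω, Nat.card_units, Nat.card_eq_fintype_card]
      have hw2 : (ω : F) ^ 2 ≠ 1 := fun h => by
        have := Nat.le_of_dvd two_pos (orderOf_dvd_of_pow_eq_one
          (show ω ^ 2 = 1 from Units.ext (by rw [Units.val_pow_eq_pow_val, h, Units.val_one])))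
        omega
      obtain ⟨h1, h2⟩ := card_cent_split (tr_sq_dd hw2) (a := (ω : F))
        (by rw [tr_dd, add_sub_cancel_left, mul_inv_cancel₀ ω.ne_zero])
      refine ⟨dd ω, tr_sq_dd hw2, h1, ?_⟩
      rw [h2]
      intro h
      rcases hp.dvd_mul.1 h with h | h
      · have h' := Nat.dvd_sub h hd
        rw [show q - (q - 1) = 1 by omega] at h'
        exact hp.one_lt.ne' (Nat.dvd_one.1 h')
      · have h' := Nat.dvd_sub h hd
        rw [show q + 1 - (q - 1) = 2 by omega] at h'
        exact hl2 h'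
    · obtain ⟨g0, hg0⟩ := exists_noEig (F := F)
      obtain ⟨h1, h2⟩ := card_cent_noEig hg0
      refine ⟨g0, hg0.tr_sq, h1, ?_⟩
      rw [h2]
      intro h
      rcases hp.dvd_mul.1 h with h | h
      · have h' := Nat.dvd_sub hd h
        rw [show q + 1 - q = 1 by omega] at h'
        exact hp.one_lt.ne' (Nat.dvd_one.1 h')
      · have h' := Nat.dvd_sub hd h
        rw [show q + 1 - (q - 1) = 2 by omega] at h'
        exact hl2 h'
  obtain ⟨Q⟩ : Nonempty (Sylow ℓ (cent g0)) := inferInstance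
  have hQ : IsPGroup ℓ ((Q : Subgroup (cent g0)).map (cent g0).subtype) := Q.isPGroup'.map _
  obtain ⟨R, hR⟩ := hQ.exists_le_sylow
  have hRle : (R : Subgroup G) ≤ cent g0 := by
    suffices e : (Q : Subgroup (cent g0)).map (cent g0).subtype = R from
      e ▸ Subgroup.map_subtype_le _
    refine Subgroup.eq_of_le_of_card_ge hR (le_of_eq ?_)
    rw [Subgroup.card_subtype, Q.card_eq_multiplicity, R.card_eq_multiplicity,
      ← (cent g0).card_mul_index,
      Nat.factorization_mul Nat.card_pos.ne' Subgroup.index_ne_zero_of_finite]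
    simp [Nat.factorization_eq_zero_of_not_dvd hidx]
  obtain ⟨x, rfl⟩ := MulAction.exists_smul_eq G R P
  refine ⟨x * g0 * x⁻¹, by rwa [tr_conj], ?_, ?_⟩
  · rw [← hc]
    exact Nat.card_congr
      { toFun := fun y => ⟨x⁻¹ * y * x, (cent_conj g0 x).1 y.2⟩
        invFun := fun z => ⟨x * z * x⁻¹, (cent_conj g0 x).2 (by
          rw [show x⁻¹ * (x * z * x⁻¹) * x = z by group]; exact z.2)⟩
        left_inv := fun y => Subtype.ext (by simp [mul_assoc])
        right_inv := fun z => Subtype.ext (by simp [mul_assoc]) }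
  · intro y hy
    rw [cent_conj]
    rw [Sylow.coe_subgroup_smul, Subgroup.mem_pointwise_smul_iff_inv_smul_mem] at hy
    exact hRle (by simpa [MulAut.smul_def] using hy)

theorem exists_not_scal_sylow (hodd : Odd q) {ℓ : ℕ} [Fact ℓ.Prime] (hℓ : ℓ ≠ 2)
    (hdvd : ℓ ∣ Nat.card G) (P : Sylow ℓ G) : ∃ c ∈ (P : Subgroup G), ¬ Scal c := by
  have hp : ℓ.Prime := Fact.out
  obtain ⟨c, hc⟩ := exists_prime_orderOf_dvd_card' ℓ
    (P.dvd_card_of_dvd_card hdvd : ℓ ∣ Nat.card (P : Subgroup G))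
  refine ⟨c, c.2, fun hs => ?_⟩
  have h2 : (c : G) ^ 2 = 1 := by
    rcases (scal_iff _).1 hs with h | h <;> rw [h, pow_two] <;> simp
  have := orderOf_dvd_of_pow_eq_one h2
  rw [Subgroup.orderOf_coe, hc] at this
  exact hℓ ((Nat.prime_dvd_prime_iff_eq hp Nat.prime_two).1 this)

theorem sylow_torus (hodd : Odd q) {ℓ : ℕ} [Fact ℓ.Prime] (hℓ : ℓ ≠ 2) {n : ℕ}
    (hn : n = q - 1 ∧ ℓ ∣ q - 1 ∨ n = q + 1 ∧ ℓ ∣ q + 1) (P : Sylow ℓ G) :
    ∃ g : G, tr g ^ 2 ≠ 4 ∧ Nat.card (cent g) = n ∧
      Subgroup.centralizer ((P : Subgroup G) : Set G) = cent g ∧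
      Subgroup.normalizer ((P : Subgroup G) : Set G) = Subgroup.normalizer (cent g : Set G) := by
  obtain ⟨g, ht, hc, hle⟩ := exists_sylow_torus hodd hℓ hn P
  have hdvd : ℓ ∣ Nat.card G := by
    rw [card_G]
    rcases hn with ⟨-, h⟩ | ⟨-, h⟩
    · exact (h.mul_right _).mul_left _
    · exact (h.mul_left _).mul_left _
  obtain ⟨c, hcP, hcs⟩ := exists_not_scal_sylow hodd hℓ hdvd P
  have hg := scal_of_tr_sq_ne ht
  have hcen : Subgroup.centralizer ((P : Subgroup G) : Set G) = cent g := by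
    refine le_antisymm (fun x hx => ?_) fun x hx => Subgroup.mem_centralizer_iff.2
      fun y hy => cent_comm hg (hle hy) hx
    rw [← cent_eq hg (hle hcP) hcs, mem_cent]
    exact Subgroup.mem_centralizer_iff.1 hx c hcP
  refine ⟨g, ht, hc, hcen, le_antisymm (fun x hx => ?_) (le_normalizer_of_le_cent ht hle)⟩
  rw [Subgroup.mem_normalizer_iff] at hx ⊢
  intro y
  rw [← hcen, Subgroup.mem_centralizer_iff, Subgroup.mem_centralizer_iff]
  constructor
  · intro hy p hp
    have hp' : x⁻¹ * p * x ∈ (P : Subgroup G) := (hx _).2 (by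
      rwa [show x * (x⁻¹ * p * x) * x⁻¹ = p by group])
    calc p * (x * y * x⁻¹) = x * (x⁻¹ * p * x * y) * x⁻¹ := by group
      _ = x * (y * (x⁻¹ * p * x)) * x⁻¹ := by rw [hy _ hp']
      _ = x * y * x⁻¹ * p := by group
  · intro hy p hp
    have h := hy _ ((hx p).1 hp)
    calc p * y = x⁻¹ * (x * p * x⁻¹ * (x * y * x⁻¹)) * x := by group
      _ = x⁻¹ * (x * y * x⁻¹ * (x * p * x⁻¹)) * x := by rw [h]
      _ = y * p := by group

end Cfsg.Agent.SL2
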