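import Cfsg.Agent.Lib.SL2.DicksonCoatom

/-!
# The small exceptions
-/

set_option autoImplicit false
set_option linter.unusedSectionVars false

namespace Cfsg.Agent.SL2

open Matrix

variable {F : Type*} [Field F] [Fintype F]

local notation "G" => Matrix.SpecialLinearGroup (Fin 2) F
local notation "PS" => Matrix.ProjectiveSpecialLinearGroup (Fin 2) F
local notation "q" => Fintype.card F

/-- A torus normaliser inside a larger proper subgroup is not maximal. -/
theorem not_coatom_of_inside (hodd : Odd q) {r : G} (ht : tr r ^ 2 ≠ 4) {k : ℕ} (hk : Nat.card (torus r) = k)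
    (hk2 : 2 ≤ k) (hM : IsCoatom (NT r)) {A : Type} [Group A] {H : Subgroup PS} (e : H ≃* A) (hH : H ≠ ⊤)
    (hA : Nat.card A ≠ 2 * k) {x w : A} (hx : x ^ k = 1) (hx' : ∀ i : ℕ, i < k → 0 < i → x ^ i ≠ 1)
    (hw : ∀ i : ℕ, i < k → x ^ i ≠ w) (hinv : w * x * w⁻¹ = x⁻¹) : False := by
  classical
  haveI : Finite PS := Finite.of_surjective _ π_surjective
  obtain ⟨n, hp, hn⟩ := FiniteField.card F (ringChar F)
  haveI : Fact (ringChar F).Prime := ⟨hp⟩
  have hxo : orderOf x = k := (orderOf_eq_iff (by omega)).2 ⟨hx, hx'⟩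
  set X : PS := (e.symm x : PS) with hXdef
  set W : PS := (e.symm w : PS) with hWdef
  have hX : orderOf X = k := by rw [hXdef, Subgroup.orderOf_coe, MulEquiv.orderOf_eq, hxo]
  have hWX : W * X * W⁻¹ = X⁻¹ := by
    have := congrArg (fun a => ((e.symm a : H) : PS)) hinv
    simpa only [map_mul, map_inv, Subgroup.coe_mul, Subgroup.coe_inv] using this
  have hWn : W ∉ Subgroup.zpowers X := by
    intro h
    obtain ⟨i, hi⟩ := Submonoid.mem_powers_iff _ _ |>.1 ((mem_powers_iff_mem_zpowers (x := X)).2 h)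
    refine hw (i % k) (Nat.mod_lt _ (by omega)) (e.symm.injective (Subtype.ext ?_))
    rw [map_pow, SubgroupClass.coe_pow, ← hXdef, ← hX, pow_mod_orderOf, hi]
  obtain ⟨s, hs⟩ := π_surjective X
  have hdr : Nat.gcd 2 (q - 1) * k = q - 1 ∨ Nat.gcd 2 (q - 1) * k = q + 1 := by
    rw [← hk, card_torus]
    rcases card_cent_regular ht with ⟨-, h, -⟩ | ⟨-, h, -⟩
    · exact Or.inr h
    · exact Or.inl h
  obtain ⟨j, hj⟩ := id hodd
  have hgcd : Nat.gcd 2 (q - 1) = 2 := Nat.gcd_eq_left ⟨j, by omega⟩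
  rw [hgcd] at hdr
  have hpq : ringChar F ∣ q := hn ▸ dvd_pow_self _ n.ne_zero
  have ht' : tr s ^ 2 ≠ 4 := fun h4 => by
    have h := orderOf_dvd_of_pow_eq_one (not_semisimple_pow (p := ringChar F) h4)
    rw [hs, hX] at h
    rcases (Nat.dvd_prime hp).1 h with h | h
    · omega
    · rw [← h] at hpq
      rcases hdr with h' | h'
      · have := Nat.dvd_sub hpq (Dvd.intro_left _ h' : k ∣ q - 1)
        rw [show q - (q - 1) = 1 by omega, Nat.dvd_one] at this
        omega
      · have := (Nat.dvd_add_right hpq).1 (Dvd.intro_left _ h' : k ∣ q + 1)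
        rw [Nat.dvd_one] at this
        omega
  have hXs : X ∈ torus s := hs ▸ pi_mem_torus.2 (self_mem_cent s)
  have hc : Nat.card (torus s) = k := by
    have hdvd := hX ▸ Subgroup.orderOf_dvd_natCard _ hXs
    have hs2 : 2 * Nat.card (torus s) = q - 1 ∨ 2 * Nat.card (torus s) = q + 1 := by
      have hh := card_torus s
      rw [hgcd] at hh
      rw [hh]
      rcases card_cent_regular ht' with ⟨-, h, -⟩ | ⟨-, h, -⟩
      · exact Or.inr h
      · exact Or.inl h
    by_contra hne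
    have h1 : k ∣ 1 := by
      rcases (show Nat.card (torus s) = k + 1 ∨ k = Nat.card (torus s) + 1 by omega) with h | h
      · exact (Nat.dvd_add_right (dvd_refl k)).1 (h ▸ hdvd)
      · exact (Nat.dvd_add_right hdvd).1 (h ▸ dvd_refl k)
    rw [Nat.dvd_one] at h1
    omega
  have hz : Subgroup.zpowers X = torus s :=
    Subgroup.eq_of_le_of_card_ge (Subgroup.zpowers_le.2 hXs) (by rw [Nat.card_zpowers, hX, hc])
  have hWN : W ∈ NT s := by
    rw [NT, ← hz]
    have hz' : ∀ y ∈ Subgroup.zpowers X, W * y * W⁻¹ ∈ Subgroup.zpowers X := by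
      rintro y ⟨i, rfl⟩
      show W * X ^ i * W⁻¹ ∈ _
      rw [← MulAut.conj_apply, map_zpow, MulAut.conj_apply, hWX]
      exact zpow_mem (inv_mem (Subgroup.mem_zpowers X)) i
    haveI : Finite (Subgroup.zpowers X : Set PS) := (Set.toFinite _).to_subtype
    exact Subgroup.mem_normalizer_fintype hz'
  have hle : NT s ≤ H := by
    refine inf_eq_left.1 (Subgroup.eq_of_le_of_card_ge inf_le_left ?_)
    have hlt : torus s < NT s ⊓ H := by
      refine lt_of_le_of_ne (le_inf (torus_lt_NT ht').le (hz ▸ Subgroup.zpowers_le.2 (e.symm x).2)) fun h => hWn ?_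
      rw [hz, h]
      exact ⟨hWN, (e.symm w).2⟩
    have h1 : Nat.card (torus s) < Nat.card ↥(NT s ⊓ H) := by
      by_contra h'
      exact hlt.ne (Subgroup.eq_of_le_of_card_ge hlt.le (by omega))
    have h2 := Subgroup.card_dvd_of_le (inf_le_left : NT s ⊓ H ≤ NT s)
    rw [card_NT ht'] at h2 ⊢
    obtain ⟨c, hc'⟩ := h2
    rcases (show c = 0 ∨ c = 1 ∨ 2 ≤ c by omega) with rfl | rfl | h3
    · have := card_torus_pos s
      omega
    · omega
    · have : Nat.card ↥(NT s ⊓ H) * 2 ≤ Nat.card ↥(NT s ⊓ H) * c := Nat.mul_le_mul_left _ h3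
      omega
  obtain ⟨P, hP⟩ := exists_torus_conj hodd ht ht' (hk.trans hc.symm)
  have hco : IsCoatom (NT s) := by
    have := isCoatom_NT_of_conj P hM
    rwa [NT, hP] at this
  rcases hle.eq_or_lt with h | h
  · refine hA ?_
    rw [← Nat.card_congr e.toEquiv, ← h, card_NT ht', hc]
  · exact hH (hco.2 _ h)

theorem card_psl_odd (hodd : Odd q) : 2 * Nat.card PS = q * ((q - 1) * (q + 1)) := by
  obtain ⟨j, hj⟩ := id hodd
  rw [← card_psl, Nat.gcd_eq_left (show 2 ∣ q - 1 from ⟨j, by omega⟩)]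

/-- Small dihedral exceptions. -/
theorem torus_exceptions (hodd : Odd q) (h5 : 5 ≤ q) {r : G} (ht : tr r ^ 2 ≠ 4) (hM : IsCoatom (NT r)) :
    (2 * Nat.card (torus r) = q - 1 → 13 ≤ q) ∧ (2 * Nat.card (torus r) = q + 1 → q ≠ 7 ∧ q ≠ 9) := by
  classical
  haveI : Finite PS := Finite.of_surjective _ π_surjective
  obtain ⟨j, hj⟩ := id hodd
  have h2 := two_ne_zero' hodd
  have hc := card_psl_odd hodd
  have s4 : q = 7 ∨ q = 9 → ∀ k, (k = 3 ∨ k = 4) → Nat.card (torus r) ≠ k := by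
    intro hq k hk hcard
    obtain ⟨t, ht2⟩ := exists_sqrt_two (F := F) (by rcases hq with h | h <;> rw [h] <;> norm_num)
    obtain ⟨H, ⟨e⟩⟩ := exists_perm_four h2 ht2
    have hH : H ≠ ⊤ := fun h => by
      have := Nat.card_congr e.toEquiv
      rw [h, Subgroup.card_top, Nat.card_perm, Nat.card_fin] at this
      rcases hq with h' | h' <;> rw [h', this] at hc <;> norm_num [Nat.factorial] at hc
    rcases hk with rfl | rfl
    · have key : ∃ x w : Equiv.Perm (Fin 4), x ^ 3 = 1 ∧ (∀ i : ℕ, i < 3 → 0 < i → x ^ i ≠ 1) ∧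
          (∀ i : ℕ, i < 3 → x ^ i ≠ w) ∧ w * x * w⁻¹ = x⁻¹ := by decide +kernel
      obtain ⟨x, w, a, b, c, d⟩ := key
      exact not_coatom_of_inside hodd ht hcard (by norm_num) hM e hH
        (by rw [Nat.card_perm, Nat.card_fin]; norm_num [Nat.factorial]) a b c d
    · have key : ∃ x w : Equiv.Perm (Fin 4), x ^ 4 = 1 ∧ (∀ i : ℕ, i < 4 → 0 < i → x ^ i ≠ 1) ∧
          (∀ i : ℕ, i < 4 → x ^ i ≠ w) ∧ w * x * w⁻¹ = x⁻¹ := by decide +kernel
      obtain ⟨x, w, a, b, c, d⟩ := key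
      exact not_coatom_of_inside hodd ht hcard (by norm_num) hM e hH
        (by rw [Nat.card_perm, Nat.card_fin]; norm_num [Nat.factorial]) a b c d
  have a5 : q = 9 ∨ q = 11 → Nat.card (torus r) ≠ 5 := by
    intro hq hcard
    obtain ⟨t, ht2⟩ := exists_phi (F := F) (by rcases hq with h | h <;> rw [h] <;> norm_num)
    obtain ⟨H, ⟨e⟩⟩ := exists_alt_five ht2
    have hA : Nat.card (alternatingGroup (Fin 5)) = 60 := by
      have : 2 * Nat.card (alternatingGroup (Fin 5)) = (5 : ℕ).factorial :=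
        SmallSimple.card_alternating_fin (by norm_num)
      rw [show (5 : ℕ).factorial = 120 from rfl] at this
      omega
    have hH : H ≠ ⊤ := fun h => by
      have := Nat.card_congr e.toEquiv
      rw [h, Subgroup.card_top, hA] at this
      rcases hq with h' | h' <;> rw [h', this] at hc <;> norm_num at hc
    have key : ∀ x w : alternatingGroup (Fin 5),
        (x : Equiv.Perm (Fin 5)) = Equiv.swap 0 1 * Equiv.swap 1 2 * Equiv.swap 2 3 * Equiv.swap 3 4 →
        (w : Equiv.Perm (Fin 5)) = Equiv.swap 0 4 * Equiv.swap 1 3 →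
        x ^ 5 = 1 ∧ (∀ i : ℕ, i < 5 → 0 < i → x ^ i ≠ 1) ∧
          (∀ i : ℕ, i < 5 → x ^ i ≠ w) ∧ w * x * w⁻¹ = x⁻¹ := by decide +kernel
    obtain ⟨a, b, c, d⟩ := key ⟨_, Equiv.Perm.mem_alternatingGroup.2 (by decide)⟩
      ⟨_, Equiv.Perm.mem_alternatingGroup.2 (by decide)⟩ rfl rfl
    exact not_coatom_of_inside hodd ht hcard (by norm_num) hM e hH (by rw [hA]; norm_num) a b c d
  have a4 : q = 5 → Nat.card (torus r) ≠ 2 := by
    intro hq hcard
    obtain ⟨H, ⟨e⟩⟩ := exists_alt_four (F := F) (exists_quadric h2 1)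
    have hA : Nat.card (alternatingGroup (Fin 4)) = 12 := by
      have : 2 * Nat.card (alternatingGroup (Fin 4)) = (4 : ℕ).factorial :=
        SmallSimple.card_alternating_fin (by norm_num)
      rw [show (4 : ℕ).factorial = 24 from rfl] at this
      omega
    have hH : H ≠ ⊤ := fun h => by
      have := Nat.card_congr e.toEquiv
      rw [h, Subgroup.card_top, hA] at this
      rw [hq, this] at hc
      norm_num at hc
    have key : ∃ x w : alternatingGroup (Fin 4), x ^ 2 = 1 ∧ (∀ i : ℕ, i < 2 → 0 < i → x ^ i ≠ 1) ∧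
        (∀ i : ℕ, i < 2 → x ^ i ≠ w) ∧ w * x * w⁻¹ = x⁻¹ := by decide +kernel
    obtain ⟨x, w, a, b, c, d⟩ := key
    exact not_coatom_of_inside hodd ht hcard le_rfl hM e hH (by rw [hA]; norm_num) a b c d
  constructor
  · intro h
    by_contra hlt
    obtain hq | hq | hq | hq : q = 5 ∨ q = 7 ∨ q = 9 ∨ q = 11 := by omega
    · exact a4 hq (by omega)
    · exact s4 (Or.inl hq) 3 (Or.inl rfl) (by omega)
    · exact s4 (Or.inr hq) 4 (Or.inr rfl) (by omega)
    · exact a5 (Or.inr hq) (by omega)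
  · intro h
    exact ⟨fun hq => s4 (Or.inl hq) 4 (Or.inr rfl) (by omega), fun hq => a5 (Or.inl hq) (by omega)⟩

end Cfsg.Agent.SL2
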