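import Cfsg.Agent.Lib.SL2.DicksonShape
import Cfsg.Agent.Lib.SmallSimple.Alternating
import Cfsg.Agent.Lib.SmallSimple.RecognizeEven
import Cfsg.Agent.Lib.Invol.Dihedral

/-!
# Groups occurring in Dickson's list
-/

set_option autoImplicit false
set_option linter.unusedSectionVars false

namespace Cfsg.Agent.SL2Sub

open Subgroup

variable {P : Type*} [Group P] [Finite P] {p : ℕ} [Fact p.Prime]

theorem card_sylow_eq_prime {m : ℕ} (h : Nat.card P = p * m) (hm : ¬ p ∣ m) (V : Sylow p P) :
    Nat.card ↥(V : Subgroup P) = p := by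
  simpa using SmallSimple.card_sylow_of_eq (k := 1) (m := m) V (by rw [pow_one, h]) hm

theorem exists_sylow_of_card {m : ℕ} (h : Nat.card P = p * m) (hm : ¬ p ∣ m) {C : Subgroup P}
    (hC : Nat.card C = p) : ∃ V : Sylow p P, (V : Subgroup P) = C := by
  obtain ⟨V, hV⟩ := (IsPGroup.of_card (p := p) (n := 1) (by rw [hC, pow_one]) :
    IsPGroup p C).exists_le_sylow
  exact ⟨V, (eq_of_le_of_card_ge hV (by rw [hC, card_sylow_eq_prime h hm V])).symm⟩

/-- A group with a self-centralising Sylow subgroup of prime order acts faithfully on the Sylow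
subgroups. -/
theorem toPermHom_sylow_injective (V : Sylow p P) (hV : Nat.card ↥(V : Subgroup P) = p)
    (hc : centralizer ((V : Subgroup P) : Set P) ≤ (V : Subgroup P))
    (hn : Nat.card (Sylow p P) ≠ 1) :
    Function.Injective (MulAction.toPermHom P (Sylow p P)) := by
  rw [← MonoidHom.ker_eq_bot_iff, eq_bot_iff_forall]
  intro k hk
  have hfix : ∀ z ∈ (MulAction.toPermHom P (Sylow p P)).ker, ∀ W : Sylow p P,
      z ∈ normalizer ((W : Subgroup P) : Set P) := fun z hz W =>
    (SylowFive.smul_sylow_eq W).1 (Equiv.ext_iff.1 hz W)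
  have hcap : ∀ z ∈ (V : Subgroup P), z ∈ (MulAction.toPermHom P (Sylow p P)).ker → z = 1 := by
    intro z hz hzK
    by_contra hz1
    refine hn (Nat.card_eq_one_iff_unique.2 ⟨⟨fun W W' => ?_⟩, ⟨V⟩⟩)
    have hle : ∀ W : Sylow p P, W = V := fun W => by
      obtain ⟨j, hj⟩ := Shape.pow_eq_one_of_mem_sylow V hz
      have hzW := SylowFive.sylow_le_of_mem_normalizer W (hfix z hzK W) j hj
      have hW : Nat.card ↥(W : Subgroup P) = p := by
        rw [W.card_eq_multiplicity, ← V.card_eq_multiplicity, hV]
      refine Sylow.ext (eq_of_le_of_card_ge (fun w hw => ?_) (by rw [hV, hW]))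
      obtain ⟨i, hi⟩ := mem_zpowers_iff.1 (mem_zpowers_of_prime_card (g := (⟨z, hzW⟩ : ↥(W : Subgroup P)))
        (g' := ⟨w, hw⟩) hW fun e => hz1 (congrArg Subtype.val e))
      have hi' : z ^ i = w := congrArg Subtype.val hi
      exact hi' ▸ zpow_mem hz i
    rw [hle W, hle W']
  have hkV : k ∈ (V : Subgroup P) := by
    refine hc (mem_centralizer_iff.2 fun v hv => ?_)
    have h1 : k * v * k⁻¹ * v⁻¹ ∈ (V : Subgroup P) :=
      mul_mem ((mem_normalizer_iff.1 (hfix k hk V) v).1 hv) (inv_mem hv)
    have h2 : k * v * k⁻¹ * v⁻¹ ∈ (MulAction.toPermHom P (Sylow p P)).ker := by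
      rw [show k * v * k⁻¹ * v⁻¹ = k * (v * k⁻¹ * v⁻¹) by group]
      exact mul_mem hk ((MonoidHom.normal_ker _).conj_mem _ (inv_mem hk) v)
    have h3 := hcap _ h1 h2
    rw [mul_inv_eq_one, mul_inv_eq_iff_eq_mul] at h3
    exact h3.symm
  exact hcap k hkV hk

theorem card_sylow_four {n : ℕ} (hn : n = 3 ∨ n = 6) (h : Nat.card P = 4 * n) {C : Subgroup P}
    (hC : Nat.card C = 3) (hN : Nat.card (normalizer (C : Set P)) = n) :
    ∃ V : Sylow 3 P, (V : Subgroup P) = C ∧ Nat.card (Sylow 3 P) = 4 := by
  haveI : Fact (Nat.Prime 3) := ⟨Nat.prime_three⟩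
  obtain ⟨m, hm, hm3⟩ : ∃ m, Nat.card P = 3 * m ∧ ¬ 3 ∣ m := by
    rcases hn with rfl | rfl
    · exact ⟨4, h, by norm_num⟩
    · exact ⟨8, h, by norm_num⟩
  obtain ⟨V, rfl⟩ := exists_sylow_of_card hm hm3 hC
  refine ⟨V, rfl, ?_⟩
  have := SmallSimple.card_sylow_mul V
  rw [hN, h] at this
  exact Nat.eq_of_mul_eq_mul_right (by omega) this

theorem mulEquiv_alt_four (h : Nat.card P = 12) {C : Subgroup P} (hC : Nat.card C = 3)
    (hN : Nat.card (normalizer (C : Set P)) = 3) : Nonempty (P ≃* alternatingGroup (Fin 4)) := by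
  haveI : Fact (Nat.Prime 3) := ⟨Nat.prime_three⟩
  obtain ⟨V, rfl, h4⟩ := card_sylow_four (Or.inl rfl) h hC hN
  refine SmallSimple.mulEquiv_alternating_of_injective (m := 4) (by norm_num) h4 _
    (toPermHom_sylow_injective V hC (fun x hx => ?_) (by omega)) (by rw [h]; rfl)
  have hx' := SmallSimple.centralizer_le_normalizer _ hx
  rwa [← eq_of_le_of_card_ge (le_normalizer (H := (V : Subgroup P))) (by rw [hN, hC])] at hx'

theorem mulEquiv_perm_four (h : Nat.card P = 24) {C : Subgroup P} (hC : Nat.card C = 3)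
    (hN : Nat.card (normalizer (C : Set P)) = 6) (hc : centralizer (C : Set P) ≤ C) :
    Nonempty (P ≃* Equiv.Perm (Fin 4)) := by
  haveI : Fact (Nat.Prime 3) := ⟨Nat.prime_three⟩
  obtain ⟨V, rfl, h4⟩ := card_sylow_four (Or.inr rfl) h hC hN
  have hinj := toPermHom_sylow_injective V hC hc (by omega)
  haveI := Fintype.ofFinite (Sylow 3 P)
  let e := (Fintype.equivFin (Sylow 3 P)).trans (finCongr (by rw [← Nat.card_eq_fintype_card, h4]))
  let f : P →* Equiv.Perm (Fin 4) := e.permCongrHom.toMonoidHom.comp (MulAction.toPermHom P (Sylow 3 P))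
  have hf : Function.Injective f := e.permCongrHom.injective.comp hinj
  exact ⟨MulEquiv.ofBijective f (hf.bijective_of_nat_card_le (by
    rw [h, Nat.card_perm, Nat.card_fin]; rfl))⟩

theorem card_prime_elements (h : ∀ V : Sylow p P, Nat.card ↥(V : Subgroup P) = p) :
    Nat.card (Sylow p P) * (p - 1) ≤ Nat.card {x : P // orderOf x = p} := by
  classical
  haveI := Fintype.ofFinite (Sylow p P)
  let f : (Σ V : Sylow p P, {x : ↥(V : Subgroup P) // x ≠ 1}) → {x : P // orderOf x = p} := fun z =>
    ⟨(z.2.1 : P), by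
      have := (Nat.dvd_prime Fact.out).1 ((orderOf_dvd_natCard z.2.1).trans (dvd_of_eq (h z.1)))
      rw [orderOf_coe]
      exact this.resolve_left fun e => z.2.2 (orderOf_eq_one_iff.1 e)⟩
  have hf : Function.Injective f := by
    rintro ⟨V, ⟨x, hx⟩, hx1⟩ ⟨W, ⟨y, hy⟩, hy1⟩ e
    have hxy : x = y := congrArg Subtype.val e
    subst hxy
    have hx1' : x ≠ 1 := fun e => hx1 (Subtype.ext e)
    obtain rfl : V = W := by
      refine Sylow.ext (eq_of_le_of_card_ge (fun v hv => ?_) (by rw [h, h]))
      obtain ⟨i, hi⟩ := mem_zpowers_iff.1 (mem_zpowers_of_prime_card (g := (⟨x, hx⟩ : ↥(V : Subgroup P)))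
        (g' := ⟨v, hv⟩) (h V) hx1)
      have hi' : x ^ i = v := congrArg Subtype.val hi
      exact hi' ▸ zpow_mem hy i
    rfl
  refine le_of_eq_of_le ?_ (Nat.card_le_card_of_injective f hf)
  rw [Nat.card_sigma, Finset.sum_eq_card_nsmul (b := p - 1), Finset.card_univ,
    ← Nat.card_eq_fintype_card, smul_eq_mul]
  intro V _
  haveI := Fintype.ofFinite ↥(V : Subgroup P)
  rw [Nat.card_eq_fintype_card, Fintype.card_subtype_compl, Fintype.card_subtype_eq,
    ← Nat.card_eq_fintype_card, h]

theorem mulEquiv_alt_five (h : Nat.card P = 60) {C : Subgroup P} (hC : Nat.card C = 5)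
    (hN : Nat.card (normalizer (C : Set P)) = 10) (hc : centralizer (C : Set P) ≤ C) :
    Nonempty (P ≃* alternatingGroup (Fin 5)) := by
  haveI : Fact (Nat.Prime 5) := ⟨by norm_num⟩
  haveI : Fact (Nat.Prime 3) := ⟨Nat.prime_three⟩
  obtain ⟨V, rfl⟩ := exists_sylow_of_card (m := 12) h (by norm_num) hC
  have h6 : Nat.card (Sylow 5 P) = 6 := by
    have := SmallSimple.card_sylow_mul V
    rw [hN, h] at this
    omega
  have free : ∀ X : Set P, (∀ c ∈ (V : Subgroup P), ∀ x ∈ X, c * x * c⁻¹ ∈ X) →
      (∀ x ∈ X, x ∉ (V : Subgroup P)) → 5 ∣ X.ncard := by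
    intro X hX hXV
    rw [← hC]
    refine dvd_ncard_of_free _ X hX fun c hcV x hx e => ?_
    by_contra hc1
    refine hXV x hx (hc (mem_centralizer_iff.2 fun v hv => ?_))
    obtain ⟨i, hi⟩ := mem_zpowers_iff.1 (mem_zpowers_of_prime_card (g := (⟨c, hcV⟩ : ↥(V : Subgroup P)))
      (g' := ⟨v, hv⟩) hC fun e' => hc1 (congrArg Subtype.val e'))
    have hi' : c ^ i = v := congrArg Subtype.val hi
    rw [← hi']
    exact (Commute.zpow_left (show Commute c x from e) i).eq
  have hdiv : ∀ M : Subgroup P, M.Normal → ¬ (V : Subgroup P) ≤ M → 5 ∣ Nat.card M - 1 := by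
    intro M hM hVM
    have := free ((M : Set P) \ {1}) (fun c _ x hx =>
      ⟨hM.conj_mem x hx.1 c, fun e => hx.2 (conj_eq_one_iff.1 e)⟩) fun x hx hxV => ?_
    · rwa [Set.ncard_diff_singleton_of_mem (one_mem _), ← Nat.card_coe_set_eq] at this
    · refine hVM fun v hv => ?_
      obtain ⟨i, hi⟩ := mem_zpowers_iff.1 (mem_zpowers_of_prime_card (g := (⟨x, hxV⟩ : ↥(V : Subgroup P)))
        (g' := ⟨v, hv⟩) hC fun e' => hx.2 (congrArg Subtype.val e'))
      have hi' : x ^ i = v := congrArg Subtype.val hi
      exact hi' ▸ zpow_mem hx.1 i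
  haveI : IsSimpleGroup P := by
    haveI : Nontrivial P := Finite.one_lt_card_iff_nontrivial.1 (by omega)
    refine ⟨fun M hM => ?_⟩
    have hdvd : Nat.card M ∣ 60 := h ▸ M.card_subgroup_dvd_card
    by_cases hVM : (V : Subgroup P) ≤ M
    · right
      haveI := hM
      have hall : ∀ W : Sylow 5 P, (W : Subgroup P) ≤ M := by
        intro W
        obtain ⟨g, rfl⟩ := MulAction.exists_smul_eq P V W
        rw [Sylow.coe_subgroup_smul]
        rintro _ ⟨v, hv, rfl⟩
        exact hM.conj_mem v (hVM hv) g
      have h5 : ∀ W : Sylow 5 P, Nat.card ↥(W : Subgroup P) = 5 := fun W =>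
        card_sylow_eq_prime (m := 12) h (by norm_num) W
      have hX : 24 ≤ Nat.card {x : P // orderOf x = 5} := by
        have := card_prime_elements (p := 5) h5
        rw [h6] at this
        omega
      have hmem5 : ∀ x : P, orderOf x = 5 → x ∈ M := by
        intro x hx
        obtain ⟨W, hW⟩ := exists_sylow_of_card (p := 5) (m := 12) h (by norm_num)
          (C := zpowers x) (by rw [Nat.card_zpowers, hx])
        exact hall W (hW ▸ mem_zpowers x)
      by_contra hM1
      have hle : Nat.card M ≤ 30 := by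
        have hne : Nat.card M ≠ 60 := fun e => hM1 (eq_top_of_card_eq M (by rw [e, h]))
        have key : ∀ d ∈ (60 : ℕ).divisors, d ≠ 60 → d ≤ 30 := by decide
        exact key _ (Nat.mem_divisors.2 ⟨hdvd, by norm_num⟩) hne
      have hge : 25 ≤ Nat.card M := by
        have h1 : Nat.card {x : P // orderOf x = 5} ≤ Nat.card {x : M // x ≠ 1} :=
          Nat.card_le_card_of_injective (fun x => ⟨⟨x.1, hmem5 x.1 x.2⟩, fun e => by
            have e' : x.1 = 1 := congrArg Subtype.val e
            have := x.2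
            rw [e', orderOf_one] at this
            omega⟩) fun a b e => Subtype.ext (congrArg (fun z : {x : M // x ≠ 1} => (z.1 : P)) e)
        haveI := Fintype.ofFinite M
        classical
        rw [Nat.card_eq_fintype_card (α := {x : M // x ≠ 1}), Fintype.card_subtype_compl,
          Fintype.card_subtype_eq, ← Nat.card_eq_fintype_card] at h1
        omega
      have h30 : Nat.card M = 30 := by
        have key : ∀ d ∈ (60 : ℕ).divisors, 25 ≤ d → d ≤ 30 → d = 30 := by decide
        exact key _ (Nat.mem_divisors.2 ⟨hdvd, by norm_num⟩) hge hle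
      -- elements of order three
      have h3 : ∀ W : Sylow 3 P, Nat.card ↥(W : Subgroup P) = 3 := fun W =>
        card_sylow_eq_prime (m := 20) h (by norm_num) W
      have hi2 : M.index = 2 := by
        have := M.index_mul_card
        rw [h30, h] at this
        omega
      have hmem3 : ∀ x : P, orderOf x = 3 → x ∈ M := by
        intro x hx
        have h9 : x = x ^ 4 := by
          rw [pow_succ, ← hx, pow_orderOf_eq_one, one_mul]
        rw [h9, show x ^ 4 = x ^ 2 * x ^ 2 from by rw [← pow_add]]
        exact mul_self_mem_of_index_two hi2 _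
      have hX3 : 5 ∣ {x : P | orderOf x = 3}.ncard := by
        refine free _ (fun c _ x hx => ?_) fun x hx hxV => ?_
        · show orderOf (c * x * c⁻¹) = 3
          rw [← hx]
          exact orderOf_injective (MulAut.conj c).toMonoidHom (MulAut.conj c).injective x
        · have := Subgroup.orderOf_dvd_natCard _ hxV
          rw [show orderOf x = 3 from hx, hC] at this
          omega
      rw [← Nat.card_coe_set_eq, Set.coe_setOf] at hX3
      have h3pos : 0 < Nat.card {x : P // orderOf x = 3} := by
        obtain ⟨x, hx⟩ := exists_prime_orderOf_dvd_card' 3 (show 3 ∣ Nat.card P by rw [h]; norm_num)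
        haveI : Nonempty {x : P // orderOf x = 3} := ⟨⟨x, hx⟩⟩
        exact Nat.card_pos
      have hsum : Nat.card {x : P // orderOf x = 3} + Nat.card {x : P // orderOf x = 5} + 1 ≤ 30 := by
        rw [← h30, ← Nat.card_sum, ← Finite.card_option]
        refine Nat.card_le_card_of_injective (fun z => z.elim (1 : M)
          (Sum.elim (fun x => ⟨x.1, hmem3 _ x.2⟩) fun x => ⟨x.1, hmem5 _ x.2⟩)) ?_
        rintro (_ | (⟨x, hx⟩ | ⟨x, hx⟩)) (_ | (⟨y, hy⟩ | ⟨y, hy⟩)) e
        all_goals
          have e' := congrArg Subtype.val e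
          simp at e'
        all_goals first
          | rfl
          | (subst e'; rfl)
          | (subst e'; simp at hx; done)
          | (subst e'; simp at hy; done)
          | (subst e'; omega)
      have := card_prime_elements (p := 3) h3
      have h10 : 4 ≤ Nat.card (Sylow 3 P) := by
        by_contra hlt
        have hm := card_sylow_modEq_one 3 P
        unfold Nat.ModEq at hm
        have h1 : Nat.card (Sylow 3 P) = 1 := by omega
        obtain ⟨W⟩ : Nonempty (Sylow 3 P) := inferInstance
        haveI := (Nat.card_eq_one_iff_unique.1 h1).1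
        have hWn : (W : Subgroup P).Normal := Sylow.normal_of_subsingleton W
        have hV3 : ¬ (V : Subgroup P) ≤ W := fun hle => by
          have := card_dvd_of_le hle
          rw [hC, h3] at this
          omega
        have := hdiv _ hWn hV3
        rw [h3] at this
        omega
      omega
    · left
      rw [← card_eq_one (H := M)]
      have h5 : ¬ 5 ∣ Nat.card M := by
        intro h5
        obtain ⟨x, hx⟩ := exists_prime_orderOf_dvd_card' 5 h5
        obtain ⟨W, hW⟩ := exists_sylow_of_card (p := 5) (m := 12) h (by norm_num)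
          (C := zpowers (x : P)) (by rw [Nat.card_zpowers, orderOf_coe, hx])
        obtain ⟨g, hg⟩ := MulAction.exists_smul_eq P W V
        refine hVM ?_
        rw [← hg, Sylow.coe_subgroup_smul, hW]
        rintro _ ⟨v, hv, rfl⟩
        exact hM.conj_mem v (zpowers_le.2 x.2 hv) g
      have h1 := hdiv M hM hVM
      have key : ∀ d ∈ (60 : ℕ).divisors, ¬ 5 ∣ d → 5 ∣ d - 1 → d = 1 ∨ d = 6 := by decide
      rcases key _ (Nat.mem_divisors.2 ⟨hdvd, by norm_num⟩) h5 h1 with h6' | h6'
      · exact h6'
      · exfalso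
        obtain ⟨W⟩ : Nonempty (Sylow 3 M) := inferInstance
        have hW3 := card_sylow_eq_prime (m := 2) h6' (by norm_num) W
        haveI : (W : Subgroup M).Normal := normal_of_index_eq_two (by
          have := (W : Subgroup M).index_mul_card
          rw [hW3, h6'] at this
          omega)
        haveI := Sylow.characteristic_of_normal W inferInstance
        haveI := hM
        have hn : ((W : Subgroup M).map M.subtype).Normal := inferInstance
        have hc3 : Nat.card ↥((W : Subgroup M).map M.subtype) = 3 := by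
          rw [card_map_of_injective M.subtype_injective, hW3]
        have := hdiv _ hn fun hle => hVM (hle.trans (map_subtype_le _))
        rw [hc3] at this
        omega
  exact SmallSimple.mulEquiv_alternating_five h

end Cfsg.Agent.SL2Sub

namespace Cfsg.Agent.SL2

open Matrix

variable {F : Type*} [Field F]

local notation "G" => Matrix.SpecialLinearGroup (Fin 2) F
local notation "PS" => Matrix.ProjectiveSpecialLinearGroup (Fin 2) F

theorem card_torus [Fintype F] (g : G) :
    Nat.gcd 2 (Fintype.card F - 1) * Nat.card (torus g) = Nat.card (cent g) := by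
  have hsurj := (π (F := F)).subgroupMap_surjective (cent g)
  have hker : Nat.card ((π (F := F)).subgroupMap (cent g)).ker =
      Nat.gcd 2 (Fintype.card F - 1) := by
    have h := LinGrp.natCard_center_SL (n := Fin 2) (F := F)
    rw [Fintype.card_fin, Nat.card_eq_fintype_card (α := F)] at h
    rw [← h]
    refine Nat.card_congr
      { toFun := fun x => ⟨x.1.1, ?_⟩
        invFun := fun z => ⟨⟨z.1, mem_cent.2 (Subgroup.mem_center_iff.1 z.2 g)⟩, ?_⟩
        left_inv := fun x => rfl
        right_inv := fun z => rfl }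
    · exact (scal_iff_mem_center _).1 (π_eq_one.1 (congrArg Subtype.val x.2))
    · exact Subtype.ext (π_eq_one.2 ((scal_iff_mem_center _).2 z.2))
  rw [← hker, Subgroup.card_eq_card_quotient_mul_card_subgroup ((π (F := F)).subgroupMap (cent g)).ker,
    Nat.card_congr (QuotientGroup.quotientKerEquivOfSurjective _ hsurj).toEquiv, mul_comm]
  rfl

theorem card_psl [Fintype F] :
    Nat.gcd 2 (Fintype.card F - 1) * Nat.card PS =
      Fintype.card F * ((Fintype.card F - 1) * (Fintype.card F + 1)) := by
  have h := LinGrp.natCard_PSL_mul (n := Fin 2) (F := F)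
  rwa [Fintype.card_fin, Nat.card_eq_fintype_card (α := F), card_G] at h

theorem card_pgl [Fintype F] :
    Nat.card (Matrix.ProjGenLinGroup (Fin 2) F) =
      Fintype.card F * ((Fintype.card F - 1) * (Fintype.card F + 1)) := by
  have h := LinGrp.natCard_GL_eq (n := Fin 2) (F := F)
  have hsc : Function.Injective (Matrix.GeneralLinearGroup.scalar (Fin 2) : Fˣ → GL (Fin 2) F) :=
    fun a b e => Units.ext (by simpa using congrArg (fun g : GL (Fin 2) F => (g : Matrix (Fin 2) (Fin 2) F) 0 0) e)
  have hcen : Nat.card (Subgroup.center (GL (Fin 2) F)) = Fintype.card F - 1 := by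
    rw [Matrix.GeneralLinearGroup.center_eq_range_scalar,
      ← Nat.card_congr (MonoidHom.ofInjective hsc).toEquiv, Nat.card_units,
      Nat.card_eq_fintype_card (α := F)]
  rw [Subgroup.card_eq_card_quotient_mul_card_subgroup (Subgroup.center (GL (Fin 2) F)), hcen,
    Nat.card_eq_fintype_card (α := F), card_G, mul_comm (Fintype.card F - 1)] at h
  have hq := two_le_q (F := F)
  exact Nat.eq_of_mul_eq_mul_right (show 0 < Fintype.card F - 1 by omega) h

theorem pgl_congr {K L : Type*} [Field K] [Field L] (φ : K ≃+* L) :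
    Nonempty (Matrix.ProjGenLinGroup (Fin 2) K ≃* Matrix.ProjGenLinGroup (Fin 2) L) := by
  refine ⟨MonoidHom.toMulEquiv (Matrix.ProjGenLinGroup.map φ.toRingHom)
    (Matrix.ProjGenLinGroup.map φ.symm.toRingHom) ?_ ?_⟩ <;>
    refine MonoidHom.ext fun g => ?_ <;>
    induction g using Matrix.ProjGenLinGroup.induction_on with | mk g => ?_
  all_goals
    simp only [MonoidHom.comp_apply, Matrix.ProjGenLinGroup.map_mk, MonoidHom.id_apply]
    congr 1
    ext i j
    simp

end Cfsg.Agent.SL2
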