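import Cfsg.Agent.Lib.SL2.DicksonBig

/-!
# Dickson's theorem on the subgroups of `PSL(2, q)`
-/

set_option autoImplicit false
set_option linter.unusedSectionVars false

namespace Cfsg.Agent.SL2

open Matrix

variable {F : Type*} [Field F] [Fintype F]

local notation "G" => Matrix.SpecialLinearGroup (Fin 2) F
local notation "M2" => Matrix (Fin 2) (Fin 2) F
local notation "PS" => Matrix.ProjectiveSpecialLinearGroup (Fin 2) F
local notation "q" => Fintype.card F

/-- Orders of tori. -/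
theorem card_torus_cases {g : G} (ht : tr g ^ 2 ≠ 4) :
    ((∀ a : F, a * (tr g - a) ≠ 1) ∧ Nat.card (torus g) = (q + 1) / Nat.gcd 2 (q - 1)) ∨
      ((∃ a : F, a * (tr g - a) = 1) ∧ Nat.card (torus g) = (q - 1) / Nat.gcd 2 (q - 1)) := by
  have h := card_torus g
  have h0 : 0 < Nat.gcd 2 (q - 1) := Nat.gcd_pos_of_pos_left _ two_pos
  rcases card_cent_regular ht with ⟨h1, hc, -⟩ | ⟨h1, hc, -⟩ <;> rw [hc] at h
  · exact Or.inl ⟨h1, (Nat.div_eq_of_eq_mul_right h0 h.symm).symm⟩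
  · exact Or.inr ⟨h1, (Nat.div_eq_of_eq_mul_right h0 h.symm).symm⟩

theorem card_subgroupOf_dvd (r : G) (H : Subgroup PS) :
    Nat.card ((torus r).subgroupOf H) ∣ Nat.card (torus r) := by
  rw [← Subgroup.inf_subgroupOf_right, Nat.card_congr (Subgroup.subgroupOfEquivOfLe inf_le_right).toEquiv]
  exact Subgroup.card_dvd_of_le inf_le_left

/-- Dickson: the subgroups of `PSL(2, q)`. -/
theorem dickson (p : ℕ) [Fact p.Prime] [CharP F p] (H : Subgroup PS) :
    (∃ r : G, tr r ^ 2 ≠ 4 ∧ H ≤ torus r ∧ IsCyclic H) ∨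
    (∃ r : G, tr r ^ 2 ≠ 4 ∧ H ≤ Subgroup.normalizer (torus r : Set PS) ∧
      ∃ k : ℕ, 2 ≤ k ∧ k ∣ Nat.card (torus r) ∧ Nonempty (H ≃* DihedralGroup k)) ∨
    (∃ g : PS, ∀ x ∈ H, g * x * g⁻¹ ∈ (B0 : Subgroup PS)) ∨
    (p ≠ 2 ∧ Nonempty (H ≃* alternatingGroup (Fin 4))) ∨
    (p ≠ 2 ∧ Nonempty (H ≃* Equiv.Perm (Fin 4))) ∨
    (p ≠ 2 ∧ p ≠ 5 ∧ Nonempty (H ≃* alternatingGroup (Fin 5))) ∨
    ∃ (K : Subfield F) (γ : Matrix.ProjGenLinGroup (Fin 2) F), 4 ≤ Nat.card K ∧
      ((Nonempty (H ≃* Matrix.ProjectiveSpecialLinearGroup (Fin 2) K) ∧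
        (H.map Matrix.ProjectiveSpecialLinearGroup.toPGL).map (MulAut.conj γ).toMonoidHom =
          ((Matrix.ProjGenLinGroup.map K.subtype).comp Matrix.ProjectiveSpecialLinearGroup.toPGL).range) ∨
      (Nonempty (H ≃* Matrix.ProjGenLinGroup (Fin 2) K) ∧
        (H.map Matrix.ProjectiveSpecialLinearGroup.toPGL).map (MulAut.conj γ).toMonoidHom =
          (Matrix.ProjGenLinGroup.map K.subtype).range)) := by
  classical
  haveI : Finite PS := Finite.of_surjective _ π_surjective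
  obtain ⟨S, hT, g, hgU, hgN⟩ := exists_shape (p := p) H
  have hsyl : ∀ k : ℕ, p ^ k ∣ Nat.card H → p ^ k ≤ Nat.card ↥(S.U : Subgroup H) := fun k hk =>
    Nat.le_of_dvd Nat.card_pos (S.U.pow_dvd_card_of_pow_dvd_card hk)
  rcases S.classify with h | ⟨A, hA, htop⟩ | ⟨A, hA, hidx, x, hxA, hx2, hinv⟩ | ⟨hU, hN⟩ |
    ⟨h, hQ3, C, hC, hNC⟩ | ⟨h, hQ3, C, hC, hNC, hcC⟩ | ⟨h, hQ3, C, hC, hNC, hcC⟩ |
    ⟨t, hQ, ht, hN, hk, A, hA, hAN, hAt, hNA⟩
  · obtain ⟨r, hr⟩ := exists_noEig (F := F)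
    haveI : Subsingleton H := (Nat.card_eq_one_iff_unique.1 h).1
    refine Or.inl ⟨r, hr.tr_sq, fun y hy => ?_, isCyclic_of_subsingleton⟩
    rw [show y = 1 from congrArg Subtype.val (Subsingleton.elim (⟨y, hy⟩ : H) 1)]
    exact one_mem _
  · obtain ⟨r, hr, rfl⟩ := hT A hA
    refine Or.inl ⟨r, hr, fun y hy => ?_, ?_⟩
    · exact Subgroup.mem_subgroupOf.1 (htop ▸ Subgroup.mem_top (⟨y, hy⟩ : H) :
        (⟨y, hy⟩ : H) ∈ (torus r).subgroupOf H)
    · haveI := S.cyclic _ hA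
      exact isCyclic_of_surjective ((torus r).subgroupOf H).subtype fun y =>
        ⟨⟨y, htop ▸ Subgroup.mem_top y⟩, rfl⟩
  · obtain ⟨r, hr, rfl⟩ := hT A hA
    refine Or.inr (Or.inl ⟨r, hr, ?_, Nat.card ((torus r).subgroupOf H), S.two_le_card hA,
      card_subgroupOf_dvd r H, ?_⟩)
    · intro y hy
      obtain ⟨s, rfl⟩ := π_surjective y
      haveI : ((torus r).subgroupOf H).Normal := Subgroup.normal_of_index_eq_two hidx
      obtain ⟨a, ha, ha1⟩ := ((torus r).subgroupOf H).bot_or_exists_ne_one.resolve_left (S.ne_bot _ hA)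
      have hc : π s * (a : PS) * (π s)⁻¹ ∈ torus r :=
        Subgroup.mem_subgroupOf.1 (Subgroup.Normal.conj_mem inferInstance a ha ⟨π s, hy⟩)
      have heq : torus (s * r * s⁻¹) = torus r := by
        refine torus_eq_of_mem (not_scal_conj (scal_of_tr_sq_ne hr) _) (scal_of_tr_sq_ne hr)
          (y := π s * (a : PS) * (π s)⁻¹) (fun e => ha1 (Subtype.ext (conj_eq_one_iff.1 e))) ?_ hc
        rw [torus_conj, show (π s)⁻¹ * (π s * (a : PS) * (π s)⁻¹) * π s = a by group]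
        exact Subgroup.mem_subgroupOf.1 ha
      rw [Subgroup.mem_normalizer_iff]
      intro z
      nth_rewrite 2 [← heq]
      rw [torus_conj, show (π s)⁻¹ * (π s * z * (π s)⁻¹) * π s = z by group]
    · haveI := S.cyclic _ hA
      obtain ⟨⟨d, hd⟩, hgen⟩ := IsCyclic.exists_ofOrder_eq_natCard (α := (torus r).subgroupOf H)
      have hz : Subgroup.zpowers d = (torus r).subgroupOf H :=
        Subgroup.eq_of_le_of_card_ge (Subgroup.zpowers_le.2 hd) (by
          rw [Nat.card_zpowers, ← hgen, Subgroup.orderOf_mk])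
      obtain ⟨e⟩ := Invol.nonempty_dihedralEquiv hx2 (hinv d hd) (fun h => hxA (hz ▸ h))
      have hcl : Subgroup.closure ({x, d} : Set H) = ⊤ := by
        rw [eq_top_iff]
        intro y _
        have hle : (torus r).subgroupOf H ≤ Subgroup.closure ({x, d} : Set H) :=
          hz ▸ Subgroup.zpowers_le.2 (Subgroup.subset_closure (by simp))
        by_cases hy : y ∈ (torus r).subgroupOf H
        · exact hle hy
        · have hxy : x * y ∈ (torus r).subgroupOf H := by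
            rw [Subgroup.mul_mem_iff_of_index_two hidx]
            exact iff_of_false hxA hy
          simpa using mul_mem (inv_mem (Subgroup.subset_closure (by simp : x ∈ ({x, d} : Set H)))) (hle hxy)
      rw [show Nat.card ((torus r).subgroupOf H) = orderOf d by rw [← Nat.card_zpowers, hz]]
      exact ⟨((e.trans (MulEquiv.subgroupCongr hcl)).trans Subgroup.topEquiv).symm⟩
  · exact Or.inr (Or.inr (Or.inl ⟨g, fun y hy => (hgN hU ⟨y, hy⟩).1 (hN ▸ Subgroup.mem_top _)⟩))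
  · refine Or.inr (Or.inr (Or.inr (Or.inl ⟨fun hp => ?_, SL2Sub.mulEquiv_alt_four h hC hNC⟩)))
    subst hp
    have := hsyl 2 (by rw [h]; norm_num)
    omega
  · refine Or.inr (Or.inr (Or.inr (Or.inr (Or.inl
      ⟨fun hp => ?_, SL2Sub.mulEquiv_perm_four h hC hNC hcC⟩))))
    subst hp
    have := hsyl 2 (by rw [h]; norm_num)
    omega
  · refine Or.inr (Or.inr (Or.inr (Or.inr (Or.inr (Or.inl
      ⟨fun hp => ?_, fun hp => ?_, SL2Sub.mulEquiv_alt_five h hC hNC hcC⟩)))))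
    · subst hp
      have := hsyl 2 (by rw [h]; norm_num)
      omega
    · subst hp
      have := hsyl 1 (by rw [h]; norm_num)
      omega
  · exact Or.inr (Or.inr (Or.inr (Or.inr (Or.inr (Or.inr
      (big_case S hT g hgU (hgN (fun h => by rw [h, Subgroup.card_bot] at hQ; omega))
        hQ ht hN hk hA hAN hAt hNA))))))

/-- `W0` is a Sylow subgroup normalised by `B0`. -/
theorem exists_sylow_W0 (p : ℕ) [Fact p.Prime] [CharP F p] :
    ∃ V : Sylow p PS, (V : Subgroup PS) = W0 ∧ (B0 : Subgroup PS) ≤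
      Subgroup.normalizer ((V : Subgroup PS) : Set PS) := by
  classical
  haveI : Finite PS := Finite.of_surjective _ π_surjective
  obtain ⟨n, hp, hq⟩ := FiniteField.card F p
  have hW : IsPGroup p (W0 : Subgroup PS) := fun x => ⟨1, Subtype.ext (by
    rw [pow_one, SubgroupClass.coe_pow, B0_exponent x.2, Subgroup.coe_one])⟩
  obtain ⟨V, hV⟩ := hW.exists_le_sylow
  have hWc : Nat.card (W0 : Subgroup PS) = q := by
    rw [← Nat.card_eq_fintype_card]
    exact (Nat.card_congr (Equiv.ofBijective (fun b : F => (⟨π (uu b), b, rfl⟩ : (W0 : Subgroup PS)))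
      ⟨fun a b h => pi_uu_inj (congrArg Subtype.val h), fun ⟨y, b, hb⟩ => ⟨b, Subtype.ext hb⟩⟩)).symm
  obtain ⟨m, hm⟩ : Nat.gcd 2 (q - 1) ∣ q - 1 := Nat.gcd_dvd_right _ _
  have h0 : 0 < Nat.gcd 2 (q - 1) := Nat.gcd_pos_of_pos_left _ two_pos
  have hcard : Nat.card PS = p ^ (n : ℕ) * (m * (q + 1)) := by
    have h := card_psl (F := F)
    rw [show (q - 1) * (q + 1) = Nat.gcd 2 (q - 1) * (m * (q + 1)) by rw [← mul_assoc, ← hm]] at h
    refine Nat.eq_of_mul_eq_mul_left h0 ?_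
    rw [h, ← hq]; ring
  have hpq : p ∣ q := hq ▸ dvd_pow_self p n.ne_zero
  have hq2 := two_le_q (F := F)
  have hm' : ¬ p ∣ m * (q + 1) := by
    intro hd
    rcases hp.dvd_mul.1 hd with hd | hd
    · have := Nat.dvd_sub hpq (hm ▸ dvd_mul_of_dvd_right hd _ : p ∣ q - 1)
      rw [show q - (q - 1) = 1 by omega] at this
      exact hp.one_lt.ne' (Nat.dvd_one.1 this)
    · exact hp.one_lt.ne' (Nat.dvd_one.1 ((Nat.dvd_add_right hpq).1 hd))
  have hVW : (V : Subgroup PS) = W0 := (Subgroup.eq_of_le_of_card_ge hV (by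
    rw [hWc, SmallSimple.card_sylow_of_eq V hcard hm', hq])).symm
  refine ⟨V, hVW, fun y hy => ?_⟩
  rw [hVW, Subgroup.mem_normalizer_iff]
  exact fun w => ⟨conj_mem_W0 hy, fun h => by simpa [mul_assoc] using conj_mem_W0 (inv_mem hy) h⟩

/-- A model in `Type` of a finite field of characteristic `p`. -/
theorem exists_model {p : ℕ} [Fact p.Prime] [CharP F p] (K : Subfield F) :
    ∃ (L : Type) (_ : Field L) (_ : Fintype L) (m : ℕ),
      Fintype.card L ^ m = q ∧ Fintype.card L = Nat.card K ∧ Nonempty (K ≃+* L) := by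
  classical
  haveI : Fintype K := Fintype.ofFinite K
  haveI : CharP K p := K.subtype.charP K.subtype.injective p
  obtain ⟨j, -, hj⟩ := FiniteField.card K p
  haveI : Fintype (GaloisField p j) := Fintype.ofFinite _
  have hL : Fintype.card (GaloisField p j) = Fintype.card K := by
    rw [← Nat.card_eq_fintype_card, GaloisField.card p j j.ne_zero, hj]
  refine ⟨GaloisField p j, inferInstance, inferInstance, Module.finrank K F, ?_, ?_,
    ⟨FiniteField.ringEquivOfCardEq (K := K) (K' := GaloisField p j) hL.symm⟩⟩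
  · rw [hL]; exact (Module.card_eq_pow_finrank (K := K) (V := F)).symm
  · rw [hL, Nat.card_eq_fintype_card]

end Cfsg.Agent.SL2
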