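import Cfsg.Agent.Lib.SL2.BlocksOdd
import Cfsg.Agent.Lib.SL2.SylowTwo
import Cfsg.Agent.Lib.CT.Degree
import Cfsg.Prelude.Def_Blocks

/-!
# Characters of `ℓ'`-degree of `SL(2, q)` and of its Sylow normalisers, `q` odd
-/

set_option autoImplicit false
set_option linter.unusedSectionVars false

namespace Cfsg.Agent.SL2

universe u v

/-- The number of irreducible characters of degree prime to `ℓ`. -/
noncomputable def pdeg (ℓ : ℕ) (H : Type u) [Group H] : ℕ :=
  Nat.card {χ : Cfsg.IrrCharacter H // ¬ ℓ ∣ Cfsg.charDegree (χ : H → ℂ)}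

/-- Transport of irreducible characters along an isomorphism. -/
def irrEquiv {H : Type u} {K : Type v} [Group H] [Group K] (e : H ≃* K) :
    Cfsg.IrrCharacter K ≃ Cfsg.IrrCharacter H where
  toFun χ := ⟨fun x => (χ : K → ℂ) (e x), CT.isIrrCharacter_comp e.toMonoidHom e.surjective χ.2⟩
  invFun χ := ⟨fun x => (χ : H → ℂ) (e.symm x),
    CT.isIrrCharacter_comp e.symm.toMonoidHom e.symm.surjective χ.2⟩
  left_inv χ := Subtype.ext (funext fun x => by simp)
  right_inv χ := Subtype.ext (funext fun x => by simp)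

theorem pdeg_congr (ℓ : ℕ) {H : Type u} {K : Type v} [Group H] [Group K] (e : H ≃* K) :
    pdeg ℓ H = pdeg ℓ K :=
  (Nat.card_congr ((irrEquiv e).subtypeEquiv fun χ => by
    show _ ↔ ¬ ℓ ∣ Cfsg.charDegree fun x => (χ : K → ℂ) (e x)
    simp only [Cfsg.charDegree, map_one])).symm

theorem pdeg_eq_classes {ℓ : ℕ} {H : Type u} [Group H] [Finite H]
    (h : ∀ χ : Cfsg.IrrCharacter H, ¬ ℓ ∣ Cfsg.charDegree (χ : H → ℂ)) :
    pdeg ℓ H = Nat.card (ConjClasses H) := by
  rw [pdeg, Nat.card_congr (Equiv.subtypeUnivEquiv h), CT.card_irr_eq_card_conjClasses]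

theorem charDegree_eq {H : Type u} [Group H] (χ : Cfsg.IrrCharacter H) :
    (χ : H → ℂ) 1 = (Cfsg.charDegree (χ : H → ℂ) : ℂ) :=
  CT.deg_eq (CT.isCharacter_of_isIrr χ.2)

theorem charDegree_pos' {H : Type u} [Group H] (χ : Cfsg.IrrCharacter H) :
    0 < Cfsg.charDegree (χ : H → ℂ) :=
  CT.deg_pos χ.2

theorem charDegree_dvd_index {H : Type u} [Group H] [Finite H] (C : Subgroup H) [C.Normal]
    (hc : ∀ a b : C, a * b = b * a) (χ : Cfsg.IrrCharacter H) :
    Cfsg.charDegree (χ : H → ℂ) ∣ C.index := by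
  haveI := Fintype.ofFinite H
  haveI := Fintype.ofFinite C
  exact CT.deg_dvd_index_of_comm C χ.2 hc

theorem charDegree_dvd_card' {H : Type u} [Group H] [Finite H] (χ : Cfsg.IrrCharacter H) :
    Cfsg.charDegree (χ : H → ℂ) ∣ Nat.card H := by
  have h := charDegree_dvd_index (⊥ : Subgroup H)
    (fun a b => Subsingleton.elim _ _) χ
  rwa [Subgroup.index_bot] at h

theorem sum_sq_charDegree {H : Type u} [Group H] [Fintype H] :
    ∑ χ : Cfsg.IrrCharacter H, Cfsg.charDegree (χ : H → ℂ) ^ 2 = Nat.card H := by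
  have h : ∑ χ : Cfsg.IrrCharacter H, (χ : H → ℂ) 1 ^ 2 = (Nat.card H : ℂ) := CT.sum_degree_sq
  simp only [charDegree_eq] at h
  exact_mod_cast h

/-- Normaliser of a cyclic subgroup of index two with inversion. -/
theorem inverted_pdeg {H : Type u} [Group H] [Finite H] (C : Subgroup H) [IsCyclic C] {m : ℕ}
    (hC : Nat.card C = 2 * m) (hN : Nat.card H = 2 * (2 * m))
    (hinv : ∀ x ∉ C, ∀ c ∈ C, x * c * x⁻¹ = c⁻¹) :
    (∀ χ : Cfsg.IrrCharacter H, Cfsg.charDegree (χ : H → ℂ) ∣ 2) ∧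
      (∀ ℓ : ℕ, ℓ.Prime → ℓ ≠ 2 → pdeg ℓ H = m + 3) ∧ pdeg 2 H = 4 := by
  classical
  haveI := Fintype.ofFinite H
  have hidx : C.index = 2 := by
    have h := C.card_mul_index
    rw [hC, hN] at h
    have hm : 0 < 2 * m := by rw [← hC]; exact Nat.card_pos
    exact Nat.eq_of_mul_eq_mul_left hm (by rw [h]; ring)
  haveI : C.Normal := Subgroup.normal_of_index_eq_two hidx
  letI : CommGroup C := IsCyclic.commGroup
  have hd : ∀ χ : Cfsg.IrrCharacter H, Cfsg.charDegree (χ : H → ℂ) ∣ 2 := fun χ =>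
    hidx ▸ charDegree_dvd_index C (fun a b => mul_comm a b) χ
  have hcl := card_conjClasses_invert C hC hN hinv
  refine ⟨hd, fun ℓ hl hl2 => ?_, ?_⟩
  · rw [pdeg_eq_classes (fun χ h => hl2 ((Nat.prime_dvd_prime_iff_eq hl Nat.prime_two).1
      (h.trans (hd χ)))), hcl]
  · have hs := sum_sq_charDegree (H := H)
    have hcase : ∀ χ : Cfsg.IrrCharacter H,
        Cfsg.charDegree (χ : H → ℂ) = 1 ∨ Cfsg.charDegree (χ : H → ℂ) = 2 := fun χ =>
      (Nat.dvd_prime Nat.prime_two).1 (hd χ)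
    have e : ∀ χ : Cfsg.IrrCharacter H, Cfsg.charDegree (χ : H → ℂ) ^ 2 +
        3 * (if ¬ 2 ∣ Cfsg.charDegree (χ : H → ℂ) then 1 else 0) = 4 := fun χ => by
      rcases hcase χ with h | h <;> rw [h] <;> norm_num
    have h2 := Finset.sum_congr (s₁ := (Finset.univ : Finset (Cfsg.IrrCharacter H))) rfl
      (fun χ _ => e χ)
    rw [Finset.sum_add_distrib, hs, ← Finset.mul_sum, Finset.sum_const, Finset.card_univ,
      ← Nat.card_eq_fintype_card (α := Cfsg.IrrCharacter H), CT.card_irr_eq_card_conjClasses, hcl,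
      Finset.sum_boole, smul_eq_mul] at h2
    rw [pdeg, Nat.card_eq_fintype_card, Fintype.card_subtype]
    push_cast at h2
    omega

open Matrix

variable {F : Type*} [Field F]

local notation "G" => Matrix.SpecialLinearGroup (Fin 2) F
local notation "M2" => Matrix (Fin 2) (Fin 2) F

/-- The map onto the upper unitriangular group. -/
def uuHom : Multiplicative F →* G :=
  MonoidHom.mk' (fun r => uu (Multiplicative.toAdd r)) fun r s => (uu_mul _ _).symm

theorem mem_uuHom_range {g : G} :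
    g ∈ (uuHom : Multiplicative F →* G).range ↔
      (g : M2) 1 0 = 0 ∧ (g : M2) 0 0 = 1 ∧ (g : M2) 1 1 = 1 := by
  constructor
  · rintro ⟨r, rfl⟩
    exact ⟨by simp [uuHom, coe_uu'], by simp [uuHom, coe_uu'], by simp [uuHom, coe_uu']⟩
  · rintro ⟨a, b, c⟩
    exact ⟨Multiplicative.ofAdd ((g : M2) 0 1), (eq_uu_of_unitri' a b c).symm⟩
where
  eq_uu_of_unitri' {g : G} (a : (g : M2) 1 0 = 0) (b : (g : M2) 0 0 = 1)
      (c : (g : M2) 1 1 = 1) : g = uu ((g : M2) 0 1) := by
    apply ext4 <;> simp [coe_uu', a, b, c]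

variable [Fintype F]

local notation "q" => Fintype.card F

theorem uuHom_injective : Function.Injective (uuHom : Multiplicative F →* G) := fun a b h => by
  have := congrArg (fun g : G => (g : M2) 0 1) h
  simpa [uuHom, coe_uu'] using this

theorem card_uuHom_range : Nat.card (uuHom : Multiplicative F →* G).range = q := by
  rw [← Nat.card_congr (MonoidHom.ofInjective (f := (uuHom : Multiplicative F →* G))
    uuHom_injective).toEquiv, Nat.card_congr (Multiplicative.toAdd : Multiplicative F ≃ F),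
    nat_card_F]

theorem conj_mem_uuHom_range {x g : G} (hx : (x : M2) 1 0 = 0)
    (hg : g ∈ (uuHom : Multiplicative F →* G).range) :
    x * g * x⁻¹ ∈ (uuHom : Multiplicative F →* G).range := by
  rw [mem_uuHom_range] at hg ⊢
  obtain ⟨h1, h2, h3⟩ := hg
  obtain ⟨-, h0, h11⟩ := upper_root hx
  simp only [Matrix.SpecialLinearGroup.coe_mul, coe_inv']
  simp [tr, Matrix.mul_apply, Fin.sum_univ_two, hx, h1, h2, h3, h11, mul_inv_cancel₀ h0,
    inv_mul_cancel₀ h0]

theorem normalizer_uu :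
    ∀ x : G, x ∈ Subgroup.normalizer (((uuHom : Multiplicative F →* G).range : Subgroup G) : Set G) ↔
      (x : M2) 1 0 = 0 := by
  intro x
  constructor
  · intro hx
    have h1 := (Subgroup.mem_normalizer_iff.1 hx (uu 1)).1 ⟨Multiplicative.ofAdd 1, rfl⟩
    have h2 := (mem_uuHom_range.1 h1).1
    simp only [Matrix.SpecialLinearGroup.coe_mul, coe_inv', coe_uu'] at h2
    simp [tr, Matrix.mul_apply, Fin.sum_univ_two] at h2
    exact pow_eq_zero_iff two_ne_zero |>.1 (by linear_combination -h2)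
  · intro hx
    rw [Subgroup.mem_normalizer_iff]
    intro g
    refine ⟨conj_mem_uuHom_range hx, fun h => ?_⟩
    have hx' : ((x⁻¹ : G) : M2) 1 0 = 0 := by rw [coe_inv']; simp [hx]
    have := conj_mem_uuHom_range hx' h
    rwa [show x⁻¹ * (x * g * x⁻¹) * x⁻¹⁻¹ = g by group] at this

theorem pdeg_normalizer_defining (hodd : Odd q) {p : ℕ} [Fact p.Prime] [CharP F p]
    (S : Sylow p G) : pdeg p (Subgroup.normalizer ((S : Subgroup G) : Set G)) = q + 3 := by
  classical
  have hp : p.Prime := Fact.out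
  obtain ⟨n, -, hn⟩ := FiniteField.card F p
  have hpq : p ∣ q := by rw [hn]; exact dvd_pow_self p n.ne_zero
  have hq := two_le_q (F := F)
  have hm1 : ¬ p ∣ q - 1 := fun h => hp.not_dvd_one
    ((Nat.dvd_add_right h).1 (by rwa [Nat.sub_add_cancel (by omega)]))
  have hp1 : ¬ p ∣ q + 1 := fun h => hp.not_dvd_one ((Nat.dvd_add_right hpq).1 h)
  set U : Subgroup G := (uuHom : Multiplicative F →* G).range with hU
  have hUcard : Nat.card U = p ^ (Nat.card G).factorization p := by
    rw [card_uuHom_range, card_G, Nat.factorization_mul (by omega)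
      (Nat.mul_ne_zero (by omega) (by omega)), Finsupp.add_apply,
      Nat.factorization_eq_zero_of_not_dvd (fun h => (hp.dvd_mul.1 h).elim hm1 hp1), add_zero,
      hn, hp.factorization_pow, Finsupp.single_eq_same]
  obtain ⟨x, hx⟩ := MulAction.exists_smul_eq G (Sylow.ofCard U hUcard) S
  have e : Subgroup.normalizer ((S : Subgroup G) : Set G) =
      (Subgroup.normalizer (U : Set G)).map (MulAut.conj x).toMonoidHom := by
    rw [← hx, Subgroup.map_equiv_normalizer_eq U (MulAut.conj x)]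
    rfl
  rw [pdeg_congr p (MulEquiv.subgroupCongr e),
    ← pdeg_congr p (Subgroup.equivMapOfInjective _ _ (MulAut.conj x).injective)]
  set B := Subgroup.normalizer (U : Set G) with hB
  have hBmem : ∀ g : G, g ∈ B ↔ (g : M2) 1 0 = 0 := normalizer_uu
  have hle : U ≤ B := Subgroup.le_normalizer
  rw [pdeg_eq_classes (fun χ h => ?_), card_classes_borel hodd B hBmem]
  haveI : (U.subgroupOf B).Normal := Subgroup.normal_in_normalizer
  have hd := charDegree_dvd_index (U.subgroupOf B) (fun a b => by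
    obtain ⟨r, hr⟩ := (Subgroup.mem_subgroupOf.1 a.2 : ((a : B) : G) ∈ U)
    obtain ⟨s, hs⟩ := (Subgroup.mem_subgroupOf.1 b.2 : ((b : B) : G) ∈ U)
    apply Subtype.ext; apply Subtype.ext
    show ((a : B) : G) * ((b : B) : G) = ((b : B) : G) * ((a : B) : G)
    rw [← hr, ← hs, ← map_mul, ← map_mul, mul_comm]) χ
  have hidx : (U.subgroupOf B).index = q - 1 := by
    have h1 := (U.subgroupOf B).card_mul_index
    rw [Nat.card_congr (Subgroup.subgroupOfEquivOfLe hle).toEquiv, card_uuHom_range,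
      Nat.card_congr ((Equiv.subtypeEquivRight hBmem).trans upperEquiv), Nat.card_prod,
      Nat.card_units, nat_card_F, mul_comm (q - 1) q] at h1
    exact Nat.eq_of_mul_eq_mul_left (by omega) h1
  exact hm1 (h.trans (hidx ▸ hd))

theorem pdeg_normalizer_torus (hodd : Odd q) {ℓ : ℕ} [Fact ℓ.Prime] (hℓ : ℓ ≠ 2) {n : ℕ}
    (hn : n = q - 1 ∧ ℓ ∣ q - 1 ∨ n = q + 1 ∧ ℓ ∣ q + 1) (S : Sylow ℓ G) :
    pdeg ℓ (Subgroup.normalizer ((S : Subgroup G) : Set G)) = n / 2 + 3 := by
  classical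
  obtain ⟨g, ht, hc, -, hN⟩ := sylow_torus hodd hℓ hn S
  rw [hN]
  set N := Subgroup.normalizer (cent g : Set G) with hNdef
  have := isCyclic_cent ht
  let e := Subgroup.subgroupOfEquivOfLe (Subgroup.le_normalizer (H := cent g))
  haveI : IsCyclic ((cent g).subgroupOf N) := isCyclic_of_surjective e.symm e.symm.surjective
  obtain ⟨k, hk⟩ := hodd
  have heven : n = 2 * (n / 2) := by rcases hn with ⟨rfl, -⟩ | ⟨rfl, -⟩ <;> omega
  refine (inverted_pdeg ((cent g).subgroupOf N) (m := n / 2) ?_ ?_ ?_).2.1 ℓ Fact.out hℓ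
  · rw [Nat.card_congr e.toEquiv, hc]; exact heven
  · rw [hNdef, card_normalizer_cent ht, hc, ← heven]
  · intro x hx c hc'
    rcases normalizer_act ht x.2 with ⟨h, -⟩ | ⟨-, h⟩
    · exact absurd (Subgroup.mem_subgroupOf.2 h) hx
    · exact Subtype.ext (h _ (Subgroup.mem_subgroupOf.1 hc'))

theorem pdeg_two_self_normalizing (hodd : Odd q) (S : Sylow 2 G) :
    pdeg 2 (S : Subgroup G) = 4 := by
  classical
  obtain ⟨g, h, a, hp, hgS, hhS, hh, hle, -, ha2, hcard, -⟩ := sylow_two_structure hodd S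
  have ht := tr_sq_of_tr_zero (two_ne_zero' hodd) (tr_zero_of_sq (two_ne_zero' hodd) hp.isq)
  set C := (cent g).subgroupOf (S : Subgroup G) with hC
  have hinv : ∀ x ∉ C, ∀ c ∈ C, x * c * x⁻¹ = c⁻¹ := fun x hx c hc => by
    rcases normalizer_act ht (hle x.2) with ⟨h', -⟩ | ⟨-, h'⟩
    · exact absurd (Subgroup.mem_subgroupOf.2 h') hx
    · exact Subtype.ext (h' _ (Subgroup.mem_subgroupOf.1 hc))
  have := isCyclic_cent ht
  haveI : IsCyclic C := isCyclic_of_injective
    (((S : Subgroup G).subtype.comp C.subtype).codRestrict (cent g)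
      fun c => Subgroup.mem_subgroupOf.1 c.2)
    (fun x y hxy => by
      have h1 := congrArg (fun z : cent g => (z : G)) hxy
      exact Subtype.ext (Subtype.ext h1))
  have hidx : C.index = 2 := by
    rw [Subgroup.index_eq_two_iff]
    refine ⟨⟨h, hhS⟩, fun b => ?_⟩
    by_cases hb : b ∈ C
    · refine Or.inr ⟨hb, fun hbh => hh ?_⟩
      have := C.mul_mem (C.inv_mem hb) hbh
      rw [inv_mul_cancel_left] at this
      exact Subgroup.mem_subgroupOf.1 this
    · refine Or.inl ⟨?_, hb⟩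
      rcases normalizer_act ht (hle b.2) with ⟨h', -⟩ | ⟨-, h'⟩
      · exact absurd (Subgroup.mem_subgroupOf.2 h') hb
      rcases normalizer_act ht (hle hhS) with ⟨h'', -⟩ | ⟨-, h''⟩
      · exact absurd h'' hh
      refine Subgroup.mem_subgroupOf.2 (mem_cent.2 ?_)
      have e : ((b : G) * h) * g * ((b : G) * h)⁻¹ = g := by
        rw [show ((b : G) * h) * g * ((b : G) * h)⁻¹ = (b : G) * (h * g * h⁻¹) * (b : G)⁻¹ by group,
          h'' g (self_mem_cent g), h' _ ((cent g).inv_mem (self_mem_cent g)), inv_inv]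
      exact (mul_inv_eq_iff_eq_mul.1 e).symm
  have hS : Nat.card C * 2 = 2 ^ (a + 1) := by
    have h' := C.card_mul_index
    rw [hidx, hcard] at h'
    exact h'
  obtain ⟨m, hm⟩ : ∃ m, Nat.card C = 2 * m := by
    refine ⟨2 ^ (a - 1), ?_⟩
    have e : 2 ^ (a + 1) = 2 * 2 ^ (a - 1) * 2 := by
      rw [show a + 1 = (a - 1) + 2 by omega, pow_add]; ring
    omega
  exact (inverted_pdeg C hm (by rw [← C.card_mul_index, hidx, hm]; ring) hinv).2.2

end Cfsg.Agent.SL2
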