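import Cfsg.Agent.Lib.SL2.Tori

/-!
# Quaternion subgroups of order `8` of `SL(2, q)`, `q` odd, and Sylow `2`-subgroups
-/

set_option autoImplicit false
set_option linter.unusedSectionVars false

namespace Cfsg.Agent.SL2

open Matrix

variable {F : Type*} [Field F]

local notation "G" => Matrix.SpecialLinearGroup (Fin 2) F
local notation "M2" => Matrix (Fin 2) (Fin 2) F

theorem coe_neg' (g : G) : ((-g : G) : M2) = -(g : M2) := Matrix.SpecialLinearGroup.coe_neg g

theorem tr_zero_of_sq (h2 : (2 : F) ≠ 0) {g : G} (h : g * g = -1) : tr g = 0 := by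
  by_contra ht
  have e := congrArg Subtype.val h
  rw [Matrix.SpecialLinearGroup.coe_mul, mul_self, coe_neg', Matrix.SpecialLinearGroup.coe_one] at e
  have e' : tr g • (g : M2) = 0 := by
    have := sub_eq_iff_eq_add.1 e
    simpa using this
  have hg : (g : M2) = 0 := (smul_eq_zero.1 e').resolve_left ht
  exact ht (by simp [tr, hg])

theorem sq_neg_one_of_tr {g : G} (h : tr g = 0) : g * g = -1 := by
  apply Subtype.ext
  rw [Matrix.SpecialLinearGroup.coe_mul, mul_self, h, coe_neg']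
  simp

theorem tr_sq_of_tr_zero (h2 : (2 : F) ≠ 0) {g : G} (h : tr g = 0) : tr g ^ 2 ≠ 4 := by
  rw [h]; intro h4
  exact mul_ne_zero h2 h2 (by linear_combination -h4)

theorem inv_of_sq {g : G} (h : g * g = -1) : g⁻¹ = -g :=
  inv_eq_of_mul_eq_one_right (by rw [mul_neg, h, neg_neg])

theorem eq_one_or_of_sq (h2 : (2 : F) ≠ 0) {g : G} (h : g * g = 1) : g = 1 ∨ g = -1 := by
  rw [← scal_iff]
  have hd := det_eq g
  have e := congrArg Subtype.val h
  rw [Matrix.SpecialLinearGroup.coe_mul, mul_self, Matrix.SpecialLinearGroup.coe_one] at e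
  have e01 := congrFun (congrFun e 0) 1
  have e10 := congrFun (congrFun e 1) 0
  have e00 := congrFun (congrFun e 0) 0
  have e11 := congrFun (congrFun e 1) 1
  simp at e01 e10 e00 e11
  have ht : tr g ≠ 0 := fun ht => h2 (by rw [ht] at e00; linear_combination -e00)
  exact ⟨e01.resolve_left ht, e10.resolve_left ht,
    mul_left_cancel₀ ht (by linear_combination e00 - e11)⟩

/-- A quaternion pair. -/
structure QPair (i j : G) : Prop where
  isq : i * i = -1
  jsq : j * j = -1
  anti : j * i = -(i * j)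

namespace QPair

variable {i j : Matrix.SpecialLinearGroup (Fin 2) F}

theorem ksq (h : QPair i j) : (i * j) * (i * j) = -1 := by
  rw [show i * j * (i * j) = i * (j * i) * j by group, h.anti, mul_neg, neg_mul, ← mul_assoc i i j,
    h.isq, neg_one_mul, neg_mul, h.jsq]
  simp

theorem conj_ij (h : QPair i j) : i * j * i⁻¹ = -j := by
  rw [inv_of_sq h.isq, mul_neg, mul_assoc, h.anti, mul_neg, neg_neg, ← mul_assoc, h.isq, neg_one_mul]

theorem conj_ji (h : QPair i j) : j * i * j⁻¹ = -i := by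
  rw [h.anti, neg_mul, mul_inv_cancel_right]

theorem neg (h : QPair i j) : QPair (-i) j :=
  ⟨by rw [neg_mul_neg, h.isq], h.jsq, by rw [mul_neg, h.anti, neg_mul]⟩

/-- The elements centralising or negating both `i` and `j`. -/
def Q (_ : QPair i j) : Subgroup G where
  carrier := {x | (x * i * x⁻¹ = i ∨ x * i * x⁻¹ = -i) ∧ (x * j * x⁻¹ = j ∨ x * j * x⁻¹ = -j)}
  one_mem' := by simp
  mul_mem' := fun {x y} hx hy => by
    have key : ∀ u : G, (x * u * x⁻¹ = u ∨ x * u * x⁻¹ = -u) → (y * u * y⁻¹ = u ∨ y * u * y⁻¹ = -u) →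
        (x * y * u * (x * y)⁻¹ = u ∨ x * y * u * (x * y)⁻¹ = -u) := by
      intro u hx hy
      rw [show x * y * u * (x * y)⁻¹ = x * (y * u * y⁻¹) * x⁻¹ by group]
      rcases hy with e | e <;> rw [e] <;> rcases hx with e' | e' <;> simp [e']
    exact ⟨key i hx.1 hy.1, key j hx.2 hy.2⟩
  inv_mem' := fun {x} hx => by
    have key : ∀ u : G, (x * u * x⁻¹ = u ∨ x * u * x⁻¹ = -u) →
        (x⁻¹ * u * x⁻¹⁻¹ = u ∨ x⁻¹ * u * x⁻¹⁻¹ = -u) := by
      intro u hx
      rw [inv_inv]
      rcases hx with e | e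
      · left
        nth_rewrite 1 [← e]; group
      · right
        have e' : x⁻¹ * (x * u * x⁻¹) * x = u := by group
        rw [e, mul_neg, neg_mul] at e'
        rw [← neg_neg (x⁻¹ * u * x), e']
    exact ⟨key i hx.1, key j hx.2⟩

theorem mem_Q (h : QPair i j) {x : G} :
    x ∈ h.Q ↔ (x * i * x⁻¹ = i ∨ x * i * x⁻¹ = -i) ∧ (x * j * x⁻¹ = j ∨ x * j * x⁻¹ = -j) := Iff.rfl

theorem i_mem (h : QPair i j) : i ∈ h.Q := ⟨Or.inl (by group), Or.inr h.conj_ij⟩

theorem j_mem (h : QPair i j) : j ∈ h.Q := ⟨Or.inr h.conj_ji, Or.inl (by group)⟩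

theorem neg_mem (h : QPair i j) {x : G} (hx : x ∈ h.Q) : -x ∈ h.Q := by
  have e : ∀ u : G, -x * u * (-x)⁻¹ = x * u * x⁻¹ := fun u => by
    rw [inv_neg, neg_mul, neg_mul_neg]
  rw [mem_Q, e, e]
  exact hx

theorem eq_scal_of_commute (h2 : (2 : F) ≠ 0) (h : QPair i j) {x : G}
    (hi : x * i * x⁻¹ = i) (hj : x * j * x⁻¹ = j) : x = 1 ∨ x = -1 := by
  have ht0 := tr_zero_of_sq h2 h.isq
  have hg := scal_of_tr_sq_ne (tr_sq_of_tr_zero h2 ht0)
  have hc : x ∈ cent i := mem_cent.2 (mul_inv_eq_iff_eq_mul.1 hi).symm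
  rw [← scal_iff]
  by_contra hs
  have hj' : j ∈ cent i := by
    rw [← cent_eq hg hc hs, mem_cent]
    exact mul_inv_eq_iff_eq_mul.1 hj
  have e := mem_cent.1 hj'
  rw [h.anti] at e
  exact neg_ne_self' h2 (i * j) e.symm
where
  neg_ne_self' (h2 : (2 : F) ≠ 0) (g : G) : -g ≠ g := by
    intro h
    have hd := det_eq g
    have e : ∀ i j, (g : M2) i j = 0 := fun i j => by
      have := congrArg (fun x : G => (x : M2) i j) h
      simp at this
      exact (mul_eq_zero.1 (show (2 : F) * (g : M2) i j = 0 by linear_combination -this)).resolve_left h2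
    rw [e 0 0, e 0 1] at hd
    simp at hd

/-- The eight elements of `Q`. -/
theorem mem_Q_cases (h2 : (2 : F) ≠ 0) (h : QPair i j) {x : G} (hx : x ∈ h.Q) :
    ∃ y ∈ ({1, i, j, i * j} : Set G), x = y ∨ x = -y := by
  have key : ∀ y ∈ h.Q, y * i * y⁻¹ = x * i * x⁻¹ → y * j * y⁻¹ = x * j * x⁻¹ → x = y ∨ x = -y := by
    intro y _ ei ej
    have e : ∀ u : G, y * u * y⁻¹ = x * u * x⁻¹ → y⁻¹ * x * u * (y⁻¹ * x)⁻¹ = u := fun u e => by
      rw [show y⁻¹ * x * u * (y⁻¹ * x)⁻¹ = y⁻¹ * (x * u * x⁻¹) * y by group, ← e]; group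
    rcases eq_scal_of_commute h2 h (e i ei) (e j ej) with e | e
    · exact Or.inl (inv_mul_eq_one.1 e).symm
    · exact Or.inr (by rw [inv_mul_eq_iff_eq_mul.1 e, mul_neg, mul_one])
  rcases hx.1 with ei | ei <;> rcases hx.2 with ej | ej
  · exact ⟨1, by simp, key 1 (one_mem _) (by simp [ei]) (by simp [ej])⟩
  · exact ⟨i, by simp, key i h.i_mem (by rw [ei]; group) (by rw [ej, h.conj_ij])⟩
  · exact ⟨j, by simp, key j h.j_mem (by rw [ei, h.conj_ji]) (by rw [ej]; group)⟩
  · refine ⟨i * j, by simp, key _ (mul_mem h.i_mem h.j_mem) ?_ ?_⟩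
    · rw [ei, show i * j * i * (i * j)⁻¹ = i * (j * i * j⁻¹) * i⁻¹ by group, h.conj_ji, mul_neg, neg_mul,
        mul_inv_cancel_right]
    · rw [ej, show i * j * j * (i * j)⁻¹ = i * j * i⁻¹ by group, h.conj_ij]

variable [Fintype F]

theorem card_Q (h2 : (2 : F) ≠ 0) (h : QPair i j) : Nat.card h.Q = 8 := by
  classical
  have hne : ∀ g : G, -g ≠ g := fun g => eq_scal_of_commute.neg_ne_self' h2 g
  let f : G → Bool × Bool := fun x => (decide (x * i * x⁻¹ = i), decide (x * j * x⁻¹ = j))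
  have hval : ∀ y : G, y ∈ h.Q → f (-y) = f y := fun y _ => by
    simp only [f, inv_neg, neg_mul, mul_neg, neg_neg]
  have hfib : ∀ b : Bool × Bool, ∃ y ∈ h.Q, f y = b := by
    rintro ⟨_ | _, _ | _⟩
    · refine ⟨i * j, mul_mem h.i_mem h.j_mem, ?_⟩
      simp only [f, show i * j * i * (i * j)⁻¹ = i * (j * i * j⁻¹) * i⁻¹ by group, h.conj_ji,
        show i * j * j * (i * j)⁻¹ = i * j * i⁻¹ by group, h.conj_ij, mul_neg, neg_mul,
        mul_inv_cancel_right, hne, decide_false]
    · refine ⟨j, h.j_mem, ?_⟩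
      simp only [f, h.conj_ji, hne, decide_false, mul_inv_cancel_right, decide_true]
    · refine ⟨i, h.i_mem, ?_⟩
      simp only [f, h.conj_ij, hne, decide_false, mul_inv_cancel_right, decide_true]
    · exact ⟨1, one_mem _, by simp [f]⟩
  choose y hy hfy using hfib
  let e : (Bool × Bool) × Bool → h.Q := fun w =>
    if w.2 then ⟨-y w.1, h.neg_mem (hy w.1)⟩ else ⟨y w.1, hy w.1⟩
  have he : Function.Bijective e := by
    constructor
    · rintro ⟨b, s⟩ ⟨b', s'⟩ hh
      have hh' := congrArg (fun z : h.Q => (z : G)) hh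
      have hb : b = b' := by
        have := congrArg f hh'
        cases s <;> cases s' <;> simpa [e, hval _ (hy _), hfy] using this
      subst hb
      cases s <;> cases s' <;> simp [e] at hh' ⊢
      · exact hne _ hh'.symm
      · exact hne _ hh'
    · rintro ⟨x, hx⟩
      have key : ∀ z ∈ h.Q, f z = f x → x = z ∨ x = -z := by
        intro z hz hf
        simp only [f, Prod.mk.injEq, decide_eq_decide] at hf
        have e1 : ∀ u : G, (z * u * z⁻¹ = u ∨ z * u * z⁻¹ = -u) → (x * u * x⁻¹ = u ∨ x * u * x⁻¹ = -u) →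
            (z * u * z⁻¹ = u ↔ x * u * x⁻¹ = u) → z⁻¹ * x * u * (z⁻¹ * x)⁻¹ = u := by
          intro u hz hx hiff
          have e : z * u * z⁻¹ = x * u * x⁻¹ := by
            rcases hx with e | e
            · rw [hiff.2 e, e]
            · rw [e]; exact hz.resolve_left fun e' => hne u (e.symm.trans (hiff.1 e'))
          rw [show z⁻¹ * x * u * (z⁻¹ * x)⁻¹ = z⁻¹ * (x * u * x⁻¹) * z by group, ← e]; group
        rcases eq_scal_of_commute h2 h (e1 i hz.1 hx.1 hf.1) (e1 j hz.2 hx.2 hf.2) with e | e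
        · exact Or.inl (inv_mul_eq_one.1 e).symm
        · exact Or.inr (by rw [inv_mul_eq_iff_eq_mul.1 e, mul_neg, mul_one])
      rcases key _ (hy (f x)) (hfy _) with e' | e'
      · exact ⟨(f x, false), Subtype.ext (by simp [e, ← e'])⟩
      · exact ⟨(f x, true), Subtype.ext (by simp [e, ← e'])⟩
  rw [← Nat.card_congr (Equiv.ofBijective e he)]
  simp

theorem sq_eq_of_not_scal (h2 : (2 : F) ≠ 0) (h : QPair i j) {x : G} (hx : x ∈ h.Q) :
    x = 1 ∨ x = -1 ∨ x * x = -1 := by
  obtain ⟨y, hy, hxy⟩ := mem_Q_cases h2 h hx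
  simp only [Set.mem_insert_iff, Set.mem_singleton_iff] at hy
  rcases hy with rfl | rfl | rfl | rfl
  · tauto
  all_goals
    refine Or.inr (Or.inr ?_)
    rcases hxy with rfl | rfl
  · exact h.isq
  · rw [neg_mul_neg, h.isq]
  · exact h.jsq
  · rw [neg_mul_neg, h.jsq]
  · exact h.ksq
  · rw [neg_mul_neg, h.ksq]

/-- The element of order `3` permuting `i`, `j`, `i * j`. -/
theorem exists_omega (h2 : (2 : F) ≠ 0) (h : QPair i j) :
    ∃ w : G, w * w * w = 1 ∧ w * i * w⁻¹ = i * j ∧ w * j * w⁻¹ = i ∧ w * (i * j) * w⁻¹ = j := by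
  set I := (i : M2)
  set J := (j : M2)
  have hI : I * I = -1 := by
    rw [← Matrix.SpecialLinearGroup.coe_mul, h.isq, coe_neg', Matrix.SpecialLinearGroup.coe_one]
  have hJ : J * J = -1 := by
    rw [← Matrix.SpecialLinearGroup.coe_mul, h.jsq, coe_neg', Matrix.SpecialLinearGroup.coe_one]
  have hA : J * I = -(I * J) := by
    rw [← Matrix.SpecialLinearGroup.coe_mul, ← Matrix.SpecialLinearGroup.coe_mul, ← coe_neg', h.anti]
  have hI' : ∀ X : M2, I * (I * X) = -X := fun X => by rw [← mul_assoc, hI, neg_one_mul]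
  have hJ' : ∀ X : M2, J * (J * X) = -X := fun X => by rw [← mul_assoc, hJ, neg_one_mul]
  have hA' : ∀ X : M2, J * (I * X) = -(I * (J * X)) := fun X => by
    rw [← mul_assoc, hA, neg_mul, mul_assoc]
  set W : M2 := (2 : F)⁻¹ • (-1 + I + J + I * J) with hW
  have hsq : W * W = -W - 1 := by
    simp only [hW, smul_mul_assoc, mul_smul_comm, add_mul, mul_add, neg_mul, mul_neg, one_mul, mul_one,
      mul_assoc, hI, hJ, hA, hI', hJ', hA', neg_neg]
    match_scalars <;> field_simp <;> ring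
  have htr : W.trace = -1 := by
    have e : ∀ g : G, g * g = -1 → (g : M2).trace = 0 := fun g hg =>
      (trace_eq g).trans (tr_zero_of_sq h2 hg)
    have e3 : (I * J).trace = 0 := by
      rw [← Matrix.SpecialLinearGroup.coe_mul]; exact e _ h.ksq
    simp only [hW, Matrix.trace_smul, Matrix.trace_add, Matrix.trace_neg, e i h.isq, e j h.jsq, e3, I, J,
      Matrix.trace_one, Fintype.card_fin, smul_eq_mul]
    field_simp
    ring
  have hdet : W.det = 1 := by
    have hc : W * W = W.trace • W - W.det • 1 := by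
      apply mext <;> simp [Matrix.mul_apply, Fin.sum_univ_two, Matrix.trace_fin_two,
        Matrix.det_fin_two] <;> ring
    rw [hsq, htr, neg_one_smul] at hc
    have := congrFun (congrFun hc 0) 0
    simp at this
    exact this.symm
  let w : G := ⟨W, hdet⟩
  refine ⟨w, ?_, ?_, ?_, ?_⟩
  · apply Subtype.ext
    rw [Matrix.SpecialLinearGroup.coe_mul, Matrix.SpecialLinearGroup.coe_mul,
      Matrix.SpecialLinearGroup.coe_one]
    show W * W * W = 1
    rw [hsq, sub_mul, neg_mul, hsq, one_mul]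
    abel
  all_goals
    refine mul_inv_eq_iff_eq_mul.2 (Subtype.ext ?_)
    simp only [Matrix.SpecialLinearGroup.coe_mul]
  · show W * I = I * J * W
    simp only [hW, smul_mul_assoc, mul_smul_comm, add_mul, mul_add, neg_mul, mul_neg, one_mul, mul_one,
      mul_assoc, hI, hJ, hA, hI', hJ', hA', neg_neg]
    abel
  · show W * J = I * W
    simp only [hW, smul_mul_assoc, mul_smul_comm, add_mul, mul_add, neg_mul, mul_neg, one_mul, mul_one,
      mul_assoc, hI, hJ, hA, hI', hJ', hA', neg_neg]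
    abel
  · show W * (I * J) = J * W
    simp only [hW, smul_mul_assoc, mul_smul_comm, add_mul, mul_add, neg_mul, mul_neg, one_mul, mul_one,
      mul_assoc, hI, hJ, hA, hI', hJ', hA', neg_neg]
    abel

theorem mem_normalizer_Q (h : QPair i j) {x : G} (hi : x * i * x⁻¹ ∈ h.Q) (hj : x * j * x⁻¹ ∈ h.Q)
    (h2 : (2 : F) ≠ 0) : x ∈ Subgroup.normalizer (h.Q : Set G) := by
  have hsub : ∀ y ∈ h.Q, x * y * x⁻¹ ∈ h.Q := by
    intro y hy
    obtain ⟨z, hz, hyz⟩ := mem_Q_cases h2 h hy
    have hz' : x * z * x⁻¹ ∈ h.Q := by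
      simp only [Set.mem_insert_iff, Set.mem_singleton_iff] at hz
      rcases hz with rfl | rfl | rfl | rfl
      · simpa using one_mem h.Q
      · exact hi
      · exact hj
      · rw [show x * (i * j) * x⁻¹ = x * i * x⁻¹ * (x * j * x⁻¹) by group]
        exact mul_mem hi hj
    rcases hyz with rfl | rfl
    · exact hz'
    · rw [mul_neg, neg_mul]; exact h.neg_mem hz'
  classical
  have himg : (h.Q : Set G).toFinset.image (fun y => x * y * x⁻¹) = (h.Q : Set G).toFinset := by
    refine Finset.eq_of_subset_of_card_le (fun z hz => ?_) (le_of_eq ?_)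
    · obtain ⟨y, hy, rfl⟩ := Finset.mem_image.1 hz
      rw [Set.mem_toFinset] at hy ⊢
      exact hsub y hy
    · exact (Finset.card_image_of_injective _ fun a b hab => mul_left_cancel (mul_right_cancel hab)).symm
  rw [Subgroup.mem_normalizer_iff]
  intro y
  refine ⟨hsub y, fun hy => ?_⟩
  have : x * y * x⁻¹ ∈ (h.Q : Set G).toFinset.image (fun y => x * y * x⁻¹) := by
    rw [himg, Set.mem_toFinset]; exact hy
  obtain ⟨z, hz, hzy⟩ := Finset.mem_image.1 this
  rw [Set.mem_toFinset] at hz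
  rwa [← mul_left_cancel (mul_right_cancel hzy)]

theorem dvd_card_normalizer (h2 : (2 : F) ≠ 0) (h : QPair i j) :
    24 ∣ Nat.card (Subgroup.normalizer (h.Q : Set G)) := by
  obtain ⟨w, hw3, hwi, hwj, -⟩ := exists_omega h2 h
  have hwN : w ∈ Subgroup.normalizer (h.Q : Set G) := mem_normalizer_Q h
    (hwi ▸ mul_mem h.i_mem h.j_mem) (hwj ▸ h.i_mem) h2
  have hord : orderOf w = 3 := orderOf_eq_prime (p := 3) (by rw [pow_succ, pow_two, hw3]) fun e => by
    subst e
    rw [one_mul, inv_one, mul_one] at hwi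
    have h0 := tr_zero_of_sq h2 h.jsq
    rw [show j = 1 from (mul_left_cancel (a := i) (by rw [← hwi, mul_one])).symm] at h0
    simp [tr] at h0
    exact h2 (by linear_combination h0)
  refine Nat.Coprime.mul_dvd_of_dvd_of_dvd (m := 8) (n := 3) (by norm_num) ?_ ?_
  · rw [← card_Q h2 h]
    exact Subgroup.card_dvd_of_le Subgroup.le_normalizer
  · rw [← hord]; exact Subgroup.orderOf_dvd_natCard _ hwN

theorem card_normalizer_le (h2 : (2 : F) ≠ 0) (h : QPair i j) :
    Nat.card (Subgroup.normalizer (h.Q : Set G)) ≤ 48 := by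
  classical
  let ax : G → Fin 3 := fun u => if u = i ∨ u = -i then 0 else if u = j ∨ u = -j then 1 else 2
  let Φ : G → Fin 3 × Fin 3 := fun x => (ax (x * i * x⁻¹), ax (x * j * x⁻¹))
  have hsqc : ∀ u x : G, u * u = -1 → (x * u * x⁻¹) * (x * u * x⁻¹) = -1 := fun u x hu => by
    rw [show x * u * x⁻¹ * (x * u * x⁻¹) = x * (u * u) * x⁻¹ by group, hu, mul_neg, mul_one, neg_mul,
      mul_inv_cancel]
  have hax : ∀ u ∈ h.Q, u * u = -1 → ∀ v ∈ h.Q, v * v = -1 → ax u = ax v → u = v ∨ u = -v := by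
    intro u hu husq v hv hvsq he
    have cls : ∀ u ∈ h.Q, u * u = -1 → (u = i ∨ u = -i) ∨ (u = j ∨ u = -j) ∨ (u = i * j ∨ u = -(i * j)) := by
      intro u hu husq
      obtain ⟨y, hy, hxy⟩ := mem_Q_cases h2 h hu
      simp only [Set.mem_insert_iff, Set.mem_singleton_iff] at hy
      rcases hy with rfl | rfl | rfl | rfl
      · exfalso
        rcases hxy with rfl | rfl
        · rw [one_mul] at husq; exact eq_scal_of_commute.neg_ne_self' h2 (1 : G) husq.symm
        · rw [neg_mul_neg, one_mul] at husq; exact eq_scal_of_commute.neg_ne_self' h2 (1 : G) husq.symm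
      · exact Or.inl hxy
      · exact Or.inr (Or.inl hxy)
      · exact Or.inr (Or.inr hxy)
    simp only [ax] at he
    by_cases hui : u = i ∨ u = -i
    · rw [if_pos hui] at he
      by_cases hvi : v = i ∨ v = -i
      · rcases hui with rfl | rfl <;> rcases hvi with rfl | rfl <;> simp
      · rw [if_neg hvi] at he; split_ifs at he <;> simp at he
    · rw [if_neg hui] at he
      by_cases hvi : v = i ∨ v = -i
      · rw [if_pos hvi] at he; split_ifs at he <;> simp at he
      · rw [if_neg hvi] at he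
        rcases (cls u hu husq).resolve_left hui with hu' | hu'
        · rw [if_pos hu'] at he
          by_cases hvj : v = j ∨ v = -j
          · rcases hu' with rfl | rfl <;> rcases hvj with rfl | rfl <;> simp
          · rw [if_neg hvj] at he; simp at he
        · by_cases huj : u = j ∨ u = -j
          · rw [if_pos huj] at he
            by_cases hvj : v = j ∨ v = -j
            · rcases huj with rfl | rfl <;> rcases hvj with rfl | rfl <;> simp
            · rw [if_neg hvj] at he; simp at he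
          · rw [if_neg huj] at he
            by_cases hvj : v = j ∨ v = -j
            · rw [if_pos hvj] at he; simp at he
            · rcases ((cls v hv hvsq).resolve_left hvi).resolve_left hvj with rfl | rfl <;>
                rcases hu' with rfl | rfl <;> simp
  set N := Finset.univ.filter (· ∈ Subgroup.normalizer (h.Q : Set G)) with hN
  have hmem : ∀ x ∈ N, x * i * x⁻¹ ∈ h.Q ∧ x * j * x⁻¹ ∈ h.Q := fun x hx => by
    have := (Finset.mem_filter.1 hx).2
    rw [Subgroup.mem_normalizer_iff] at this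
    exact ⟨(this i).1 h.i_mem, (this j).1 h.j_mem⟩
  have hfib : ∀ b ∈ N.image Φ, (N.filter fun x => Φ x = b).card ≤ 8 := by
    intro b hb
    obtain ⟨x0, hx0, rfl⟩ := Finset.mem_image.1 hb
    rw [← card_Q h2 h, Nat.card_eq_fintype_card, Fintype.card_subtype]
    refine Finset.card_le_card_of_injOn (fun x => x0⁻¹ * x) (fun x hx => ?_)
      (fun a _ b _ hab => mul_left_cancel hab)
    rw [Finset.mem_coe, Finset.mem_filter] at hx ⊢
    obtain ⟨hxN, hxΦ⟩ := hx
    simp only [Φ, Prod.mk.injEq] at hxΦ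
    refine ⟨Finset.mem_univ _, ?_, ?_⟩
    · rw [show x0⁻¹ * x * i * (x0⁻¹ * x)⁻¹ = x0⁻¹ * (x * i * x⁻¹) * x0 by group]
      rcases hax _ (hmem x hxN).1 (hsqc i x h.isq) _ (hmem x0 hx0).1 (hsqc i x0 h.isq) hxΦ.1 with e | e <;>
        rw [e]
      · left; group
      · right; rw [mul_neg, neg_mul]; congr 1; group
    · rw [show x0⁻¹ * x * j * (x0⁻¹ * x)⁻¹ = x0⁻¹ * (x * j * x⁻¹) * x0 by group]
      rcases hax _ (hmem x hxN).2 (hsqc j x h.jsq) _ (hmem x0 hx0).2 (hsqc j x0 h.jsq) hxΦ.2 with e | e <;>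
        rw [e]
      · left; group
      · right; rw [mul_neg, neg_mul]; congr 1; group
  have himg : N.image Φ ⊆ (Finset.univ ×ˢ Finset.univ).filter fun p : Fin 3 × Fin 3 => p.1 ≠ p.2 := by
    intro b hb
    obtain ⟨x, hx, rfl⟩ := Finset.mem_image.1 hb
    refine Finset.mem_filter.2 ⟨Finset.mem_product.2 ⟨Finset.mem_univ _, Finset.mem_univ _⟩, fun e => ?_⟩
    have hh := hax _ (hmem x hx).1 (hsqc i x h.isq) _ (hmem x hx).2 (hsqc j x h.jsq) e
    have hij : i = j ∨ i = -j := by
      rcases hh with e' | e'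
      · exact Or.inl (mul_left_cancel (mul_right_cancel e'))
      · right
        rw [← neg_mul, ← mul_neg] at e'
        exact mul_left_cancel (mul_right_cancel e')
    have hc : j * i = i * j := by rcases hij with rfl | rfl <;> simp
    exact eq_scal_of_commute.neg_ne_self' h2 _ (h.anti.symm.trans hc)
  have h6 : ((Finset.univ ×ˢ Finset.univ).filter fun p : Fin 3 × Fin 3 => p.1 ≠ p.2).card = 6 := by decide
  calc Nat.card (Subgroup.normalizer (h.Q : Set G)) = N.card := by
        rw [hN, ← Fintype.card_subtype, ← Nat.card_eq_fintype_card]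
    _ ≤ 8 * (N.image Φ).card := Finset.card_le_mul_card_image N 8 hfib
    _ ≤ 8 * 6 := Nat.mul_le_mul_left 8 ((Finset.card_le_card himg).trans h6.le)

theorem card_normalizer_cases (h2 : (2 : F) ≠ 0) (h : QPair i j) :
    Nat.card (Subgroup.normalizer (h.Q : Set G)) = 24 ∨
      Nat.card (Subgroup.normalizer (h.Q : Set G)) = 48 := by
  have h1 := dvd_card_normalizer h2 h
  have h3 := card_normalizer_le h2 h
  have := Nat.card_pos (α := Subgroup.normalizer (h.Q : Set G))
  obtain ⟨m, hm⟩ := h1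
  omega

end QPair

variable [Fintype F]

local notation "q" => Fintype.card F

theorem exists_qpair (hodd : Odd q) {g : G} (hg : g * g = -1) : ∃ j : G, QPair g j := by
  have h2 := two_ne_zero' hodd
  have ht0 := tr_zero_of_sq h2 hg
  have ht := tr_sq_of_tr_zero h2 ht0
  obtain ⟨w, hw⟩ := exists_invert ht
  have hwc : w ∉ cent g := fun h => ne_inv ht (by
    rw [← hw, mul_inv_eq_iff_eq_mul.2 (mem_cent.1 h).symm])
  refine ⟨w, hg, (sq_of_mem_normalizer ht ((mem_normalizer_cent ht).2 (Or.inr hw)) hwc).2, ?_⟩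
  rw [inv_of_sq hg, mul_inv_eq_iff_eq_mul, neg_mul] at hw
  exact hw

/-- `2`-part of the torus of an element of order `4`. -/
theorem cent_sq_neg_one (hodd : Odd q) {g : G} (hg : g * g = -1) :
    (Nat.card (cent g) = q - 1 ∧ q % 4 = 1) ∨ (Nat.card (cent g) = q + 1 ∧ q % 4 = 3) := by
  have h2 := two_ne_zero' hodd
  have ht0 := tr_zero_of_sq h2 hg
  have h4 : 4 ∣ Nat.card (cent g) := by
    have hord : orderOf g = 2 ^ (1 + 1) := by
      refine orderOf_eq_prime_pow ?_ ?_
      · rw [pow_one, pow_two, hg]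
        intro h
        exact QPair.eq_scal_of_commute.neg_ne_self' h2 (1 : G) h
      · rw [show 2 ^ (1 + 1) = 2 * 2 from rfl, pow_mul, pow_two, pow_two, hg]; simp
    rw [show (4 : ℕ) = 2 ^ (1 + 1) from rfl, ← hord]
    exact Subgroup.orderOf_dvd_natCard _ (self_mem_cent g)
  obtain ⟨k, hk⟩ := hodd
  have hq := two_le_q (F := F)
  rcases card_cent_regular (tr_sq_of_tr_zero h2 ht0) with ⟨-, hc, -⟩ | ⟨-, hc, -⟩ <;> rw [hc] at h4 ⊢
  · right; exact ⟨rfl, by omega⟩
  · left; exact ⟨rfl, by omega⟩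

theorem exists_sylow_two_torus (hodd : Odd q) (S : Sylow 2 G) :
    ∃ g : G, g * g = -1 ∧ (S : Subgroup G) ≤ Subgroup.normalizer (cent g : Set G) := by
  have h2 := two_ne_zero' hodd
  set g : G := comp 0 with hgdef
  have hg : g * g = -1 := sq_neg_one_of_tr (tr_comp 0)
  have ht := tr_sq_of_tr_zero h2 (tr_comp (0 : F))
  have hcard := card_normalizer_cent (g := g) ht
  have hidx : ¬ 2 ∣ (Subgroup.normalizer (cent g : Set G)).index := by
    have hm := (Subgroup.normalizer (cent g : Set G)).card_mul_index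
    rw [hcard, card_G] at hm
    intro ⟨m, hm2⟩
    rw [hm2] at hm
    obtain ⟨k, hk⟩ := id hodd
    have hq := two_le_q (F := F)
    rcases cent_sq_neg_one hodd hg with ⟨hc, h4⟩ | ⟨hc, h4⟩ <;> rw [hc] at hm
    · have : 4 * m = q * (q + 1) := Nat.eq_of_mul_eq_mul_left (show 0 < q - 1 by omega) (by
        linarith [hm])
      obtain ⟨d, hd⟩ : ∃ d, q + 1 = 2 * d ∧ ¬ 2 ∣ d := ⟨k + 1, by omega, by omega⟩
      rw [hd.1] at this
      have h3 : 2 ∣ q * d := ⟨m, by linarith⟩
      rcases (Nat.Prime.dvd_mul Nat.prime_two).1 h3 with h | h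
      · omega
      · exact hd.2 h
    · have : 4 * m = q * (q - 1) := Nat.eq_of_mul_eq_mul_left (show 0 < q + 1 by omega) (by
        linarith [hm])
      obtain ⟨d, hd⟩ : ∃ d, q - 1 = 2 * d ∧ ¬ 2 ∣ d := ⟨k, by omega, by omega⟩
      rw [hd.1] at this
      have h3 : 2 ∣ q * d := ⟨m, by linarith⟩
      rcases (Nat.Prime.dvd_mul Nat.prime_two).1 h3 with h | h
      · omega
      · exact hd.2 h
  obtain ⟨Q0⟩ : Nonempty (Sylow 2 (Subgroup.normalizer (cent g : Set G))) := inferInstance
  obtain ⟨R, hR⟩ := (Q0.isPGroup'.map (Subgroup.normalizer (cent g : Set G)).subtype).exists_le_sylow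
  have hRle : (R : Subgroup G) ≤ Subgroup.normalizer (cent g : Set G) := by
    suffices e : (Q0 : Subgroup _).map (Subgroup.normalizer (cent g : Set G)).subtype = R from
      e ▸ Subgroup.map_subtype_le _
    refine Subgroup.eq_of_le_of_card_ge hR (le_of_eq ?_)
    rw [Subgroup.card_subtype, Q0.card_eq_multiplicity, R.card_eq_multiplicity,
      ← (Subgroup.normalizer (cent g : Set G)).card_mul_index,
      Nat.factorization_mul Nat.card_pos.ne' Subgroup.index_ne_zero_of_finite]
    simp [Nat.factorization_eq_zero_of_not_dvd hidx]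
  obtain ⟨x, rfl⟩ := MulAction.exists_smul_eq G R S
  refine ⟨x * g * x⁻¹, ?_, fun y hy => ?_⟩
  · rw [show x * g * x⁻¹ * (x * g * x⁻¹) = x * (g * g) * x⁻¹ by group, hg, mul_neg, mul_one, neg_mul,
      mul_inv_cancel]
  · rw [Sylow.coe_subgroup_smul, Subgroup.mem_pointwise_smul_iff_inv_smul_mem] at hy
    have h := (mem_normalizer_cent ht).1 (hRle hy)
    rw [mem_normalizer_cent (by rwa [tr_conj])]
    simp only [MulAut.smul_def, MulAut.conj_inv_apply] at h
    rcases h with h | h
    · left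
      calc y * (x * g * x⁻¹) * y⁻¹ = x * (x⁻¹ * y * x * g * (x⁻¹ * y * x)⁻¹) * x⁻¹ := by group
        _ = x * g * x⁻¹ := by rw [h]
    · right
      calc y * (x * g * x⁻¹) * y⁻¹ = x * (x⁻¹ * y * x * g * (x⁻¹ * y * x)⁻¹) * x⁻¹ := by group
        _ = (x * g * x⁻¹)⁻¹ := by rw [h, hgdef]; group

end Cfsg.Agent.SL2
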