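import Cfsg.Agent.Lib.SL2.DicksonSub
import Cfsg.Agent.Lib.SL2.Quaternion

/-!
# Klein four-subgroups of `PSL(2, q)`, `q` odd, and their normalisers
-/

set_option autoImplicit false
set_option linter.unusedSectionVars false

namespace Cfsg.Agent.SL2

open Matrix

/-- The three involutions of the four-group generated by `u` and `v`. -/
abbrev four {P : Type*} [Mul P] (u v : P) : Set P := {u, v, u * v}

/-- A four-group with twelve normalising elements. -/
def HasKlein {P : Type*} [Group P] (H : Subgroup P) : Prop :=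
  ∃ u ∈ H, ∃ v ∈ H, u * u = 1 ∧ v * v = 1 ∧ u ≠ 1 ∧ v ≠ 1 ∧ u ≠ v ∧ u * v = v * u ∧
    12 ≤ Nat.card {x : H // (x : P) * u * (x : P)⁻¹ ∈ four u v ∧ (x : P) * v * (x : P)⁻¹ ∈ four u v}

theorem hasKlein_of_equiv {P A : Type*} [Group P] [Group A] [Fintype A] [DecidableEq A]
    {H : Subgroup P} (e : H ≃* A) {u v : A} (hu : u * u = 1) (hv : v * v = 1) (hu1 : u ≠ 1)
    (hv1 : v ≠ 1) (huv : u ≠ v) (hc : u * v = v * u)
    (h12 : 12 ≤ (Finset.univ.filter fun x : A =>
      x * u * x⁻¹ ∈ ({u, v, u * v} : Finset A) ∧ x * v * x⁻¹ ∈ ({u, v, u * v} : Finset A)).card) :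
    HasKlein H := by
  have hval : Function.Injective fun a : A => ((e.symm a : H) : P) :=
    Subtype.val_injective.comp e.symm.injective
  have hmul : ∀ a b : A, ((e.symm (a * b) : H) : P) = (e.symm a : P) * (e.symm b : P) := fun a b => by
    rw [map_mul, Subgroup.coe_mul]
  have hone : ((e.symm 1 : H) : P) = 1 := by rw [map_one, Subgroup.coe_one]
  refine ⟨e.symm u, (e.symm u).2, e.symm v, (e.symm v).2, by rw [← hmul, hu, hone],
    by rw [← hmul, hv, hone], fun h => hu1 (hval (h.trans hone.symm)),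
    fun h => hv1 (hval (h.trans hone.symm)), fun h => huv (hval h), by rw [← hmul, hc, hmul], ?_⟩
  refine h12.trans (le_of_eq ?_)
  rw [← Fintype.card_subtype, ← Nat.card_eq_fintype_card]
  refine Nat.card_congr (e.symm.toEquiv.subtypeEquiv fun x => ?_)
  have hx : ∀ w : A, x * w * x⁻¹ ∈ ({u, v, u * v} : Finset A) ↔
      (e.symm x : P) * (e.symm w : P) * (e.symm x : P)⁻¹ ∈ four (e.symm u : P) (e.symm v : P) := fun w => by
    have hxw : (e.symm x : P) * (e.symm w : P) * (e.symm x : P)⁻¹ = (e.symm (x * w * x⁻¹) : P) := by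
      rw [hmul, hmul, map_inv, Subgroup.coe_inv]
    rw [hxw, four, Set.mem_insert_iff, Set.mem_insert_iff, Set.mem_singleton_iff, ← hmul,
      Finset.mem_insert, Finset.mem_insert, Finset.mem_singleton]
    exact or_congr hval.eq_iff.symm (or_congr hval.eq_iff.symm hval.eq_iff.symm)
  exact and_congr (hx u) (hx v)

theorem hasKlein_alt_four {P : Type*} [Group P] {H : Subgroup P} (e : H ≃* alternatingGroup (Fin 4)) :
    HasKlein H := by
  have key : ∃ u v : alternatingGroup (Fin 4), u * u = 1 ∧ v * v = 1 ∧ u ≠ 1 ∧ v ≠ 1 ∧ u ≠ v ∧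
      u * v = v * u ∧ 12 ≤ (Finset.univ.filter fun x : alternatingGroup (Fin 4) =>
      x * u * x⁻¹ ∈ ({u, v, u * v} : Finset _) ∧ x * v * x⁻¹ ∈ ({u, v, u * v} : Finset _)).card := by
    decide +kernel
  obtain ⟨u, v, h1, h2, h3, h4, h5, h6, h7⟩ := key
  exact hasKlein_of_equiv e h1 h2 h3 h4 h5 h6 h7

theorem hasKlein_perm_four {P : Type*} [Group P] {H : Subgroup P} (e : H ≃* Equiv.Perm (Fin 4)) :
    HasKlein H := by
  have key : ∃ u v : Equiv.Perm (Fin 4), u * u = 1 ∧ v * v = 1 ∧ u ≠ 1 ∧ v ≠ 1 ∧ u ≠ v ∧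
      u * v = v * u ∧ 12 ≤ (Finset.univ.filter fun x : Equiv.Perm (Fin 4) =>
      x * u * x⁻¹ ∈ ({u, v, u * v} : Finset _) ∧ x * v * x⁻¹ ∈ ({u, v, u * v} : Finset _)).card := by
    decide +kernel
  obtain ⟨u, v, h1, h2, h3, h4, h5, h6, h7⟩ := key
  exact hasKlein_of_equiv e h1 h2 h3 h4 h5 h6 h7

theorem hasKlein_alt_five {P : Type*} [Group P] {H : Subgroup P} (e : H ≃* alternatingGroup (Fin 5)) :
    HasKlein H :=
  hasKlein_of_equiv e
    (u := ⟨Equiv.swap 0 1 * Equiv.swap 2 3, Equiv.Perm.mem_alternatingGroup.2 (by decide)⟩)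
    (v := ⟨Equiv.swap 0 2 * Equiv.swap 1 3, Equiv.Perm.mem_alternatingGroup.2 (by decide)⟩)
    (by decide +kernel) (by decide +kernel) (by decide +kernel) (by decide +kernel) (by decide +kernel)
    (by decide +kernel) (by decide +kernel)

theorem four_of_perm_four {P : Type*} [Group P] {H : Subgroup P} (e : H ≃* Equiv.Perm (Fin 4)) :
    ∃ u ∈ H, ∃ v ∈ H, u * u = 1 ∧ v * v = 1 ∧ u ≠ 1 ∧ v ≠ 1 ∧ u ≠ v ∧ u * v = v * u ∧
      ∀ x ∈ H, x * u * x⁻¹ ∈ four u v ∧ x * v * x⁻¹ ∈ four u v := by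
  have key : ∃ u v : Equiv.Perm (Fin 4), u * u = 1 ∧ v * v = 1 ∧ u ≠ 1 ∧ v ≠ 1 ∧ u ≠ v ∧
      u * v = v * u ∧ ∀ x : Equiv.Perm (Fin 4), (x * u * x⁻¹ = u ∨ x * u * x⁻¹ = v ∨ x * u * x⁻¹ = u * v) ∧
        (x * v * x⁻¹ = u ∨ x * v * x⁻¹ = v ∨ x * v * x⁻¹ = u * v) := by decide +kernel
  obtain ⟨u, v, h1, h2, h3, h4, h5, h6, h7⟩ := key
  have hval : Function.Injective fun a => ((e.symm a : H) : P) :=
    Subtype.val_injective.comp e.symm.injective
  have hone : ((e.symm 1 : H) : P) = 1 := by rw [map_one, Subgroup.coe_one]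
  refine ⟨e.symm u, (e.symm u).2, e.symm v, (e.symm v).2, by rw [← Subgroup.coe_mul, ← map_mul, h1, hone],
    by rw [← Subgroup.coe_mul, ← map_mul, h2, hone], fun h => h3 (hval (h.trans hone.symm)),
    fun h => h4 (hval (h.trans hone.symm)), fun h => h5 (hval h),
    by rw [← Subgroup.coe_mul, ← map_mul, h6, map_mul, Subgroup.coe_mul], fun x hx => ?_⟩
  obtain ⟨hu, hv⟩ := h7 (e ⟨x, hx⟩)
  have hx' : ∀ w, x * (e.symm w : P) * x⁻¹ = (e.symm (e ⟨x, hx⟩ * w * (e ⟨x, hx⟩)⁻¹) : P) := fun w => by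
    simp
  rw [hx' u, hx' v]
  constructor
  · rcases hu with h | h | h <;> rw [h] <;> simp
  · rcases hv with h | h | h <;> rw [h] <;> simp

theorem four_of_alt_four {P : Type*} [Group P] {H : Subgroup P} (e : H ≃* alternatingGroup (Fin 4)) :
    ∃ u ∈ H, ∃ v ∈ H, u * u = 1 ∧ v * v = 1 ∧ u ≠ 1 ∧ v ≠ 1 ∧ u ≠ v ∧ u * v = v * u ∧
      ∀ x ∈ H, x * u * x⁻¹ ∈ four u v ∧ x * v * x⁻¹ ∈ four u v := by
  have key : ∃ u v : alternatingGroup (Fin 4), u * u = 1 ∧ v * v = 1 ∧ u ≠ 1 ∧ v ≠ 1 ∧ u ≠ v ∧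
      u * v = v * u ∧ ∀ x : alternatingGroup (Fin 4), (x * u * x⁻¹ = u ∨ x * u * x⁻¹ = v ∨ x * u * x⁻¹ = u * v) ∧
        (x * v * x⁻¹ = u ∨ x * v * x⁻¹ = v ∨ x * v * x⁻¹ = u * v) := by decide +kernel
  obtain ⟨u, v, h1, h2, h3, h4, h5, h6, h7⟩ := key
  have hval : Function.Injective fun a => ((e.symm a : H) : P) :=
    Subtype.val_injective.comp e.symm.injective
  have hone : ((e.symm 1 : H) : P) = 1 := by rw [map_one, Subgroup.coe_one]
  refine ⟨e.symm u, (e.symm u).2, e.symm v, (e.symm v).2, by rw [← Subgroup.coe_mul, ← map_mul, h1, hone],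
    by rw [← Subgroup.coe_mul, ← map_mul, h2, hone], fun h => h3 (hval (h.trans hone.symm)),
    fun h => h4 (hval (h.trans hone.symm)), fun h => h5 (hval h),
    by rw [← Subgroup.coe_mul, ← map_mul, h6, map_mul, Subgroup.coe_mul], fun x hx => ?_⟩
  obtain ⟨hu, hv⟩ := h7 (e ⟨x, hx⟩)
  have hx' : ∀ w, x * (e.symm w : P) * x⁻¹ = (e.symm (e ⟨x, hx⟩ * w * (e ⟨x, hx⟩)⁻¹) : P) := fun w => by
    simp
  rw [hx' u, hx' v]
  constructor
  · rcases hu with h | h | h <;> rw [h] <;> simp
  · rcases hv with h | h | h <;> rw [h] <;> simp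

variable {F : Type*} [Field F]

local notation "G" => Matrix.SpecialLinearGroup (Fin 2) F
local notation "M2" => Matrix (Fin 2) (Fin 2) F
local notation "PS" => Matrix.ProjectiveSpecialLinearGroup (Fin 2) F
local notation "PG" => Matrix.ProjGenLinGroup (Fin 2) F

/-- The standard element of order four. -/
def I0 : G := ⟨!![0, -1; 1, 0], by simp [Matrix.det_fin_two]⟩

/-- A second element of a standard quaternion pair. -/
def J0 {a b : F} (h : a ^ 2 + b ^ 2 = -1) : G :=
  ⟨!![a, b; b, -a], by simp [Matrix.det_fin_two]; linear_combination -h⟩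

/-- The standard four-group in `PGL(2, q)`. -/
abbrev fourPG {a b : F} (h : a ^ 2 + b ^ 2 = -1) : Set PG :=
  four (Matrix.ProjectiveSpecialLinearGroup.toPGL (π I0)) (Matrix.ProjectiveSpecialLinearGroup.toPGL (π (J0 h)))

/-- Its stabiliser in `PSL(2, q)`. -/
abbrev stab {a b : F} (h : a ^ 2 + b ^ 2 = -1) : Subgroup PG :=
  R0 ⊓ Subgroup.normalizer (fourPG h)

theorem exists_sum_sq (p : ℕ) [Fact p.Prime] [CharP F p] :
    ∃ a b : ℕ, (a : F) ^ 2 + (b : F) ^ 2 = -1 := by
  obtain ⟨a, b, hab⟩ := ZMod.sq_add_sq p (-1)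
  refine ⟨a.val, b.val, ?_⟩
  have := congrArg (ZMod.castHom (dvd_refl p) F) hab
  rw [map_add, map_pow, map_pow, map_neg, map_one, ← ZMod.natCast_zmod_val a, ← ZMod.natCast_zmod_val b,
    map_natCast, map_natCast] at this
  exact this

theorem exists_qpair_of_four (h2 : (2 : F) ≠ 0) {u v : PS} (hu : u * u = 1) (hv : v * v = 1)
    (hu1 : u ≠ 1) (hv1 : v ≠ 1) (huv : u ≠ v) (hc : u * v = v * u) :
    ∃ i j : G, QPair i j ∧ π i = u ∧ π j = v := by
  obtain ⟨i, rfl⟩ := π_surjective u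
  obtain ⟨j, rfl⟩ := π_surjective v
  have sq : ∀ x : G, π x * π x = 1 → π x ≠ 1 → x * x = -1 := by
    intro x hx hx1
    rw [← map_mul, π_eq_one, scal_iff] at hx
    refine hx.resolve_left fun h => hx1 (π_eq_one.2 ((scal_iff x).2 (eq_one_or_of_sq h2 h)))
  have hi := sq i hu hu1
  have hj := sq j hv hv1
  refine ⟨i, j, ⟨hi, hj, ?_⟩, rfl, rfl⟩
  rw [← map_mul, ← map_mul] at hc
  refine (π_eq_iff.1 hc).resolve_left fun h => huv (π_eq_iff.2 ?_)
  have e : (i * j) * (i * j) = 1 := by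
    rw [mul_assoc i j (i * j), ← mul_assoc j i j, h, mul_assoc i j j, hj, mul_neg_one, mul_neg, hi, neg_neg]
  rcases eq_one_or_of_sq h2 e with e | e
  · exact Or.inr (by rw [← inv_of_sq hi, eq_inv_iff_mul_eq_one, h, e])
  · exact Or.inl (by
      have : i * (i * j) = i * -1 := by rw [e]
      rw [← mul_assoc, hi, neg_one_mul, mul_neg_one, neg_inj] at this
      exact this)

theorem mem_fourPG_mul {a b : F} (h : a ^ 2 + b ^ 2 = -1) :
    Matrix.ProjectiveSpecialLinearGroup.toPGL (π (I0 * J0 h)) ∈ fourPG h := by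
  rw [map_mul, map_mul]
  simp

variable [Fintype F]

theorem exists_gamma (h2 : (2 : F) ≠ 0) {a b : F} (h : a ^ 2 + b ^ 2 = -1) {u v : PS} (hu : u * u = 1)
    (hv : v * v = 1) (hu1 : u ≠ 1) (hv1 : v ≠ 1) (huv : u ≠ v) (hc : u * v = v * u) :
    ∃ γ : PG, conjEmb γ u = Matrix.ProjectiveSpecialLinearGroup.toPGL (π I0) ∧
      conjEmb γ v = Matrix.ProjectiveSpecialLinearGroup.toPGL (π (J0 h)) := by
  obtain ⟨i, j, hij, rfl, rfl⟩ := exists_qpair_of_four h2 hu hv hu1 hv1 huv hc
  obtain ⟨P, hP⟩ := isConj_of_tr (g := i) (g' := I0)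
    ((tr_zero_of_sq h2 hij.isq).trans (by simp [tr, I0]))
    (tr_sq_of_tr_zero h2 (tr_zero_of_sq h2 hij.isq))
  set j' : G := P * j * P⁻¹ with hj'
  have hsq : j' * j' = -1 := by
    rw [hj', show P * j * P⁻¹ * (P * j * P⁻¹) = P * (j * j) * P⁻¹ by group, hij.jsq, mul_neg, mul_one,
      neg_mul, mul_inv_cancel]
  have hanti : j' * I0 = -(I0 * j') := by
    rw [hj', ← hP, show P * j * P⁻¹ * (P * i * P⁻¹) = P * (j * i) * P⁻¹ by group, hij.anti, mul_neg,
      neg_mul, show P * i * P⁻¹ * (P * j * P⁻¹) = P * (i * j) * P⁻¹ by group]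
  obtain ⟨x, y, hxy⟩ : ∃ x y : F, (j' : M2) = !![x, y; y, -x] := by
    have e := congrArg (fun z : G => (z : M2)) hanti
    simp only [Matrix.SpecialLinearGroup.coe_mul, coe_neg'] at e
    have e00 := congrFun (congrFun e 0) 0
    have e01 := congrFun (congrFun e 0) 1
    simp [I0, Matrix.mul_apply, Fin.sum_univ_two, Matrix.vecMul, dotProduct] at e00 e01
    refine ⟨(j' : M2) 0 0, (j' : M2) 0 1, mext (by simp) (by simp) ?_ ?_⟩
    · simp; linear_combination -e00
    · simp; linear_combination -e01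
  have hnorm : x ^ 2 + y ^ 2 = -1 := by
    have := j'.det_coe
    rw [hxy] at this
    simp [Matrix.det_fin_two] at this
    linear_combination -this
  have e1 : conjEmb (Matrix.ProjGenLinGroup.mk (Matrix.SpecialLinearGroup.toGL P)) (π i) =
      Matrix.ProjectiveSpecialLinearGroup.toPGL (π I0) := by
    rw [← hP, π_conj, map_mul, map_mul, map_inv]
    rfl
  have e2 : conjEmb (Matrix.ProjGenLinGroup.mk (Matrix.SpecialLinearGroup.toGL P)) (π j) =
      Matrix.ProjectiveSpecialLinearGroup.toPGL (π j') := by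
    rw [hj', π_conj, map_mul, map_mul, map_inv]
    rfl
  by_cases hneg : j' = -J0 h
  · exact ⟨_, e1, e2.trans (by rw [hneg, π_neg])⟩
  set c : M2 := 1 - (J0 h : M2) * (j' : M2) with hc'
  have hjj : (j' : M2) * (j' : M2) = -1 := by
    rw [← Matrix.SpecialLinearGroup.coe_mul, hsq, coe_neg', Matrix.SpecialLinearGroup.coe_one]
  have hJJ : (J0 h : M2) * (J0 h : M2) = -1 := by
    apply mext <;> simp [J0, Matrix.mul_apply, Fin.sum_univ_two] <;>
      first
        | linear_combination h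
        | ring
  have hdet : c.det ≠ 0 := by
    rw [hc', hxy]
    simp [J0, Matrix.det_fin_two, Matrix.mul_apply, Fin.sum_univ_two, Matrix.one_fin_two,
      Matrix.vecMul, dotProduct]
    intro h0
    set s := a * x + b * y with hs
    set w := a * y - b * x with hw
    have hsw : s ^ 2 + w ^ 2 = 1 := by
      linear_combination (x ^ 2 + y ^ 2) * h - hnorm
    have hs1 : s = 1 := mul_left_cancel₀ h2 (by linear_combination -h0 + hsw)
    have hw0 : w = 0 := by
      have : w ^ 2 = 0 := by rw [hs1] at hsw; linear_combination hsw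
      exact pow_eq_zero_iff two_ne_zero |>.1 this
    refine hneg (Subtype.ext ?_)
    rw [coe_neg', hxy]
    apply mext <;> simp [J0]
    · linear_combination -a * hs1 + b * hw0 + x * h
    · linear_combination -b * hs1 - a * hw0 + y * h
    · linear_combination -b * hs1 - a * hw0 + y * h
    · linear_combination a * hs1 - b * hw0 - x * h
  let g : GL (Fin 2) F := Matrix.GeneralLinearGroup.mkOfDetNeZero c hdet
  have conj : ∀ s t : G, c * (s : M2) = (t : M2) * c →
      conjEmb (Matrix.ProjGenLinGroup.mk g) (π s) = Matrix.ProjectiveSpecialLinearGroup.toPGL (π t) := by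
    intro s t he
    rw [conjEmb_mk]
    show _ = Matrix.ProjGenLinGroup.mk _
    congr 1
    exact mul_inv_eq_iff_eq_mul.2 (Units.ext he)
  refine ⟨Matrix.ProjGenLinGroup.mk g * Matrix.ProjGenLinGroup.mk (Matrix.SpecialLinearGroup.toGL P), ?_, ?_⟩
  · have := conj I0 I0 (by
      rw [hc', sub_mul, one_mul, mul_sub, mul_one, hxy]
      congr 1
      apply mext <;> simp [I0, J0, Matrix.mul_apply, Fin.sum_univ_two] <;> ring)
    rw [← this]
    show (MulAut.conj (_ * _)) _ = MulAut.conj _ _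
    rw [map_mul, MulAut.mul_apply]
    exact congrArg _ e1
  · have := conj j' (J0 h) (by
      rw [hc', sub_mul, one_mul, mul_sub, mul_one, mul_assoc, hjj, mul_neg_one, sub_neg_eq_add,
        ← mul_assoc, hJJ, neg_one_mul, sub_neg_eq_add, add_comm])
    rw [← this]
    show (MulAut.conj (_ * _)) _ = MulAut.conj _ _
    rw [map_mul, MulAut.mul_apply]
    exact congrArg _ e2

/-- An element normalising a four-group maps into the stabiliser. -/
theorem conjEmb_mem_stab {a b : F} (h : a ^ 2 + b ^ 2 = -1) {γ : PG} {u v x : PS}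
    (hgu : conjEmb γ u = Matrix.ProjectiveSpecialLinearGroup.toPGL (π I0))
    (hgv : conjEmb γ v = Matrix.ProjectiveSpecialLinearGroup.toPGL (π (J0 h)))
    (hu : u * u = 1) (hv : v * v = 1) (hc : u * v = v * u)
    (hxu : x * u * x⁻¹ ∈ four u v) (hxv : x * v * x⁻¹ ∈ four u v) :
    conjEmb γ x ∈ stab h := by
  classical
  refine ⟨(range_conjEmb γ) ▸ ⟨x, rfl⟩, ?_⟩
  have himg : conjEmb γ '' four u v = fourPG h := by
    rw [four, fourPG, four, Set.image_insert_eq, Set.image_insert_eq, Set.image_singleton, map_mul, hgu, hgv]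
  have hmaps : ∀ w ∈ four u v, x * w * x⁻¹ ∈ four u v := by
    rintro w (rfl | rfl | rfl)
    · exact hxu
    · exact hxv
    · rw [show x * (u * v) * x⁻¹ = (x * u * x⁻¹) * (x * v * x⁻¹) by group]
      have hne : x * u * x⁻¹ ≠ x * v * x⁻¹ → (x * u * x⁻¹) * (x * v * x⁻¹) ∈ four u v := by
        intro hne
        have h3 : v * (u * v) = u := by rw [hc, ← mul_assoc, hv, one_mul]
        have h4 : u * (u * v) = v := by rw [← mul_assoc, hu, one_mul]
        have h5 : u * v * u = v := by rw [hc, mul_assoc, hu, mul_one]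
        have h6 : u * v * v = u := by rw [mul_assoc, hv, mul_one]
        rcases hxu with e | e | e <;> rcases hxv with e' | e' | e' <;>
          first
            | exact absurd (e.trans e'.symm) hne
            | (rw [e, e']; simp [h3, h4, h5, h6, ← hc])
      by_cases hne' : x * u * x⁻¹ = x * v * x⁻¹
      · have huv : u = v := mul_left_cancel (mul_right_cancel hne')
        subst huv
        refine Or.inr (Or.inr ?_)
        rw [show x * u * x⁻¹ * (x * u * x⁻¹) = x * (u * u) * x⁻¹ by group, hu, mul_one,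
          mul_inv_cancel]
        rfl
      · exact hne hne'
  haveI : Finite (fourPG h) := (Set.toFinite _).to_subtype
  refine Subgroup.mem_normalizer_fintype fun y hy => ?_
  rw [← himg] at hy ⊢
  obtain ⟨w, hw, rfl⟩ := hy
  exact ⟨x * w * x⁻¹, hmaps w hw, by rw [map_mul, map_mul, map_inv]⟩

section Descent

variable {K : Type*} [Field K]

/-- All entries lie in the image of `K`. -/
def InL (φ : K →+* F) (X : M2) : Prop := ∀ i j, X i j ∈ φ.range

theorem InL.eq_map {φ : K →+* F} {X : M2} (h : InL φ X) :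
    ∃ W : Matrix (Fin 2) (Fin 2) K, W.map φ = X := by
  choose w hw using h
  exact ⟨Matrix.of fun i j => w i j, by ext i j; simp [hw]⟩

/-- Stabilisers of four-groups are defined over every subfield. -/
theorem stab_le_pg (h2 : (2 : F) ≠ 0) {a b : ℕ} (h : (a : F) ^ 2 + (b : F) ^ 2 = -1) (φ : K →+* F) :
    stab h ≤ pg φ := by
  rintro _ ⟨⟨x, rfl⟩, hy⟩
  obtain ⟨z, rfl⟩ := π_surjective x
  have hA : (a : F) ∈ φ.range := ⟨a, map_natCast φ a⟩
  have hB : (b : F) ∈ φ.range := ⟨b, map_natCast φ b⟩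
  have h2' : (2 : F) ∈ φ.range := ⟨2, map_ofNat φ 2⟩
  have hinv : ∀ {c : F}, c ∈ φ.range → c⁻¹ ∈ φ.range := by
    rintro _ ⟨c, rfl⟩
    exact ⟨c⁻¹, map_inv₀ φ c⟩
  have three : InL φ (I0 : G).1 ∧ InL φ (J0 h).1 ∧ InL φ ((I0 : G).1 * (J0 h).1) := by
    refine ⟨fun i j => ?_, fun i j => ?_, fun i j => ?_⟩ <;> fin_cases i <;> fin_cases j <;>
      simp [I0, J0, Matrix.mul_apply, Fin.sum_univ_two] <;>
      first
        | exact zero_mem φ.range
        | exact one_mem φ.range
        | exact neg_mem (one_mem φ.range)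
        | exact hA
        | exact hB
        | exact neg_mem hA
        | exact neg_mem hB
  -- the conjugates of the three generators have entries in `K`
  have hconj : ∀ s : G, Matrix.ProjectiveSpecialLinearGroup.toPGL (π s) ∈ fourPG h →
      InL φ ((z : M2) * (s : M2) * ((z⁻¹ : G) : M2)) := by
    intro s hs
    rw [← Matrix.SpecialLinearGroup.coe_mul, ← Matrix.SpecialLinearGroup.coe_mul]
    have hm := (Subgroup.mem_set_normalizer_iff.1 hy _).1 hs
    rw [← map_inv, ← map_mul, ← map_mul, ← π_conj, fourPG, four, ← map_mul, ← map_mul] at hm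
    have key : ∀ t : G, InL φ (t : M2) → π (z * s * z⁻¹) = π t → InL φ ((z * s * z⁻¹ : G) : M2) := by
      intro t ht e
      rcases π_eq_iff.1 e with e | e
      · rw [← e]; exact ht
      · intro i j
        have := neg_mem (ht i j)
        rw [e, coe_neg'] at this
        simpa using this
    rcases hm with e | e | e
    · exact key _ three.1 (Matrix.ProjectiveSpecialLinearGroup.toPGL_injective e)
    · exact key _ three.2.1 (Matrix.ProjectiveSpecialLinearGroup.toPGL_injective e)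
    · exact key (I0 * J0 h) (by rw [Matrix.SpecialLinearGroup.coe_mul]; exact three.2.2)
        (Matrix.ProjectiveSpecialLinearGroup.toPGL_injective e)
  have h1 : InL φ ((z : M2) * 1 * ((z⁻¹ : G) : M2)) := by
    rw [mul_one, ← Matrix.SpecialLinearGroup.coe_mul, mul_inv_cancel, Matrix.SpecialLinearGroup.coe_one]
    intro i j
    fin_cases i <;> fin_cases j <;> simp [zero_mem, one_mem]
  have hI := hconj I0 (by simp)
  have hJ := hconj (J0 h) (by simp)
  have hK := hconj (I0 * J0 h) (mem_fourPG_mul h)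
  rw [Matrix.SpecialLinearGroup.coe_mul] at hK
  have hall : ∀ X : M2, InL φ X → InL φ ((z : M2) * X * ((z⁻¹ : G) : M2)) := by
    intro X hX
    obtain ⟨c0, c1, c2, c3, m0, m1, m2, m3, hd⟩ : ∃ c0 c1 c2 c3 : F, c0 ∈ φ.range ∧ c1 ∈ φ.range ∧
        c2 ∈ φ.range ∧ c3 ∈ φ.range ∧ X = c0 • (1 : M2) + c1 • (I0 : G).1 + c2 • (J0 h).1 +
          c3 • ((I0 : G).1 * (J0 h).1) := by
      refine ⟨(X 0 0 + X 1 1) / 2, (X 1 0 - X 0 1) / 2,
        -((a : F) * (X 0 0 - X 1 1) + (b : F) * (X 0 1 + X 1 0)) / 2,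
        ((b : F) * (X 0 0 - X 1 1) - (a : F) * (X 0 1 + X 1 0)) / 2, ?_, ?_, ?_, ?_, ?_⟩
      · rw [div_eq_mul_inv]; exact mul_mem (add_mem (hX 0 0) (hX 1 1)) (hinv h2')
      · rw [div_eq_mul_inv]; exact mul_mem (sub_mem (hX 1 0) (hX 0 1)) (hinv h2')
      · rw [div_eq_mul_inv]; exact mul_mem (neg_mem (add_mem (mul_mem hA (sub_mem (hX 0 0) (hX 1 1)))
          (mul_mem hB (add_mem (hX 0 1) (hX 1 0))))) (hinv h2')
      · rw [div_eq_mul_inv]; exact mul_mem (sub_mem (mul_mem hB (sub_mem (hX 0 0) (hX 1 1)))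
          (mul_mem hA (add_mem (hX 0 1) (hX 1 0)))) (hinv h2')
      · apply mext <;> simp [I0, J0] <;> field_simp
        · linear_combination (X 0 0 - X 1 1) * h
        · linear_combination (X 0 1 + X 1 0) * h
        · linear_combination (X 0 1 + X 1 0) * h
        · linear_combination (X 1 1 - X 0 0) * h
    intro i j
    rw [hd]
    simp only [mul_add, add_mul, mul_smul_comm, smul_mul_assoc, Matrix.add_apply, Matrix.smul_apply,
      smul_eq_mul]
    exact add_mem (add_mem (add_mem (mul_mem m0 (h1 i j)) (mul_mem m1 (hI i j)))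
      (mul_mem m2 (hJ i j))) (mul_mem m3 (hK i j))
  -- products of two entries lie in `K`
  have hprod : ∀ k i j l : Fin 2, (z : M2) k i * ((z⁻¹ : G) : M2) j l ∈ φ.range := by
    intro k i j l
    have := hall (Matrix.single i j (1 : F)) (fun i' j' => by
      rw [Matrix.single_apply]; split_ifs <;> first | exact one_mem _ | exact zero_mem _) k l
    rwa [Matrix.mul_apply, Finset.sum_eq_single j, Matrix.mul_single_apply_same, mul_one] at this
    · intro j' _ hj'
      rw [Matrix.mul_single_apply_of_ne _ _ _ _ _ hj', zero_mul]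
    · simp
  have hprod' : ∀ k i k' i' : Fin 2, (z : M2) k i * (z : M2) k' i' ∈ φ.range := by
    intro k i k' i'
    have e : ∀ (j l : Fin 2), ((z⁻¹ : G) : M2) j l =
        if j = l then (z : M2) (j + 1) (l + 1) else -(z : M2) j l := by
      intro j l
      rw [coe_inv', tr]
      fin_cases j <;> fin_cases l <;> simp
    by_cases hki : k' = i'
    · have := hprod k i (k' + 1) (i' + 1)
      rw [e, hki, if_pos rfl] at this
      rw [hki]
      fin_cases i' <;> exact this
    · have := neg_mem (hprod k i k' i')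
      rwa [e, if_neg hki, mul_neg, neg_neg] at this
  obtain ⟨k, i, hc⟩ : ∃ k i, (z : M2) k i ≠ 0 := by
    by_contra hcon
    push Not at hcon
    have hd := det_eq z
    rw [hcon 0 0, hcon 0 1] at hd
    simp at hd
  obtain ⟨W, hW⟩ := InL.eq_map (φ := φ) (X := (z : M2) k i • (z : M2)) fun k' i' => hprod' k i k' i'
  have hdW : W.det ≠ 0 := fun h0 => by
    have := congrArg Matrix.det hW
    rw [← RingHom.mapMatrix_apply, ← RingHom.map_det, h0, map_zero, Matrix.det_smul, Fintype.card_fin,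
      z.det_coe, mul_one] at this
    exact hc (pow_eq_zero_iff two_ne_zero |>.1 this.symm)
  refine ⟨Matrix.ProjGenLinGroup.mk (Matrix.GeneralLinearGroup.mkOfDetNeZero W hdW), ?_⟩
  show _ = Matrix.ProjGenLinGroup.mk (Matrix.SpecialLinearGroup.toGL z)
  rw [Matrix.ProjGenLinGroup.map_mk, eq_comm, Matrix.ProjGenLinGroup.mk_eq_mk_iff]
  refine ⟨Units.mk0 _ hc, Units.ext ?_⟩
  show (z : M2) * Matrix.scalar (Fin 2) ((z : M2) k i) = W.map φ
  rw [hW]
  ext r s
  fin_cases r <;> fin_cases s <;> simp [Matrix.mul_apply, Fin.sum_univ_two, mul_comm]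

/-- A subgroup all whose traces lie in a subfield. -/
theorem map_le_kg (h2 : (2 : F) ≠ 0) {a b : ℕ} (h : (a : F) ^ 2 + (b : F) ^ 2 = -1) (φ : K →+* F)
    {H : Subgroup PS} {γ : PG} {u v : PS} (hu : u ∈ H) (hv : v ∈ H)
    (hgu : conjEmb γ u = Matrix.ProjectiveSpecialLinearGroup.toPGL (π I0))
    (hgv : conjEmb γ v = Matrix.ProjectiveSpecialLinearGroup.toPGL (π (J0 h)))
    (htr : ∀ s : G, π s ∈ H → tr s ∈ φ.range) : H.map (conjEmb γ) ≤ kg φ := by
  induction γ using Matrix.ProjGenLinGroup.induction_on with | mk g => ?_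
  have htr' : ∀ (t : G), ∀ x ∈ H, conjEmb (Matrix.ProjGenLinGroup.mk g) x =
      Matrix.ProjectiveSpecialLinearGroup.toPGL (π t) → tr t ∈ φ.range := by
    intro t x hx e
    obtain ⟨s, rfl⟩ := π_surjective x
    rw [conjEmb_mk] at e
    obtain ⟨c, hc⟩ := Matrix.ProjGenLinGroup.mk_eq_mk_iff.1 e
    have hd := congrArg (fun u : GL (Fin 2) F => (u : M2).det) hc
    have htrace := congrArg (fun u : GL (Fin 2) F => (u : M2).trace) hc
    simp only [Units.val_mul, Matrix.det_mul, Matrix.GeneralLinearGroup.coe_scalar,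
      Matrix.scalar_apply, Matrix.det_diagonal, Finset.prod_const, Finset.card_univ, Fintype.card_fin,
      Matrix.SpecialLinearGroup.coe_GL_coe_matrix, s.det_coe, t.det_coe, mul_one] at hd htrace
    rw [← Matrix.det_mul, Units.mul_inv, Matrix.det_one, one_mul] at hd
    have e1 : tr t = (c : F) * tr s := by
      rw [← trace_eq, ← trace_eq, ← htrace, ← Matrix.smul_eq_mul_diagonal, Matrix.trace_smul,
        smul_eq_mul, Matrix.trace_units_conj]
    rcases sq_eq_one_iff.1 hd with hc1 | hc1 <;> rw [e1, hc1]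
    · rw [one_mul]; exact htr s hx
    · rw [neg_one_mul]; exact neg_mem (htr s hx)
  rintro _ ⟨x, hx, rfl⟩
  obtain ⟨y, hy⟩ : conjEmb (Matrix.ProjGenLinGroup.mk g) x ∈ (R0 : Subgroup PG) :=
    (range_conjEmb (Matrix.ProjGenLinGroup.mk g)).le ⟨x, rfl⟩
  obtain ⟨z, rfl⟩ := π_surjective y
  have t0 := htr' z x hx hy.symm
  have t1 := htr' (z * I0) (x * u) (mul_mem hx hu) (by rw [map_mul, map_mul, map_mul, hy, hgu])
  have t2 := htr' (z * J0 h) (x * v) (mul_mem hx hv) (by rw [map_mul, map_mul, map_mul, hy, hgv])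
  have t3 := htr' (z * (I0 * J0 h)) (x * (u * v)) (mul_mem hx (mul_mem hu hv))
    (by simp only [map_mul]; rw [hy, hgu, hgv])
  simp only [tr, Matrix.SpecialLinearGroup.coe_mul] at t0 t1 t2 t3
  simp [I0, J0, Matrix.mul_apply, Fin.sum_univ_two, Matrix.vecMul, dotProduct] at t0 t1 t2 t3
  have hA : (a : F) ∈ φ.range := ⟨a, map_natCast φ a⟩
  have hB : (b : F) ∈ φ.range := ⟨b, map_natCast φ b⟩
  have hinv : ((2 : F))⁻¹ ∈ φ.range := ⟨2⁻¹, by rw [map_inv₀, map_ofNat]⟩
  set z0 := (z : M2) 0 0 + (z : M2) 1 1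
  have d0 : (z : M2) 0 0 - (z : M2) 1 1 ∈ φ.range := by
    convert add_mem (neg_mem (mul_mem hA t2)) (mul_mem hB t3) using 1
    linear_combination ((z : M2) 0 0 - (z : M2) 1 1) * h
  have d1 : (z : M2) 0 1 + (z : M2) 1 0 ∈ φ.range := by
    convert add_mem (neg_mem (mul_mem hB t2)) (neg_mem (mul_mem hA t3)) using 1
    linear_combination ((z : M2) 0 1 + (z : M2) 1 0) * h
  have hz : InL φ (z : M2) := by
    intro i j
    fin_cases i <;> fin_cases j <;> simp only [Fin.isValue, Fin.zero_eta, Fin.mk_one]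
    · convert mul_mem (add_mem t0 d0) hinv using 1; field_simp; ring
    · convert mul_mem (add_mem d1 t1) hinv using 1; field_simp; ring
    · convert mul_mem (sub_mem d1 t1) hinv using 1; field_simp; ring
    · convert mul_mem (sub_mem t0 d0) hinv using 1; field_simp; ring
  obtain ⟨W, hW⟩ := hz.eq_map
  have hdW : W.det = 1 := φ.injective (by
    rw [RingHom.map_det, RingHom.mapMatrix_apply, hW, z.det_coe, map_one])
  rw [← hy]
  refine ⟨π ⟨W, hdW⟩, ?_⟩
  show Matrix.ProjGenLinGroup.map φ (Matrix.ProjGenLinGroup.mk _) = Matrix.ProjGenLinGroup.mk _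
  rw [Matrix.ProjGenLinGroup.map_mk]
  congr 1
  exact Units.ext hW

end Descent

end Cfsg.Agent.SL2
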