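import Cfsg.Agent.Lib.SL2.Psl

/-!
# `PSL(2, 2^t) = A B A` for a non-split torus `A` and a Sylow `2`-subgroup `B`
-/

set_option autoImplicit false
set_option linter.unusedSectionVars false

namespace Cfsg.Agent.SL2

open Matrix

variable {F : Type*} [Field F] [Fintype F] [CharP F 2]

local notation "G" => Matrix.SpecialLinearGroup (Fin 2) F
local notation "M2" => Matrix (Fin 2) (Fin 2) F
local notation "q" => Fintype.card F

theorem exists_aba {t : F} (ht : NoEig (comp t)) (g : G) :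
    ∃ a ∈ cent (comp t), ∃ x : F, ∃ c ∈ cent (comp t), g = a * uu x * c := by
  classical
  set C := comp t with hC
  have h2 : (2 : F) = 0 := CharTwo.two_eq_zero
  have ht4 := ht.tr_sq
  have hts : tr C = t := tr_comp t
  have ht0 : t ≠ 0 := fun h => by rw [hts, h] at ht4; exact ht4 (by linear_combination -2 * h2)
  let M : F → G := fun x => uu x * C * (uu x)⁻¹
  let inv : G → F := fun y => tr (C * y)
  have hM : ∀ x, ((M x : G) : M2) = !![x, x ^ 2 + x * t + 1; 1, x + t] := by
    intro x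
    simp only [M]
    rw [Matrix.SpecialLinearGroup.coe_mul, Matrix.SpecialLinearGroup.coe_mul, coe_inv']
    apply mext <;> simp [C, comp, uu, tr, Matrix.mul_apply, Fin.sum_univ_two, CharTwo.neg_eq,
      CharTwo.sub_eq_add] <;> grind
  have hinvM : ∀ x, inv (M x) = x ^ 2 + t ^ 2 := by
    intro x
    simp only [inv, tr, Matrix.SpecialLinearGroup.coe_mul, hM]
    simp [C, comp, Matrix.mul_apply, Fin.sum_univ_two, CharTwo.neg_eq]
    linear_combination (x * t + 1) * h2
  have hinvc : ∀ a ∈ cent C, ∀ y, inv (a * y * a⁻¹) = inv y := by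
    intro a ha y
    simp only [inv]
    rw [show C * (a * y * a⁻¹) = a * (C * y) * a⁻¹ by
      rw [← mul_assoc, ← mul_assoc, mem_cent.1 ha]; group, tr_conj]
  have hinj : ∀ x y : F, x ^ 2 + t ^ 2 = y ^ 2 + t ^ 2 → x = y := by
    intro x y h
    refine sub_eq_zero.1 (pow_eq_zero_iff two_ne_zero |>.1 ?_)
    linear_combination h + (y ^ 2 - x * y) * h2
  have hg := scal_of_tr_sq_ne ht4
  have hstab : ∀ x : F, x ≠ 0 → x ≠ t → ∀ a ∈ cent C, a * M x * a⁻¹ = M x → a = 1 := by
    intro x hx hxt a ha he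
    by_cases hs : Scal a
    · rcases (scal_iff a).1 hs with h | h
      · exact h
      · rw [h, neg_eq_self]
    · exfalso
      have hm : M x ∈ cent C := by
        rw [← cent_eq hg ha hs, mem_cent]
        exact mul_inv_eq_iff_eq_mul.1 he
      obtain ⟨α, β, e⟩ := (mem_cent_iff hg).1 hm
      have e00 := congrFun (congrFun e 0) 0
      have e10 := congrFun (congrFun e 1) 0
      have e01 := congrFun (congrFun e 0) 1
      simp [hM, C, comp, CharTwo.neg_eq] at e00 e10 e01
      rw [← e10] at e01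
      rcases mul_eq_zero.1 (show x * (x + t) = 0 by linear_combination e01) with h | h
      · exact hx h
      · exact hxt (CharTwo.add_eq_zero.1 h)
  let S := {y : G // ∃ P : G, P * C * P⁻¹ = y}
  let Ψ : (cent C × {x : F // x ≠ 0 ∧ x ≠ t}) ⊕ {x : F // x = 0 ∨ x = t} → S := fun w => match w with
    | Sum.inl (a, x) => ⟨a.1 * M x * a.1⁻¹, a.1 * uu x.1, by simp only [M]; group⟩
    | Sum.inr x => ⟨M x, uu x.1, rfl⟩
  have hΨ : Function.Injective Ψ := by
    have e : ∀ w, inv (Ψ w).1 = (Sum.elim (fun p : cent C × {x : F // x ≠ 0 ∧ x ≠ t} => p.2.1)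
        (fun x => x.1) w) ^ 2 + t ^ 2 := by
      rintro (⟨a, x⟩ | x)
      · exact (hinvc _ a.2 _).trans (hinvM _)
      · exact hinvM _
    intro w w' h
    have hx := hinj _ _ ((e w).symm.trans ((congrArg (fun y : S => inv y.1) h).trans (e w')))
    rcases w with ⟨a, x⟩ | x <;> rcases w' with ⟨b, y⟩ | y <;> simp only [Sum.elim_inl, Sum.elim_inr] at hx
    · obtain rfl : x = y := Subtype.ext hx
      have h' : a.1 * M x * a.1⁻¹ = b.1 * M x * b.1⁻¹ := congrArg Subtype.val h
      have := hstab x.1 x.2.1 x.2.2 (b.1⁻¹ * a.1) (mul_mem (inv_mem b.2) a.2) (by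
        calc b.1⁻¹ * a.1 * M x * (b.1⁻¹ * a.1)⁻¹ = b.1⁻¹ * (a.1 * M x * a.1⁻¹) * b.1 := by group
          _ = b.1⁻¹ * (b.1 * M x * b.1⁻¹) * b.1 := by rw [h']
          _ = M x := by group)
      obtain rfl : a = b := Subtype.ext (inv_mul_eq_one.1 this).symm
      rfl
    · rcases y.2 with e' | e'
      · exact absurd (hx.trans e') x.2.1
      · exact absurd (hx.trans e') x.2.2
    · rcases x.2 with e' | e'
      · exact absurd (hx.symm.trans e') y.2.1
      · exact absurd (hx.symm.trans e') y.2.2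
    · rw [Subtype.ext hx]
  have hcard : Nat.card ((cent C × {x : F // x ≠ 0 ∧ x ≠ t}) ⊕ {x : F // x = 0 ∨ x = t}) =
      Nat.card S := by
    have h1 : Nat.card {x : F // x = 0 ∨ x = t} = 2 := by
      rw [Nat.card_eq_fintype_card, Fintype.card_subtype,
        show (Finset.univ.filter fun x : F => x = 0 ∨ x = t) = {0, t} by ext x; simp,
        Finset.card_pair (Ne.symm ht0)]
    have h3 : Nat.card {x : F // x ≠ 0 ∧ x ≠ t} = q - 2 := by
      rw [Nat.card_congr (Equiv.subtypeEquivRight (fun x => (not_or).symm) :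
          {x : F // x ≠ 0 ∧ x ≠ t} ≃ {x : F // ¬(x = 0 ∨ x = t)}), Nat.card_eq_fintype_card, Fintype.card_subtype_compl,
        ← Nat.card_eq_fintype_card (α := {x : F // x = 0 ∨ x = t}), h1]
    obtain ⟨hc, hi⟩ := card_cent_noEig ht
    rw [index_cent] at hi
    rw [Nat.card_sum, Nat.card_prod, h1, h3, hc, hi]
    have hq := two_le_q (F := F)
    obtain ⟨j, hj⟩ : ∃ j, q = j + 2 := ⟨q - 2, by omega⟩
    rw [hj, show j + 2 - 2 = j by omega, show j + 2 - 1 = j + 1 by omega]
    ring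
  obtain ⟨w, hw⟩ := ((Nat.bijective_iff_injective_and_card Ψ).2 ⟨hΨ, hcard⟩).surjective
    ⟨g * C * g⁻¹, g, rfl⟩
  obtain ⟨a, ha, x, hx⟩ : ∃ a ∈ cent C, ∃ x : F, a * uu x * C * (a * uu x)⁻¹ = g * C * g⁻¹ := by
    rcases w with ⟨a, x⟩ | x
    · exact ⟨a.1, a.2, x.1, Eq.trans (by simp only [Ψ, M]; group) (congrArg Subtype.val hw)⟩
    · exact ⟨1, one_mem _, x.1, Eq.trans (by simp only [Ψ, M]; group) (congrArg Subtype.val hw)⟩
  refine ⟨a, ha, x, (a * uu x)⁻¹ * g, mem_cent.2 ?_, by group⟩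
  calc C * ((a * uu x)⁻¹ * g) = (a * uu x)⁻¹ * (a * uu x * C * (a * uu x)⁻¹) * g := by group
    _ = (a * uu x)⁻¹ * (g * C * g⁻¹) * g := by rw [hx]
    _ = (a * uu x)⁻¹ * g * C := by group

end Cfsg.Agent.SL2
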