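import Mathlib

/-!
# `SL(2, F)`: conjugacy, centralisers and normalisers of regular semisimple elements

For a non-scalar `g` of trace `t` the centraliser is `{a + b g : det = 1}`; if `t² ≠ 4` the trace
determines the class, the centraliser is cyclic of order `q + 1 - r` (`r` the number of roots of
`X² - t X + 1`) and is inverted by the rest of its normaliser.
-/

set_option autoImplicit false
set_option linter.unusedSectionVars false

namespace Cfsg.Agent.SL2

open Matrix

variable {F : Type*} [Field F]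

local notation "G" => Matrix.SpecialLinearGroup (Fin 2) F
local notation "M2" => Matrix (Fin 2) (Fin 2) F

/-- The trace of an element. -/
def tr (g : G) : F := (g : M2) 0 0 + (g : M2) 1 1

/-- A scalar element. -/
def Scal (g : G) : Prop := (g : M2) 0 1 = 0 ∧ (g : M2) 1 0 = 0 ∧ (g : M2) 0 0 = (g : M2) 1 1

theorem trace_eq (g : G) : (g : M2).trace = tr g := Matrix.trace_fin_two _

theorem det_eq (g : G) : (g : M2) 0 0 * (g : M2) 1 1 - (g : M2) 0 1 * (g : M2) 1 0 = 1 := by
  rw [← Matrix.det_fin_two]; exact g.det_coe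

theorem ext4 {g h : G} (h00 : (g : M2) 0 0 = (h : M2) 0 0) (h01 : (g : M2) 0 1 = (h : M2) 0 1)
    (h10 : (g : M2) 1 0 = (h : M2) 1 0) (h11 : (g : M2) 1 1 = (h : M2) 1 1) : g = h := by
  apply Subtype.ext
  ext i j
  fin_cases i <;> fin_cases j <;> assumption

theorem mext {A B : M2} (h00 : A 0 0 = B 0 0) (h01 : A 0 1 = B 0 1) (h10 : A 1 0 = B 1 0)
    (h11 : A 1 1 = B 1 1) : A = B := by
  ext i j
  fin_cases i <;> fin_cases j <;> assumption

/-- Cayley-Hamilton. -/
theorem mul_self (g : G) : (g : M2) * (g : M2) = tr g • (g : M2) - 1 := by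
  have h := det_eq g
  apply mext <;> simp [Matrix.mul_apply, Fin.sum_univ_two, tr] <;> first
    | linear_combination -h
    | ring

theorem coe_inv' (g : G) : ((g⁻¹ : G) : M2) = tr g • 1 - (g : M2) := by
  rw [Matrix.SpecialLinearGroup.coe_inv, Matrix.adjugate_fin_two]
  apply mext <;> simp [tr]

theorem tr_inv (g : G) : tr g⁻¹ = tr g := by
  simp only [tr, coe_inv']
  simp [tr]; ring

theorem tr_conj (g h : G) : tr (h * g * h⁻¹) = tr g := by
  rw [← trace_eq, ← trace_eq, Matrix.SpecialLinearGroup.coe_mul, Matrix.SpecialLinearGroup.coe_mul,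
    Matrix.trace_mul_cycle, ← Matrix.SpecialLinearGroup.coe_mul, inv_mul_cancel,
    Matrix.SpecialLinearGroup.coe_one, one_mul]

theorem tr_neg (g : G) : tr (-g) = -tr g := by
  simp [tr, Matrix.SpecialLinearGroup.coe_neg]; ring

theorem scal_iff (g : G) : Scal g ↔ g = 1 ∨ g = -1 := by
  constructor
  · rintro ⟨h1, h2, h3⟩
    have h := det_eq g
    rw [h1, h2, ← h3, mul_zero, sub_zero] at h
    rcases mul_self_eq_one_iff.1 h with h | h
    · exact Or.inl (ext4 (by simp [h]) (by simp [h1]) (by simp [h2]) (by simp [← h3, h]))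
    · exact Or.inr (ext4 (by simp [h]) (by simp [h1]) (by simp [h2]) (by simp [← h3, h]))
  · rintro (rfl | rfl) <;> simp [Scal]

theorem scal_iff_mem_center (g : G) : Scal g ↔ g ∈ Subgroup.center G := by
  rw [Matrix.SpecialLinearGroup.mem_center_iff]
  constructor
  · rintro ⟨h1, h2, h3⟩
    refine ⟨(g : M2) 0 0, ?_, ?_⟩
    · have h := det_eq g
      rw [h1, h2, ← h3] at h
      simpa [pow_two] using h
    · apply mext <;> simp [h1, h2, h3]
  · rintro ⟨c, -, hc⟩
    simp [Scal, ← hc]

theorem scal_of_tr_sq_ne {g : G} (h : tr g ^ 2 ≠ 4) : ¬ Scal g := by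
  rintro ⟨h1, h2, h3⟩
  refine h ?_
  have hd := det_eq g
  rw [h1, h2, ← h3] at hd
  rw [tr, ← h3]
  linear_combination (4 : F) * hd

theorem scal_conj {g : G} (hg : Scal g) (h : G) : h * g * h⁻¹ = g := by
  rw [Subgroup.mem_center_iff.1 ((scal_iff_mem_center g).1 hg) h, mul_assoc, mul_inv_cancel,
    mul_one]

theorem not_scal_conj {g : G} (hg : ¬ Scal g) (h : G) : ¬ Scal (h * g * h⁻¹) := fun hs => by
  have := scal_conj hs h⁻¹
  rw [show h⁻¹ * (h * g * h⁻¹) * h⁻¹⁻¹ = g by group] at this
  exact hg (this ▸ hs)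

/-- The commutant of a non-scalar matrix. -/
theorem commutant {M : M2} (hM : ¬ (M 0 1 = 0 ∧ M 1 0 = 0 ∧ M 0 0 = M 1 1)) {X : M2}
    (h : X * M = M * X) : ∃ a b : F, X = a • 1 + b • M := by
  have e00 := congrFun (congrFun h 0) 0
  have e01 := congrFun (congrFun h 0) 1
  have e10 := congrFun (congrFun h 1) 0
  simp [Matrix.mul_apply, Fin.sum_univ_two] at e00 e01 e10
  by_cases hb : M 0 1 = 0
  · by_cases hc : M 1 0 = 0
    · have hd : M 0 0 ≠ M 1 1 := fun hd => hM ⟨hb, hc, hd⟩
      have hd' : M 0 0 - M 1 1 ≠ 0 := sub_ne_zero.2 hd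
      rw [hb] at e01
      rw [hc] at e10
      have x01 : X 0 1 = 0 := (mul_eq_zero.1
        (show X 0 1 * (M 0 0 - M 1 1) = 0 by linear_combination -e01)).resolve_right hd'
      have x10 : X 1 0 = 0 := (mul_eq_zero.1
        (show X 1 0 * (M 0 0 - M 1 1) = 0 by linear_combination e10)).resolve_right hd'
      refine ⟨X 0 0 - (X 0 0 - X 1 1) / (M 0 0 - M 1 1) * M 0 0,
        (X 0 0 - X 1 1) / (M 0 0 - M 1 1), mext ?_ ?_ ?_ ?_⟩ <;>
        simp [hb, hc, x01, x10] <;> (try field_simp) <;> grind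
    · refine ⟨X 0 0 - X 1 0 / M 1 0 * M 0 0, X 1 0 / M 1 0, mext ?_ ?_ ?_ ?_⟩ <;>
        simp [hb] <;> (try field_simp) <;> grind
  · refine ⟨X 0 0 - X 0 1 / M 0 1 * M 0 0, X 0 1 / M 0 1, mext ?_ ?_ ?_ ?_⟩ <;>
      simp <;> (try field_simp) <;> grind

theorem coeff_unique {g : G} (hg : ¬ Scal g) {a b a' b' : F}
    (h : a • (1 : M2) + b • (g : M2) = a' • (1 : M2) + b' • (g : M2)) : a = a' ∧ b = b' := by
  have e00 := congrFun (congrFun h 0) 0
  have e01 := congrFun (congrFun h 0) 1
  have e10 := congrFun (congrFun h 1) 0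
  have e11 := congrFun (congrFun h 1) 1
  simp at e00 e01 e10 e11
  have hb : b = b' := by
    by_contra hne
    have hne' : b - b' ≠ 0 := sub_ne_zero.2 hne
    exact hg ⟨e01.resolve_left hne, e10.resolve_left hne, mul_left_cancel₀ hne'
      (by linear_combination e00 - e11)⟩
  exact ⟨by rw [hb] at e00; linear_combination e00, hb⟩

/-- The centraliser of `g`. -/
abbrev cent (g : G) : Subgroup G := Subgroup.centralizer ({g} : Set G)

theorem mem_cent {g h : G} : h ∈ cent g ↔ g * h = h * g := by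
  simp [Subgroup.mem_centralizer_iff]

theorem mem_cent_iff {g : G} (hg : ¬ Scal g) {h : G} :
    h ∈ cent g ↔ ∃ a b : F, (h : M2) = a • (1 : M2) + b • (g : M2) := by
  rw [mem_cent]
  constructor
  · intro hh
    refine commutant hg ?_
    rw [← Matrix.SpecialLinearGroup.coe_mul, ← Matrix.SpecialLinearGroup.coe_mul, hh]
  · rintro ⟨a, b, hab⟩
    apply Subtype.ext
    rw [Matrix.SpecialLinearGroup.coe_mul, Matrix.SpecialLinearGroup.coe_mul, hab]
    simp [mul_add, add_mul]

theorem det_lin (g : G) (a b : F) :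
    (a • (1 : M2) + b • (g : M2)).det = a ^ 2 + a * b * tr g + b ^ 2 := by
  have h := det_eq g
  rw [Matrix.det_fin_two]
  simp [tr]
  linear_combination b ^ 2 * h

theorem cent_comm {g : G} (hg : ¬ Scal g) {x y : G} (hx : x ∈ cent g) (hy : y ∈ cent g) :
    x * y = y * x := by
  obtain ⟨a, b, hab⟩ := (mem_cent_iff hg).1 hx
  obtain ⟨c, d, hcd⟩ := (mem_cent_iff hg).1 hy
  apply Subtype.ext
  rw [Matrix.SpecialLinearGroup.coe_mul, Matrix.SpecialLinearGroup.coe_mul, hab, hcd]
  simp [mul_add, add_mul, smul_smul, mul_comm]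
  abel

/-- The centraliser of any non-scalar element of `C(g)` is `C(g)`. -/
theorem cent_eq {g c : G} (hg : ¬ Scal g) (hc : c ∈ cent g) (hcs : ¬ Scal c) : cent c = cent g := by
  refine le_antisymm (fun x hx => ?_) fun x hx => mem_cent.2 (cent_comm hg hc hx)
  obtain ⟨a, b, hab⟩ := (mem_cent_iff hcs).1 hx
  obtain ⟨a', b', hab'⟩ := (mem_cent_iff hg).1 hc
  refine (mem_cent_iff hg).2 ⟨a + b * a', b * b', ?_⟩
  rw [hab, hab']
  simp [smul_add, smul_smul, add_smul]
  abel

theorem self_mem_cent (g : G) : g ∈ cent g := mem_cent.2 rfl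

theorem cent_conj (g h : G) {x : G} : x ∈ cent (h * g * h⁻¹) ↔ h⁻¹ * x * h ∈ cent g := by
  rw [mem_cent, mem_cent]
  constructor
  · intro e
    calc g * (h⁻¹ * x * h) = h⁻¹ * (h * g * h⁻¹ * x) * h := by group
      _ = h⁻¹ * (x * (h * g * h⁻¹)) * h := by rw [e]
      _ = h⁻¹ * x * h * g := by group
  · intro e
    calc h * g * h⁻¹ * x = h * (g * (h⁻¹ * x * h)) * h⁻¹ := by group
      _ = h * (h⁻¹ * x * h * g) * h⁻¹ := by rw [e]
      _ = x * (h * g * h⁻¹) := by group

/-- The cyclicity of the centraliser of a regular semisimple element. -/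
theorem isCyclic_cent [Finite F] {g : G} (ht : tr g ^ 2 ≠ 4) : IsCyclic (cent g) := by
  classical
  have hg := scal_of_tr_sq_ne ht
  let K := AlgebraicClosure F
  set t := algebraMap F K (tr g) with htdef
  have hdeg : (Polynomial.X ^ 2 - Polynomial.C t * Polynomial.X + 1 : Polynomial K).degree ≠ 0 := by
    have : (Polynomial.X ^ 2 - Polynomial.C t * Polynomial.X + 1 : Polynomial K).degree = 2 := by
      compute_degree!
    simp [this]
  obtain ⟨r, hr⟩ := IsAlgClosed.exists_root _ hdeg
  simp [Polynomial.IsRoot] at hr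
  have hne : 2 * r ≠ t := by
    intro h
    apply ht
    apply (algebraMap F K).injective
    rw [map_pow, ← htdef, map_ofNat]
    linear_combination (2 * r - t) * h - 4 * hr
  choose a b hab using fun x : cent g => (mem_cent_iff hg).1 x.2
  let φ : cent g →* K :=
  { toFun := fun x => algebraMap F K (a x) + algebraMap F K (b x) * r
    map_one' := by
      have h1 := hab 1
      rw [show ((1 : cent g) : G) = 1 from rfl, Matrix.SpecialLinearGroup.coe_one] at h1
      obtain ⟨e1, e2⟩ := coeff_unique hg (a := 1) (b := 0) (by rw [← h1]; simp)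
      simp [← e1, ← e2]
    map_mul' := fun x y => by
      have e := hab (x * y)
      rw [Subgroup.coe_mul, Matrix.SpecialLinearGroup.coe_mul, hab x, hab y] at e
      have key : (a x • (1 : M2) + b x • (g : M2)) * (a y • (1 : M2) + b y • (g : M2)) =
          (a x * a y - b x * b y) • (1 : M2) +
            (a x * b y + b x * a y + tr g * (b x * b y)) • (g : M2) := by
        simp only [add_mul, mul_add, smul_mul_assoc, mul_smul_comm, one_mul, mul_one, smul_smul,
          mul_self, smul_sub]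
        module
      rw [key] at e
      obtain ⟨e1, e2⟩ := coeff_unique hg e
      rw [← e1, ← e2]
      simp only [map_sub, map_add, map_mul, ← htdef]
      linear_combination -(algebraMap F K (b x) * algebraMap F K (b y)) * hr }
  refine isCyclic_of_injective_ringHom φ ((injective_iff_map_eq_one φ).2 fun x hx => ?_)
  change algebraMap F K (a x) + algebraMap F K (b x) * r = 1 at hx
  have hd : a x ^ 2 + a x * b x * tr g + b x ^ 2 = 1 := by
    rw [← det_lin, ← hab x]; exact (x : G).det_coe
  have hd' := congrArg (algebraMap F K) hd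
  simp only [map_add, map_mul, map_pow, map_one, ← htdef] at hd'
  have hb : algebraMap F K (b x) = 0 := by
    have : algebraMap F K (b x) * (t - 2 * r) = 0 := by
      linear_combination hd' - (algebraMap F K (a x) - algebraMap F K (b x) * r +
        algebraMap F K (b x) * t + 1) * hx + (algebraMap F K (b x)) ^ 2 * (-hr)
    exact (mul_eq_zero.1 this).resolve_right (fun h => hne (sub_eq_zero.1 h).symm)
  rw [hb, zero_mul, add_zero] at hx
  apply Subtype.ext
  apply Subtype.ext
  rw [hab x, (algebraMap F K).injective (hx.trans (map_one _).symm),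
    (algebraMap F K).injective (hb.trans (map_zero _).symm)]
  simp

/-- A binary quadratic form of non-zero discriminant over a finite field represents `1`. -/
theorem exists_represent [Fintype F] {c e f : F}
    (h : e ^ 2 + 4 * c * f ≠ 0 ∨ (2 : F) = 0 ∧ (c ≠ 0 ∨ f ≠ 0)) :
    ∃ x y : F, c * x ^ 2 + e * x * y - f * y ^ 2 = 1 := by
  by_cases h2 : (2 : F) = 0
  · have hsq : ∀ z : F, ∃ w : F, w ^ 2 = z := fun z => by
      have : CharP F 2 := CharTwo.of_one_ne_zero_of_two_eq_zero one_ne_zero h2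
      obtain ⟨w, hw⟩ := FiniteField.isSquare_of_char_two (ringChar.eq F 2) z
      exact ⟨w, by rw [hw, pow_two]⟩
    by_cases hc : c = 0
    · by_cases hf : f = 0
      · have he : e ≠ 0 := by
          rcases h with h | ⟨-, h | h⟩
          · intro he; exact h (by simp [hc, he])
          · exact absurd hc h
          · exact absurd hf h
        exact ⟨1, e⁻¹, by simp [hc, hf, he]⟩
      · obtain ⟨w, hw⟩ := hsq (-f⁻¹)
        refine ⟨0, w, ?_⟩
        rw [hw]; field_simp; ring
    · obtain ⟨w, hw⟩ := hsq c⁻¹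
      exact ⟨w, 0, by rw [hw]; simp [hc]⟩
  · have hD : e ^ 2 + 4 * c * f ≠ 0 := by
      rcases h with h | ⟨h, -⟩
      · exact h
      · exact absurd h h2
    by_cases hc : c = 0
    · have he : e ≠ 0 := fun he => hD (by simp [hc, he])
      refine ⟨(1 + f) / e, 1, ?_⟩
      rw [hc]; field_simp; ring
    · have hR : Fintype.card F % 2 = 1 := FiniteField.odd_card_of_char_ne_two (fun h =>
        h2 (by
          have : CharP F 2 := h ▸ ringChar.charP F
          exact CharTwo.two_eq_zero))
      have h4c : 4 * c ≠ 0 := mul_ne_zero (by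
        rw [show (4 : F) = 2 * 2 by norm_num]; exact mul_ne_zero h2 h2) hc
      obtain ⟨u, y, huy⟩ := FiniteField.exists_root_sum_quadratic
        (f := Polynomial.X ^ 2 - Polynomial.C (4 * c))
        (g := Polynomial.C (-(e ^ 2 + 4 * c * f)) * Polynomial.X ^ 2)
        (Polynomial.degree_X_pow_sub_C (by norm_num) _)
        (Polynomial.degree_C_mul_X_pow 2 (neg_ne_zero.2 hD)) hR
      simp at huy
      refine ⟨(u - e * y) / (2 * c), y, ?_⟩
      field_simp
      linear_combination huy

/-- The companion element of trace `t`. -/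
def comp (t : F) : G := ⟨!![0, -1; 1, t], by simp [Matrix.det_fin_two]⟩

@[simp] theorem tr_comp (t : F) : tr (comp t) = t := by simp [tr, comp]

theorem not_scal_comp (t : F) : ¬ Scal (comp t) := fun h => by simpa [comp] using h.2.1

/-- Trace determines the class when the discriminant is non-zero (or in characteristic 2). -/
theorem exists_conj_comp [Fintype F] {g : G}
    (h : tr g ^ 2 ≠ 4 ∨ (2 : F) = 0 ∧ ¬ Scal g) : ∃ P : G, P * comp (tr g) * P⁻¹ = g := by
  have hd := det_eq g
  have hq : ((g : M2) 1 1 - (g : M2) 0 0) ^ 2 + 4 * (g : M2) 1 0 * (g : M2) 0 1 ≠ 0 ∨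
      (2 : F) = 0 ∧ ((g : M2) 1 0 ≠ 0 ∨ (g : M2) 0 1 ≠ 0) := by
    by_cases ht : tr g ^ 2 = 4
    · obtain ⟨h2, hs⟩ := h.resolve_left (not_not.2 ht)
      refine Or.inr ⟨h2, ?_⟩
      by_contra hcon
      push Not at hcon
      refine hs ⟨hcon.2, hcon.1, ?_⟩
      have : ((g : M2) 0 0 - (g : M2) 1 1) ^ 2 = 0 := by
        rw [tr] at ht
        linear_combination ht - 4 * hd - 4 * (g : M2) 1 0 * hcon.2
      exact sub_eq_zero.1 (pow_eq_zero_iff two_ne_zero |>.1 this)
    · left
      intro h0
      apply ht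
      rw [tr]
      linear_combination h0 + 4 * hd
  obtain ⟨x, y, hxy⟩ := exists_represent hq
  let P : G := ⟨!![x, (g : M2) 0 0 * x + (g : M2) 0 1 * y; y,
    (g : M2) 1 0 * x + (g : M2) 1 1 * y], by
      rw [Matrix.det_fin_two]; simp; linear_combination hxy⟩
  refine ⟨P, mul_inv_eq_iff_eq_mul.2 (Subtype.ext ?_)⟩
  rw [Matrix.SpecialLinearGroup.coe_mul, Matrix.SpecialLinearGroup.coe_mul]
  apply mext <;> simp [P, comp, tr, Matrix.mul_apply, Fin.sum_univ_two] <;> grind

theorem isConj_of_tr [Fintype F] {g g' : G} (ht : tr g = tr g') (h : tr g ^ 2 ≠ 4) :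
    ∃ P : G, P * g * P⁻¹ = g' := by
  obtain ⟨P, hP⟩ := exists_conj_comp (Or.inl h)
  obtain ⟨P', hP'⟩ := exists_conj_comp (g := g') (Or.inl (ht ▸ h))
  refine ⟨P' * P⁻¹, ?_⟩
  rw [← hP', ← ht]
  nth_rewrite 1 [← hP]
  group

theorem isConj_of_char_two [Fintype F] (h2 : (2 : F) = 0) {g g' : G} (hg : ¬ Scal g)
    (hg' : ¬ Scal g') (ht : tr g = tr g') : ∃ P : G, P * g * P⁻¹ = g' := by
  obtain ⟨P, hP⟩ := exists_conj_comp (Or.inr ⟨h2, hg⟩)
  obtain ⟨P', hP'⟩ := exists_conj_comp (g := g') (Or.inr ⟨h2, hg'⟩)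
  refine ⟨P' * P⁻¹, ?_⟩
  rw [← hP', ← ht]
  nth_rewrite 1 [← hP]
  group

/-- The normaliser of a regular semisimple centraliser. -/
theorem mem_normalizer_cent {g : G} (ht : tr g ^ 2 ≠ 4) {x : G} :
    x ∈ Subgroup.normalizer (cent g : Set G) ↔ x * g * x⁻¹ = g ∨ x * g * x⁻¹ = g⁻¹ := by
  have hg := scal_of_tr_sq_ne ht
  rw [Subgroup.mem_normalizer_iff]
  constructor
  · intro hx
    obtain ⟨a, b, hab⟩ := (mem_cent_iff hg).1 ((hx g).1 (self_mem_cent g))
    have htr : 2 * a + b * tr g = tr g := by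
      have := tr_conj g x
      rw [tr, hab] at this
      simp at this
      rw [tr] at this ⊢
      linear_combination this
    have hd : a ^ 2 + a * b * tr g + b ^ 2 = 1 := by
      rw [← det_lin, ← hab]; exact (x * g * x⁻¹).det_coe
    have hb : b ^ 2 = 1 := by
      have : (1 - b ^ 2) * (4 - tr g ^ 2) = 0 := by
        linear_combination (-4) * hd + (2 * a + b * tr g + tr g) * htr
      exact (sub_eq_zero.1 ((mul_eq_zero.1 this).resolve_right
        (sub_ne_zero.2 (Ne.symm ht)))).symm
    have ha : a * (a + b * tr g) = 0 := by linear_combination hd - hb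
    have hinv := coe_inv' g
    rcases eq_or_ne (tr g) 0 with h0 | h0
    · have ha0 : a = 0 := by
        rw [h0, mul_zero, add_zero] at ha
        exact mul_self_eq_zero.1 ha
      rcases sq_eq_one_iff.1 hb with hb1 | hb1
      · left; apply Subtype.ext; rw [hab, ha0, hb1]; simp
      · right; apply Subtype.ext; rw [hab, hinv, ha0, hb1, h0]; simp
    · rcases mul_eq_zero.1 ha with ha | ha
      · have hb1 : b = 1 := mul_right_cancel₀ h0 (by linear_combination htr - 2 * ha)
        left; apply Subtype.ext; rw [hab, ha, hb1]; simp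
      · have hb1 : b = -1 := mul_right_cancel₀ h0 (by linear_combination 2 * ha - htr)
        have ha' : a = tr g := by rw [hb1] at ha; linear_combination ha
        right; apply Subtype.ext; rw [hab, hinv, ha', hb1]; simp [sub_eq_add_neg]
  · intro hx y
    have hc : cent (x * g * x⁻¹) = cent g := by
      rcases hx with h | h <;> rw [h]
      ext z
      rw [mem_cent, mem_cent]
      exact Commute.inv_left_iff
    conv_rhs => rw [← hc, cent_conj,
      show x⁻¹ * (x * y * x⁻¹) * x = y by group]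

theorem exists_invert [Fintype F] {g : G} (ht : tr g ^ 2 ≠ 4) : ∃ x : G, x * g * x⁻¹ = g⁻¹ :=
  isConj_of_tr (tr_inv g).symm ht

theorem ne_inv {g : G} (ht : tr g ^ 2 ≠ 4) : g ≠ g⁻¹ := by
  intro h
  have e := congrArg (Subtype.val) h
  rw [coe_inv'] at e
  have e01 := congrFun (congrFun e 0) 1
  have e10 := congrFun (congrFun e 1) 0
  have e00 := congrFun (congrFun e 0) 0
  simp [tr] at e01 e10 e00
  have hd := det_eq g
  apply ht
  rw [tr]
  linear_combination 4 * hd + ((g : M2) 0 0 - (g : M2) 1 1) * e00 +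
    2 * (g : M2) 1 0 * e01

theorem sq_of_mem_normalizer {g : G} (ht : tr g ^ 2 ≠ 4) {x : G}
    (hx : x ∈ Subgroup.normalizer (cent g : Set G)) (hxc : x ∉ cent g) :
    x * g * x⁻¹ = g⁻¹ ∧ x * x = -1 := by
  have hinv : x * g * x⁻¹ = g⁻¹ := by
    refine ((mem_normalizer_cent ht).1 hx).resolve_left fun h => hxc (mem_cent.2 ?_)
    nth_rewrite 1 [← h]; group
  refine ⟨hinv, ?_⟩
  have h2 : (x * x) * g * (x * x)⁻¹ = g := by
    rw [show (x * x) * g * (x * x)⁻¹ = x * (x * g * x⁻¹) * x⁻¹ by group, hinv,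
      show x * g⁻¹ * x⁻¹ = (x * g * x⁻¹)⁻¹ by group, hinv, inv_inv]
  have h2' : g * (x * x) = (x * x) * g := by
    nth_rewrite 1 [← h2]; group
  have h0 : tr x = 0 := by
    by_contra h0
    refine hxc (mem_cent.2 (Subtype.ext ?_))
    have e : (g : M2) * ((x : M2) * (x : M2)) = ((x : M2) * (x : M2)) * (g : M2) := by
      rw [← Matrix.SpecialLinearGroup.coe_mul, ← Matrix.SpecialLinearGroup.coe_mul,
        ← Matrix.SpecialLinearGroup.coe_mul, h2']
    rw [mul_self, mul_sub, sub_mul, mul_one, one_mul, mul_smul_comm, smul_mul_assoc] at e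
    rw [Matrix.SpecialLinearGroup.coe_mul, Matrix.SpecialLinearGroup.coe_mul]
    exact smul_right_injective M2 h0 (sub_left_injective e)
  apply Subtype.ext
  rw [Matrix.SpecialLinearGroup.coe_mul, mul_self, h0]
  simp

/-- The number of roots of `X² - t X + 1`. -/
noncomputable def nroots (t : F) : ℕ := Nat.card {a : F // a * (t - a) = 1}

theorem nroots_cases [Finite F] {t : F} (ht : t ^ 2 ≠ 4) :
    nroots t = 0 ∧ (∀ a : F, a * (t - a) ≠ 1) ∨ nroots t = 2 ∧ ∃ a : F, a * (t - a) = 1 := by
  classical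
  have := Fintype.ofFinite F
  by_cases h : ∃ a : F, a * (t - a) = 1
  · right
    obtain ⟨a, ha⟩ := h
    refine ⟨?_, a, ha⟩
    have hne : a ≠ t - a := fun he => ht (by
      linear_combination 4 * ha + (t - 2 * a) * (-he))
    rw [nroots, Nat.card_eq_fintype_card, Fintype.card_subtype,
      show (Finset.univ.filter fun b : F => b * (t - b) = 1) = {a, t - a} from ?_,
      Finset.card_pair hne]
    ext b
    simp only [Finset.mem_filter, Finset.mem_univ, true_and, Finset.mem_insert,
      Finset.mem_singleton]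
    constructor
    · intro hb
      rcases mul_eq_zero.1 (show (b - a) * (t - b - a) = 0 by linear_combination hb - ha) with h | h
      · exact Or.inl (sub_eq_zero.1 h)
      · exact Or.inr (by linear_combination -h)
    · rintro (rfl | rfl)
      · exact ha
      · linear_combination ha
  · left
    push Not at h
    exact ⟨Nat.card_eq_zero.2 (Or.inl ⟨fun x => h x.1 x.2⟩), h⟩

/-- Elements of a given trace. -/
def traceFiber (t : F) :
    {g : G // tr g = t} ≃ {v : F × F × F // v.1 * (t - v.1) - v.2.1 * v.2.2 = 1} where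
  toFun g := ⟨((g.1 : M2) 0 0, (g.1 : M2) 0 1, (g.1 : M2) 1 0), by
    obtain ⟨g, rfl⟩ := g
    have := det_eq g
    simp only [tr]
    linear_combination this⟩
  invFun v := ⟨⟨!![v.1.1, v.1.2.1; v.1.2.2, t - v.1.1], by
    rw [Matrix.det_fin_two]; simpa using v.2⟩, by simp [tr]⟩
  left_inv g := by
    obtain ⟨g, rfl⟩ := g
    apply Subtype.ext
    apply ext4 <;> simp [tr]
  right_inv v := by simp

theorem card_trace [Finite F] (t : F) :
    Nat.card {g : G // tr g = t} = Nat.card F * (Nat.card F - 1) + Nat.card F * nroots t := by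
  classical
  have := Fintype.ofFinite F
  rw [Nat.card_congr (traceFiber t)]
  let e : {v : F × F × F // v.1 * (t - v.1) - v.2.1 * v.2.2 = 1} ≃
      (F × {b : F // b ≠ 0}) ⊕ ({a : F // a * (t - a) = 1} × F) :=
  { toFun := fun v => if hb : v.1.2.1 = 0 then
        Sum.inr (⟨v.1.1, by have := v.2; rwa [hb, zero_mul, sub_zero] at this⟩, v.1.2.2)
      else Sum.inl (v.1.1, ⟨v.1.2.1, hb⟩)
    invFun := fun w => match w with
      | Sum.inl (a, b) => ⟨(a, b.1, (a * (t - a) - 1) / b.1), by
          dsimp only; rw [mul_div_cancel₀ _ b.2]; ring⟩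
      | Sum.inr (a, c) => ⟨(a.1, 0, c), by dsimp only; rw [zero_mul, sub_zero]; exact a.2⟩
    left_inv := fun ⟨⟨a, b, c⟩, h⟩ => by
      dsimp only at h ⊢
      split_ifs with hb
      · subst hb; rfl
      · apply Subtype.ext
        simp only [Prod.mk.injEq, true_and]
        rw [div_eq_iff hb]; linear_combination h
    right_inv := fun w => by
      rcases w with ⟨a, b, hb⟩ | ⟨a, c⟩
      · simp [hb]
      · simp }
  rw [Nat.card_congr e, Nat.card_sum, Nat.card_prod, Nat.card_prod, nroots]
  have : Nat.card {b : F // b ≠ 0} = Nat.card F - 1 := by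
    rw [← Nat.card_congr (unitsEquivNeZero (G₀ := F)), Nat.card_units]
  rw [this, mul_comm (Nat.card {a : F // a * (t - a) = 1})]

end Cfsg.Agent.SL2
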