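import Cfsg.Agent.Lib.SL2.DicksonKlein
import Cfsg.Agent.Lib.SL2.DicksonTorus

/-!
# Counting four-groups in `PSL(2, q)`, `q` odd
-/

set_option autoImplicit false
set_option linter.unusedSectionVars false

namespace Cfsg.Agent.SL2

open Matrix

variable {F : Type*} [Field F] [Fintype F]

local notation "G" => Matrix.SpecialLinearGroup (Fin 2) F
local notation "M2" => Matrix (Fin 2) (Fin 2) F
local notation "PS" => Matrix.ProjectiveSpecialLinearGroup (Fin 2) F
local notation "PG" => Matrix.ProjGenLinGroup (Fin 2) F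
local notation "q" => Fintype.card F

theorem lift_involution (h2 : (2 : F) ≠ 0) {x : PS} (hx : x * x = 1) (hx1 : x ≠ 1) :
    ∃ g : G, π g = x ∧ g * g = -1 := by
  obtain ⟨g, rfl⟩ := π_surjective x
  rw [← map_mul, π_eq_one, scal_iff] at hx
  exact ⟨g, rfl, hx.resolve_left fun h => hx1 (π_eq_one.2 ((scal_iff g).2 (eq_one_or_of_sq h2 h)))⟩

theorem orderOf_two_iff {P : Type*} [Group P] {x : P} : orderOf x = 2 ↔ x * x = 1 ∧ x ≠ 1 := by
  rw [← pow_two, orderOf_eq_prime_iff]

theorem isConj_involutions (h2 : (2 : F) ≠ 0) {x y : PS} (hx : orderOf x = 2) (hy : orderOf y = 2) :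
    IsConj x y := by
  obtain ⟨hx, hx1⟩ := orderOf_two_iff.1 hx
  obtain ⟨hy, hy1⟩ := orderOf_two_iff.1 hy
  obtain ⟨g, rfl, hg⟩ := lift_involution h2 hx hx1
  obtain ⟨g', rfl, hg'⟩ := lift_involution h2 hy hy1
  obtain ⟨P, hP⟩ := isConj_of_tr ((tr_zero_of_sq h2 hg).trans (tr_zero_of_sq h2 hg').symm)
    (tr_sq_of_tr_zero h2 (tr_zero_of_sq h2 hg))
  exact isConj_iff.2 ⟨π P, by rw [← π_conj, hP]⟩

theorem centralizer_involution (h2 : (2 : F) ≠ 0) {g : G} (hg : g * g = -1) :
    Subgroup.centralizer ({π g} : Set PS) = NT g := by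
  have ht := tr_sq_of_tr_zero h2 (tr_zero_of_sq h2 hg)
  ext x
  obtain ⟨s, rfl⟩ := π_surjective x
  rw [pi_mem_NT, mem_normalizer_cent ht, inv_of_sq hg, Subgroup.mem_centralizer_singleton_iff,
    ← map_mul, ← map_mul, π_eq_iff]
  constructor
  · rintro (e | e)
    · left; rw [← e, mul_inv_cancel_right]
    · right
      rw [mul_inv_eq_iff_eq_mul, neg_mul]
      simp [e]
  · rintro (e | e)
    · left; rw [mul_inv_eq_iff_eq_mul.1 e]
    · right
      rw [mul_inv_eq_iff_eq_mul.1 e, neg_mul, neg_neg]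

/-- Involutions commuting with a given one. -/
theorem card_commuting_involutions (h2 : (2 : F) ≠ 0) {g : G} (hg : g * g = -1) :
    Nat.card {v : PS // orderOf v = 2 ∧ v ≠ π g ∧ π g * v = v * π g} = Nat.card (torus g) := by
  classical
  haveI : Finite PS := Finite.of_surjective _ π_surjective
  have ht := tr_sq_of_tr_zero h2 (tr_zero_of_sq h2 hg)
  have hiff : ∀ v : PS, (orderOf v = 2 ∧ v ≠ π g ∧ π g * v = v * π g) ↔
      v ∈ (NT g : Set PS) \ (torus g : Set PS) := by
    intro v
    obtain ⟨s, rfl⟩ := π_surjective v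
    constructor
    · rintro ⟨ho, hne, hc⟩
      have hN : π s ∈ NT g := by
        rw [← centralizer_involution h2 hg, Subgroup.mem_centralizer_singleton_iff]
        exact hc.symm
      refine ⟨hN, fun hT => ?_⟩
      obtain ⟨hs2, hs1⟩ := orderOf_two_iff.1 ho
      obtain ⟨s', hs', hsq⟩ := lift_involution h2 hs2 hs1
      have hc' : s' ∈ cent g := pi_mem_torus.1 (hs' ▸ hT)
      obtain ⟨a, b, hab⟩ := (mem_cent_iff (scal_of_tr_sq_ne ht)).1 hc'
      have h0 : tr s' = 2 * a + b * tr g := by simp only [tr, hab]; simp; ring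
      rw [tr_zero_of_sq h2 hsq, tr_zero_of_sq h2 hg, mul_zero, add_zero] at h0
      have ha : a = 0 := (mul_eq_zero.1 h0.symm).resolve_left h2
      have hd : b ^ 2 = 1 := by
        have := s'.det_coe
        rw [hab, det_lin, ha] at this
        linear_combination this
      refine hne ?_
      rw [← hs', π_eq_iff]
      rcases sq_eq_one_iff.1 hd with e | e
      · exact Or.inl (Subtype.ext (by rw [hab, ha, e]; simp))
      · exact Or.inr (Subtype.ext (by rw [coe_neg', hab, ha, e]; simp))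
    · rintro ⟨hN, hT⟩
      have hs := pi_mem_NT.1 hN
      have hsc : s ∉ cent g := fun h => hT (pi_mem_torus.2 h)
      obtain ⟨-, hsq⟩ := sq_of_mem_normalizer ht hs hsc
      refine ⟨orderOf_two_iff.2 ⟨by rw [← map_mul, hsq, π_neg, map_one], fun e => hT (e ▸ one_mem _)⟩,
        fun e => hT (e ▸ pi_mem_torus.2 (self_mem_cent g)), ?_⟩
      rw [← centralizer_involution h2 hg] at hN
      exact (Subgroup.mem_centralizer_singleton_iff.1 hN).symm
  rw [Nat.card_congr (Equiv.subtypeEquivRight hiff)]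
  show Nat.card ↥((NT g : Set PS) \ (torus g : Set PS)) = _
  rw [Nat.card_coe_set_eq, Set.ncard_sdiff (torus_lt_NT ht).le, ← Nat.card_coe_set_eq,
    ← Nat.card_coe_set_eq]
  show Nat.card (NT g) - Nat.card (torus g) = _
  rw [card_NT ht]
  omega

/-- The ordered pairs of commuting involutions. -/
abbrev InvPair (F : Type*) [Field F] :=
  {z : Matrix.ProjectiveSpecialLinearGroup (Fin 2) F × Matrix.ProjectiveSpecialLinearGroup (Fin 2) F //
    orderOf z.1 = 2 ∧ orderOf z.2 = 2 ∧ z.2 ≠ z.1 ∧ z.1 * z.2 = z.2 * z.1}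

theorem card_invPair (hodd : Odd q) : 2 * Nat.card (InvPair F) = Nat.card PS := by
  classical
  have h2 := two_ne_zero' hodd
  haveI : Finite PS := Finite.of_surjective _ π_surjective
  haveI : Fintype {u : PS // orderOf u = 2} := Fintype.ofFinite _
  set g0 : G := comp 0
  have hg0 : g0 * g0 = -1 := sq_neg_one_of_tr (tr_comp 0)
  have ht0 := tr_sq_of_tr_zero h2 (tr_comp (0 : F))
  set k := Nat.card (torus g0)
  have hu0 : orderOf (π g0) = 2 := orderOf_two_iff.2 ⟨by rw [← map_mul, hg0, π_neg, map_one],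
    fun e => not_scal_comp 0 (π_eq_one.1 e)⟩
  let e : InvPair F ≃
      Σ u : {u : PS // orderOf u = 2}, {v : PS // orderOf v = 2 ∧ v ≠ u ∧ (u : PS) * v = v * u} :=
    { toFun := fun z => ⟨⟨z.1.1, z.2.1⟩, ⟨z.1.2, z.2.2⟩⟩
      invFun := fun z => ⟨(z.1.1, z.2.1), z.1.2, z.2.2⟩
      left_inv := fun z => rfl
      right_inv := fun z => rfl }
  have hfib : ∀ u : {u : PS // orderOf u = 2},
      Nat.card {v : PS // orderOf v = 2 ∧ v ≠ u ∧ (u : PS) * v = v * u} = k := by
    rintro ⟨u, hu⟩
    obtain ⟨c, hc⟩ := isConj_iff.1 (isConj_involutions h2 hu0 hu)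
    refine Eq.trans ?_ (card_commuting_involutions h2 hg0)
    subst hc
    refine (Nat.card_congr ((MulAut.conj c).toEquiv.subtypeEquiv fun v => ?_)).symm
    show _ ↔ orderOf (MulAut.conj c v) = 2 ∧ MulAut.conj c v ≠ MulAut.conj c (π g0) ∧
      MulAut.conj c (π g0) * MulAut.conj c v = MulAut.conj c v * MulAut.conj c (π g0)
    rw [MulEquiv.orderOf_eq, ← map_mul, ← map_mul]
    simp only [ne_eq, EmbeddingLike.apply_eq_iff_eq]
  have hN : Nat.card {u : PS // orderOf u = 2} * (2 * k) = Nat.card PS := by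
    have h := index_centralizer_singleton (π g0)
    rw [← (Subgroup.centralizer ({π g0} : Set PS)).index_mul_card, centralizer_involution h2 hg0,
      card_NT ht0]
    congr 1
    rw [← centralizer_involution h2 hg0, h]
    refine Nat.card_congr (Equiv.subtypeEquivRight fun u => ⟨fun hu => isConj_iff.1 (isConj_involutions h2 hu0 hu), ?_⟩)
    rintro ⟨P, rfl⟩
    rw [show P * π g0 * P⁻¹ = MulAut.conj P (π g0) from rfl, MulEquiv.orderOf_eq, hu0]
  rw [Nat.card_congr e, Nat.card_sigma, Finset.sum_congr rfl (fun u _ => hfib u), Finset.sum_const,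
    Finset.card_univ, smul_eq_mul, ← Nat.card_eq_fintype_card, ← hN]
  ring

theorem four_mem_closure {P : Type*} [Group P] {V : Subgroup P} (hV : IsKleinFour V) {u v : P}
    (hu : u ∈ V) (hv : v ∈ V) (hu1 : u ≠ 1) (hv1 : v ≠ 1) (huv : u ≠ v) :
    Subgroup.closure ({u, v} : Set P) = V := by
  haveI : Finite V := Nat.finite_of_card_ne_zero (by rw [hV.card_four]; norm_num)
  haveI : Finite (Subgroup.closure ({u, v} : Set P)) := Finite.of_injective
    (Subgroup.inclusion ((Subgroup.closure_le V).2 (by rintro z (rfl | rfl) <;> assumption)))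
    (Subgroup.inclusion_injective _)
  have hle : Subgroup.closure ({u, v} : Set P) ≤ V :=
    (Subgroup.closure_le V).2 (by rintro z (rfl | rfl) <;> assumption)
  refine Subgroup.eq_of_le_of_card_ge hle ?_
  have h3 : 3 ≤ Nat.card (Subgroup.closure ({u, v} : Set P)) := by
    let f : Fin 3 → Subgroup.closure ({u, v} : Set P) :=
      ![1, ⟨u, Subgroup.subset_closure (by simp)⟩, ⟨v, Subgroup.subset_closure (by simp)⟩]
    have hf : Function.Injective f := by
      intro a b e
      have e' := congrArg Subtype.val e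
      fin_cases a <;> fin_cases b <;> simp [f] at e' ⊢ <;>
        first
          | exact absurd e' huv | exact absurd e'.symm huv | exact absurd e' hu1 | exact absurd e'.symm hu1
          | exact absurd e' hv1 | exact absurd e'.symm hv1
    simpa using Nat.card_le_card_of_injective f hf
  obtain ⟨c, hc⟩ := Subgroup.card_dvd_of_le hle
  rw [hV.card_four] at hc ⊢
  rcases (show c = 0 ∨ c = 1 ∨ 2 ≤ c by omega) with rfl | rfl | hc2
  · omega
  · omega
  · have := Nat.mul_le_mul_left (Nat.card (Subgroup.closure ({u, v} : Set P))) hc2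
    omega

theorem isKleinFour_closure (h2 : (2 : F) ≠ 0) {u v : PS} (hu : orderOf u = 2) (hv : orderOf v = 2)
    (huv : v ≠ u) (hc : u * v = v * u) : IsKleinFour (Subgroup.closure ({u, v} : Set PS)) := by
  classical
  haveI : Finite PS := Finite.of_surjective _ π_surjective
  obtain ⟨hu2, hu1⟩ := orderOf_two_iff.1 hu
  obtain ⟨hv2, hv1⟩ := orderOf_two_iff.1 hv
  obtain ⟨i, j, h, rfl, rfl⟩ := exists_qpair_of_four h2 hu2 hv2 hu1 hv1 (Ne.symm huv) hc
  have heq : Subgroup.closure ({π i, π j} : Set PS) = h.Q.map π := by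
    refine le_antisymm ((Subgroup.closure_le _).2 ?_) ?_
    · rintro z (rfl | rfl)
      · exact ⟨i, h.i_mem, rfl⟩
      · exact ⟨j, h.j_mem, rfl⟩
    · rintro _ ⟨x, hx, rfl⟩
      obtain ⟨y, hy, hxy⟩ := QPair.mem_Q_cases h2 h hx
      have : π x = π y := by rcases hxy with e | e <;> rw [e] ; rw [π_neg]
      rw [this]
      simp only [Set.mem_insert_iff, Set.mem_singleton_iff] at hy
      rcases hy with rfl | rfl | rfl | rfl
      · rw [map_one]; exact one_mem _
      · exact Subgroup.subset_closure (by simp)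
      · exact Subgroup.subset_closure (by simp)
      · rw [map_mul]
        exact mul_mem (Subgroup.subset_closure (by simp)) (Subgroup.subset_closure (by simp))
  have hneg : (-1 : G) ∈ h.Q := h.neg_mem (one_mem _)
  have hd : Nat.gcd 2 (q - 1) = 2 := by
    obtain ⟨k, hk⟩ : Odd q := by
      rw [Nat.odd_iff]
      exact FiniteField.odd_card_of_char_ne_two fun e => h2 (by
        have : CharP F 2 := e ▸ ringChar.charP F
        exact CharTwo.two_eq_zero)
    exact Nat.gcd_eq_left ⟨k, by omega⟩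
  have h4 : Nat.card (h.Q.map π) = 4 := by
    have := card_map_pi h.Q hneg
    rw [QPair.card_Q h2 h, hd] at this
    omega
  rw [heq]
  refine ⟨h4, ?_⟩
  haveI : Nontrivial (h.Q.map π : Subgroup PS) := Finite.one_lt_card_iff_nontrivial.1 (by omega)
  refine (Monoid.exponent_eq_prime_iff Nat.prime_two).2 ?_
  rintro ⟨_, x, hx, rfl⟩ hne
  rw [← Subgroup.orderOf_coe]
  show orderOf (π x) = 2
  have hxne : π x ≠ 1 := fun e => hne (Subtype.ext e)
  refine orderOf_two_iff.2 ⟨?_, hxne⟩
  rcases QPair.sq_eq_of_not_scal h2 h hx with e | e | e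
  · exact absurd (by rw [e, map_one]) hxne
  · exact absurd (by rw [e, π_neg, map_one]) hxne
  · rw [← map_mul, e, π_neg, map_one]

theorem pair_mem_of_klein {P : Type*} [Group P] {V : Subgroup P} (hV : IsKleinFour V) {u : P}
    (hu : u ∈ V) (hu1 : u ≠ 1) : orderOf u = 2 ∧ ∀ v ∈ V, u * v = v * u := by
  have hsq : ∀ z : V, z * z = 1 := fun z => by
    have h := Monoid.pow_exponent_eq_one z
    rwa [hV.exponent_two, pow_two] at h
  refine ⟨orderOf_two_iff.2 ⟨congrArg Subtype.val (hsq ⟨u, hu⟩), hu1⟩, fun v hv => ?_⟩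
  have hinv : ∀ z : V, z⁻¹ = z := fun z => inv_eq_of_mul_eq_one_left (hsq z)
  have := congrArg Subtype.val (show (⟨u, hu⟩ : V) * ⟨v, hv⟩ = ⟨v, hv⟩ * ⟨u, hu⟩ by
    calc (⟨u, hu⟩ : V) * ⟨v, hv⟩ = (⟨u, hu⟩ * ⟨v, hv⟩)⁻¹ := (hinv _).symm
      _ = ⟨v, hv⟩ * ⟨u, hu⟩ := by rw [_root_.mul_inv_rev, hinv, hinv])
  exact this

theorem card_klein (hodd : Odd q) : 12 * Nat.card {V : Subgroup PS // IsKleinFour V} = Nat.card PS := by
  classical
  have h2 := two_ne_zero' hodd
  haveI : Finite PS := Finite.of_surjective _ π_surjective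
  haveI : Fintype {V : Subgroup PS // IsKleinFour V} := Fintype.ofFinite _
  let f : InvPair F → {V : Subgroup PS // IsKleinFour V} := fun z =>
    ⟨Subgroup.closure ({z.1.1, z.1.2} : Set PS), isKleinFour_closure h2 z.2.1 z.2.2.1 z.2.2.2.1 z.2.2.2.2⟩
  have hfib : ∀ V : {V : Subgroup PS // IsKleinFour V}, Nat.card {z : InvPair F // f z = V} = 6 := by
    rintro ⟨V, hV⟩
    let e : {z : InvPair F // f z = ⟨V, hV⟩} ≃ {z : V × V // z.1 ≠ 1 ∧ z.2 ≠ 1 ∧ z.1 ≠ z.2} :=
      { toFun := fun z => ⟨(⟨z.1.1.1, (congrArg Subtype.val z.2).le (Subgroup.subset_closure (by simp))⟩,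
            ⟨z.1.1.2, (congrArg Subtype.val z.2).le (Subgroup.subset_closure (by simp))⟩),
          fun e => (orderOf_two_iff.1 z.1.2.1).2 (congrArg Subtype.val e),
          fun e => (orderOf_two_iff.1 z.1.2.2.1).2 (congrArg Subtype.val e),
          fun e => z.1.2.2.2.1 (congrArg Subtype.val e).symm⟩
        invFun := fun z => ⟨⟨(z.1.1.1, z.1.2.1),
            (pair_mem_of_klein hV z.1.1.2 fun e => z.2.1 (Subtype.ext e)).1,
            (pair_mem_of_klein hV z.1.2.2 fun e => z.2.2.1 (Subtype.ext e)).1,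
            fun e => z.2.2.2 (Subtype.ext e).symm,
            (pair_mem_of_klein hV z.1.1.2 fun e => z.2.1 (Subtype.ext e)).2 _ z.1.2.2⟩,
          Subtype.ext (four_mem_closure hV z.1.1.2 z.1.2.2 (fun e => z.2.1 (Subtype.ext e))
            (fun e => z.2.2.1 (Subtype.ext e)) fun e => z.2.2.2 (Subtype.ext e))⟩
        left_inv := fun z => rfl
        right_inv := fun z => rfl }
    rw [Nat.card_congr e]
    haveI : Fintype V := Fintype.ofFinite V
    have hc : Fintype.card V = 4 := by rw [← Nat.card_eq_fintype_card, hV.card_four]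
    rw [Nat.card_eq_fintype_card, Fintype.card_subtype,
      show (Finset.univ.filter fun z : V × V => z.1 ≠ 1 ∧ z.2 ≠ 1 ∧ z.1 ≠ z.2) =
        (Finset.univ.erase (1 : V)).offDiag by ext z; simp [and_assoc], Finset.offDiag_card,
      Finset.card_erase_of_mem (Finset.mem_univ _), Finset.card_univ, hc]
  have hsum : Nat.card (InvPair F) = 6 * Nat.card {V : Subgroup PS // IsKleinFour V} := by
    rw [← Nat.card_congr (Equiv.sigmaFiberEquiv f), Nat.card_sigma,
      Finset.sum_congr rfl (fun V _ => hfib V), Finset.sum_const, Finset.card_univ, smul_eq_mul,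
      Nat.card_eq_fintype_card (α := {V : Subgroup PS // IsKleinFour V}), mul_comm]
  rw [← card_invPair hodd, hsum]
  ring

/-- All normalisers of four-groups have the same order. -/
theorem card_normalizer_klein (hodd : Odd q) (p : ℕ) [Fact p.Prime] [CharP F p] {V W : Subgroup PS}
    (hV : IsKleinFour V) (hW : IsKleinFour W) :
    Nat.card (Subgroup.normalizer (V : Set PS)) = Nat.card (Subgroup.normalizer (W : Set PS)) := by
  classical
  haveI : Finite PS := Finite.of_surjective _ π_surjective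
  have h2 := two_ne_zero' hodd
  obtain ⟨a, b, hab⟩ := exists_sum_sq (F := F) p
  set T : Set PG := {Matrix.ProjectiveSpecialLinearGroup.toPGL (π I0),
    Matrix.ProjectiveSpecialLinearGroup.toPGL (π (J0 hab))}
  have key : ∀ U : Subgroup PS, IsKleinFour U → Nat.card (Subgroup.normalizer (U : Set PS)) =
      Nat.card ↥(R0 ⊓ Subgroup.normalizer ((Subgroup.closure T : Subgroup PG) : Set PG)) := by
    intro U hU
    haveI : Nontrivial U := Finite.one_lt_card_iff_nontrivial.1 (by rw [hU.card_four]; norm_num)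
    haveI : Fintype U := Fintype.ofFinite U
    obtain ⟨u, hu1⟩ := exists_ne (1 : U)
    obtain ⟨v, -, hv⟩ := Finset.exists_mem_notMem_of_card_lt_card
      (s := ({1, u} : Finset U)) (t := Finset.univ) (by
        rw [Finset.card_univ, ← Nat.card_eq_fintype_card, hU.card_four]
        exact lt_of_le_of_lt Finset.card_le_two (by norm_num))
    simp only [Finset.mem_insert, Finset.mem_singleton, not_or] at hv
    have hu1' : (u : PS) ≠ 1 := fun e => hu1 (Subtype.ext e)
    have hv1' : (v : PS) ≠ 1 := fun e => hv.1 (Subtype.ext e)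
    have huv : (u : PS) ≠ v := fun e => hv.2 (Subtype.ext e).symm
    obtain ⟨hu, hcomm⟩ := pair_mem_of_klein hU u.2 hu1'
    obtain ⟨hv', -⟩ := pair_mem_of_klein hU v.2 hv1'
    obtain ⟨γ, hgu, hgv⟩ := exists_gamma h2 hab (orderOf_two_iff.1 hu).1 (orderOf_two_iff.1 hv').1
      hu1' hv1' huv (hcomm v v.2)
    have hmap : U.map (conjEmb γ) = Subgroup.closure T := by
      rw [← four_mem_closure hU u.2 v.2 hu1' hv1' huv, MonoidHom.map_closure, Set.image_pair, hgu, hgv]
    rw [← card_map_conjEmb (Subgroup.normalizer (U : Set PS)) γ]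
    congr 2
    ext y
    rw [← hmap, Subgroup.mem_inf, ← range_conjEmb γ]
    constructor
    · rintro ⟨x, hx, rfl⟩
      refine ⟨⟨x, rfl⟩, Subgroup.mem_normalizer_iff.2 fun z => ?_⟩
      constructor
      · rintro ⟨w, hw, rfl⟩
        exact ⟨x * w * x⁻¹, (Subgroup.mem_normalizer_iff.1 hx w).1 hw, by rw [map_mul, map_mul, map_inv]⟩
      · rintro ⟨w, hw, hwz⟩
        refine ⟨x⁻¹ * w * x, (Subgroup.mem_normalizer_iff.1 hx _).2 (by simpa [mul_assoc] using hw), ?_⟩
        rw [map_mul, map_mul, map_inv, hwz]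
        group
    · rintro ⟨⟨x, rfl⟩, hy⟩
      refine ⟨x, Subgroup.mem_normalizer_iff.2 fun w => ?_, rfl⟩
      have := Subgroup.mem_normalizer_iff.1 hy (conjEmb γ w)
      rwa [← map_inv, ← map_mul, ← map_mul, Subgroup.mem_map_iff_mem (conjEmb_injective γ),
        Subgroup.mem_map_iff_mem (conjEmb_injective γ)] at this
  rw [key V hV, key W hW]

theorem normalizer_klein_cases (hodd : Odd q) {V : Subgroup PS} (hV : IsKleinFour V) :
    Nat.card (Subgroup.normalizer (V : Set PS)) = 12 ∨ Nat.card (Subgroup.normalizer (V : Set PS)) = 24 := by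
  classical
  haveI : Finite PS := Finite.of_surjective _ π_surjective
  have h2 := two_ne_zero' hodd
  haveI : Nontrivial V := Finite.one_lt_card_iff_nontrivial.1 (by rw [hV.card_four]; norm_num)
  haveI : Fintype V := Fintype.ofFinite V
  obtain ⟨u, hu1⟩ := exists_ne (1 : V)
  obtain ⟨v, -, hv⟩ := Finset.exists_mem_notMem_of_card_lt_card
    (s := ({1, u} : Finset V)) (t := Finset.univ) (by
      rw [Finset.card_univ, ← Nat.card_eq_fintype_card, hV.card_four]
      exact lt_of_le_of_lt Finset.card_le_two (by norm_num))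
  simp only [Finset.mem_insert, Finset.mem_singleton, not_or] at hv
  have hu1' : (u : PS) ≠ 1 := fun e => hu1 (Subtype.ext e)
  have hv1' : (v : PS) ≠ 1 := fun e => hv.1 (Subtype.ext e)
  have huv : (u : PS) ≠ v := fun e => hv.2 (Subtype.ext e).symm
  obtain ⟨hu, hcomm⟩ := pair_mem_of_klein hV u.2 hu1'
  obtain ⟨hv', -⟩ := pair_mem_of_klein hV v.2 hv1'
  obtain ⟨i, j, h, hi, hj⟩ := exists_qpair_of_four h2 (orderOf_two_iff.1 hu).1 (orderOf_two_iff.1 hv').1
    hu1' hv1' huv (hcomm v v.2)
  have hVQ : V = h.Q.map π := by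
    rw [← four_mem_closure hV u.2 v.2 hu1' hv1' huv, ← hi, ← hj]
    refine le_antisymm ((Subgroup.closure_le _).2 ?_) ?_
    · rintro z (rfl | rfl)
      · exact ⟨i, h.i_mem, rfl⟩
      · exact ⟨j, h.j_mem, rfl⟩
    · rintro _ ⟨x, hx, rfl⟩
      obtain ⟨y, hy, hxy⟩ := QPair.mem_Q_cases h2 h hx
      have : π x = π y := by rcases hxy with e | e <;> rw [e] ; rw [π_neg]
      rw [this]
      simp only [Set.mem_insert_iff, Set.mem_singleton_iff] at hy
      rcases hy with rfl | rfl | rfl | rfl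
      · rw [map_one]; exact one_mem _
      · exact Subgroup.subset_closure (by simp)
      · exact Subgroup.subset_closure (by simp)
      · rw [map_mul]
        exact mul_mem (Subgroup.subset_closure (by simp)) (Subgroup.subset_closure (by simp))
  have hN : Subgroup.normalizer (V : Set PS) = (Subgroup.normalizer (h.Q : Set G)).map π := by
    have hQ : ∀ t : G, π t ∈ V ↔ t ∈ h.Q := fun t => by
      rw [hVQ]
      refine ⟨?_, fun ht => ⟨t, ht, rfl⟩⟩
      rintro ⟨c, hc, e⟩
      rcases π_eq_iff.1 e with e | e <;> rw [e]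
      · exact hc
      · exact h.neg_mem hc
    have key : ∀ s : G, π s ∈ Subgroup.normalizer (V : Set PS) ↔ s ∈ Subgroup.normalizer (h.Q : Set G) := by
      intro s
      rw [Subgroup.mem_normalizer_iff, Subgroup.mem_normalizer_iff]
      constructor
      · intro hs t
        rw [← hQ, ← hQ, π_conj]
        exact hs _
      · intro hs y
        obtain ⟨t, rfl⟩ := π_surjective y
        rw [← π_conj, hQ, hQ]
        exact hs t
    ext y
    obtain ⟨s, rfl⟩ := π_surjective y
    rw [key]
    refine ⟨fun hs => ⟨s, hs, rfl⟩, ?_⟩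
    rintro ⟨t, ht, e⟩
    have : π s ∈ Subgroup.normalizer (V : Set PS) := e ▸ (key t).2 ht
    exact (key s).1 this
  obtain ⟨k, hk⟩ := id hodd
  have := card_map_pi _ (Subgroup.le_normalizer (h.neg_mem (one_mem h.Q)))
  rw [← hN, Nat.gcd_eq_left (show 2 ∣ q - 1 from ⟨k, by omega⟩)] at this
  rcases QPair.card_normalizer_cases h2 h with e | e <;> omega

end Cfsg.Agent.SL2
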