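import Cfsg.Agent.Lib.SL2.DicksonApps
import Cfsg.Prelude.Def_CaseTheorems

/-!
# The minimal simple groups `PSL(2, q)`
-/

set_option autoImplicit false
set_option linter.unusedSectionVars false

namespace Cfsg.Agent.SL2

open Matrix

variable {F : Type*} [Field F] [Fintype F]

local notation "PS" => Matrix.ProjectiveSpecialLinearGroup (Fin 2) F
local notation "q" => Fintype.card F

theorem isSimple_psl (h4 : 4 ≤ q) : IsSimpleGroup PS :=
  Matrix.ProjectiveSpecialLinearGroup.rank_two_simple (F := F) (by rw [Nat.card_eq_fintype_card]; exact h4)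

theorem not_comm : ¬ IsMulCommutative PS := by
  intro h
  refine B0_ne_top (F := F) (eq_top_iff.2 fun y _ => ?_)
  exact W0_le_B0 (commute_uu_eq one_ne_zero (h.is_comm.comm _ _))

theorem not_solvable_psl (h4 : 4 ≤ q) : ¬ Group.IsSolvable PS := fun hs => by
  haveI := hs
  haveI := isSimple_psl h4
  exact not_comm ⟨⟨fun a b => (IsSimpleGroup.comm_iff_isSolvable.2 hs) a b⟩⟩

theorem nine_pow_mod (b : ℕ) : (3 ^ 2) ^ b % 5 = 1 ∨ (3 ^ 2) ^ b % 5 = 4 := by
  induction b with
  | zero => simp
  | succ b ih => rw [pow_succ, Nat.mul_mod]; rcases ih with h | h <;> rw [h] <;> norm_num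

theorem not_solvable_alt_five : ¬ Group.IsSolvable (alternatingGroup (Fin 5)) := fun hs => by
  have key : ¬ ∀ a b : alternatingGroup (Fin 5), a * b = b * a := by decide +kernel
  exact key (IsSimpleGroup.comm_iff_isSolvable.2 hs)

theorem not_minimal_of_embedding {K : Type*} [Field K] [Fintype K] (hK : 4 ≤ Fintype.card K) {m : ℕ}
    (hm : Fintype.card K ^ m = q) (hm2 : 2 ≤ m) (h : IsMinimalSimple PS) : False := by
  haveI : Finite PS := Finite.of_surjective _ π_surjective
  obtain ⟨φ⟩ := exists_embedding (F := F) hm (by omega)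
  obtain ⟨H, hH⟩ := exists_subgroup_kg φ
  obtain ⟨e⟩ := iso_of_map_eq_kg hH
  refine not_solvable_psl hK ?_
  haveI := h.2.2 H fun hT => by
    have hc := Nat.card_congr e.toEquiv
    rw [hT, Subgroup.card_top] at hc
    have hP := card_psl (F := F)
    have hL := card_psl (F := K)
    have h2 : Fintype.card K * Fintype.card K ≤ q := by
      rw [← hm, ← pow_two]
      exact Nat.pow_le_pow_right Fintype.card_pos hm2
    set k := Fintype.card K
    have hk : 4 * k ≤ k * k := Nat.mul_le_mul_right k hK
    have hineq : 4 * (k * ((k - 1) * (k + 1))) ≤ q * ((q - 1) * (q + 1)) := by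
      rw [← mul_assoc]
      exact Nat.mul_le_mul (hk.trans h2) (Nat.mul_le_mul (by omega) (by omega))
    rw [← hP, ← hL, hc] at hineq
    have h1 : Nat.gcd 2 (q - 1) ≤ 2 := Nat.gcd_le_left _ two_pos
    have h0 : 0 < Nat.gcd 2 (k - 1) := Nat.gcd_pos_of_pos_left _ two_pos
    haveI : Finite (Matrix.ProjectiveSpecialLinearGroup (Fin 2) K) := Finite.of_surjective _ π_surjective
    have hc0 : 0 < Nat.card (Matrix.ProjectiveSpecialLinearGroup (Fin 2) K) := Nat.card_pos
    rw [← mul_assoc] at hineq
    have := Nat.le_of_mul_le_mul_right hineq hc0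
    omega
  exact Group.isSolvable_of_surjective (f := e.toMonoidHom) e.surjective

theorem isMinimalSimple_iff {qq : ℕ} (hF : q = qq) : IsMinimalSimple PS ↔
    ((∃ r : ℕ, r.Prime ∧ qq = 2 ^ r) ∨ (∃ r : ℕ, r.Prime ∧ r ≠ 2 ∧ qq = 3 ^ r) ∨
      (qq.Prime ∧ 5 < qq ∧ (qq % 5 = 2 ∨ qq % 5 = 3)) ∨ qq = 5) := by
  classical
  subst hF
  haveI : Finite PS := Finite.of_surjective _ π_surjective
  obtain ⟨n, hp, hn⟩ := FiniteField.card F (ringChar F)
  set p := ringChar F with hpdef
  haveI : Fact p.Prime := ⟨hp⟩
  constructor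
  · intro h
    have h4 : 4 ≤ q := by
      by_contra hlt
      have := two_le_q (F := F)
      have hP := card_psl (F := F)
      have hs := h.1
      rcases (show q = 2 ∨ q = 3 by omega) with e | e
      · have hc6 : Nat.card PS = 6 := by
          simp only [e, show Nat.gcd 2 (2 - 1) = 1 from rfl] at hP
          omega
        haveI : Fact (Nat.Prime 3) := ⟨Nat.prime_three⟩
        obtain ⟨x, hx⟩ := exists_prime_orderOf_dvd_card' 3 (show 3 ∣ Nat.card PS by rw [hc6]; norm_num)
        have hi := (Subgroup.zpowers x).index_mul_card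
        rw [Nat.card_zpowers, hx, hc6] at hi
        rcases (Subgroup.normal_of_index_eq_two (H := Subgroup.zpowers x) (by omega)).eq_bot_or_eq_top with e' | e'
        · have := congrArg (fun S : Subgroup PS => Nat.card S) e'
          rw [Nat.card_zpowers, hx, Subgroup.card_bot] at this
          omega
        · have := congrArg (fun S : Subgroup PS => Nat.card S) e'
          rw [Nat.card_zpowers, hx, Subgroup.card_top] at this
          omega
      · have hc : Nat.card PS = 12 := by
          simp only [e, show Nat.gcd 2 (3 - 1) = 2 from rfl] at hP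
          omega
        -- the four-group is normal
        obtain ⟨H, ⟨f⟩⟩ := exists_alt_four (F := F) (exists_quadric (two_ne_zero' (by rw [e]; decide)) 1)
        have hH : H = ⊤ := Subgroup.eq_top_of_le_card _ (by rw [Nat.card_congr f.toEquiv, card_alt_four, hc])
        haveI : Group.IsSolvable (Equiv.Perm (Fin 4)) := Zassenhaus.perm_fin_four_isSolvable
        let f' : PS ≃* alternatingGroup (Fin 4) :=
          (Subgroup.topEquiv.symm.trans (MulEquiv.subgroupCongr hH).symm).trans f
        haveI : Group.IsSolvable PS := Group.isSolvable_of_isSolvable_injective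
          (f := (alternatingGroup (Fin 4)).subtype.comp f'.toMonoidHom)
          ((Subgroup.subtype_injective _).comp f'.injective)
        exact h.2.1 ⟨⟨fun a b => (IsSimpleGroup.comm_iff_isSolvable.2 inferInstance) a b⟩⟩
    have sub : ∀ a : ℕ, a ∣ (n : ℕ) → 1 ≤ a → a < (n : ℕ) → p ^ a < 4 := by
      intro a ha ha1 han
      by_contra hge
      obtain ⟨b, hb⟩ := ha
      have hb2 : 2 ≤ b := by
        rcases b with _ | _ | b
        · simp at hb
        · simp at hb; omega
        · omega
      obtain ⟨L, hL, -⟩ := natCard_fix (F := F) (p := p) hn (e := a) ⟨b, hb⟩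
      haveI : Fintype L := Fintype.ofFinite L
      rw [Nat.card_eq_fintype_card] at hL
      exact not_minimal_of_embedding (K := L) (by omega) (m := b) (by rw [hL, ← pow_mul, ← hb, hn]) hb2 h
    have no5 : 5 ∣ q * ((q - 1) * (q + 1)) → q = 5 ∨ q < 5 := by
      intro h5
      obtain ⟨t, ht⟩ := exists_phi (F := F) h5
      obtain ⟨H, ⟨e⟩⟩ := exists_alt_five ht
      by_contra hq
      rw [not_or] at hq
      have hHt : H = ⊤ := by
        by_contra hT
        haveI := h.2.2 H hT
        have := Group.isSolvable_of_surjective (f := e.toMonoidHom) e.surjective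
        exact not_solvable_alt_five this
      have hc := Nat.card_congr e.toEquiv
      rw [hHt, Subgroup.card_top, card_alt_five] at hc
      have := (sixty_le_card_psl h4).2 hc.le
      omega
    have hp2 := hp.two_le
    rcases (show p = 2 ∨ p = 3 ∨ 5 ≤ p by
      have : p ≠ 4 := fun e => by rw [e] at hp; norm_num at hp
      omega) with h2 | h3 | h5
    · refine Or.inl ⟨n, Nat.prime_def_lt.2 ⟨?_, fun a hdvd ha => ?_⟩, by rw [hn, h2]⟩
      · by_contra hn1
        have : (n : ℕ) = 1 := by have := n.pos; omega
        rw [hn, this, h2] at h4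
        norm_num at h4
      · by_contra ha1
        have ha0 : a ≠ 0 := fun e => n.ne_zero (Nat.eq_zero_of_zero_dvd (e ▸ ha))
        have := sub a ha (by omega) hdvd
        have : 2 ^ 2 ≤ p ^ a := by rw [h2]; exact Nat.pow_le_pow_right two_pos (by omega)
        omega
    · rcases Nat.even_or_odd (n : ℕ) with hev | hodd
      · exfalso
        obtain ⟨b, hb⟩ := hev
        have h5 : 5 ∣ q * ((q - 1) * (q + 1)) := by
          rw [hn, h3, hb, ← two_mul, pow_mul]
          have := nine_pow_mod b
          rcases this with h | h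
          · exact dvd_mul_of_dvd_right (dvd_mul_of_dvd_left (by omega) _) _
          · exact dvd_mul_of_dvd_right (dvd_mul_of_dvd_right (by omega) _) _
        rcases no5 h5 with h | h
        · have : 3 ∣ 5 := by
            rw [← h, hn, h3]
            exact dvd_pow_self 3 n.ne_zero
          norm_num at this
        · have h9 : 3 ^ 2 ≤ q := by
            rw [hn, h3]
            exact Nat.pow_le_pow_right (by norm_num) (by have := n.pos; omega)
          omega
      · refine Or.inr (Or.inl ⟨n, Nat.prime_def_lt.2 ⟨?_, fun a hdvd ha => ?_⟩, fun h2 => ?_, by rw [hn, h3]⟩)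
        · by_contra hn1
          have : (n : ℕ) = 1 := by have := n.pos; omega
          rw [hn, this, h3] at h4
          norm_num at h4
        · by_contra ha1
          have ha0 : a ≠ 0 := fun e => n.ne_zero (Nat.eq_zero_of_zero_dvd (e ▸ ha))
          have := sub a ha (by omega) hdvd
          have : 3 ^ 2 ≤ p ^ a := by rw [h3]; exact Nat.pow_le_pow_right (by norm_num) (by omega)
          omega
        · obtain ⟨b, hb⟩ := hodd
          omega
    · have hn1 : (n : ℕ) = 1 := by
        by_contra hne
        have h1 := sub 1 (one_dvd _) le_rfl (by have := n.pos; omega)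
        rw [pow_one] at h1
        omega
      rw [hn1, pow_one] at hn
      rcases eq_or_ne q 5 with e | e
      · exact Or.inr (Or.inr (Or.inr e))
      · refine Or.inr (Or.inr (Or.inl ⟨hn ▸ hp, by omega, ?_⟩))
        by_contra h23
        have : 5 ∣ q * ((q - 1) * (q + 1)) := by
          rcases (show q % 5 = 0 ∨ q % 5 = 1 ∨ q % 5 = 4 by omega) with h | h | h
          · exact dvd_mul_of_dvd_left (by omega) _
          · exact dvd_mul_of_dvd_right (dvd_mul_of_dvd_left (by omega) _) _
          · exact dvd_mul_of_dvd_right (dvd_mul_of_dvd_right (by omega) _) _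
        rcases no5 this with h | h <;> omega
  · intro h
    have h4 : 4 ≤ q := by
      rcases h with ⟨r, hr, e⟩ | ⟨r, hr, -, e⟩ | ⟨-, h5, -⟩ | e
      · rw [e]; exact le_trans (by norm_num : 4 ≤ 2 ^ 2) (Nat.pow_le_pow_right two_pos hr.two_le)
      · rw [e]; exact le_trans (by norm_num : 4 ≤ 3 ^ 2) (Nat.pow_le_pow_right (by norm_num) hr.two_le)
      · omega
      · omega
    refine ⟨isSimple_psl h4, not_comm, fun H hH => ?_⟩
    -- the shape of `q`
    have hshape : (∃ r : ℕ, r.Prime ∧ q = p ^ r ∧ p < 4 ∧ (p = 3 → Odd r)) ∨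
        (q = p ∧ (p = 5 ∨ p % 5 = 2 ∨ p % 5 = 3)) := by
      have hpr : ∀ {s r : ℕ}, s.Prime → q = s ^ r → p = s := fun {s r} hs e =>
        (Nat.prime_dvd_prime_iff_eq hp hs).1 (hp.dvd_of_dvd_pow ((dvd_pow_self p n.ne_zero).trans
          (dvd_of_eq (hn.symm.trans e))))
      rcases h with ⟨r, hr, e⟩ | ⟨r, hr, hr2, e⟩ | ⟨hq, -, h5⟩ | e
      · have := hpr Nat.prime_two e
        exact Or.inl ⟨r, hr, by rw [e, this], by omega, by omega⟩
      · have := hpr Nat.prime_three e
        exact Or.inl ⟨r, hr, by rw [e, this], by omega, fun _ => hr.odd_of_ne_two hr2⟩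
      · have := hpr hq (pow_one q).symm
        exact Or.inr ⟨this.symm, by omega⟩
      · have := hpr (s := 5) (r := 1) (by norm_num) (by rw [e]; rfl)
        exact Or.inr ⟨by omega, Or.inl this⟩
    rcases isSolvable_of_proper p H with hs | ⟨h2, h5, ⟨e⟩⟩ | ⟨K, hK, hc⟩
    · exact hs
    · exfalso
      have hd : 5 ∣ q * ((q - 1) * (q + 1)) := (show 5 ∣ 60 by norm_num).trans
        (card_alt_five ▸ Nat.card_congr e.toEquiv ▸ (Subgroup.card_subgroup_dvd_card H).trans card_psl_dvd)
      have h5q : ¬ 5 ∣ q := fun h => h5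
        ((Nat.prime_dvd_prime_iff_eq (by norm_num) hp).1 (Nat.Prime.dvd_of_dvd_pow (by norm_num) (hn ▸ h))).symm
      have hq5 : q % 5 = 2 ∨ q % 5 = 3 := by
        rcases hshape with ⟨r, -, hq, hp4, h3⟩ | ⟨hq, h' | h'⟩
        · have := hp.two_le
          obtain e | h3' : p = 2 ∨ p = 3 := by omega
          · exact absurd e h2
          obtain ⟨b, hb⟩ := h3 h3'
          rw [hq, h3', hb, pow_succ, pow_mul, Nat.mul_mod]
          rcases nine_pow_mod b with h | h <;> rw [h] <;> norm_num
        · exact absurd h' h5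
        · rw [hq]; exact h'
      rcases (Nat.Prime.dvd_mul (by norm_num)).1 (((Nat.Prime.dvd_mul (by norm_num)).1 hd).resolve_left h5q)
        with h | h <;> omega
    · exfalso
      haveI : Fintype K := Fintype.ofFinite K
      have hsq := lt_card_of_ne_top hH hc
      rw [Nat.card_eq_fintype_card] at hK hsq
      haveI : CharP K p := K.subtype.charP K.subtype.injective p
      obtain ⟨j, -, hj⟩ := FiniteField.card K p
      have hm : q = Fintype.card K ^ Module.finrank K F := Module.card_eq_pow_finrank
      set m := Module.finrank K F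
      rw [hj] at hm hsq hK
      rw [← pow_mul] at hm
      rcases hshape with ⟨r, hr, hq, hp4, -⟩ | ⟨hq, -⟩
      · rw [hq] at hm hsq
        have hjm : (j : ℕ) * m = r := (Nat.pow_right_injective hp.two_le hm).symm
        rcases (Nat.dvd_prime hr).1 (Dvd.intro _ hjm : (j : ℕ) ∣ r) with h | h
        · rw [h, pow_one] at hK
          omega
        · rw [h, ← pow_add] at hsq
          have := (Nat.pow_le_pow_iff_right hp.two_le).1 hsq
          have := hr.two_le
          omega
      · rw [hq] at hsq
        have h1 : p ≤ p ^ (j : ℕ) := Nat.le_self_pow j.ne_zero p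
        have := hp.two_le
        have : 2 * p ≤ p ^ (j : ℕ) * p ^ (j : ℕ) := Nat.mul_le_mul (by omega) h1
        omega

end Cfsg.Agent.SL2
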