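import Cfsg.Agent.Lib.SL2.DicksonApps
import Cfsg.Agent.Lib.SL2.DicksonKlein
import Cfsg.Agent.Lib.SL2.DicksonMinimal
import Cfsg.Agent.Lib.Invol.Quaternion
import Cfsg.Agent.Lib.LocalEvenA.SL23Recog

/-!
# `p`-elements normalising `p'`-subgroups of `SL(2, q)`
-/

set_option autoImplicit false
set_option linter.unusedSectionVars false

namespace Cfsg.Agent.SL2

open Matrix

variable {F : Type*} [Field F] [Fintype F]

local notation "G" => Matrix.SpecialLinearGroup (Fin 2) F
local notation "PS" => Matrix.ProjectiveSpecialLinearGroup (Fin 2) F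
local notation "q" => Fintype.card F

theorem neg_one_ne_one_of_two_ne (h2 : (2 : F) ≠ 0) : (-1 : G) ≠ 1 := fun h => by
  have := congrArg (fun g : G => (g : Matrix (Fin 2) (Fin 2) F) 0 0) h
  simp [coe_neg'] at this
  exact h2 (by linear_combination -this)

/-- The order of a torus is prime to the characteristic. -/
theorem not_dvd_card_cent {p : ℕ} [Fact p.Prime] [CharP F p] {s : G} (ht : tr s ^ 2 ≠ 4) :
    ¬ p ∣ Nat.card (cent s) := by
  intro h
  obtain ⟨m, hp, hq⟩ := FiniteField.card F p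
  have hpq : p ∣ q := hq ▸ dvd_pow_self p m.ne_zero
  have h2 := two_le_q (F := F)
  rcases card_cent_regular ht with ⟨-, hc, -⟩ | ⟨-, hc, -⟩ <;> rw [hc] at h
  · exact hp.one_lt.ne' (Nat.dvd_one.1 ((Nat.dvd_add_right hpq).1 h))
  · exact hp.one_lt.ne' (Nat.dvd_one.1 (by
      have := Nat.dvd_sub hpq h
      rwa [show q - (q - 1) = 1 by omega] at this))

theorem not_dvd_card_torus {p : ℕ} [Fact p.Prime] [CharP F p] {s : G} (ht : tr s ^ 2 ≠ 4) :
    ¬ p ∣ Nat.card (torus s) := fun h =>
  not_dvd_card_cent (p := p) ht (h.trans (Dvd.intro_left _ (card_torus s)))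

/-- In a group with a normal subgroup of index `p`, elements of order prime to `p` lie inside. -/
theorem mem_of_pow_coprime {H : Type*} [Group H] [Finite H] (N : Subgroup H) [N.Normal] {p m : ℕ}
    (hidx : N.index = p) (hpm : Nat.Coprime m p) {y : H} (hy : y ^ m = 1) : y ∈ N := by
  have h1 : (y : H ⧸ N) ^ p = 1 := by
    rw [← hidx, Subgroup.index_eq_card]; exact pow_card_eq_one'
  have h2 : (y : H ⧸ N) ^ m = 1 := by rw [← QuotientGroup.mk_pow, hy, QuotientGroup.mk_one]
  have h3 := Nat.eq_one_of_dvd_coprimes hpm (orderOf_dvd_of_pow_eq_one h2) (orderOf_dvd_of_pow_eq_one h1)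
  exact (QuotientGroup.eq_one_iff y).1 (orderOf_eq_one_iff.1 h3)

/-- A finite simple group cannot be cut by a normal subgroup of index `p` and order prime to `p`. -/
theorem simple_in_split {S H : Type*} [Group S] [IsSimpleGroup S] [Group H] [Finite H] {p : ℕ} [Fact p.Prime]
    (N : Subgroup H) [N.Normal] (hidx : N.index = p) (hN : ¬ p ∣ Nat.card N) (f : S →* H)
    (hf : Function.Injective f) (hpS : p ∣ Nat.card S) : Nat.card S ≤ p := by
  haveI : Finite S := Finite.of_injective f hf
  rcases (Subgroup.Normal.comap (inferInstance : N.Normal) f).eq_bot_or_eq_top with h | h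
  · have hinj : Function.Injective ((QuotientGroup.mk' N).comp f) := by
      refine (injective_iff_map_eq_one _).2 fun s hs => ?_
      have : s ∈ N.comap f := (QuotientGroup.eq_one_iff (f s)).1 hs
      rwa [h, Subgroup.mem_bot] at this
    calc Nat.card S ≤ Nat.card (H ⧸ N) := Nat.card_le_card_of_injective _ hinj
      _ = p := by rw [← Subgroup.index_eq_card, hidx]
  · exfalso
    refine hN (hpS.trans ?_)
    let f' : S →* N := f.codRestrict N fun s => (h ▸ Subgroup.mem_top s : s ∈ N.comap f)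
    exact Subgroup.card_dvd_of_injective f' fun a b e => hf (congrArg Subtype.val e)

/-- The kernel of `π` on a subgroup containing `-1`. -/
theorem ker_pi_subgroupMap (h2 : (2 : F) ≠ 0) {S : Subgroup G} (hS : (-1 : G) ∈ S) :
    2 * Nat.card (S.map π) = Nat.card S := by
  have hker : (π.subgroupMap S).ker = (Subgroup.zpowers (-1 : G)).subgroupOf S := by
    ext ⟨x, hx⟩
    rw [MonoidHom.mem_ker, Subgroup.mem_subgroupOf]
    show _ ↔ x ∈ _
    constructor
    · intro h
      rcases (scal_iff x).1 (π_eq_one.1 (congrArg Subtype.val h)) with e | e <;> rw [e]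
      · exact one_mem _
      · exact Subgroup.mem_zpowers _
    · rintro ⟨k, hk⟩
      apply Subtype.ext
      show π x = 1
      rw [← show (-1 : G) ^ k = x from hk, map_zpow, π_eq_one.2 ((scal_iff (-1 : G)).2 (Or.inr rfl)),
        _root_.one_zpow]
  have h := (π.subgroupMap S).ker.card_mul_index
  rw [Subgroup.index_ker, MonoidHom.range_eq_top_of_surjective _ (π.subgroupMap_surjective S),
    Subgroup.card_top, hker,
    Nat.card_congr (Subgroup.subgroupOfEquivOfLe (Subgroup.zpowers_le.2 hS)).toEquiv, Nat.card_zpowers,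
    orderOf_eq_prime (by rw [pow_two, neg_mul_neg, one_mul]) (neg_one_ne_one_of_two_ne h2)] at h
  exact h

/-- A `p`-element acting non-trivially on a `p'`-subgroup. -/
theorem pElement_normalizing {p : ℕ} [Fact p.Prime] [CharP F p] (hp : p ≠ 2) (a : G)
    (ha : IsPGroup p (Subgroup.zpowers a)) (R : Subgroup G) (hR : (Nat.card R).Coprime p)
    (haR : a ∈ Subgroup.normalizer (R : Set G)) (hnt : ⁅R, Subgroup.zpowers a⁆ ≠ ⊥) :
    p = 3 ∧ Nonempty (R ≃* QuaternionGroup 2) ∧
      Nonempty (↥(R ⊔ Subgroup.zpowers a) ≃* Matrix.SpecialLinearGroup (Fin 2) (ZMod 3)) := by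
  classical
  haveI : Finite PS := Finite.of_surjective _ π_surjective
  have hpp : p.Prime := Fact.out
  obtain ⟨n, -, hn⟩ := FiniteField.card F p
  have hodd : Odd q := hn ▸ (hpp.odd_of_ne_two hp).pow
  have h2 : (2 : F) ≠ 0 := two_ne_zero' hodd
  have hcop : ∀ x ∈ R, (orderOf x).Coprime p := fun x hx =>
    Nat.Coprime.coprime_dvd_left (Subgroup.orderOf_dvd_natCard R hx) hR
  have hex : ∃ r ∈ R, r * a ≠ a * r := by
    by_contra hall
    push Not at hall
    refine hnt (Subgroup.commutator_eq_bot_iff_le_centralizer.2 fun r hr => ?_)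
    rw [Subgroup.mem_centralizer_iff]
    rintro z ⟨k, rfl⟩
    exact ((Commute.symm (hall r hr)).zpow_left k).eq
  obtain ⟨r0, hr0, hr0a⟩ := hex
  obtain ⟨k, hk⟩ : ∃ k, orderOf a = p ^ k := by
    obtain ⟨k, hk⟩ := IsPGroup.iff_card.1 ha
    exact ⟨k, by rw [← Nat.card_zpowers, hk]⟩
  have hk0 : k ≠ 0 := fun h => by
    rw [h, pow_zero, orderOf_eq_one_iff] at hk
    exact hr0a (by simp [hk])
  have hta : tr a ^ 2 = 4 := by
    by_contra ht
    exact not_dvd_card_cent (p := p) ht
      ((dvd_pow_self p hk0).trans (hk ▸ Subgroup.orderOf_dvd_natCard _ (self_mem_cent a)))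
  have hap : a ^ p = 1 := by
    have h := not_semisimple_pow (p := p) hta
    rw [← map_pow, π_eq_one, scal_iff] at h
    refine h.resolve_right fun h1 => ?_
    have : ((-1 : G)) ^ p ^ k = 1 := by
      rw [← h1, ← pow_mul, mul_comm, pow_mul, ← hk, pow_orderOf_eq_one, one_pow]
    rw [(hpp.odd_of_ne_two hp).pow.neg_one_pow] at this
    exact neg_one_ne_one_of_two_ne h2 this
  have ha1 : a ≠ 1 := fun h => hr0a (by simp [h])
  have hao : orderOf a = p := orderOf_eq_prime hap ha1
  set L := R ⊔ Subgroup.zpowers a with hL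
  have hRL : R ≤ L := le_sup_left
  have haL : a ∈ L := Subgroup.mem_sup_right (Subgroup.mem_zpowers a)
  have hLn : L ≤ Subgroup.normalizer (R : Set G) :=
    sup_le Subgroup.le_normalizer (Subgroup.zpowers_le.2 haR)
  set H : Subgroup PS := L.map π with hH
  set a' : H := ⟨π a, a, haL, rfl⟩ with ha'
  have hπa1 : π a ≠ 1 := fun h => by
    rcases (scal_iff a).1 (π_eq_one.1 h) with h | h
    · exact ha1 h
    · rw [h, (hpp.odd_of_ne_two hp).neg_one_pow] at hap
      exact neg_one_ne_one_of_two_ne h2 hap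
  have hπao : orderOf (π a) = p := orderOf_eq_prime (by rw [← map_pow, hap, map_one]) hπa1
  set N : Subgroup H := (R.map π).subgroupOf H with hN
  have hmemN : ∀ y : H, y ∈ N ↔ ∃ r ∈ R, π r = (y : PS) := fun y => by
    rw [hN, Subgroup.mem_subgroupOf, Subgroup.mem_map]
  haveI hNn : N.Normal := ⟨by
    rintro y hy ⟨x, l, hl, rfl⟩
    obtain ⟨r, hr, hry⟩ := (hmemN y).1 hy
    refine (hmemN _).2 ⟨l * r * l⁻¹, (Subgroup.mem_normalizer_iff.1 (hLn hl) r).1 hr, ?_⟩
    rw [map_mul, map_mul, map_inv, hry]; rfl⟩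
  have hNc : Nat.Coprime (Nat.card N) p := by
    refine Nat.Coprime.coprime_dvd_left ?_ hR
    rw [hN, Nat.card_congr (Subgroup.subgroupOfEquivOfLe (Subgroup.map_mono hRL)).toEquiv]
    exact Subgroup.card_map_dvd R π
  have hNp : ¬ p ∣ Nat.card N := (hpp.coprime_iff_not_dvd).1 hNc.symm
  have ha'o : orderOf a' = p := by rw [← Subgroup.orderOf_coe]; exact hπao
  have hidx : N.index = p := by
    have hgen : ∀ y : H ⧸ N, y ∈ Subgroup.zpowers (a' : H ⧸ N) := by
      intro y
      induction y using QuotientGroup.induction_on with | H y => ?_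
      obtain ⟨_, l, hl, rfl⟩ := y
      let K : Subgroup G :=
        { carrier := {l | ∃ h : l ∈ L, ((⟨π l, l, h, rfl⟩ : H) : H ⧸ N) ∈ Subgroup.zpowers (a' : H ⧸ N)}
          one_mem' := ⟨one_mem _, ⟨0, by
            show _ ^ (0 : ℤ) = _
            rw [zpow_zero]
            exact ((QuotientGroup.eq_one_iff _).2 (by
              rw [hmemN]; exact ⟨1, one_mem _, rfl⟩)).symm⟩⟩
          mul_mem' := by
            rintro x y ⟨hx, hx'⟩ ⟨hy, hy'⟩
            refine ⟨mul_mem hx hy, ?_⟩
            have := mul_mem hx' hy'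
            rw [← QuotientGroup.mk_mul] at this
            convert this using 2
            exact Subtype.ext (map_mul π x y)
          inv_mem' := by
            rintro x ⟨hx, hx'⟩
            refine ⟨inv_mem hx, ?_⟩
            have := inv_mem hx'
            rw [← QuotientGroup.mk_inv] at this
            convert this using 2
            exact Subtype.ext (map_inv π x) }
      have hK : L ≤ K := sup_le
        (fun r hr => ⟨hRL hr, ⟨0, by
          show _ ^ (0 : ℤ) = _
          rw [zpow_zero]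
          exact ((QuotientGroup.eq_one_iff _).2 ((hmemN _).2 ⟨r, hr, rfl⟩)).symm⟩⟩)
        (Subgroup.zpowers_le.2 ⟨haL, Subgroup.mem_zpowers _⟩)
      exact (hK hl).2
    rw [Subgroup.index_eq_card, ← orderOf_eq_card_of_forall_mem_zpowers hgen]
    refine orderOf_eq_prime (by rw [← QuotientGroup.mk_pow, ← ha'o, pow_orderOf_eq_one, QuotientGroup.mk_one])
      fun h => hNp ?_
    rw [QuotientGroup.eq_one_iff] at h
    exact ha'o ▸ Subgroup.orderOf_dvd_natCard N h
  have hcard : Nat.card H = Nat.card N * p := by rw [← N.card_mul_index, hidx]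
  have hpH : p ∣ Nat.card H := ⟨_, hcard.trans (mul_comm _ _)⟩
  have key : p = 3 ∧ Nonempty (H ≃* alternatingGroup (Fin 4)) := by
    rcases dickson p H with ⟨r, ht, hle, -⟩ | ⟨r, ht, -, k, -, hk, ⟨e⟩⟩ | ⟨g, hg⟩ | ⟨-, ⟨e⟩⟩ | ⟨-, ⟨e⟩⟩ |
      ⟨-, hp5, ⟨e⟩⟩ | ⟨K, γ, hK, hcase⟩
    · exact absurd (hpH.trans (Subgroup.card_dvd_of_le hle)) (not_dvd_card_torus (p := p) ht)
    · rw [Nat.card_congr e.toEquiv, DihedralGroup.nat_card] at hpH
      rcases hpp.dvd_mul.1 hpH with h | h
      · exact absurd ((Nat.prime_dvd_prime_iff_eq hpp Nat.prime_two).1 h) hp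
      · exact absurd (h.trans hk) (not_dvd_card_torus (p := p) ht)
    · exfalso
      obtain ⟨ψ, hψ⟩ := exists_borelHom (F := F)
      set c := r0 * a * r0⁻¹ * a⁻¹ with hc
      have hcR : c ∈ R := by
        rw [hc, show r0 * a * r0⁻¹ * a⁻¹ = r0 * (a * r0⁻¹ * a⁻¹) by group]
        exact mul_mem hr0 ((Subgroup.mem_normalizer_iff.1 haR _).1 (inv_mem hr0))
      set x : (B0 : Subgroup PS) := ⟨g * π r0 * g⁻¹, hg _ ⟨r0, hRL hr0, rfl⟩⟩
      set y : (B0 : Subgroup PS) := ⟨g * π a * g⁻¹, hg _ ⟨a, haL, rfl⟩⟩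
      have hW : ((x * y * x⁻¹ * y⁻¹ : (B0 : Subgroup PS)) : PS) ∈ (W0 : Subgroup PS) :=
        hψ _ (by rw [map_mul, map_mul, map_mul, map_inv, map_inv]; group; simp [mul_comm (ψ x)])
      have hcp : π c ^ p = 1 := by
        have := B0_exponent (p := p) hW
        rw [show ((x * y * x⁻¹ * y⁻¹ : (B0 : Subgroup PS)) : PS) = g * π c * g⁻¹ by
          show g * π r0 * g⁻¹ * (g * π a * g⁻¹) * (g * π r0 * g⁻¹)⁻¹ * (g * π a * g⁻¹)⁻¹ = _
          rw [hc, map_mul, map_mul, map_mul, map_inv, map_inv]; group] at this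
        rwa [conj_pow, conj_eq_one_iff] at this
      have hπc : π c = 1 := orderOf_eq_one_iff.1 (Nat.eq_one_of_dvd_coprimes (hcop c hcR)
        (orderOf_map_dvd π c) (orderOf_dvd_of_pow_eq_one hcp))
      rcases (scal_iff c).1 (π_eq_one.1 hπc) with h | h
      · rw [hc, mul_inv_eq_one, mul_inv_eq_iff_eq_mul] at h
        exact hr0a h
      · rw [hc, mul_inv_eq_iff_eq_mul, neg_one_mul] at h
        have h3 := congrArg (fun z : G => z ^ p) h
        simp only [conj_pow, hap, mul_one, mul_inv_cancel, (hpp.odd_of_ne_two hp).neg_pow] at h3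
        exact neg_one_ne_one_of_two_ne h2 h3.symm
    · refine ⟨?_, ⟨e⟩⟩
      rw [Nat.card_congr e.toEquiv, card_alt_four, show 12 = 2 ^ 2 * 3 from rfl] at hpH
      rcases hpp.dvd_mul.1 hpH with h | h
      · exact absurd ((Nat.prime_dvd_prime_iff_eq hpp Nat.prime_two).1 (hpp.dvd_of_dvd_pow h)) hp
      · exact (Nat.prime_dvd_prime_iff_eq hpp Nat.prime_three).1 h
    · exfalso
      have hc24 : Nat.card H = 24 := by rw [Nat.card_congr e.toEquiv, card_perm_four]
      have hp3 : p = 3 := by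
        rw [hc24, show 24 = 2 ^ 3 * 3 from rfl] at hpH
        rcases hpp.dvd_mul.1 hpH with h | h
        · exact absurd ((Nat.prime_dvd_prime_iff_eq hpp Nat.prime_two).1 (hpp.dvd_of_dvd_pow h)) hp
        · exact (Nat.prime_dvd_prime_iff_eq hpp Nat.prime_three).1 h
      subst hp3
      have hmem : ∀ z : Equiv.Perm (Fin 4), z ^ 2 = 1 → e.symm z ∈ N := fun z hz =>
        mem_of_pow_coprime N hidx (m := 2) (by norm_num) (by rw [← map_pow, hz, map_one])
      have h := mul_mem (hmem (Equiv.swap 0 1) (by decide)) (hmem (Equiv.swap 1 2) (by decide))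
      rw [← map_mul] at h
      have ho : orderOf (Equiv.swap (0 : Fin 4) 1 * Equiv.swap 1 2) = 3 :=
        orderOf_eq_prime (by decide) (by decide)
      exact hNp (ho ▸ e.symm.orderOf_eq _ ▸ Subgroup.orderOf_dvd_natCard N h)
    · exfalso
      have hc60 : Nat.card H = 60 := by rw [Nat.card_congr e.toEquiv, card_alt_five]
      have hp3 : p = 3 := by
        rw [hc60, show 60 = 2 ^ 2 * (3 * 5) from rfl] at hpH
        rcases hpp.dvd_mul.1 hpH with h | h
        · exact absurd ((Nat.prime_dvd_prime_iff_eq hpp Nat.prime_two).1 (hpp.dvd_of_dvd_pow h)) hp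
        · rcases hpp.dvd_mul.1 h with h | h
          · exact (Nat.prime_dvd_prime_iff_eq hpp Nat.prime_three).1 h
          · exact absurd ((Nat.prime_dvd_prime_iff_eq hpp (by norm_num)).1 h) hp5
      subst hp3
      have key : ∃ z w : alternatingGroup (Fin 5), z ^ 2 = 1 ∧ w ^ 2 = 1 ∧ (z * w) ^ 3 = 1 ∧ z * w ≠ 1 := by
        decide +kernel
      obtain ⟨z, w, hz, hw, hzw, hzw1⟩ := key
      have hmem : ∀ z : alternatingGroup (Fin 5), z ^ 2 = 1 → e.symm z ∈ N := fun z hz =>
        mem_of_pow_coprime N hidx (m := 2) (by norm_num) (by rw [← map_pow, hz, map_one])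
      have h := mul_mem (hmem z hz) (hmem w hw)
      rw [← map_mul] at h
      have ho : orderOf (z * w) = 3 := orderOf_eq_prime hzw hzw1
      exact hNp (ho ▸ e.symm.orderOf_eq _ ▸ Subgroup.orderOf_dvd_natCard N h)
    · exfalso
      haveI : Fintype K := Fintype.ofFinite K
      rw [Nat.card_eq_fintype_card] at hK
      haveI := isSimple_psl (F := K) hK
      haveI : CharP K p := K.subtype.charP K.subtype.injective p
      obtain ⟨i, -, hi⟩ := FiniteField.card K p
      have hP := card_psl (F := K)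
      have hpS : p ∣ Nat.card (Matrix.ProjectiveSpecialLinearGroup (Fin 2) K) := by
        refine ((Nat.coprime_primes hpp Nat.prime_two).2 hp |>.coprime_dvd_right
          (Nat.gcd_dvd_left 2 (Fintype.card K - 1))).dvd_of_dvd_mul_left ?_
        rw [hP]
        exact Dvd.dvd.mul_right (hi ▸ dvd_pow_self p i.ne_zero) _
      have hle : Nat.card (Matrix.ProjectiveSpecialLinearGroup (Fin 2) K) ≤ p := by
        rcases hcase with ⟨⟨e⟩, -⟩ | ⟨⟨e⟩, -⟩
        · exact simple_in_split N hidx hNp e.symm.toMonoidHom e.symm.injective hpS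
        · exact simple_in_split N hidx hNp
            (e.symm.toMonoidHom.comp Matrix.ProjectiveSpecialLinearGroup.toPGL)
            (e.symm.injective.comp Matrix.ProjectiveSpecialLinearGroup.toPGL_injective) hpS
      have h2g : Nat.gcd 2 (Fintype.card K - 1) ≤ 2 := Nat.gcd_le_left _ two_pos
      have hpK : p ≤ Fintype.card K := hi ▸ Nat.le_self_pow i.ne_zero p
      have h15 : Fintype.card K * (3 * 5) ≤ Fintype.card K * ((Fintype.card K - 1) * (Fintype.card K + 1)) :=
        Nat.mul_le_mul_left _ (Nat.mul_le_mul (by omega) (by omega))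
      rw [← hP] at h15
      have := Nat.mul_le_mul h2g hle
      omega
  obtain ⟨hp3, ⟨e⟩⟩ := key
  subst hp3
  refine ⟨rfl, ?_⟩
  have hH12 : Nat.card H = 12 := by rw [Nat.card_congr e.toEquiv, card_alt_four]
  have hN4 : Nat.card N = 4 := by omega
  obtain ⟨u, huH, v, hvH, hu, hv, hu1, hv1, huv, hc, -⟩ := four_of_alt_four e
  have hinR : ∀ u : PS, u ∈ H → u * u = 1 → ∃ r ∈ R, π r = u := fun u huH hu =>
    (hmemN ⟨u, huH⟩).1 (mem_of_pow_coprime N hidx (m := 2) (by norm_num)
      (Subtype.ext (by rw [SubgroupClass.coe_pow, pow_two]; exact hu)))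
  obtain ⟨ru, hruR, hru⟩ := hinR u huH hu
  obtain ⟨rv, hrvR, hrv⟩ := hinR v hvH hv
  obtain ⟨i, j, hij, hiu, hjv⟩ := exists_qpair_of_four h2 hu hv hu1 hv1 huv hc
  have hneg : (-1 : G) ∈ R := by
    rcases π_eq_iff.1 (hru.trans hiu.symm) with h | h
    · rw [← hij.isq, h]; exact mul_mem hruR hruR
    · rw [← hij.isq, h, neg_mul_neg]; exact mul_mem hruR hruR
  have lift : ∀ x r : G, r ∈ R → π r = π x → x ∈ R := fun x r hr h => by
    rcases π_eq_iff.1 h with e | e
    · exact e ▸ hr
    · rw [e, ← neg_one_mul]; exact mul_mem hneg hr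
  have hiR : i ∈ R := lift i ru hruR (hru.trans hiu.symm)
  have hjR : j ∈ R := lift j rv hrvR (hrv.trans hjv.symm)
  have hRc : Nat.card R = 8 := by
    have hmap : Nat.card (R.map π) = 4 := by
      rw [← Nat.card_congr (Subgroup.subgroupOfEquivOfLe (Subgroup.map_mono hRL)).toEquiv, ← hN4]
    rw [← ker_pi_subgroupMap h2 hneg, hmap]
  have hio : orderOf i = 4 :=
    orderOf_eq_prime_pow (p := 2) (n := 1) (by rw [pow_one, pow_two, hij.isq]; exact neg_one_ne_one_of_two_ne h2)
      (by rw [show 2 ^ (1 + 1) = 2 * 2 from rfl, pow_mul, pow_two, pow_two, hij.isq, neg_mul_neg, one_mul])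
  obtain ⟨eQ⟩ := Invol.nonempty_quaternionEquiv (t := j) (d := i)
    (by rw [hij.conj_ji, inv_of_sq hij.isq]) 2 (by rw [hio]) (by rw [hij.jsq, pow_two, hij.isq])
    (by
      rintro ⟨k, hk⟩
      have h' : π j = π i ^ k := by rw [← map_zpow, ← hk]
      rw [hiu, hjv] at h'
      rcases Int.even_or_odd k with ⟨m, rfl⟩ | ⟨m, rfl⟩
      · rw [_root_.zpow_add, ← (Commute.refl u).mul_zpow, hu, _root_.one_zpow] at h'
        exact hv1 h'
      · rw [_root_.zpow_add_one, _root_.zpow_mul, _root_.zpow_two, hu, _root_.one_zpow, one_mul] at h'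
        exact huv h'.symm)
  have hcl : Subgroup.closure ({j, i} : Set G) = R := by
    refine Subgroup.eq_of_le_of_card_ge ((Subgroup.closure_le _).2 ?_) ?_
    · rintro z (rfl | rfl)
      exacts [hjR, hiR]
    · rw [hRc, ← Nat.card_congr eQ.toEquiv, Nat.card_eq_fintype_card, QuaternionGroup.card]
  let eR : R ≃* QuaternionGroup 2 := (MulEquiv.subgroupCongr hcl).symm.trans eQ.symm
  refine ⟨⟨eR⟩, ?_⟩
  haveI : (R.subgroupOf L).Normal := Subgroup.normal_subgroupOf_iff_le_normalizer hRL |>.2 hLn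
  have hL24 : Nat.card L = 24 := by
    rw [← ker_pi_subgroupMap h2 (hRL hneg), ← hH, hH12]
  refine LocalEvenA.sl23_of_q8 hL24 (R.subgroupOf L) ((Subgroup.subgroupOfEquivOfLe hRL).trans eR) ⟨a, haL⟩
    (by rw [Subgroup.orderOf_mk, hao]) ⟨⟨r0, hRL hr0⟩, hr0, fun h => hr0a ?_⟩
  have := congrArg Subtype.val h
  simp only [Subgroup.coe_mul, InvMemClass.coe_inv] at this
  exact (mul_inv_eq_iff_eq_mul.1 this).symm

end Cfsg.Agent.SL2
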