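import Cfsg.Agent.Lib.SL2.DicksonPGL

/-!
# The Borel subgroup of `PSL(2, q)` is maximal
-/

set_option autoImplicit false
set_option linter.unusedSectionVars false

namespace Cfsg.Agent.SL2

open Matrix

variable {F : Type*} [Field F] [Fintype F]

local notation "G" => Matrix.SpecialLinearGroup (Fin 2) F
local notation "M2" => Matrix (Fin 2) (Fin 2) F
local notation "PS" => Matrix.ProjectiveSpecialLinearGroup (Fin 2) F
local notation "PG" => Matrix.ProjGenLinGroup (Fin 2) F

/-- `B0` is maximal. -/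
theorem isCoatom_B0 : IsCoatom (B0 : Subgroup PS) := by
  refine ⟨B0_ne_top, fun H hlt => ?_⟩
  obtain ⟨hle, x, hxH, hxB⟩ := SetLike.lt_iff_le_and_exists.1 hlt
  obtain ⟨s, rfl⟩ := π_surjective x
  have hc : (s : M2) 1 0 ≠ 0 := fun h => hxB (pi_mem_B0.2 h)
  have hdet : ∀ t : G, (t : M2) 0 0 * (t : M2) 1 1 - (t : M2) 0 1 * (t : M2) 1 0 = 1 := fun t => by
    rw [← Matrix.det_fin_two]; exact t.det_coe
  let w : ∀ c : F, c ≠ 0 → G := fun c hc => ⟨!![0, -c⁻¹; c, 0], by simp [Matrix.det_fin_two, hc]⟩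
  have hfac : ∀ (t : G) (h : (t : M2) 1 0 ≠ 0), t =
      uu ((t : M2) 0 0 / (t : M2) 1 0) * w _ h * uu ((t : M2) 1 1 / (t : M2) 1 0) := by
    intro t h
    have := hdet t
    apply Subtype.ext
    rw [Matrix.SpecialLinearGroup.coe_mul, Matrix.SpecialLinearGroup.coe_mul]
    apply mext <;> simp [w, uu, Matrix.mul_apply, Fin.sum_univ_two] <;> field_simp
    linear_combination -this
  have hu : ∀ c : F, π (uu c : G) ∈ H := fun c => hle (pi_mem_B0.2 (by simp [uu]))
  have hw : π (w _ hc) ∈ H := by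
    have h : π (w _ hc) = (π (uu ((s : M2) 0 0 / (s : M2) 1 0)))⁻¹ * π s *
        (π (uu ((s : M2) 1 1 / (s : M2) 1 0)))⁻¹ := by
      have e := congrArg π (hfac s hc)
      rw [map_mul, map_mul] at e
      rw [e]
      group
    rw [h]
    exact mul_mem (mul_mem (inv_mem (hu _)) hxH) (inv_mem (hu _))
  refine top_le_iff.1 fun y _ => ?_
  obtain ⟨t, rfl⟩ := π_surjective y
  by_cases ht : (t : M2) 1 0 = 0
  · exact hle (pi_mem_B0.2 ht)
  let D : G := ⟨!![(s : M2) 1 0 / (t : M2) 1 0, 0; 0, (t : M2) 1 0 / (s : M2) 1 0], by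
    rw [Matrix.det_fin_two]; simp; field_simp⟩
  have hwt : w _ ht = D * w _ hc := by
    apply Subtype.ext
    rw [Matrix.SpecialLinearGroup.coe_mul]
    apply mext <;> simp [w, D, Matrix.mul_apply, Fin.sum_univ_two] <;> field_simp
  rw [hfac t ht, hwt, map_mul, map_mul, map_mul]
  exact mul_mem (mul_mem (hu _) (mul_mem (hle (pi_mem_B0.2 (by simp [D]))) hw)) (hu _)

/-- Coatoms are preserved by automorphisms. -/
theorem isCoatom_map_equiv {A B : Type*} [Group A] [Group B] (e : A ≃* B) {H : Subgroup A}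
    (h : IsCoatom H) : IsCoatom (H.map e.toMonoidHom) := by
  have := (e.mapSubgroup).isCoatom_iff H
  exact this.2 h

end Cfsg.Agent.SL2
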