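import Cfsg.Agent.Lib.SL2.TableUse
import Cfsg.Agent.Lib.Blocks.Regular

/-!
# Central characters of `SL(2, q)` modulo a prime over `p`, `q` odd
-/

set_option autoImplicit false
set_option linter.unusedSectionVars false

namespace Cfsg.Agent.SL2

open Matrix

variable {F : Type*} [Field F]

local notation "G" => Matrix.SpecialLinearGroup (Fin 2) F
local notation "M2" => Matrix (Fin 2) (Fin 2) F

theorem uu_pow (s : F) : ∀ n : ℕ, (uu s : G) ^ n = uu ((n : F) * s)
  | 0 => by rw [pow_zero, Nat.cast_zero, zero_mul, uu_zero]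
  | n + 1 => by rw [pow_succ, uu_pow s n, uu_mul]; congr 1; push_cast; ring

variable [Fintype F]

local notation "q" => Fintype.card F

theorem pow_p_of_unip (hodd : Odd q) {p : ℕ} [CharP F p] {u : G} (hu : ¬ Scal u)
    (ht : tr u = 2) : u ^ p = 1 := by
  obtain ⟨ε, s, P, -, -, ht', hP⟩ := exists_unip_conj hu (by rw [ht]; norm_num)
  have he : ε = 1 := mul_left_cancel₀ (two_ne_zero' hodd) (by rw [← ht', ht, mul_one])
  subst he
  have e : P⁻¹ * u * P = uu s := Subtype.ext hP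
  have h2 : (P⁻¹ * u * P⁻¹⁻¹) ^ p = 1 := by
    rw [inv_inv, e, uu_pow, CharP.cast_eq_zero, zero_mul, uu_zero]
  rw [conj_pow, inv_inv] at h2
  calc u ^ p = P * (P⁻¹ * u ^ p * P) * P⁻¹ := by group
    _ = 1 := by rw [h2]; group

theorem neg_one_central : (-1 : G) ∈ Subgroup.center G :=
  (scal_iff_mem_center _).1 ((scal_iff _).2 (Or.inr rfl))

theorem irr_neg_one {χ : G → ℂ} (hχ : Cfsg.IsIrrCharacter G χ) :
    χ (-1) = χ 1 ∨ χ (-1) = -χ 1 := by
  have h := irr_central_mul hχ neg_one_central (-1 : G)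
  rw [neg_mul_neg, one_mul, ← pow_two, ← pow_two] at h
  exact sq_eq_sq_iff_eq_or_eq_neg.1 h.symm

variable [DecidableEq F]

theorem charDegree_cases (hodd : Odd q) (χ : Cfsg.IrrCharacter G) :
    Cfsg.charDegree (χ : G → ℂ) = q ∨ Cfsg.charDegree (χ : G → ℂ) = 1 ∨
      Cfsg.charDegree (χ : G → ℂ) = q + 1 ∨ Cfsg.charDegree (χ : G → ℂ) + 1 = q ∨
      2 * Cfsg.charDegree (χ : G → ℂ) = q + 1 ∨ 2 * Cfsg.charDegree (χ : G → ℂ) + 1 = q := by
  obtain ⟨g0, h0⟩ := exists_noEig (F := F)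
  obtain ⟨θ0, t1, t2, -⟩ := exists_theta0 h0 hodd
  have h : (χ : G → ℂ) 1 = (Cfsg.charDegree (χ : G → ℂ) : ℂ) :=
    CT.deg_eq (CT.isCharacter_of_isIrr χ.2)
  rcases uu_sum_cases hodd h0 t1 t2 χ.2 with ⟨e, -⟩ | ⟨e, -⟩ | ⟨e, -⟩ | ⟨e, -⟩ | ⟨e, -⟩ | ⟨e, -⟩ <;>
    rw [h] at e
  · exact Or.inr (Or.inl (by exact_mod_cast e))
  · exact Or.inl (by exact_mod_cast e)
  · exact Or.inr (Or.inr (Or.inl (by exact_mod_cast e)))
  · refine Or.inr (Or.inr (Or.inr (Or.inl ?_)))
    exact_mod_cast (show (Cfsg.charDegree (χ : G → ℂ) : ℂ) + 1 = (q : ℂ) by linear_combination e)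
  · refine Or.inr (Or.inr (Or.inr (Or.inr (Or.inl ?_))))
    exact_mod_cast (show 2 * (Cfsg.charDegree (χ : G → ℂ) : ℂ) = (q : ℂ) + 1 by
      linear_combination 2 * e)
  · refine Or.inr (Or.inr (Or.inr (Or.inr (Or.inr ?_))))
    exact_mod_cast (show 2 * (Cfsg.charDegree (χ : G → ℂ) : ℂ) + 1 = (q : ℂ) by
      linear_combination 2 * e)

theorem not_dvd_degree (hodd : Odd q) {p : ℕ} (hp : p.Prime) (hpq : p ∣ q)
    (χ : Cfsg.IrrCharacter G) (hne : Cfsg.charDegree (χ : G → ℂ) ≠ q) :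
    ¬ p ∣ Cfsg.charDegree (χ : G → ℂ) := by
  intro h
  rcases charDegree_cases hodd χ with e | e | e | e | e | e
  · exact hne e
  · exact hp.not_dvd_one (e ▸ h)
  · exact hp.not_dvd_one ((Nat.dvd_add_right hpq).1 (e ▸ h))
  · exact hp.not_dvd_one ((Nat.dvd_add_right h).1 (e.symm ▸ hpq))
  · exact hp.not_dvd_one ((Nat.dvd_add_right hpq).1 (e ▸ Dvd.dvd.mul_left h 2))
  · exact hp.not_dvd_one ((Nat.dvd_add_right (Dvd.dvd.mul_left h 2)).1 (e.symm ▸ hpq))

theorem centralChar_congr_sign (hodd : Odd q) {p : ℕ} [Fact p.Prime] [CharP F p] (hp : p ≠ 2)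
    {M : Ideal Cfsg.AlgInt} [M.IsPrime] (hM : Cfsg.IsPModular p M) (hpq : p ∣ q)
    (χ ψ : Cfsg.IrrCharacter G) (h1 : ¬ p ∣ Cfsg.charDegree (χ : G → ℂ))
    (h2 : ¬ p ∣ Cfsg.charDegree (ψ : G → ℂ))
    (hs : (χ : G → ℂ) (-1) * (ψ : G → ℂ) 1 = (ψ : G → ℂ) (-1) * (χ : G → ℂ) 1) :
    Cfsg.SameBlock M (χ : G → ℂ) (ψ : G → ℂ) := by
  haveI := Blocks.charP_res hM
  have hinv : ∀ η : Cfsg.IrrCharacter G, ¬ p ∣ Cfsg.charDegree (η : G → ℂ) →
      ((η : G → ℂ) 1)⁻¹ ∈ Blocks.Loc M := fun η h => by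
    rw [show (η : G → ℂ) 1 = (Cfsg.charDegree (η : G → ℂ) : ℂ) from
      CT.deg_eq (CT.isCharacter_of_isIrr η.2)]
    exact Blocks.inv_mem_loc (natCast_mem _ _)
      fun hI => h ((Blocks.memLocalIdeal_natCast hM _).1 hI)
  intro g
  by_cases hsc : Scal g
  · rcases (scal_iff g).1 hsc with rfl | rfl
    · have := CT.irr_one_ne_zero χ.2
      have := CT.irr_one_ne_zero ψ.2
      simp only [Cfsg.centralChar]
      rw [show ((Subgroup.centralizer ({(1 : G)} : Set G)).index : ℂ) * (χ : G → ℂ) 1 / (χ : G → ℂ) 1 -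
        ((Subgroup.centralizer ({(1 : G)} : Set G)).index : ℂ) * (ψ : G → ℂ) 1 / (ψ : G → ℂ) 1 = 0 by
        field_simp; ring]
      exact Blocks.memLocalIdeal_zero
    · have hχ := CT.irr_one_ne_zero χ.2
      have hψ := CT.irr_one_ne_zero ψ.2
      simp only [Cfsg.centralChar]
      rw [show ((Subgroup.centralizer ({(-1 : G)} : Set G)).index : ℂ) * (χ : G → ℂ) (-1) /
          (χ : G → ℂ) 1 - ((Subgroup.centralizer ({(-1 : G)} : Set G)).index : ℂ) *
          (ψ : G → ℂ) (-1) / (ψ : G → ℂ) 1 = 0 by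
        field_simp
        linear_combination ((Subgroup.centralizer ({(-1 : G)} : Set G)).index : ℂ) * hs]
      exact Blocks.memLocalIdeal_zero
  by_cases ht : tr g ^ 2 = 4
  · -- `g = z * u` with `z` central and `u` unipotent
    obtain ⟨z, hz, u, hgu, hu, hus⟩ : ∃ z : G, (z = 1 ∨ z = -1) ∧ ∃ u : G, g = u * z ∧ tr u = 2 ∧
        ¬ Scal u := by
      rcases mul_eq_zero.1 (show (tr g - 2) * (tr g + 2) = 0 by linear_combination ht) with h | h
      · exact ⟨1, Or.inl rfl, g, (mul_one g).symm, sub_eq_zero.1 h, hsc⟩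
      · refine ⟨-1, Or.inr rfl, -g, by rw [mul_neg, mul_one, neg_neg], ?_, fun hh => hsc ?_⟩
        · rw [tr_neg]; linear_combination -h
        · rcases (scal_iff _).1 hh with e | e
          · exact (scal_iff g).2 (Or.inr (by rw [← e, neg_neg]))
          · exact (scal_iff g).2 (Or.inl (neg_injective e))
    have hzc : z ∈ Subgroup.center G := by
      rcases hz with rfl | rfl
      · exact Subgroup.one_mem _
      · exact neg_one_central
    have hzo : ¬ p ∣ orderOf z := fun h => by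
      have h2 : z ^ 2 = 1 := by rcases hz with rfl | rfl <;> simp
      exact hp ((Nat.prime_dvd_prime_iff_eq Fact.out Nat.prime_two).1
        (h.trans (orderOf_dvd_of_pow_eq_one h2)))
    have hval : ∀ η : Cfsg.IrrCharacter G,
        Cfsg.MemLocalIdeal M ((η : G → ℂ) g - (η : G → ℂ) z) := fun η => by
      have h := Blocks.red_charL_mul (M := M) (p := p) η (x := u) (y := z)
        (Subgroup.mem_center_iff.1 hzc u)
        ⟨1, by rw [pow_one]; exact pow_p_of_unip hodd hus hu⟩ hzo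
      rw [Blocks.red_eq_iff, Blocks.coe_charL, Blocks.coe_charL, ← hgu] at h
      exact h
    have hz' : (χ : G → ℂ) z * ((χ : G → ℂ) 1)⁻¹ = (ψ : G → ℂ) z * ((ψ : G → ℂ) 1)⁻¹ := by
      have hχ := CT.irr_one_ne_zero χ.2
      have hψ := CT.irr_one_ne_zero ψ.2
      rcases hz with rfl | rfl
      · field_simp
      · field_simp
        linear_combination hs
    simp only [Cfsg.centralChar]
    rw [show ((Subgroup.centralizer ({g} : Set G)).index : ℂ) * (χ : G → ℂ) g / (χ : G → ℂ) 1 -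
        ((Subgroup.centralizer ({g} : Set G)).index : ℂ) * (ψ : G → ℂ) g / (ψ : G → ℂ) 1 =
        ((Subgroup.centralizer ({g} : Set G)).index : ℂ) * ((χ : G → ℂ) 1)⁻¹ *
            ((χ : G → ℂ) g - (χ : G → ℂ) z) -
          ((Subgroup.centralizer ({g} : Set G)).index : ℂ) * ((ψ : G → ℂ) 1)⁻¹ *
            ((ψ : G → ℂ) g - (ψ : G → ℂ) z) by
      linear_combination ((Subgroup.centralizer ({g} : Set G)).index : ℂ) * hz']
    exact Blocks.memLocalIdeal_sub
      (Blocks.memLocalIdeal_mul_left (mul_mem (natCast_mem _ _) (hinv χ h1)) (hval χ))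
      (Blocks.memLocalIdeal_mul_left (mul_mem (natCast_mem _ _) (hinv ψ h2)) (hval ψ))
  · have hidx : Cfsg.MemLocalIdeal M ((Subgroup.centralizer ({g} : Set G)).index : ℂ) := by
      rw [Blocks.memLocalIdeal_natCast hM]
      rcases card_cent_regular ht with ⟨-, -, h⟩ | ⟨-, -, h⟩ <;>
        exact (show (Subgroup.centralizer ({g} : Set G)).index = _ from h) ▸ hpq.mul_right _
    have hterm : ∀ η : Cfsg.IrrCharacter G, ¬ p ∣ Cfsg.charDegree (η : G → ℂ) →
        Cfsg.MemLocalIdeal M (Cfsg.centralChar (η : G → ℂ) g) := fun η h => by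
      rw [Cfsg.centralChar, mul_div_assoc, mul_comm, div_eq_mul_inv]
      exact Blocks.memLocalIdeal_mul_left
        (mul_mem (Blocks.integral_mem_loc (Blocks.isIntegral_irr η.2 g)) (hinv η h)) hidx
    exact Blocks.memLocalIdeal_sub (hterm χ h1) (hterm ψ h2)

end Cfsg.Agent.SL2
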