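import Cfsg.Agent.Lib.SL2.Elements
import Cfsg.Prelude.Def_Characters

/-!
# The Borel subgroup of `SL(2, q)`
-/

set_option autoImplicit false
set_option linter.unusedSectionVars false

namespace Cfsg.Agent.SL2

open Matrix

variable {F : Type*} [Field F]

local notation "G" => Matrix.SpecialLinearGroup (Fin 2) F
local notation "M2" => Matrix (Fin 2) (Fin 2) F

/-- The element `(a x; 0 a⁻¹)`. -/
def bb (a : Fˣ) (x : F) : G := ⟨!![(a : F), x; 0, (a : F)⁻¹], by simp [Matrix.det_fin_two]⟩

theorem bb_apply_one_zero (a : Fˣ) (x : F) : (bb a x : M2) 1 0 = 0 := by simp [bb]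

/-- Upper triangular elements as pairs. -/
def upperEquiv : {g : G // (g : M2) 1 0 = 0} ≃ Fˣ × F where
  toFun g := (Units.mk0 _ (upper_root g.2).2.1, (g.1 : M2) 0 1)
  invFun v := ⟨bb v.1 v.2, bb_apply_one_zero _ _⟩
  left_inv g := by
    apply Subtype.ext
    apply ext4 <;> simp [bb, g.2, (upper_root g.2).2.2]
  right_inv v := by
    apply Prod.ext
    · apply Units.ext; simp [bb]
    · simp [bb]

theorem commute_bb_iff (a b : Fˣ) (x y : F) :
    bb a x * bb b y = bb b y * bb a x ↔
      y * ((a : F) - (a : F)⁻¹) = x * ((b : F) - (b : F)⁻¹) := by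
  constructor
  · intro h
    have h' : ((bb a x : G) : M2) * (bb b y : G) = (bb b y : G) * (bb a x : G) := by
      rw [← Matrix.SpecialLinearGroup.coe_mul, ← Matrix.SpecialLinearGroup.coe_mul, h]
    have h' := congrFun (congrFun h' 0) 1
    simp [bb, Matrix.mul_apply, Fin.sum_univ_two] at h'
    linear_combination h'
  · intro h
    apply Subtype.ext
    rw [Matrix.SpecialLinearGroup.coe_mul, Matrix.SpecialLinearGroup.coe_mul]
    apply mext <;> simp [bb, Matrix.mul_apply, Fin.sum_univ_two, mul_comm]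
    linear_combination h

theorem unit_sub_inv (a : Fˣ) : ((a : F) - (a : F)⁻¹ = 0) ↔ (a : F) ^ 2 = 1 := by
  rw [sub_eq_zero, pow_two]
  constructor
  · intro h; nth_rewrite 2 [h]; exact mul_inv_cancel₀ a.ne_zero
  · intro h; exact eq_inv_of_mul_eq_one_left h

variable [Fintype F]

local notation "q" => Fintype.card F

theorem card_unit_sq_one (hodd : Odd q) : Nat.card {a : Fˣ // (a : F) ^ 2 = 1} = 2 := by
  refine Eq.trans ?_ (card_sq_one hodd)
  exact Nat.card_congr
    { toFun := fun a => ⟨a.1, a.2⟩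
      invFun := fun s => ⟨Units.mk0 s.1 (fun h => by simpa [h] using s.2), by simpa using s.2⟩
      left_inv := fun a => Subtype.ext (Units.ext rfl)
      right_inv := fun s => rfl }

/-- Commuting pairs in the Borel subgroup. -/
theorem card_borel_comm (hodd : Odd q) (a : Fˣ) (x : F) [Decidable ((a : F) ^ 2 = 1)]
    [Decidable (x = 0)] :
    Nat.card {v : Fˣ × F // bb a x * bb v.1 v.2 = bb v.1 v.2 * bb a x} =
      if (a : F) ^ 2 = 1 then (if x = 0 then (q - 1) * q else 2 * q) else q - 1 := by
  classical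
  have hunits : Nat.card Fˣ = q - 1 := by rw [Nat.card_units, Nat.card_eq_fintype_card]
  by_cases ha : (a : F) ^ 2 = 1
  · rw [if_pos ha]
    have ha' := (unit_sub_inv a).2 ha
    by_cases hx : x = 0
    · rw [if_pos hx, Nat.card_congr (Equiv.subtypeUnivEquiv fun v => (commute_bb_iff _ _ _ _).2
        (by rw [ha', hx]; ring)), Nat.card_prod, hunits, Nat.card_eq_fintype_card]
    · rw [if_neg hx]
      refine Eq.trans (b := Nat.card ({b : Fˣ // (b : F) ^ 2 = 1} × F)) ?_ (by
        rw [Nat.card_prod, card_unit_sq_one hodd, Nat.card_eq_fintype_card])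
      refine Nat.card_congr
        { toFun := fun v => (⟨v.1.1, (unit_sub_inv _).1 ?_⟩, v.1.2)
          invFun := fun w => ⟨(w.1.1, w.2), (commute_bb_iff _ _ _ _).2 ?_⟩
          left_inv := fun v => rfl
          right_inv := fun w => rfl }
      · have := (commute_bb_iff _ _ _ _).1 v.2
        rw [ha', mul_zero] at this
        exact (mul_eq_zero.1 this.symm).resolve_left hx
      · rw [ha', (unit_sub_inv _).2 w.1.2]; ring
  · rw [if_neg ha, ← hunits]
    have ha' : (a : F) - (a : F)⁻¹ ≠ 0 := fun h => ha ((unit_sub_inv a).1 h)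
    refine Nat.card_congr
      { toFun := fun v => v.1.1
        invFun := fun b => ⟨(b, x * ((b : F) - (b : F)⁻¹) / ((a : F) - (a : F)⁻¹)),
          (commute_bb_iff _ _ _ _).2 (div_mul_cancel₀ _ ha')⟩
        left_inv := fun v => Subtype.ext (Prod.ext rfl
          ((eq_div_iff ha').2 ((commute_bb_iff _ _ _ _).1 v.2)).symm)
        right_inv := fun b => rfl }

theorem card_classes_borel (hodd : Odd q) (B : Subgroup G)
    (hB : ∀ g : G, g ∈ B ↔ (g : M2) 1 0 = 0) : Nat.card (ConjClasses B) = q + 3 := by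
  classical
  have := Fintype.ofFinite B
  let e : B ≃ Fˣ × F := (Equiv.subtypeEquivRight hB).trans upperEquiv
  have hq := two_le_q (F := F)
  have h := card_comm_eq_card_conjClasses_mul_card B
  have hcard : Nat.card B = (q - 1) * q := by
    rw [Nat.card_congr e, Nat.card_prod, Nat.card_units, Nat.card_eq_fintype_card]
  have hval : ∀ v : Fˣ × F, ((e.symm v : B) : G) = bb v.1 v.2 := fun v => rfl
  have e2 : {p : B × B // Commute p.1 p.2} ≃
      {w : (Fˣ × F) × (Fˣ × F) // bb w.1.1 w.1.2 * bb w.2.1 w.2.2 =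
        bb w.2.1 w.2.2 * bb w.1.1 w.1.2} :=
    (Equiv.prodCongr e e).subtypeEquiv fun p => by
      simp only [Equiv.prodCongr_apply, Prod.map]
      rw [← hval, ← hval, e.symm_apply_apply, e.symm_apply_apply]
      exact Subtype.ext_iff
  rw [Nat.card_congr e2,
    Nat.card_congr (Equiv.subtypeProdEquivSigmaSubtype fun (u v : Fˣ × F) =>
      bb u.1 u.2 * bb v.1 v.2 = bb v.1 v.2 * bb u.1 u.2),
    Nat.card_sigma, Finset.sum_congr rfl (fun v _ => card_borel_comm hodd v.1 v.2),
    Fintype.sum_prod_type, hcard] at h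
  have hin : ∀ a : Fˣ, (∑ x : F,
      if (a : F) ^ 2 = 1 then (if x = 0 then (q - 1) * q else 2 * q) else q - 1) =
      if (a : F) ^ 2 = 1 then (q - 1) * q + (q - 1) * (2 * q) else q * (q - 1) := by
    intro a
    by_cases ha : (a : F) ^ 2 = 1
    · simp only [if_pos ha]
      rw [← Finset.add_sum_erase _ _ (Finset.mem_univ (0 : F)), if_pos rfl,
        Finset.sum_congr rfl (fun x hx => if_neg (Finset.ne_of_mem_erase hx)),
        Finset.sum_const, Finset.card_erase_of_mem (Finset.mem_univ _), Finset.card_univ,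
        smul_eq_mul]
    · simp only [if_neg ha, Finset.sum_const, Finset.card_univ, smul_eq_mul]
  dsimp only at h
  rw [Finset.sum_congr rfl (fun a _ => hin a), Finset.sum_ite, Finset.sum_const,
    Finset.sum_const] at h
  have hS : (Finset.univ.filter fun a : Fˣ => (a : F) ^ 2 = 1).card = 2 := by
    rw [← Fintype.card_subtype, ← Nat.card_eq_fintype_card, card_unit_sq_one hodd]
  have hT := Finset.card_filter_add_card_filter_not
    (s := (Finset.univ : Finset Fˣ)) (fun a => (a : F) ^ 2 = 1)
  rw [hS, Finset.card_univ, Fintype.card_units] at hT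
  obtain ⟨k, hk⟩ := hodd
  rw [hS, show (Finset.univ.filter fun a : Fˣ => ¬(a : F) ^ 2 = 1).card = q - 3 by omega] at h
  simp only [smul_eq_mul] at h
  refine Nat.eq_of_mul_eq_mul_right (show 0 < (q - 1) * q from Nat.mul_pos (by omega) (by omega)) ?_
  rw [← h]
  obtain ⟨j, rfl⟩ : ∃ j, k = j + 1 := ⟨k - 1, by omega⟩
  simp only [hk]
  rw [show 2 * (j + 1) + 1 - 3 = 2 * j by omega, show 2 * (j + 1) + 1 - 1 = 2 * j + 2 by omega]
  ring

end Cfsg.Agent.SL2
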