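import Cfsg.Agent.S0182
import Cfsg.Agent.S0727
import Cfsg.Agent.S0731
import Cfsg.Agent.S1224
import Cfsg.Agent.S1225
import Cfsg.Agent.Lib.SL2.Dickson
import Cfsg.Agent.Lib.SL2.DicksonTorus
import Cfsg.Agent.Lib.SmallSimple.Alternating
import Cfsg.Agent.Lib.CT.Integral

/-!
# Simple groups with a transitive commuting relation
-/

set_option autoImplicit false
set_option linter.unusedSectionVars false

namespace Cfsg.Agent.CommTrans

open MulAction

/-- Commuting is transitive on the non-identity elements. -/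
def CT (G : Type*) [Group G] : Prop :=
  ∀ a b c : G, a ≠ 1 → b ≠ 1 → c ≠ 1 → Commute a b → Commute b c → Commute a c

theorem CT.cent_comm {G : Type*} [Group G] (h : CT G) {x a b : G} (hx : x ≠ 1) (ha : Commute a x)
    (hb : Commute b x) : a * b = b * a := by
  rcases eq_or_ne a 1 with rfl | ha1
  · simp
  rcases eq_or_ne b 1 with rfl | hb1
  · simp
  exact (h a x b ha1 hx hb1 ha hb.symm).eq

/-- The strongly embedded configuration. -/
structure Dat (G : Type*) [Group G] where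
  /-- the strongly embedded subgroup -/
  N : Subgroup G
  /-- its abelian kernel -/
  A : Subgroup G
  /-- an involution -/
  t : G
  le : A ≤ N
  comm : ∀ a ∈ A, ∀ b ∈ A, a * b = b * a
  ti : ∀ a ∈ A, a ≠ 1 → ∀ c : G, Commute c a → c ∈ A
  norm : ∀ n ∈ N, ∀ a ∈ A, n * a * n⁻¹ ∈ A
  tiN : ∀ g a : G, a ∈ A → a ≠ 1 → g⁻¹ * a * g ∈ A → g ∈ N
  ord : ∀ n ∈ N, orderOf n ∣ Nat.card A → n ∈ A
  ht : orderOf t = 2
  htA : t ∈ A
  invol_mem : ∀ u : G, orderOf u = 2 → u ∈ N → u ∈ A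
  se : Cfsg.IsStronglyEmbedded N
  ne : N ≠ A

theorem exists_dat {G : Type*} [Group G] [Finite G] [IsSimpleGroup G] (hG : ¬ IsMulCommutative G)
    (hCT : CT G) : Nonempty (Dat G) := by
  classical
  haveI : Fact (Nat.Prime 2) := ⟨Nat.prime_two⟩
  have hns : ¬ Group.IsSolvable G := fun h => hG ⟨⟨fun a b => by
    haveI := h
    exact IsSimpleGroup.comm_iff_isSolvable.2 h a b⟩⟩
  have heven : 2 ∣ Nat.card G := by
    by_contra h
    exact hns (Cfsg.Agent.S0182.result (Nat.odd_iff.2 (Nat.two_dvd_ne_zero.1 h)) fun x hx a ha b hb =>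
      hCT.cent_comm hx (Subgroup.mem_centralizer_singleton_iff.1 ha) (Subgroup.mem_centralizer_singleton_iff.1 hb))
  obtain ⟨S⟩ : Nonempty (Sylow 2 G) := inferInstance
  have hS1 : Nontrivial (S : Subgroup G) := by
    rw [Subgroup.nontrivial_iff_ne_bot]
    intro h
    have h2 := S.not_dvd_index
    rw [h, Subgroup.index_bot] at h2
    exact h2 heven
  obtain ⟨z, hz⟩ := exists_prime_orderOf_dvd_card' (G := Subgroup.center (S : Subgroup G)) 2
    (by
      haveI := S.2.center_nontrivial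
      obtain ⟨n, hn⟩ := (S.2.to_subgroup (Subgroup.center (S : Subgroup G))).exists_card_eq
      rw [hn]
      refine dvd_pow_self 2 fun h0 => ?_
      rw [h0, pow_zero] at hn
      exact absurd hn (Finite.one_lt_card_iff_nontrivial.2 inferInstance).ne')
  set t : G := ((z : (S : Subgroup G)) : G) with htdef
  have ht : orderOf t = 2 := by rw [htdef, Subgroup.orderOf_coe, Subgroup.orderOf_coe, hz]
  have ht1 : t ≠ 1 := fun h => by rw [h, orderOf_one] at ht; norm_num at ht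
  let A : Subgroup G := Subgroup.centralizer {t}
  have hmA : ∀ a, a ∈ A ↔ Commute a t := fun a => Subgroup.mem_centralizer_singleton_iff
  have hSA : ∀ s ∈ (S : Subgroup G), s ∈ A := fun s hs =>
    (hmA s).2 (congrArg Subtype.val (Subgroup.mem_center_iff.1 z.2 ⟨s, hs⟩) : _)
  have hcomm : ∀ a ∈ A, ∀ b ∈ A, a * b = b * a := fun a ha b hb =>
    hCT.cent_comm ht1 ((hmA a).1 ha) ((hmA b).1 hb)
  have hti : ∀ a ∈ A, a ≠ 1 → ∀ c : G, Commute c a → c ∈ A := fun a ha ha1 c hc => by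
    rcases eq_or_ne c 1 with rfl | hc1
    · exact one_mem _
    exact (hmA c).2 (hCT c a t hc1 ha1 ht1 hc ((hmA a).1 ha))
  let N : Subgroup G := Subgroup.normalizer (A : Set G)
  have hnorm : ∀ n ∈ N, ∀ a ∈ A, n * a * n⁻¹ ∈ A := fun n hn a ha =>
    (Subgroup.mem_normalizer_iff.1 hn a).1 ha
  have hle : A ≤ N := Subgroup.le_normalizer
  have htiN : ∀ g a : G, a ∈ A → a ≠ 1 → g⁻¹ * a * g ∈ A → g ∈ N := by
    intro g a ha ha1 hb
    have hb1 : g⁻¹ * a * g ≠ 1 := fun h => ha1 (by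
      calc a = g * (g⁻¹ * a * g) * g⁻¹ := by group
        _ = 1 := by rw [h]; group)
    refine Subgroup.mem_normalizer_iff.2 fun c => ⟨fun hc => ?_, fun hc => ?_⟩
    · refine hti a ha ha1 _ ?_
      have e : c * (g⁻¹ * a * g) = g⁻¹ * a * g * c := hcomm c hc _ hb
      show g * c * g⁻¹ * a = a * (g * c * g⁻¹)
      calc g * c * g⁻¹ * a = g * (c * (g⁻¹ * a * g)) * g⁻¹ := by group
        _ = g * (g⁻¹ * a * g * c) * g⁻¹ := by rw [e]
        _ = a * (g * c * g⁻¹) := by group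
    · refine hti _ hb hb1 _ ?_
      have e : g * c * g⁻¹ * a = a * (g * c * g⁻¹) := hcomm _ hc a ha
      show c * (g⁻¹ * a * g) = g⁻¹ * a * g * c
      calc c * (g⁻¹ * a * g) = g⁻¹ * (g * c * g⁻¹ * a) * g := by group
        _ = g⁻¹ * (a * (g * c * g⁻¹)) * g := by rw [e]
        _ = _ := by group
  -- a `p`-element acting on `A` modulo `A` fixes a non-trivial element
  have hL : ∀ n ∈ N, ∀ p : ℕ, p.Prime → p ∣ Nat.card A → n ^ p ∈ A → n ∈ A := by
    intro n hn p hp hpA hnp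
    haveI : Fact p.Prime := ⟨hp⟩
    let σ : Equiv.Perm A :=
      { toFun := fun a => ⟨n * a * n⁻¹, hnorm n hn a a.2⟩
        invFun := fun a => ⟨n⁻¹ * a * n, by simpa using hnorm n⁻¹ (inv_mem hn) a a.2⟩
        left_inv := fun a => Subtype.ext (by group)
        right_inv := fun a => Subtype.ext (by group) }
    have hσ : ∀ (i : ℕ) (a : A), (((σ ^ i) a : A) : G) = n ^ i * a * (n ^ i)⁻¹ := by
      intro i a
      induction i with
      | zero => simp
      | succ i ih =>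
        rw [pow_succ', Equiv.Perm.mul_apply]
        show n * (((σ ^ i) a : A) : G) * n⁻¹ = _
        rw [ih, pow_succ']
        group
    have hσp : σ ^ p = 1 := Equiv.ext fun a => Subtype.ext (by
      rw [hσ, Equiv.Perm.one_apply, hcomm _ hnp _ a.2, mul_inv_cancel_right])
    have hP : IsPGroup p (Subgroup.zpowers σ) := by
      rcases (Nat.dvd_prime hp).1 (orderOf_dvd_of_pow_eq_one hσp) with h | h
      · exact IsPGroup.of_card (n := 0) (by rw [Nat.card_zpowers, h, pow_zero])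
      · exact IsPGroup.of_card (n := 1) (by rw [Nat.card_zpowers, h, pow_one])
    obtain ⟨b, hb, hb1⟩ := hP.exists_fixed_point_of_prime_dvd_card_of_fixed_point A hpA
      (a := (1 : A)) (by
        rintro ⟨_, i, rfl⟩
        have h0 : σ 1 = 1 := Subtype.ext (show n * ((1 : A) : G) * n⁻¹ = ((1 : A) : G) by simp)
        exact Function.IsFixedPt.perm_zpow (e := σ) h0 i)
    have hbσ : n * (b : G) * n⁻¹ = b := congrArg Subtype.val (hb ⟨σ, Subgroup.mem_zpowers σ⟩)
    exact hti b b.2 (fun h => hb1 (Subtype.ext h.symm)) n (mul_inv_eq_iff_eq_mul.1 hbσ)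
  have hord : ∀ n ∈ N, orderOf n ∣ Nat.card A → n ∈ A := by
    intro n hn hd
    induction hk : orderOf n using Nat.strong_induction_on generalizing n with
    | _ k ih =>
      subst hk
      rcases eq_or_ne (orderOf n) 1 with h1 | h1
      · rw [orderOf_eq_one_iff.1 h1]; exact one_mem _
      obtain ⟨p, hp, hpn⟩ := Nat.exists_prime_and_dvd h1
      refine hL n hn p hp (hpn.trans hd) ?_
      refine ih _ ?_ _ (pow_mem hn p) ((orderOf_pow_dvd p).trans hd) rfl
      rw [orderOf_pow_of_dvd hp.ne_zero hpn]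
      exact Nat.div_lt_self (orderOf_pos n) hp.one_lt
  have htA : t ∈ A := (hmA t).2 (Commute.refl t)
  have h2A : 2 ∣ Nat.card A := ht ▸ Subgroup.orderOf_dvd_natCard A htA
  have hAtop : A ≠ ⊤ := fun h => hG ⟨⟨fun a b => hcomm a (h ▸ Subgroup.mem_top a) b (h ▸ Subgroup.mem_top b)⟩⟩
  have hNtop : N ≠ ⊤ := fun h => by
    haveI hAn : A.Normal := Subgroup.normalizer_eq_top_iff.1 h
    rcases hAn.eq_bot_or_eq_top with hb | hb
    · exact ht1 (Subgroup.mem_bot.1 (hb ▸ htA))
    · exact hAtop hb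
  have hinv : ∀ u : G, orderOf u = 2 → u ∈ N → u ∈ A := fun u hu huN => hord u huN (hu ▸ h2A)
  refine ⟨⟨N, A, t, hle, hcomm, hti, hnorm, htiN, hord, ht, htA, hinv, ⟨hNtop, ?_, ?_⟩, ?_⟩⟩
  · exact even_iff_two_dvd.2 (ht ▸ Subgroup.orderOf_dvd_natCard N (hle htA))
  · intro g hg
    by_contra hev
    obtain ⟨u, hu⟩ := exists_prime_orderOf_dvd_card' 2 (even_iff_two_dvd.1 (Nat.not_odd_iff_even.1 hev))
    obtain ⟨huN, v, hvN, hvu⟩ := u.2
    change g * v * g⁻¹ = (u : G) at hvu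
    have hu' : orderOf (u : G) = 2 := by rw [Subgroup.orderOf_coe, hu]
    have hu1 : (u : G) ≠ 1 := fun h => by rw [h, orderOf_one] at hu'; norm_num at hu'
    have hv : orderOf v = 2 := by
      rw [← hu', ← hvu, ← MulAut.conj_apply, MulEquiv.orderOf_eq]
    refine hg (htiN g u (hinv _ hu' huN) hu1 ?_)
    rw [← hvu, show g⁻¹ * (g * v * g⁻¹) * g = v by group]
    exact hinv v hv hvN
  · intro hNA
    have hN : Subgroup.normalizer ((S : Subgroup G) : Set G) ≤ Subgroup.centralizer ((S : Subgroup G) : Set G) := by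
      intro n hn
      have hnt : n * t * n⁻¹ ∈ (S : Subgroup G) :=
        (Subgroup.mem_normalizer_iff.1 hn t).1 (z : (S : Subgroup G)).2
      have hn' : n⁻¹ ∈ N := htiN n⁻¹ t htA ht1 (by rw [inv_inv]; exact hSA _ hnt)
      have hnA : n ∈ A := by
        have := inv_mem hn'
        rw [inv_inv, hNA] at this
        exact this
      exact Subgroup.mem_centralizer_iff.2 fun s hs => hcomm s (hSA s hs) n hnA
    have hc := MonoidHom.ker_transferSylow_isComplement' S hN
    have hcard := hc.card_mul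
    rcases (MonoidHom.normal_ker (MonoidHom.transferSylow S hN)).eq_bot_or_eq_top with h | h
    · rw [h, Subgroup.card_bot, one_mul] at hcard
      have hStop : (S : Subgroup G) = ⊤ := Subgroup.eq_top_of_card_eq _ hcard
      exact hAtop (eq_top_iff.2 fun s _ => hSA s (hStop ▸ Subgroup.mem_top s))
    · rw [h, Subgroup.card_top] at hcard
      have h1 : Nat.card (S : Subgroup G) = 1 :=
        Nat.eq_of_mul_eq_mul_left Nat.card_pos (hcard.trans (mul_one _).symm)
      exact absurd h1 (Finite.one_lt_card_iff_nontrivial.2 hS1).ne'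

namespace Dat

variable {G : Type*} [Group G] [Finite G] (d : Dat G)

/-- The base point. -/
def base : G ⧸ d.N := ((1 : G) : G ⧸ d.N)

theorem smul_base_iff (g : G) : g • d.base = d.base ↔ g ∈ d.N := by
  rw [base, MulAction.Quotient.smul_coe, smul_eq_mul, mul_one, QuotientGroup.eq, mul_one, inv_mem_iff]

theorem semireg {a : G} (ha : a ∈ d.A) {y : G ⧸ d.N} (hy : y ≠ d.base) (h : a • y = y) : a = 1 := by
  obtain ⟨g, rfl⟩ := QuotientGroup.mk_surjective y
  by_contra ha1
  rw [MulAction.Quotient.smul_coe, smul_eq_mul, eq_comm, QuotientGroup.eq, ← mul_assoc] at h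
  have hA : g⁻¹ * a * g ∈ d.A := d.ord _ h (by
    have e : orderOf (g⁻¹ * a * g) = orderOf a := by
      rw [show g⁻¹ * a * g = MulAut.conj g⁻¹ a by simp, MulEquiv.orderOf_eq]
    rw [e]
    exact Subgroup.orderOf_dvd_natCard _ ha)
  refine hy ?_
  rw [base, QuotientGroup.eq, mul_one, inv_mem_iff]
  exact d.tiN g a ha ha1 hA

/-- The involutions of `N`. -/
abbrev T : Type _ := {s : G // orderOf s = 2 ∧ s ∈ d.N}

theorem two_le_T : 2 ≤ Nat.card d.T := by
  obtain ⟨n, hnN, hnA⟩ : ∃ n ∈ d.N, n ∉ d.A := by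
    by_contra h
    push Not at h
    exact d.ne (le_antisymm h d.le)
  have ht1 : d.t ≠ 1 := fun h => by
    have := d.ht; rw [h, orderOf_one] at this; norm_num at this
  have hne : n * d.t * n⁻¹ ≠ d.t := fun h => hnA (d.ti _ d.htA ht1 n (mul_inv_eq_iff_eq_mul.1 h))
  have ho : orderOf (n * d.t * n⁻¹) = 2 := by
    rw [← MulAut.conj_apply, MulEquiv.orderOf_eq]; exact d.ht
  haveI : Nontrivial d.T := ⟨⟨⟨_, d.ht, d.le d.htA⟩, ⟨_, ho, d.le (d.norm n hnN _ d.htA)⟩,
    fun h => hne (congrArg Subtype.val h).symm⟩⟩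
  exact Finite.one_lt_card

theorem card_swap {x y : G ⧸ d.N} (hxy : x ≠ y) :
    Nat.card {i : G // orderOf i = 2 ∧ i • x = y} = Nat.card d.T :=
  Cfsg.Agent.S1224.result d.N d.se x y hxy

theorem exists_swap {x y : G ⧸ d.N} (hxy : x ≠ y) :
    ∃ i : G, orderOf i = 2 ∧ i • x = y ∧ i • y = x ∧ i * i = 1 := by
  have h := d.card_swap hxy
  have h2 := d.two_le_T
  obtain ⟨⟨i, hi, hix⟩⟩ : Nonempty {i : G // orderOf i = 2 ∧ i • x = y} :=
    (Nat.card_pos_iff.1 (show 0 < Nat.card {i : G // orderOf i = 2 ∧ i • x = y} by omega)).1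
  have hii : i * i = 1 := by rw [← pow_two, ← hi, pow_orderOf_eq_one]
  exact ⟨i, hi, hix, by rw [← hix, ← mul_smul, hii, one_smul], hii⟩

/-- The two-point stabiliser. -/
abbrev D (y : G ⧸ d.N) : Subgroup G := d.N ⊓ stabilizer G y

theorem D_inf_A {y : G ⧸ d.N} (hy : y ≠ d.base) {a : G} (ha : a ∈ d.A) (hD : a ∈ d.D y) : a = 1 :=
  d.semireg ha hy hD.2

theorem free {y : G ⧸ d.N} (hy : y ≠ d.base) {g s : G} (hg : g ∈ d.D y) (hs : orderOf s = 2)
    (hsN : s ∈ d.N) (h : g * s * g⁻¹ = s) : g = 1 := by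
  have hs1 : s ≠ 1 := fun e => by rw [e, orderOf_one] at hs; norm_num at hs
  exact d.D_inf_A hy (d.ti s (d.invol_mem s hs hsN) hs1 g (mul_inv_eq_iff_eq_mul.1 h)) hg

theorem card_D {y : G ⧸ d.N} (hy : y ≠ d.base) : Nat.card (d.D y) = Nat.card d.T := by
  obtain ⟨u, hu, hux, -, -⟩ := d.exists_swap (Ne.symm hy)
  have huN : u ∉ d.N := fun h => hy (hux.symm.trans ((d.smul_base_iff u).2 h))
  let f : d.D y → d.T := fun g => ⟨g * d.t * (g : G)⁻¹,
    by rw [← MulAut.conj_apply, MulEquiv.orderOf_eq]; exact d.ht,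
    mul_mem (mul_mem g.2.1 (d.le d.htA)) (inv_mem g.2.1)⟩
  refine Nat.card_congr (Equiv.ofBijective f ⟨fun g g' h => ?_, fun s => ?_⟩)
  · have e : (g : G) * d.t * (g : G)⁻¹ = g' * d.t * (g' : G)⁻¹ := congrArg Subtype.val h
    have := d.free hy (g := (g' : G)⁻¹ * g) (mul_mem (inv_mem g'.2) g.2) d.ht (d.le d.htA) (by
      calc (g' : G)⁻¹ * g * d.t * ((g' : G)⁻¹ * g)⁻¹ = (g' : G)⁻¹ * (g * d.t * (g : G)⁻¹) * g' := by group
        _ = (g' : G)⁻¹ * (g' * d.t * (g' : G)⁻¹) * g' := by rw [e]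
        _ = d.t := by group)
    exact Subtype.ext (inv_mul_eq_one.1 this).symm
  · obtain ⟨g, ⟨hgN, n, hn, hgn⟩, hg⟩ := (Cfsg.Agent.S1225.result d.N d.se u hu huN d.t s.1 d.ht
      (d.le d.htA) s.2.1 s.2.2).1
    change u * n * u⁻¹ = g at hgn
    refine ⟨⟨g, hgN, ?_⟩, Subtype.ext hg⟩
    show g • y = y
    rw [← hgn, ← hux, ← mul_smul, inv_mul_cancel_right, mul_smul, (d.smul_base_iff n).2 hn]

theorem inverts {y : G ⧸ d.N} (hy : y ≠ d.base) {g u : G} (hg : g ∈ d.D y) (hu : orderOf u = 2)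
    (hux : u • d.base = y) : u * g * u⁻¹ = g⁻¹ := by
  have huu : u * u = 1 := by rw [← pow_two, ← hu, pow_orderOf_eq_one]
  have huy : u • y = d.base := by rw [← hux, ← mul_smul, huu, one_smul]
  let f : {i : G // orderOf i = 2 ∧ i • d.base = y} → d.D y := fun i => ⟨u * i.1, by
    refine (d.smul_base_iff _).1 ?_
    rw [mul_smul, i.2.2, huy], by
    show (u * i.1) • y = y
    obtain ⟨i, hi, hix⟩ := i
    have hii : i * i = 1 := by rw [← pow_two, ← hi, pow_orderOf_eq_one]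
    rw [mul_smul, show i • y = d.base by rw [← hix, ← mul_smul, hii, one_smul], hux]⟩
  have hf : Function.Injective f := fun i j h =>
    Subtype.ext (mul_left_cancel (congrArg Subtype.val h))
  have hb := (Nat.bijective_iff_injective_and_card f).2
    ⟨hf, by rw [d.card_swap (Ne.symm hy), d.card_D hy]⟩
  obtain ⟨i, hi⟩ := hb.2 ⟨g, hg⟩
  have hi' : u * i.1 = g := congrArg Subtype.val hi
  have hii : i.1 * i.1 = 1 := by
    rw [← pow_two]; exact orderOf_dvd_iff_pow_eq_one.1 i.2.1.dvd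
  rw [← hi', inv_eq_of_mul_eq_one_right huu, _root_.mul_inv_rev, inv_eq_of_mul_eq_one_right huu,
    inv_eq_of_mul_eq_one_right hii, ← mul_assoc u u, huu, one_mul]

theorem comm_D {y : G ⧸ d.N} (hy : y ≠ d.base) {g g' : G} (hg : g ∈ d.D y) (hg' : g' ∈ d.D y) :
    g * g' = g' * g := by
  obtain ⟨u, hu, hux, -, -⟩ := d.exists_swap (Ne.symm hy)
  have h := d.inverts hy (mul_mem hg hg') hu hux
  rw [show u * (g * g') * u⁻¹ = u * g * u⁻¹ * (u * g' * u⁻¹) by group, d.inverts hy hg hu hux,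
    d.inverts hy hg' hu hux, ← mul_inv_rev, inv_inj] at h
  exact h.symm

theorem decomp {y : G ⧸ d.N} (hy : y ≠ d.base) {n : G} (hn : n ∈ d.N) :
    ∃ a ∈ d.A, ∃ g ∈ d.D y, n = a * g := by
  classical
  let P : d.A × d.D y → d.N := fun z => ⟨z.1 * z.2, mul_mem (d.le z.1.2) z.2.2.1⟩
  have hP : Function.Injective P := by
    rintro ⟨a, g⟩ ⟨a', g'⟩ h
    have e : (a : G) * g = a' * g' := congrArg Subtype.val h
    have e' : (a' : G)⁻¹ * a = g' * (g : G)⁻¹ := by
      calc (a' : G)⁻¹ * a = (a' : G)⁻¹ * (a * g) * (g : G)⁻¹ := by group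
        _ = _ := by rw [e]; group
    have h1 := d.D_inf_A hy (mul_mem (inv_mem a'.2) a.2) (e' ▸ mul_mem g'.2 (inv_mem g.2))
    have ha : a = a' := Subtype.ext (inv_mul_eq_one.1 h1).symm
    subst ha
    exact Prod.ext rfl (Subtype.ext (mul_left_cancel e))
  let r : d.T → G := fun s => if h : ∃ n ∈ d.N, n * d.t * n⁻¹ = s.1 then h.choose else 1
  let Q : d.N → d.A × d.T := fun n =>
    let s : d.T := ⟨(n : G) * d.t * (n : G)⁻¹,
      by rw [← MulAut.conj_apply, MulEquiv.orderOf_eq]; exact d.ht,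
      mul_mem (mul_mem n.2 (d.le d.htA)) (inv_mem n.2)⟩
    (⟨(r s)⁻¹ * n, by
      have h : ∃ m ∈ d.N, m * d.t * m⁻¹ = s.1 := ⟨n, n.2, rfl⟩
      have hr : r s * d.t * (r s)⁻¹ = s.1 := by
        simp only [r, dif_pos h]; exact h.choose_spec.2
      have ht1 : d.t ≠ 1 := fun e => by
        have := d.ht; rw [e, orderOf_one] at this; norm_num at this
      refine d.ti _ d.htA ht1 _ (mul_inv_eq_iff_eq_mul.1 ?_)
      calc (r s)⁻¹ * n * d.t * ((r s)⁻¹ * n)⁻¹ = (r s)⁻¹ * ((n : G) * d.t * (n : G)⁻¹) * r s := by group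
        _ = (r s)⁻¹ * (r s * d.t * (r s)⁻¹) * r s := by rw [hr]
        _ = d.t := by group⟩, s)
  have hQ : Function.Injective Q := fun n n' h => by
    simp only [Q, Prod.mk.injEq, Subtype.mk.injEq] at h
    obtain ⟨h1, h2⟩ := h
    apply Subtype.ext
    simp only [h2] at h1
    exact mul_left_cancel h1
  have hcard : Nat.card (d.A × d.D y) = Nat.card d.N :=
    le_antisymm (Nat.card_le_card_of_injective P hP)
      ((Nat.card_le_card_of_injective Q hQ).trans
        (le_of_eq (by rw [Nat.card_prod, Nat.card_prod, d.card_D hy])))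
  obtain ⟨⟨a, g⟩, hag⟩ := ((Nat.bijective_iff_injective_and_card P).2 ⟨hP, hcard⟩).2 ⟨n, hn⟩
  exact ⟨a, a.2, g, g.2, (congrArg Subtype.val hag).symm⟩

theorem inverts_pair {p r : G ⧸ d.N} (hpr : p ≠ r) {g i : G} (hgp : g • p = p) (hgr : g • r = r)
    (hi : orderOf i = 2) (hip : i • p = r) : i * g * i⁻¹ = g⁻¹ := by
  obtain ⟨c, hc⟩ := exists_smul_eq G p d.base
  have hne : c • r ≠ d.base := fun e => hpr (MulAction.injective c (hc.trans e.symm))
  have hcp : c⁻¹ • d.base = p := inv_smul_eq_iff.2 hc.symm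
  have h := d.inverts hne (g := c * g * c⁻¹) (u := c * i * c⁻¹)
    ⟨(d.smul_base_iff _).1 (by rw [mul_smul, mul_smul, hcp, hgp, hc]),
      show (c * g * c⁻¹) • c • r = c • r by rw [mul_smul, mul_smul, inv_smul_smul, hgr]⟩
    (by rw [← MulAut.conj_apply, MulEquiv.orderOf_eq]; exact hi)
    (by rw [mul_smul, mul_smul, hcp, hip])
  calc i * g * i⁻¹ = c⁻¹ * (c * i * c⁻¹ * (c * g * c⁻¹) * (c * i * c⁻¹)⁻¹) * c := by group
    _ = c⁻¹ * (c * g * c⁻¹)⁻¹ * c := by rw [h]
    _ = g⁻¹ := by group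

theorem fix_three {g : G} {y z : G ⧸ d.N} (hy : y ≠ d.base) (hz : z ≠ d.base) (hyz : y ≠ z)
    (h0 : g • d.base = d.base) (h1 : g • y = y) (h2 : g • z = z) : g = 1 := by
  obtain ⟨u, hu, hux, huy, -⟩ := d.exists_swap (Ne.symm hy)
  obtain ⟨v, hv, hvx, hvz, -⟩ := d.exists_swap (Ne.symm hz)
  obtain ⟨w, hw, hwy, hwz, -⟩ := d.exists_swap hyz
  have hn : (u * v * w) • y = y := by rw [mul_smul, mul_smul, hwy, hvz, hux]
  have hinv : u * v * w * g * (u * v * w)⁻¹ = g⁻¹ := by
    have eu := d.inverts_pair (Ne.symm hy) h0 h1 hu hux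
    have ev := d.inverts_pair (Ne.symm hz) h0 h2 hv hvx
    have ew := d.inverts_pair hyz h1 h2 hw hwy
    calc u * v * w * g * (u * v * w)⁻¹ = u * (v * (w * g * w⁻¹) * v⁻¹) * u⁻¹ := by group
      _ = u * (v * g⁻¹ * v⁻¹) * u⁻¹ := by rw [ew]
      _ = u * (v * g * v⁻¹)⁻¹ * u⁻¹ := by group
      _ = g⁻¹ := by rw [ev, inv_inv, eu]
  -- move `y` to the base point
  obtain ⟨c, hc⟩ := exists_smul_eq G y d.base
  set g' := c * g * c⁻¹ with hg'
  set n' := c * (u * v * w) * c⁻¹ with hn'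
  have hcy : c⁻¹ • d.base = y := inv_smul_eq_iff.2 hc.symm
  have hy' : c • d.base ≠ d.base := fun e => hy (MulAction.injective c (hc.trans e.symm))
  have hgD : g' ∈ d.D (c • d.base) :=
    ⟨(d.smul_base_iff _).1 (by rw [hg', mul_smul, mul_smul, hcy, h1, hc]),
      show g' • c • d.base = c • d.base by rw [hg', mul_smul, mul_smul, inv_smul_smul, h0]⟩
  have hnN : n' ∈ d.N := (d.smul_base_iff _).1 (by rw [hn', mul_smul, mul_smul, hcy, hn, hc])
  obtain ⟨a, ha, δ, hδ, hnad⟩ := d.decomp hy' hnN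
  have hinv' : n' * g' * n'⁻¹ = g'⁻¹ := by
    rw [hn', hg']
    calc c * (u * v * w) * c⁻¹ * (c * g * c⁻¹) * (c * (u * v * w) * c⁻¹)⁻¹
        = c * (u * v * w * g * (u * v * w)⁻¹) * c⁻¹ := by group
      _ = c * g⁻¹ * c⁻¹ := by rw [hinv]
      _ = _ := by group
  have e : a * g' * a⁻¹ = g'⁻¹ := by
    rw [← hinv', hnad]
    have := d.comm_D hy' hδ hgD
    calc a * g' * a⁻¹ = a * (g' * δ * δ⁻¹) * a⁻¹ := by group
      _ = a * (δ * g' * δ⁻¹) * a⁻¹ := by rw [this]
      _ = _ := by group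
  have hsqA : g'⁻¹ * (a * g' * a⁻¹) ∈ d.A := by
    rw [show g'⁻¹ * (a * g' * a⁻¹) = g'⁻¹ * a * g' * a⁻¹ by group]
    refine mul_mem ?_ (inv_mem ha)
    simpa using d.norm g'⁻¹ (inv_mem hgD.1) a ha
  rw [e] at hsqA
  have hsq1 : g' * g' = 1 := inv_eq_one.1 (by
    rw [_root_.mul_inv_rev]; exact d.D_inf_A hy' hsqA (mul_mem (inv_mem hgD) (inv_mem hgD)))
  have hg1 : g' = 1 := by
    by_contra hne
    have ho : orderOf g' = 2 := orderOf_eq_prime (by rw [pow_two, hsq1]) hne
    exact hne (d.D_inf_A hy' (d.invol_mem g' ho hgD.1) hgD)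
  rw [hg', conj_eq_one_iff] at hg1
  exact hg1

theorem exists_D_ne_one {y : G ⧸ d.N} (hy : y ≠ d.base) : ∃ g ∈ d.D y, g ≠ 1 := by
  haveI : Nontrivial (d.D y) := Finite.one_lt_card_iff_nontrivial.1 (by
    have := d.two_le_T
    rw [d.card_D hy]; omega)
  obtain ⟨g, hg⟩ := exists_ne (1 : d.D y)
  exact ⟨g, g.2, fun h => hg (Subtype.ext h)⟩

theorem A_trans {y z : G ⧸ d.N} (hy : y ≠ d.base) (hz : z ≠ d.base) :
    ∃ a ∈ d.A, a • z = y := by
  obtain ⟨g, hg, hg1⟩ := d.exists_D_ne_one hy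
  obtain ⟨c, hc, δ, hδ, hgc⟩ := d.decomp hz hg.1
  let f : d.A → d.A := fun a => ⟨(a : G)⁻¹ * (g * a * g⁻¹), mul_mem (inv_mem a.2) (d.norm g hg.1 a a.2)⟩
  have hf : Function.Injective f := fun a b h => by
    have e : (a : G)⁻¹ * (g * a * g⁻¹) = (b : G)⁻¹ * (g * b * g⁻¹) := congrArg Subtype.val h
    by_contra hab
    have h1 : (b : G) * (a : G)⁻¹ ≠ 1 := fun h1 => hab (Subtype.ext (mul_inv_eq_one.1 h1).symm)
    refine hg1 (d.D_inf_A hy (d.ti _ (mul_mem b.2 (inv_mem a.2)) h1 g ?_) hg)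
    show g * ((b : G) * (a : G)⁻¹) = (b : G) * (a : G)⁻¹ * g
    calc g * ((b : G) * (a : G)⁻¹) = (b : G) * ((b : G)⁻¹ * (g * b * g⁻¹)) * g * (a : G)⁻¹ := by group
      _ = (b : G) * ((a : G)⁻¹ * (g * a * g⁻¹)) * g * (a : G)⁻¹ := by rw [e]
      _ = _ := by group
  obtain ⟨a, ha⟩ := (Finite.injective_iff_surjective.1 hf) ⟨c⁻¹, inv_mem hc⟩
  have ha' : (a : G)⁻¹ * (g * a * g⁻¹) = c⁻¹ := congrArg Subtype.val ha
  have hgz : g • z = c • z := by rw [hgc, mul_smul]; exact congrArg (c • ·) hδ.2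
  have hfix : g • (a : G) • z = (a : G) • z := by
    calc g • (a : G) • z = ((g * a * g⁻¹) * c) • z := by
          rw [mul_smul (g * a * g⁻¹) c, ← hgz, ← mul_smul, ← mul_smul]; congr 1; group
      _ = ((a : G) * ((a : G)⁻¹ * (g * a * g⁻¹)) * c) • z := by congr 1; group
      _ = (a : G) • z := by rw [ha']; congr 1; group
  refine ⟨a, a.2, ?_⟩
  by_contra hne
  refine hg1 (d.fix_three hy (fun e => hz (MulAction.injective (a : G) (e.trans
    ((d.smul_base_iff _).2 (d.le a.2)).symm))) (Ne.symm hne) ((d.smul_base_iff g).2 hg.1) hg.2 hfix)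

theorem exists_ne_base [IsSimpleGroup G] : ∃ y : G ⧸ d.N, y ≠ d.base := by
  by_contra h
  push Not at h
  exact d.se.1 (eq_top_iff.2 fun g _ => (d.smul_base_iff g).1 (h _))

theorem two_trans : IsMultiplyPretransitive G (G ⧸ d.N) 2 := by
  rw [is_two_pretransitive_iff]
  intro a b c e hab hce
  obtain ⟨g, hg⟩ := exists_smul_eq G a d.base
  obtain ⟨g', hg'⟩ := exists_smul_eq G c d.base
  obtain ⟨x, hxA, hx⟩ := d.A_trans (y := g' • e) (z := g • b)
    (fun h => hce (MulAction.injective g' (hg'.trans h.symm)))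
    (fun h => hab (MulAction.injective g (hg.trans h.symm)))
  refine ⟨g'⁻¹ * x * g, ?_, ?_⟩
  · rw [mul_smul, mul_smul, hg, (d.smul_base_iff x).2 (d.le hxA), inv_smul_eq_iff, hg']
  · rw [mul_smul, mul_smul, hx, inv_smul_smul]

theorem faithful [IsSimpleGroup G] : FaithfulSMul G (G ⧸ d.N) := by
  refine ⟨fun {g h} e => ?_⟩
  rcases (MonoidHom.normal_ker (toPermHom G (G ⧸ d.N))).eq_bot_or_eq_top with hb | hb
  · exact (MonoidHom.ker_eq_bot_iff _).1 hb (Equiv.ext e)
  · exfalso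
    exact d.se.1 (eq_top_iff.2 fun x _ => (d.smul_base_iff x).1
      (DFunLike.congr_fun (MonoidHom.mem_ker.1 (hb ▸ Subgroup.mem_top x)) d.base))

theorem zassenhaus [IsSimpleGroup G] : Cfsg.IsZassenhausGroup G (G ⧸ d.N) := by
  haveI hfaith := d.faithful
  obtain ⟨y, hy⟩ := d.exists_ne_base
  obtain ⟨g, hg, hg1⟩ := d.exists_D_ne_one hy
  refine ⟨hfaith, d.two_trans, fun g a b c hab hbc hac ha hb hc => ?_,
    ⟨g, hg1, d.base, y, Ne.symm hy, (d.smul_base_iff g).2 hg.1, hg.2⟩, fun M hM htr => ?_⟩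
  · obtain ⟨c', hc'⟩ := exists_smul_eq G a d.base
    have hca : c'⁻¹ • d.base = a := inv_smul_eq_iff.2 hc'.symm
    have h := d.fix_three (g := c' * g * c'⁻¹) (y := c' • b) (z := c' • c)
      (fun e => hab (MulAction.injective c' (hc'.trans e.symm)))
      (fun e => hac (MulAction.injective c' (hc'.trans e.symm)))
      (fun e => hbc (MulAction.injective c' e))
      (by rw [mul_smul, mul_smul, hca, ha, hc']) (by rw [mul_smul, mul_smul, inv_smul_smul, hb])
      (by rw [mul_smul, mul_smul, inv_smul_smul, hc])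
    exact conj_eq_one_iff.1 h
  · refine ⟨d.base, fun hbot => ?_⟩
    rcases hM.eq_bot_or_eq_top with rfl | rfl
    · obtain ⟨m, hm⟩ := htr.exists_smul_eq d.base y
      rw [Subgroup.smul_def, Subgroup.mem_bot.1 m.2, one_smul] at hm
      exact hy hm.symm
    · have hmem : (⟨g, Subgroup.mem_top g⟩ : (⊤ : Subgroup G)) ∈ stabilizer (⊤ : Subgroup G) d.base :=
        (d.smul_base_iff g).2 hg.1
      have hmem := hbot.le hmem
      rw [Subgroup.mem_bot] at hmem
      exact hg1 (congrArg Subtype.val hmem)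

theorem regular (y z : G ⧸ d.N) (hy : y ≠ d.base) (hz : z ≠ d.base) :
    ∃! u : d.A, (u : G) • y = z := by
  obtain ⟨a, ha, haz⟩ := d.A_trans hz hy
  refine ⟨⟨a, ha⟩, haz, fun u hu => ?_⟩
  apply Subtype.ext
  show (u : G) = a
  refine (inv_mul_eq_one.1 (d.semireg (mul_mem (inv_mem ha) u.2) hy ?_)).symm
  rw [mul_smul, hu, ← haz, inv_smul_smul]

theorem card_points [IsSimpleGroup G] : Nat.card (G ⧸ d.N) = Nat.card d.A + 1 := by
  classical
  obtain ⟨y, hy⟩ := d.exists_ne_base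
  haveI := Fintype.ofFinite (G ⧸ d.N)
  have hb : Function.Bijective (fun a : d.A =>
      (⟨(a : G) • y, fun e => hy (MulAction.injective (a : G) (e.trans ((d.smul_base_iff _).2 (d.le a.2)).symm))⟩ :
        {z : G ⧸ d.N // z ≠ d.base})) := by
    refine ⟨fun a b h => ?_, fun z => ?_⟩
    · exact (d.regular y _ hy (fun e => hy (MulAction.injective (a : G)
        (e.trans ((d.smul_base_iff _).2 (d.le a.2)).symm)))).unique rfl (congrArg Subtype.val h).symm
    · obtain ⟨u, hu, -⟩ := d.regular y z hy z.2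
      exact ⟨u, Subtype.ext hu⟩
  rw [Nat.card_eq_of_bijective _ hb, Nat.card_eq_fintype_card, Nat.card_eq_fintype_card,
    Fintype.card_subtype_compl, Fintype.card_subtype_eq]
  have : 0 < Fintype.card (G ⧸ d.N) := Fintype.card_pos
  omega

theorem two_group [IsSimpleGroup G] (h3 : IsMultiplyPretransitive G (G ⧸ d.N) 3) :
    ∀ a ∈ d.A, a ≠ 1 → orderOf a = 2 := by
  intro a ha ha1
  obtain ⟨y, hy⟩ := d.exists_ne_base
  have key : ∀ b ∈ d.A, b ≠ 1 → b • y ≠ d.base ∧ b • y ≠ y := fun b hb hb1 =>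
    ⟨fun e => hy (MulAction.injective b (e.trans ((d.smul_base_iff _).2 (d.le hb)).symm)),
      fun e => hb1 (d.semireg hb hy e)⟩
  have ht1 : d.t ≠ 1 := fun h => by have := d.ht; rw [h, orderOf_one] at this; norm_num at this
  have hinj : ∀ b ∈ d.A, b ≠ 1 → Function.Injective ![d.base, y, b • y] := by
    intro b hb hb1 i j hij
    have h := key b hb hb1
    fin_cases i <;> fin_cases j <;>
      first
        | rfl
        | exact absurd hij (Ne.symm hy)
        | exact absurd hij hy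
        | exact absurd hij (Ne.symm h.1)
        | exact absurd hij h.1
        | exact absurd hij (Ne.symm h.2)
        | exact absurd hij h.2
  obtain ⟨g, hg⟩ := @exists_smul_eq G (Fin 3 ↪ G ⧸ d.N) _ h3 ⟨_, hinj d.t d.htA ht1⟩ ⟨_, hinj a ha ha1⟩
  have e0 : g • d.base = d.base := DFunLike.congr_fun hg 0
  have e1 : g • y = y := DFunLike.congr_fun hg 1
  have e2 : g • d.t • y = a • y := DFunLike.congr_fun hg 2
  have hgy : g⁻¹ • y = y := inv_smul_eq_iff.2 e1.symm
  have heq : g * d.t * g⁻¹ = a := by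
    refine (inv_mul_eq_one.1 (d.semireg (mul_mem (inv_mem ha) (d.norm g ((d.smul_base_iff g).1 e0) _ d.htA))
      hy ?_)).symm
    rw [mul_smul, mul_smul, mul_smul, hgy, e2, inv_smul_smul]
  rw [← heq, ← MulAut.conj_apply, MulEquiv.orderOf_eq]
  exact d.ht

end Dat

theorem dihedral_not_CT {n : ℕ} (hn : Even n) (h4 : 4 ≤ n) : ¬ CT (DihedralGroup n) := by
  intro h
  obtain ⟨m, rfl⟩ := hn
  haveI : NeZero (m + m) := ⟨by omega⟩
  have hm : ((m : ℕ) : ZMod (m + m)) ≠ 0 := by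
    rw [Ne, ZMod.natCast_eq_zero_iff]
    intro hd
    have := Nat.le_of_dvd (by omega) hd
    omega
  have h1 : (1 : ZMod (m + m)) ≠ 0 := by
    rw [← Nat.cast_one, Ne, ZMod.natCast_eq_zero_iff]
    intro hd
    have := Nat.le_of_dvd (by omega) hd
    omega
  have h2 : (2 : ZMod (m + m)) ≠ 0 := by
    rw [← Nat.cast_two, Ne, ZMod.natCast_eq_zero_iff]
    intro hd
    have := Nat.le_of_dvd (by omega) hd
    omega
  have hmm : ((m : ℕ) : ZMod (m + m)) + (m : ℕ) = 0 := by rw [← Nat.cast_add, ZMod.natCast_self]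
  have key := h (DihedralGroup.r (1 : ZMod (m + m))) (DihedralGroup.r ((m : ℕ) : ZMod (m + m)))
    (DihedralGroup.sr 0) (fun e => h1 (DihedralGroup.r.inj (e.trans DihedralGroup.r_zero.symm)))
    (fun e => hm (DihedralGroup.r.inj (e.trans DihedralGroup.r_zero.symm)))
    (fun e => by rw [DihedralGroup.one_def] at e; cases e)
    (show _ = _ by
      rw [DihedralGroup.r_mul_r, DihedralGroup.r_mul_r]
      exact congrArg DihedralGroup.r (add_comm _ _))
    (show _ = _ by
      rw [DihedralGroup.r_mul_sr, DihedralGroup.sr_mul_r]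
      exact congrArg DihedralGroup.sr (by linear_combination -hmm))
  have e := key.eq
  simp at e
  exact h2 (by linear_combination -e)

theorem PSL_not_CT {K : Type*} [Field K] [Fintype K] (h2 : ringChar K ≠ 2) (h7 : 7 ≤ Fintype.card K) :
    ¬ CT (Matrix.ProjectiveSpecialLinearGroup (Fin 2) K) := by
  classical
  intro h
  have hodd : Fintype.card K % 2 = 1 := FiniteField.odd_card_of_char_ne_two h2
  have hgcd : Nat.gcd 2 (Fintype.card K - 1) = 2 := Nat.gcd_eq_left (by omega)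
  obtain ⟨r, ht, he, h4⟩ : ∃ r : Matrix.SpecialLinearGroup (Fin 2) K, SL2.tr r ^ 2 ≠ 4 ∧
      Even (Nat.card (SL2.torus r)) ∧ 4 ≤ Nat.card (SL2.torus r) := by
    rcases Nat.even_or_odd ((Fintype.card K + 1) / 2) with he | ho
    · obtain ⟨r, hr⟩ := SL2.exists_noEig (F := K)
      refine ⟨r, hr.tr_sq, ?_⟩
      rcases SL2.card_torus_cases hr.tr_sq with ⟨-, hc⟩ | ⟨⟨a, ha⟩, -⟩
      · rw [hgcd] at hc
        rw [hc]
        exact ⟨he, by omega⟩
      · exact absurd ha ((SL2.noEig_iff r).1 hr a)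
    · obtain ⟨a, ha⟩ := IsCyclic.exists_ofOrder_eq_natCard (α := Kˣ)
      rw [Nat.card_units, Nat.card_eq_fintype_card] at ha
      have ha2 : (a : K) ^ 2 ≠ 1 := fun e => by
        have hd : orderOf a ∣ 2 := orderOf_dvd_of_pow_eq_one (Units.ext (by simpa using e))
        have := Nat.le_of_dvd two_pos hd
        omega
      refine ⟨SL2.dd a, SL2.tr_sq_dd ha2, ?_⟩
      rcases SL2.card_torus_cases (SL2.tr_sq_dd ha2) with ⟨hne, -⟩ | ⟨-, hc⟩
      · exfalso
        refine hne (a : K) ?_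
        rw [SL2.tr_dd, add_sub_cancel_left, mul_inv_cancel₀ a.ne_zero]
      · rw [hgcd] at hc
        rw [hc]
        obtain ⟨j, hj⟩ := ho
        exact ⟨⟨j / 1, by omega⟩, by omega⟩
  obtain ⟨e⟩ := SL2.NT_equiv_dihedral ht
  refine dihedral_not_CT he h4 fun a b c ha hb hc hab hbc => ?_
  let f : DihedralGroup (Nat.card (SL2.torus r)) →* Matrix.ProjectiveSpecialLinearGroup (Fin 2) K :=
    (Subgroup.subtype _).comp e.symm.toMonoidHom
  have hf : Function.Injective f := Subtype.val_injective.comp e.symm.injective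
  have hne : ∀ x, x ≠ 1 → f x ≠ 1 := fun x hx e => hx (hf (e.trans (map_one f).symm))
  exact hf (by
    rw [map_mul, map_mul]
    exact (h (f a) (f b) (f c) (hne a ha) (hne b hb) (hne c hc) (hab.map f) (hbc.map f)).eq)

/-- A finite simple non-abelian group with transitive commuting is `PSL(2, 2 ^ f)`. -/
theorem classify {G : Type*} [Group G] [Finite G] [IsSimpleGroup G] (hG : ¬ IsMulCommutative G)
    (hCT : CT G) :
    ∃ (F : Type) (_ : Field F) (_ : Fintype F) (f : ℕ), 2 ≤ f ∧ Fintype.card F = 2 ^ f ∧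
      Nonempty (G ≃* Matrix.ProjectiveSpecialLinearGroup (Fin 2) F) := by
  classical
  haveI : Fact (Nat.Prime 2) := ⟨Nat.prime_two⟩
  obtain ⟨d⟩ := exists_dat hG hCT
  have hAs : d.A ≤ stabilizer G d.base := fun a ha => (d.smul_base_iff a).2 (d.le ha)
  have hFn : (d.A.subgroupOf (stabilizer G d.base)).Normal :=
    ⟨fun a ha g => d.norm _ ((d.smul_base_iff _).1 g.2) _ ha⟩
  have hab : IsMulCommutative d.A := ⟨⟨fun a b => Subtype.ext (d.comm a a.2 b b.2)⟩⟩
  rcases Cfsg.Agent.S0731.result d.zassenhaus d.base d.A hAs hFn hab d.regular with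
    ⟨h3, hsharp⟩ | ⟨K, iK, iF, hK2, ⟨e⟩⟩
  · have hp : IsPGroup 2 d.A := fun a => ⟨1, by
      rw [pow_one]
      rcases eq_or_ne (a : G) 1 with h | h
      · exact Subtype.ext (by rw [Subgroup.coe_pow, h, one_pow, Subgroup.coe_one])
      · refine Subtype.ext ?_
        rw [Subgroup.coe_pow, ← d.two_group h3 a a.2 h, pow_orderOf_eq_one, Subgroup.coe_one]⟩
    obtain ⟨f, hf⟩ := hp.exists_card_eq
    have hf1 : 1 ≤ f := by
      by_contra h
      obtain rfl : f = 0 := by omega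
      have := Subgroup.orderOf_dvd_natCard _ d.htA
      rw [hf, d.ht] at this
      norm_num at this
    haveI := Fintype.ofFinite (G ⧸ d.N)
    haveI hfa := d.faithful
    let φ := toPermHom G (G ⧸ d.N)
    have hφ : Function.Injective φ := MulAction.toPerm_injective
    have h3' : IsMultiplyPretransitive φ.range (G ⧸ d.N) 3 := ⟨fun u v => by
      obtain ⟨g, hg⟩ := @exists_smul_eq G (Fin 3 ↪ G ⧸ d.N) _ h3 u v
      exact ⟨⟨φ g, g, rfl⟩, by ext i; exact DFunLike.congr_fun hg i⟩⟩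
    have hsharp' : ∀ u : Fin 3 ↪ (G ⧸ d.N), stabilizer φ.range u = ⊥ := fun u => by
      refine eq_bot_iff.2 fun x hx => ?_
      obtain ⟨x, g, rfl⟩ := x
      have hg : g ∈ stabilizer G u := by
        rw [mem_stabilizer_iff]; ext i; exact DFunLike.congr_fun (mem_stabilizer_iff.1 hx) i
      rw [hsharp u, Subgroup.mem_bot] at hg
      rw [Subgroup.mem_bot]
      exact Subtype.ext (by simp [hg])
    obtain ⟨F, iF, iFF, hF, ⟨e⟩⟩ := Cfsg.Agent.S0727.result hf1
      (by rw [← Nat.card_eq_fintype_card, d.card_points, hf]) φ.range h3' hsharp'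
    haveI : CharP F 2 := by
      obtain ⟨r, hr⟩ := CharP.exists F
      obtain ⟨m, hrp, hm⟩ := FiniteField.card F r
      have h2 : 2 ∣ r := Nat.prime_two.dvd_of_dvd_pow
        ((dvd_pow_self 2 (by omega : f ≠ 0)).trans (dvd_of_eq (hF.symm.trans hm)))
      rwa [← (Nat.prime_dvd_prime_iff_eq Nat.prime_two hrp).1 h2] at hr
    have hroots : ∀ r : Fˣ, ∃ k : Fˣ, k ^ Fintype.card (Fin 2) = r := fun r => by
      obtain ⟨k, hk⟩ := (Finite.injective_iff_surjective.1
        (frobenius_inj F 2)) (r : F)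
      change k ^ 2 = (r : F) at hk
      have hk0 : k ≠ 0 := fun h => r.ne_zero (by rw [← hk, h, zero_pow two_ne_zero])
      exact ⟨Units.mk0 k hk0, Units.ext (by rw [Fintype.card_fin]; simpa using hk)⟩
    let iso := MulEquiv.ofBijective (Matrix.ProjectiveSpecialLinearGroup.toPGL (n := Fin 2) (R := F))
      ⟨Matrix.ProjectiveSpecialLinearGroup.toPGL_injective,
        Matrix.ProjectiveSpecialLinearGroup.toPGL_surj_of_roots hroots⟩
    refine ⟨F, iF, iFF, f, ?_, hF, ⟨(MonoidHom.ofInjective hφ).trans (e.trans iso.symm)⟩⟩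
    -- `f = 1` would make `G` a group of order six
    by_contra hlt
    obtain rfl : f = 1 := by omega
    have hc := Nat.card_congr ((MonoidHom.ofInjective hφ).trans (e.trans iso.symm)).toEquiv
    have hps := SL2.card_psl (F := F)
    rw [hF] at hps
    clear_value iso
    have h6 : Nat.card G = 6 := by
      rw [show Nat.gcd 2 (2 ^ 1 - 1) = 1 from rfl, one_mul] at hps
      rw [hc]; omega
    exact hG ⟨⟨fun a b => IsSimpleGroup.comm_iff_isSolvable.2
      (Cfsg.Agent.CT.isSolvable_of_card_two_primes Nat.prime_two Nat.prime_three _ G 1 1 rfl (by rw [h6]; norm_num)) a b⟩⟩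
  · have hodd : Fintype.card K % 2 = 1 := FiniteField.odd_card_of_char_ne_two hK2
    have hlt : Fintype.card K < 7 := by
      by_contra h
      refine PSL_not_CT hK2 (by omega) fun a b c ha hb hc hab hbc => ?_
      have hne : ∀ x, x ≠ 1 → e.symm x ≠ 1 := fun x hx h' => hx (e.symm.map_eq_one_iff.1 h')
      exact e.symm.injective (by
        rw [map_mul, map_mul]
        exact (hCT _ _ _ (hne a ha) (hne b hb) (hne c hc) (hab.map e.symm.toMonoidHom)
          (hbc.map e.symm.toMonoidHom)).eq)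
    have hc := Nat.card_congr e.toEquiv
    have hps := SL2.card_psl (F := K)
    have h1 : 1 < Fintype.card K := Fintype.one_lt_card
    rw [Nat.gcd_eq_left (show 2 ∣ Fintype.card K - 1 by omega)] at hps
    rcases (show Fintype.card K = 3 ∨ Fintype.card K = 5 by omega) with hq | hq <;> rw [hq] at hps
    · exfalso
      have h12 : Nat.card G = 12 := by rw [hc]; omega
      exact hG ⟨⟨fun a b => IsSimpleGroup.comm_iff_isSolvable.2
        (Cfsg.Agent.CT.isSolvable_of_card_two_primes Nat.prime_two Nat.prime_three _ G 2 1 rfl (by rw [h12]; norm_num)) a b⟩⟩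
    · have h60 : Nat.card G = 60 := by rw [hc]; omega
      let F := GaloisField 2 2
      haveI := Fintype.ofFinite F
      have hF : Fintype.card F = 2 ^ 2 := by
        rw [← Nat.card_eq_fintype_card]; exact GaloisField.card 2 2 (by norm_num)
      haveI : IsSimpleGroup (Matrix.ProjectiveSpecialLinearGroup (Fin 2) F) :=
        Matrix.ProjectiveSpecialLinearGroup.rank_two_simple (by rw [Nat.card_eq_fintype_card, hF]; norm_num)
      have h60' : Nat.card (Matrix.ProjectiveSpecialLinearGroup (Fin 2) F) = 60 := by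
        have := SL2.card_psl (F := F)
        rw [hF, show Nat.gcd 2 (2 ^ 2 - 1) = 1 from rfl, one_mul] at this
        omega
      obtain ⟨e1⟩ := SmallSimple.mulEquiv_alternating_five h60
      obtain ⟨e2⟩ := SmallSimple.mulEquiv_alternating_five h60'
      exact ⟨F, inferInstance, inferInstance, 2, le_rfl, hF, ⟨e1.trans e2.symm⟩⟩

end Cfsg.Agent.CommTrans
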