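import Cfsg.Agent.Lib.SL2.Principal
import Mathlib.NumberTheory.LegendreSymbol.Complex

/-!
# The cuspidal characters of `SL(2, q)`, `q` odd

For a character `θ` of a non-split torus `T = cent g0` put
`cusp θ = Ind λ₁ + Ind λ_ν - Ind θ`, the first two from the subgroup `±U`, the last from `T`.
Its values are `(q-1)θ(ε)` at scalars, `-θ(ε)` at the other elements of trace `2ε`, `0` on the
split torus and `-(θ + θ⁻¹)` on `T`.
-/

set_option autoImplicit false
set_option linter.unusedSectionVars false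

namespace Cfsg.Agent.SL2

open Matrix

variable {F : Type*} [Field F]

local notation "G" => Matrix.SpecialLinearGroup (Fin 2) F
local notation "M2" => Matrix (Fin 2) (Fin 2) F

/-- The subgroup `±U`. -/
def zu (F : Type*) [Field F] : Subgroup (Matrix.SpecialLinearGroup (Fin 2) F) where
  carrier := {g | (g : Matrix (Fin 2) (Fin 2) F) 1 0 = 0 ∧
    (g : Matrix (Fin 2) (Fin 2) F) 0 0 = (g : Matrix (Fin 2) (Fin 2) F) 1 1}
  mul_mem' := by
    rintro a b ⟨ha, ha'⟩ ⟨hb, hb'⟩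
    simp [Matrix.SpecialLinearGroup.coe_mul, Matrix.mul_apply, Fin.sum_univ_two, ha, hb, ← ha',
      ← hb']
  one_mem' := by simp
  inv_mem' := by
    rintro a ⟨ha, ha'⟩
    rw [Set.mem_ofPred_eq, coe_inv']
    simp [tr, ha, ← ha']

theorem mem_zu {g : G} : g ∈ zu F ↔ (g : M2) 1 0 = 0 ∧ (g : M2) 0 0 = (g : M2) 1 1 := Iff.rfl

theorem zu_sq {g : G} (hg : g ∈ zu F) : (g : M2) 0 0 = 1 ∨ (g : M2) 0 0 = -1 := by
  obtain ⟨h1, h2⟩ := hg
  have hd := det_eq g
  rw [h1, ← h2, mul_zero, sub_zero] at hd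
  exact mul_self_eq_one_iff.1 hd

/-- `-1` as an element of the torus. -/
def negOne (g0 : G) : cent g0 := ⟨-1, by rw [mem_cent]; simp⟩

theorem negOne_mul_self (g0 : G) : negOne g0 * negOne g0 = 1 :=
  Subtype.ext (neg_mul_neg (1 : G) 1 |>.trans (one_mul 1))

variable [DecidableEq F]

/-- `θ` at the scalar `ε ∈ {1, -1}`. -/
noncomputable def sgnAt {g0 : G} (θ : cent g0 →* ℂˣ) (ε : F) : ℂ :=
  if ε = 1 then 1 else ((θ (negOne g0) : ℂˣ) : ℂ)

section sgn

variable {g0 : Matrix.SpecialLinearGroup (Fin 2) F} (θ : cent g0 →* ℂˣ)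

theorem sgnAt_one : sgnAt θ (1 : F) = 1 := if_pos rfl

theorem sgnAt_neg_one (hne : (-1 : F) ≠ 1) : sgnAt θ (-1 : F) = ((θ (negOne g0) : ℂˣ) : ℂ) :=
  if_neg hne

theorem theta_neg_mul_self :
    ((θ (negOne g0) : ℂˣ) : ℂ) * ((θ (negOne g0) : ℂˣ) : ℂ) = 1 := by
  rw [← Units.val_mul, ← map_mul, negOne_mul_self, map_one, Units.val_one]

theorem theta_neg_sign :
    ((θ (negOne g0) : ℂˣ) : ℂ) = 1 ∨ ((θ (negOne g0) : ℂˣ) : ℂ) = -1 :=
  mul_self_eq_one_iff.1 (theta_neg_mul_self θ)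

theorem sgnAt_sign (ε : F) : sgnAt θ ε = 1 ∨ sgnAt θ ε = -1 := by
  unfold sgnAt
  split_ifs
  · exact Or.inl rfl
  · exact theta_neg_sign θ

theorem sgnAt_conj (ε : F) : (starRingEnd ℂ) (sgnAt θ ε) = sgnAt θ ε := by
  rcases sgnAt_sign θ ε with h | h <;> simp [h]

theorem sgnAt_mul {a b : F} (ha : a = 1 ∨ a = -1) (hb : b = 1 ∨ b = -1) :
    sgnAt θ (a * b) = sgnAt θ a * sgnAt θ b := by
  by_cases h : (-1 : F) = 1
  · have ha' : a = 1 := by rcases ha with rfl | rfl <;> simp [h]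
    have hb' : b = 1 := by rcases hb with rfl | rfl <;> simp [h]
    subst ha' hb'
    simp [sgnAt]
  rcases ha with rfl | rfl <;> rcases hb with rfl | rfl <;>
    simp [sgnAt, h, theta_neg_mul_self θ]

theorem theta_scal (c : cent g0) (hs : Scal (c : G)) :
    ((θ c : ℂˣ) : ℂ) = sgnAt θ (((c : G) : M2) 0 0) := by
  rcases (scal_iff _).1 hs with h | h
  · have hc : c = 1 := Subtype.ext h
    subst hc
    simp [sgnAt_one θ]
  · have hc : c = negOne g0 := Subtype.ext h
    subst hc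
    by_cases h1 : (-1 : F) = 1
    · have hn : negOne g0 = 1 := Subtype.ext (show (-1 : G) = 1 from ext4 (by simp [h1]) (by simp)
        (by simp) (by simp [h1]))
      rw [hn, map_one]
      simp [sgnAt_one θ]
    · rw [h]
      simp [sgnAt, h1]

end sgn

variable [Fintype F]

local notation "q" => Fintype.card F

/-- A fixed non-square. -/
noncomputable def nsq (F : Type*) [Field F] : F :=
  open Classical in if h : ∃ a : F, ¬ IsSquare a then h.choose else 0

theorem ringChar_ne_two (hodd : Odd q) : ringChar F ≠ 2 := fun h =>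
  Nat.not_even_iff_odd.2 hodd (Nat.even_iff.2 (FiniteField.even_card_of_char_two h))

theorem nsq_spec (hodd : Odd q) : ¬ IsSquare (nsq F) := by
  have h := FiniteField.exists_nonsquare (ringChar_ne_two hodd)
  rw [nsq, dif_pos h]
  exact h.choose_spec

theorem nsq_ne_zero (hodd : Odd q) : nsq F ≠ 0 := fun h => nsq_spec hodd (h ▸ IsSquare.zero)

/-- Squares and non-squares together cover the field twice. -/
theorem sum_sq_add_nsq (hodd : Odd q) (f : F → ℂ) :
    ∑ a : F, (f (a ^ 2) + f (nsq F * a ^ 2)) = 2 * ∑ y : F, f y := by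
  classical
  have hF := ringChar_ne_two hodd
  have hsq : ∀ g : F → ℂ, ∑ a : F, g (a ^ 2) = ∑ y : F, ((quadraticChar F y : ℂ) + 1) * g y := by
    intro g
    rw [← Finset.sum_fiberwise' Finset.univ (fun a : F => a ^ 2) g]
    refine Finset.sum_congr rfl fun y _ => ?_
    rw [Finset.sum_const, nsmul_eq_mul]
    congr 1
    have h := quadraticChar_card_sqrts hF y
    rw [Set.toFinset_ofPred] at h
    exact_mod_cast congrArg (Int.cast : ℤ → ℂ) h
  have hν : ∀ y : F, quadraticChar F (nsq F * y) = -quadraticChar F y := fun y => by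
    rw [map_mul, quadraticChar_neg_one_iff_not_isSquare.2 (nsq_spec hodd), neg_one_mul]
  rw [Finset.sum_add_distrib, hsq f, hsq (fun y => f (nsq F * y)),
    show ∑ y : F, ((quadraticChar F y : ℂ) + 1) * f (nsq F * y) =
      ∑ y : F, (-(quadraticChar F y : ℂ) + 1) * f y from
      Fintype.sum_equiv (Equiv.mulLeft₀ (nsq F) (nsq_ne_zero hodd)) _ _ fun y => by
        simp [hν],
    ← Finset.sum_add_distrib, Finset.mul_sum]
  exact Finset.sum_congr rfl fun y _ => by ring

/-- A primitive additive character. -/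
noncomputable def psi (F : Type*) [Field F] [Fintype F] : AddChar F ℂ :=
  AddChar.FiniteField.primitiveChar_to_Complex F

theorem sum_psi_mul {r : F} (hr : r ≠ 0) : ∑ x : F, psi F (x * r) = 0 := by
  unfold psi
  rw [AddChar.sum_mulShift r (AddChar.FiniteField.primitiveChar_to_Complex_isPrimitive F 
    : (AddChar.FiniteField.primitiveChar_to_Complex F).IsPrimitive),
    if_neg hr, Nat.cast_zero]

section zuChar

variable {g0 : Matrix.SpecialLinearGroup (Fin 2) F} (θ : cent g0 →* ℂˣ)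

/-- The linear character of `±U` attached to `θ (-1)` and `c`. -/
noncomputable def zuVal (c : F) (g : G) : ℂ :=
  sgnAt θ ((g : M2) 0 0) * psi F (c * ((g : M2) 0 0 * (g : M2) 0 1))

/-- `zuVal` as a homomorphism. -/
noncomputable def zuHom (c : F) : zu F →* ℂ where
  toFun b := zuVal θ c b
  map_one' := by simp [zuVal, sgnAt_one θ]
  map_mul' a b := by
    have h00 : (((a * b : zu F) : G) : M2) 0 0 = ((a : G) : M2) 0 0 * ((b : G) : M2) 0 0 := by
      simp [Subgroup.coe_mul, Matrix.SpecialLinearGroup.coe_mul, Matrix.mul_apply,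
        Fin.sum_univ_two, (mem_zu.1 b.2).1]
    have h01 : (((a * b : zu F) : G) : M2) 0 1 =
        ((a : G) : M2) 0 0 * ((b : G) : M2) 0 1 + ((a : G) : M2) 0 1 * ((b : G) : M2) 0 0 := by
      simp [Subgroup.coe_mul, Matrix.SpecialLinearGroup.coe_mul, Matrix.mul_apply,
        Fin.sum_univ_two, (mem_zu.1 b.2).2]
    have ha : ((a : G) : M2) 0 0 * ((a : G) : M2) 0 0 = 1 := by
      rcases zu_sq a.2 with h | h <;> rw [h] <;> ring
    have hb : ((b : G) : M2) 0 0 * ((b : G) : M2) 0 0 = 1 := by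
      rcases zu_sq b.2 with h | h <;> rw [h] <;> ring
    simp only [zuVal]
    rw [h00, h01, sgnAt_mul θ (zu_sq a.2) (zu_sq b.2),
      show c * (((a : G) : M2) 0 0 * ((b : G) : M2) 0 0 *
        (((a : G) : M2) 0 0 * ((b : G) : M2) 0 1 + ((a : G) : M2) 0 1 * ((b : G) : M2) 0 0)) =
        c * (((a : G) : M2) 0 0 * ((a : G) : M2) 0 1) +
          c * (((b : G) : M2) 0 0 * ((b : G) : M2) 0 1) by
        linear_combination c * ((b : G) : M2) 0 0 * ((b : G) : M2) 0 1 * ha +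
          c * ((a : G) : M2) 0 0 * ((a : G) : M2) 0 1 * hb,
      AddChar.map_add_eq_mul]
    ring

/-- The induced character of `zuHom`. -/
noncomputable def indU (c : F) : G → ℂ := Cfsg.indFun (zu F) (fun b => zuHom θ c b)

theorem extend_zu (c : F) (y : G) :
    Cfsg.extendByZero (zu F) (fun b => zuHom θ c b) y =
      if (y : M2) 1 0 = 0 ∧ (y : M2) 0 0 = (y : M2) 1 1 then zuVal θ c y else 0 := by
  classical
  split_ifs with h
  · exact Subtype.val_injective.extend_apply _ _ (⟨y, h⟩ : zu F)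
  · exact Function.extend_apply' _ _ _ fun ⟨b, hb⟩ => h (hb ▸ b.2)

theorem card_zu (hodd : Odd q) : Nat.card (zu F) = 2 * q := by
  have e : Nat.card (zu F) = Nat.card ({s : F // s ^ 2 = 1} × F) := ?_
  · rw [e, Nat.card_prod, card_sq_one hodd, nat_card_F]
  refine Nat.card_congr
    { toFun := fun b => (⟨((b : G) : M2) 0 0, by
        rcases zu_sq b.2 with h | h <;> rw [h] <;> ring⟩, ((b : G) : M2) 0 1)
      invFun := fun w => ⟨⟨!![(w.1 : F), w.2; 0, (w.1 : F)], by
        rw [Matrix.det_fin_two]; simp; linear_combination w.1.2⟩, mem_zu.2 ⟨rfl, rfl⟩⟩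
      left_inv := fun b => Subtype.ext (ext4 (by simp) (by simp) (by simp [(mem_zu.1 b.2).1])
        (by simp [(mem_zu.1 b.2).2]))
      right_inv := fun w => by simp }

theorem indU_scal (hodd : Odd q) (c : F) {g : G} (hg : Scal g) :
    indU θ c g = (((q : ℂ) ^ 2 - 1) / 2) * sgnAt θ ((g : M2) 0 0) := by
  rw [indU, Cfsg.indFun]
  simp only [extend_zu]
  have e : ∀ x : G, x⁻¹ * g * x = g := fun x => by
    have := scal_conj hg x⁻¹
    rwa [inv_inv] at this
  simp only [e]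
  rw [if_pos ⟨hg.2.1, hg.2.2⟩, zuVal, hg.1, mul_zero, mul_zero, AddChar.map_zero_eq_one, mul_one,
    Finset.sum_const, Finset.card_univ, nsmul_eq_mul, ← mul_assoc,
    ← Nat.card_eq_fintype_card (α := Matrix.SpecialLinearGroup (Fin 2) F),
    card_G, card_zu hodd]
  have hq := two_le_q (F := F)
  have h1 : (q : ℂ) ≠ 0 := by exact_mod_cast (by omega : q ≠ 0)
  push_cast [Nat.cast_sub (by omega : 1 ≤ q)]
  field_simp
  ring

theorem indU_eq_zero (c : F) {g : G} (ht : tr g ^ 2 ≠ 4) : indU θ c g = 0 := by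
  rw [indU, Cfsg.indFun]
  simp only [extend_zu]
  rw [Finset.sum_eq_zero, mul_zero]
  intro x _
  rw [if_neg]
  intro h
  apply ht
  have he : tr (x⁻¹ * g * x) = tr g := by
    have := tr_conj g x⁻¹
    rwa [inv_inv] at this
  rw [← he, tr, ← h.2]
  rcases zu_sq (g := x⁻¹ * g * x) h with h' | h' <;> rw [h'] <;> ring

theorem indU_upper (hodd : Odd q) (c : F) {g : G} (h : (g : M2) 1 0 = 0)
    (he : (g : M2) 0 0 = (g : M2) 1 1) (hs : (g : M2) 0 1 ≠ 0) :
    indU θ c g = sgnAt θ ((g : M2) 0 0) / 2 *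
      (∑ a : F, psi F (c * ((g : M2) 0 0 * (g : M2) 0 1) * a ^ 2) - 1) := by
  classical
  rw [indU, Cfsg.indFun]
  simp only [extend_zu]
  set k : F := c * ((g : M2) 0 0 * (g : M2) 0 1) with hk
  set s : ℂ := sgnAt θ ((g : M2) 0 0) with hsdef
  have key : ∀ x : G, (if ((x⁻¹ * g * x : G) : M2) 1 0 = 0 ∧
      ((x⁻¹ * g * x : G) : M2) 0 0 = ((x⁻¹ * g * x : G) : M2) 1 1 then zuVal θ c (x⁻¹ * g * x)
      else 0) = if (x : M2) 1 0 = 0 then s * psi F (k * (x : M2) 1 1 ^ 2) else 0 := by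
    intro x
    have hd := det_eq x
    have e10 : ((x⁻¹ * g * x : G) : M2) 1 0 = -(g : M2) 0 1 * (x : M2) 1 0 ^ 2 := by
      rw [Matrix.SpecialLinearGroup.coe_mul, Matrix.SpecialLinearGroup.coe_mul, coe_inv']
      simp [tr, Matrix.mul_apply, Fin.sum_univ_two, h, ← he]
      ring
    by_cases hx : (x : M2) 1 0 = 0
    · rw [if_pos hx]
      rw [hx, mul_zero, sub_zero] at hd
      have e00 : ((x⁻¹ * g * x : G) : M2) 0 0 = (g : M2) 0 0 := by
        rw [Matrix.SpecialLinearGroup.coe_mul, Matrix.SpecialLinearGroup.coe_mul, coe_inv']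
        simp [tr, Matrix.mul_apply, Fin.sum_univ_two, h, ← he, hx]
        linear_combination (g : M2) 0 0 * hd
      have e11 : ((x⁻¹ * g * x : G) : M2) 1 1 = (g : M2) 0 0 := by
        rw [Matrix.SpecialLinearGroup.coe_mul, Matrix.SpecialLinearGroup.coe_mul, coe_inv']
        simp [tr, Matrix.mul_apply, Fin.sum_univ_two, h, ← he, hx]
        linear_combination (g : M2) 0 0 * hd
      have e01 : ((x⁻¹ * g * x : G) : M2) 0 1 = (g : M2) 0 1 * (x : M2) 1 1 ^ 2 := by
        rw [Matrix.SpecialLinearGroup.coe_mul, Matrix.SpecialLinearGroup.coe_mul, coe_inv']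
        simp [tr, Matrix.mul_apply, Fin.sum_univ_two, h, ← he, hx]
        ring
      rw [if_pos ⟨by rw [e10, hx]; ring, by rw [e00, e11]⟩, zuVal, e00, e01, hsdef, hk]
      congr 2
      ring
    · rw [if_neg hx, if_neg]
      rintro ⟨h1, -⟩
      rw [e10] at h1
      exact mul_ne_zero (neg_ne_zero.2 hs) (pow_ne_zero 2 hx) h1
  rw [Finset.sum_congr rfl (fun x _ => key x), ← Finset.sum_filter,
    Finset.sum_subtype _ (p := fun x : G => (x : M2) 1 0 = 0) (by simp),
    Fintype.sum_equiv upperEquiv _ (fun v : Fˣ × F => s * psi F (k * ((v.1 : F)⁻¹) ^ 2))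
      (fun x => by simp [upperEquiv, (upper_root x.2).2.2]),
    Fintype.sum_prod_type]
  simp only [Finset.sum_const, Finset.card_univ, nsmul_eq_mul]
  rw [← Finset.mul_sum, ← Finset.mul_sum, card_zu hodd]
  have hsum : ∑ a : Fˣ, psi F (k * ((a : F)⁻¹) ^ 2) = ∑ a : F, psi F (k * a ^ 2) - 1 := by
    rw [← Finset.add_sum_erase _ _ (Finset.mem_univ (0 : F)), zero_pow two_ne_zero, mul_zero,
      AddChar.map_zero_eq_one, add_sub_cancel_left]
    refine Finset.sum_nbij (fun a : Fˣ => (a : F)⁻¹) (fun a _ => by simp)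
      (fun a _ b _ h => Units.ext (inv_injective h)) (fun x hx => ?_) fun a _ => rfl
    simp at hx
    exact ⟨(Units.mk0 x hx)⁻¹, by simp⟩
  rw [hsum]
  have hq := two_le_q (F := F)
  have h1 : (q : ℂ) ≠ 0 := by exact_mod_cast (by omega : q ≠ 0)
  push_cast
  field_simp

end zuChar

/-- The virtual character `Ind λ₁ + Ind λ_ν - Ind θ`. -/
noncomputable def cusp {g0 : G} (θ : cent g0 →* ℂˣ) : G → ℂ :=
  indU θ 1 + indU θ (nsq F) - Cfsg.indFun (cent g0) (fun c => ((θ c : ℂˣ) : ℂ))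

section cuspVal

variable {g0 : Matrix.SpecialLinearGroup (Fin 2) F} (θ : cent g0 →* ℂˣ)

theorem isGen_cusp : Cfsg.IsGeneralizedCharacter G (cusp θ) := by
  classical
  have hU : ∀ c : F, Cfsg.IsCharacter (zu F) (fun b => zuHom θ c b) := fun c => by
    have := CT.isCharacter_lin (zuHom θ c).toHomUnits
    simpa using this
  exact CT.isGen_sub (CT.isGen_add
      (CT.isGen_of_isCharacter (CT.isCharacter_indFun _ (hU 1)))
      (CT.isGen_of_isCharacter (CT.isCharacter_indFun _ (hU _))))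
    (CT.isGen_of_isCharacter (CT.isCharacter_indFun _ (CT.isCharacter_lin θ)))

theorem cusp_conj (g x : G) : cusp θ (x * g * x⁻¹) = cusp θ g :=
  CT.isClassFunction_of_isGen (isGen_cusp θ) g x

theorem extend_cent (y : G) [Decidable (y ∈ cent g0)] :
    Cfsg.extendByZero (cent g0) (fun c => ((θ c : ℂˣ) : ℂ)) y =
      if h : y ∈ cent g0 then ((θ ⟨y, h⟩ : ℂˣ) : ℂ) else 0 := by
  split_ifs with h
  · exact CT.extendByZero_mem _ _ h
  · exact CT.extendByZero_not_mem _ _ h

theorem cusp_scal (hodd : Odd q) (h0 : NoEig g0) {g : G} (hg : Scal g) :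
    cusp θ g = ((q : ℂ) - 1) * sgnAt θ ((g : M2) 0 0) := by
  classical
  have hmem : g ∈ cent g0 := by
    rw [mem_cent]
    exact (Subgroup.mem_center_iff.1 ((scal_iff_mem_center g).1 hg) g0)
  simp only [cusp, Pi.sub_apply, Pi.add_apply, indU_scal θ hodd _ hg]
  rw [Cfsg.indFun]
  simp only [extend_cent θ]
  have e : ∀ x : G, x⁻¹ * g * x = g := fun x => by
    have := scal_conj hg x⁻¹
    rwa [inv_inv] at this
  simp only [e, dif_pos hmem, theta_scal θ ⟨g, hmem⟩ hg]
  rw [Finset.sum_const, Finset.card_univ, nsmul_eq_mul, ← mul_assoc,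
    ← Nat.card_eq_fintype_card (α := Matrix.SpecialLinearGroup (Fin 2) F),
    card_G, (card_cent_noEig h0).1]
  have hq := two_le_q (F := F)
  have h1 : (q : ℂ) + 1 ≠ 0 := by exact_mod_cast (by omega : q + 1 ≠ 0)
  push_cast [Nat.cast_sub (by omega : 1 ≤ q)]
  field_simp
  ring

theorem cusp_upper (hodd : Odd q) (h0 : NoEig g0) {g : G} (h : (g : M2) 1 0 = 0)
    (he : (g : M2) 0 0 = (g : M2) 1 1) (hs : (g : M2) 0 1 ≠ 0) :
    cusp θ g = -sgnAt θ ((g : M2) 0 0) := by
  classical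
  have hT : Cfsg.indFun (cent g0) (fun c => ((θ c : ℂˣ) : ℂ)) g = 0 := by
    refine CT.indFun_eq_zero_of_not_conj_mem _ _ fun x hx => ?_
    have hsg : ¬ Scal g := fun hh => hs hh.1
    have hs' := not_scal_conj hsg x⁻¹
    rw [inv_inv] at hs'
    have hn := (noEig_conj g x⁻¹).1 (by rw [inv_inv]; exact noEig_of_mem_cent h0 hx hs')
    exact (noEig_iff _).1 hn _ (upper_root h).1
  simp only [cusp, Pi.sub_apply, Pi.add_apply, indU_upper θ hodd _ h he hs, hT, sub_zero, one_mul]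
  set k : F := (g : M2) 0 0 * (g : M2) 0 1 with hk
  have hk0 : k ≠ 0 := mul_ne_zero (upper_root h).2.1 hs
  have h2 := sum_sq_add_nsq hodd (fun y => psi F (y * k))
  rw [sum_psi_mul hk0, mul_zero, Finset.sum_add_distrib] at h2
  have e1 : ∑ a : F, psi F (k * a ^ 2) = ∑ a : F, psi F (a ^ 2 * k) := by
    simp only [mul_comm k]
  have e2 : ∑ a : F, psi F (nsq F * k * a ^ 2) = ∑ a : F, psi F (nsq F * a ^ 2 * k) :=
    Finset.sum_congr rfl fun a _ => by ring_nf
  rw [e1, e2]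
  linear_combination (sgnAt θ ((g : M2) 0 0) / 2) * h2

theorem cusp_unip (hodd : Odd q) (h0 : NoEig g0) {ε : F} (hε : ε ^ 2 = 1) {g : G}
    (hg : ¬ Scal g) (ht : tr g = 2 * ε) : cusp θ g = -sgnAt θ ε := by
  obtain ⟨ε', s, P, -, hs, ht', hP⟩ := exists_unip_conj hg (by rw [ht]; linear_combination 4 * hε)
  have he : ε' = ε := mul_left_cancel₀ (two_ne_zero' hodd) (ht'.symm.trans ht)
  subst he
  have h := cusp_conj θ g P⁻¹
  rw [inv_inv] at h
  rw [← h, cusp_upper θ hodd h0 (by rw [hP]; simp) (by rw [hP]; simp) (by rw [hP]; simpa using hs),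
    hP]
  simp

theorem cusp_diag (h0 : NoEig g0) {a : Fˣ} (ha : (a : F) ^ 2 ≠ 1) : cusp θ (dd a) = 0 := by
  classical
  have hT : Cfsg.indFun (cent g0) (fun c => ((θ c : ℂˣ) : ℂ)) (dd a) = 0 := by
    refine CT.indFun_eq_zero_of_not_conj_mem _ _ fun x hx => not_noEig_dd a ?_
    have hsg : ¬ Scal (dd a) := fun hh => ha ((scal_dd_iff a).1 hh)
    have hs' := not_scal_conj hsg x⁻¹
    rw [inv_inv] at hs'
    exact (noEig_conj (dd a) x⁻¹).1 (by rw [inv_inv]; exact noEig_of_mem_cent h0 hx hs')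
  simp only [cusp, Pi.sub_apply, Pi.add_apply, indU_eq_zero θ _ (tr_sq_dd ha), hT, add_zero,
    sub_zero]

theorem cusp_cent (h0 : NoEig g0) (c : cent g0) (hc : ¬ Scal (c : G)) :
    cusp θ (c : G) = -(((θ c : ℂˣ) : ℂ) + ((θ c⁻¹ : ℂˣ) : ℂ)) := by
  classical
  obtain ⟨ht, hcc⟩ := tr_sq_of_cent h0 c.2 hc
  simp only [cusp, Pi.sub_apply, Pi.add_apply, indU_eq_zero θ _ ht, add_zero, zero_sub]
  congr 1
  rw [Cfsg.indFun]
  obtain ⟨w, hw⟩ := exists_invert ht
  have hne : (c : G) ≠ (c : G)⁻¹ := ne_inv ht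
  have hmemc : ∀ y : G, y ∈ cent g0 ↔ (c : G) * y = y * c := fun y => by
    rw [← SetLike.ext_iff.1 hcc y, mem_cent]
  have key : ∀ x : G, Cfsg.extendByZero (cent g0) (fun d => ((θ d : ℂˣ) : ℂ))
      (x⁻¹ * (c : G) * x) =
      (if x ∈ cent g0 then ((θ c : ℂˣ) : ℂ) else 0) +
        (if w⁻¹ * x ∈ cent g0 then ((θ c⁻¹ : ℂˣ) : ℂ) else 0) := by
    intro x
    have hxT : x ∈ cent g0 ↔ x * (c : G) * x⁻¹ = c := by
      rw [hmemc, mul_inv_eq_iff_eq_mul]
      exact eq_comm
    have hwx : w⁻¹ * x ∈ cent g0 ↔ x * (c : G) * x⁻¹ = (c : G)⁻¹ := by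
      rw [hmemc, ← hw]
      constructor
      · intro h
        rw [show x * (c : G) * x⁻¹ = w * ((w⁻¹ * x) * (c : G) * (w⁻¹ * x)⁻¹) * w⁻¹ by group, ← h]
        group
      · intro h
        rw [show (w⁻¹ * x) * (c : G) = w⁻¹ * (x * (c : G) * x⁻¹) * x by group, h]
        group
    by_cases hy : x⁻¹ * (c : G) * x ∈ cent g0
    · rw [CT.extendByZero_mem _ _ hy]
      have hs' := not_scal_conj hc x⁻¹
      rw [inv_inv] at hs'
      have hn : x ∈ Subgroup.normalizer (cent (c : G) : Set G) := by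
        rw [Subgroup.mem_normalizer_iff]
        intro z
        have h2 : cent (x⁻¹ * (c : G) * x⁻¹⁻¹) = cent (c : G) := by
          rw [inv_inv]; exact (tr_sq_of_cent h0 hy hs').2.trans hcc.symm
        exact (SetLike.ext_iff.1 h2 z).symm.trans (by rw [cent_conj, inv_inv])
      rcases (mem_normalizer_cent ht).1 hn with h | h
      · rw [if_pos (hxT.2 h), if_neg (fun h' => hne (h.symm.trans (hwx.1 h'))), add_zero]
        congr 2
        refine Subtype.ext ?_
        show x⁻¹ * (c : G) * x = c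
        conv_lhs => rw [← h]
        group
      · rw [if_neg (fun h' => hne ((hxT.1 h').symm.trans h)), if_pos (hwx.2 h), zero_add]
        congr 2
        refine Subtype.ext ?_
        show x⁻¹ * (c : G) * x = (c : G)⁻¹
        have h' : (x * (c : G) * x⁻¹)⁻¹ = c := by rw [h, inv_inv]
        conv_lhs => rw [← h']
        group
    · rw [CT.extendByZero_not_mem _ _ hy, if_neg, if_neg, add_zero]
      · intro h
        apply hy
        have := hwx.1 h
        have e : x⁻¹ * (c : G) * x = (c : G)⁻¹ := by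
          have h' : (x * (c : G) * x⁻¹)⁻¹ = c := by rw [this, inv_inv]
          conv_lhs => rw [← h']
          group
        rw [e]
        exact (cent g0).inv_mem c.2
      · intro h
        apply hy
        exact (cent g0).mul_mem ((cent g0).mul_mem ((cent g0).inv_mem h) c.2) h
  have c1 : (Finset.univ.filter fun x : G => x ∈ cent g0).card = Nat.card (cent g0) := by
    rw [← Fintype.card_subtype, ← Nat.card_eq_fintype_card]
  have c2 : (Finset.univ.filter fun x : G => w⁻¹ * x ∈ cent g0).card = Nat.card (cent g0) := by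
    rw [← c1]
    exact Finset.card_equiv (Equiv.mulLeft w⁻¹) fun x => by simp
  rw [Finset.sum_congr rfl (fun x _ => key x), Finset.sum_add_distrib, ← Finset.sum_filter,
    ← Finset.sum_filter, Finset.sum_const, Finset.sum_const, c1, c2, ← smul_add, nsmul_eq_mul,
    ← mul_assoc, inv_mul_cancel₀, one_mul]
  exact_mod_cast Nat.card_pos.ne'

theorem cusp_one (hodd : Odd q) (h0 : NoEig g0) : cusp θ 1 = (q : ℂ) - 1 := by
  rw [cusp_scal θ hodd h0 ((scal_iff (1 : G)).2 (Or.inl rfl))]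
  simp [sgnAt_one θ]

theorem cusp_neg_one (hodd : Odd q) (h0 : NoEig g0) :
    cusp θ (-1) = ((q : ℂ) - 1) * sgnAt θ (-1 : F) := by
  rw [cusp_scal θ hodd h0 ((scal_iff (-1 : G)).2 (Or.inr rfl))]
  simp

end cuspVal

section orth

variable {g0 : Matrix.SpecialLinearGroup (Fin 2) F}

theorem theta_inv (θ : cent g0 →* ℂˣ) (c : cent g0) :
    ((θ c⁻¹ : ℂˣ) : ℂ) = (starRingEnd ℂ) ((θ c : ℂˣ) : ℂ) :=
  CT.char_inv_eq_conj (CT.isCharacter_lin θ) c

theorem sum_theta (hodd : Odd q) (h0 : NoEig g0) (θ : cent g0 →* ℂˣ) [Decidable (θ = 1)]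
    [Fintype (cent g0)] :
    ∑ c : cent g0, ((θ c : ℂˣ) : ℂ) = if θ = 1 then (q : ℂ) + 1 else 0 := by
  classical
  have h := sum_hom_units ((Units.coeHom ℂ).comp θ)
  simp only [MonoidHom.comp_apply, Units.coeHom_apply] at h
  rw [h]
  have hiff : (Units.coeHom ℂ).comp θ = 1 ↔ θ = 1 := by
    constructor
    · intro e
      refine MonoidHom.ext fun c => Units.ext ?_
      simpa using congrArg (fun f : cent g0 →* ℂ => f c) e
    · rintro rfl; ext; simp
  split_ifs with h1 h2 h2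
  · rw [← Nat.card_eq_fintype_card, (card_cent_noEig h0).1]; push_cast; ring
  · exact absurd (hiff.1 h1) h2
  · exact absurd (hiff.2 h2) h1
  · exact Nat.cast_zero

theorem sum_cent_split [Fintype (cent g0)] (hodd : Odd q) (Y : cent g0 → ℂ)
    [DecidablePred fun c : G => c ∈ cent g0 ∧ ¬ Scal c] (f : G → ℂ)
    (hf : ∀ c : cent g0, ¬ Scal (c : G) → f c = Y c) :
    ∑ c ∈ Finset.univ.filter (fun c : G => c ∈ cent g0 ∧ ¬ Scal c), f c =
      ∑ c : cent g0, Y c - (Y 1 + Y (negOne g0)) := by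
  classical
  have hne : (1 : cent g0) ≠ negOne g0 := by
    intro h
    have := congrArg (fun c : cent g0 => ((c : G) : M2) 0 0) h
    simp [negOne] at this
    exact two_ne_zero' hodd (by linear_combination this)
  have hsc : Finset.univ.filter (fun c : cent g0 => Scal (c : G)) = {1, negOne g0} := by
    ext c
    simp only [Finset.mem_filter, Finset.mem_univ, true_and, Finset.mem_insert,
      Finset.mem_singleton, scal_iff, Subtype.ext_iff, negOne, Subgroup.coe_one]
  rw [← Finset.sum_pair hne, ← hsc, eq_sub_iff_add_eq,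
    ← Finset.sum_filter_add_sum_filter_not Finset.univ (fun c : cent g0 => Scal (c : G)) Y,
    add_comm]
  congr 1
  refine (Finset.sum_bij (fun (c : cent g0) _ => (c : G)) (fun c hc => ?_)
    (fun a _ b _ h => Subtype.ext h) (fun b hb => ?_) fun c hc => ?_).symm
  · simp only [Finset.mem_filter, Finset.mem_univ, true_and] at hc ⊢
    exact ⟨c.2, hc⟩
  · simp only [Finset.mem_filter, Finset.mem_univ, true_and] at hb
    exact ⟨⟨b, hb.1⟩, by simpa using hb.2, rfl⟩
  · exact (hf c (Finset.mem_filter.1 hc).2).symm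

theorem inner_cusp (hodd : Odd q) (h0 : NoEig g0) (θ θ' : cent g0 →* ℂˣ)
    [Decidable (θ = θ')] [Decidable (θ = θ'⁻¹)] :
    Cfsg.classInner (cusp θ) (cusp θ') =
      (if θ = θ' then 1 else 0) + (if θ = θ'⁻¹ then 1 else 0) := by
  classical
  set f : G → ℂ := fun g => cusp θ g * (starRingEnd ℂ) (cusp θ' g) with hf
  have hcl : ∀ g x : G, f (x * g * x⁻¹) = f g := fun g x => by simp only [hf, cusp_conj]
  have hu : ∀ (ε : F) (g : G), ε ^ 2 = 1 → ¬ Scal g → tr g = 2 * ε →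
      f g = sgnAt θ ε * sgnAt θ' ε := fun ε g hε hs ht => by
    simp only [hf, cusp_unip _ hodd h0 hε hs ht, map_neg, sgnAt_conj θ' ε]
    ring
  have hsum := sum_classFun hodd h0 f hcl 1 (sgnAt θ (-1 : F) * sgnAt θ' (-1 : F))
    (fun g hs ht => (hu 1 g (one_pow 2) hs (by rw [ht, mul_one])).trans (by
      rw [sgnAt_one θ, sgnAt_one θ', mul_one]))
    (fun g hs ht => hu (-1) g (by ring) hs (by rw [ht]; ring))
  have h1 : f 1 = ((q : ℂ) - 1) ^ 2 := by
    simp only [hf, cusp_one _ hodd h0, map_sub, map_one, Complex.conj_natCast]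
    ring
  have h2 : f (-1) = ((q : ℂ) - 1) ^ 2 * (sgnAt θ (-1 : F) * sgnAt θ' (-1 : F)) := by
    simp only [hf, cusp_neg_one _ hodd h0, map_mul, map_sub, map_one, Complex.conj_natCast,
      sgnAt_conj θ' (-1 : F)]
    ring
  have hD : ∑ a ∈ Finset.univ.filter (fun a : Fˣ => (a : F) ^ 2 ≠ 1), f (dd a) = 0 :=
    Finset.sum_eq_zero fun a ha => by
      simp only [hf, cusp_diag θ h0 (Finset.mem_filter.1 ha).2, zero_mul]
  set Y : cent g0 → ℂ := fun c => (((θ * θ' : cent g0 →* ℂˣ) c : ℂˣ) : ℂ) +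
    ((((θ * θ')⁻¹ : cent g0 →* ℂˣ) c : ℂˣ) : ℂ) + (((θ * θ'⁻¹ : cent g0 →* ℂˣ) c : ℂˣ) : ℂ) +
    ((((θ * θ'⁻¹)⁻¹ : cent g0 →* ℂˣ) c : ℂˣ) : ℂ) with hY
  have hT : ∑ c ∈ Finset.univ.filter (fun c : G => c ∈ cent g0 ∧ ¬ Scal c), f c =
      ∑ c : cent g0, Y c - (Y 1 + Y (negOne g0)) := by
    refine sum_cent_split hodd Y f fun c hc => ?_
    have k1 : (starRingEnd ℂ) ((θ' c : ℂˣ) : ℂ) = (((θ' c)⁻¹ : ℂˣ) : ℂ) := by
      rw [← theta_inv, map_inv]
    have k2 : (starRingEnd ℂ) (((θ' c)⁻¹ : ℂˣ) : ℂ) = ((θ' c : ℂˣ) : ℂ) := by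
      rw [← k1, Complex.conj_conj]
    simp only [hf, hY, cusp_cent _ h0 c hc, map_neg, map_add, map_inv, k1, k2, inv_inv,
      MonoidHom.mul_apply, MonoidHom.inv_apply, Units.val_mul, mul_inv]
    ring
  have hYs : Y 1 + Y (negOne g0) = 4 + 4 * (sgnAt θ (-1 : F) * sgnAt θ' (-1 : F)) := by
    have hne : (-1 : F) ≠ 1 := fun h => two_ne_zero' hodd (by linear_combination -h)
    have hi : ∀ η : cent g0 →* ℂˣ, ((η (negOne g0))⁻¹ : ℂˣ) = η (negOne g0) := fun η => by
      rw [inv_eq_iff_mul_eq_one, ← map_mul, negOne_mul_self, map_one]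
    simp only [hY, sgnAt_neg_one θ hne, sgnAt_neg_one θ' hne, MonoidHom.mul_apply,
      MonoidHom.inv_apply, map_one, inv_one, mul_inv, hi, Units.val_mul, Units.val_one]
    ring
  have hall : ∑ c : cent g0, Y c = ((q : ℂ) + 1) *
      (2 * (if θ = θ' then (1 : ℂ) else 0) + 2 * (if θ = θ'⁻¹ then (1 : ℂ) else 0)) := by
    have hi1 : ∀ η : cent g0 →* ℂˣ, η⁻¹ = 1 ↔ η = 1 := fun η =>
      inv_eq_one (α := cent g0 →* ℂˣ)
    have hi2 : ∀ η η' : cent g0 →* ℂˣ, η * η'⁻¹ = 1 ↔ η = η' := fun η η' =>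
      ⟨fun h => MonoidHom.ext fun c => by
        simpa [mul_inv_eq_one] using congrArg (fun e : cent g0 →* ℂˣ => e c) h,
      fun h => MonoidHom.ext fun c => by simp [h]⟩
    have hi3 : ∀ η η' : cent g0 →* ℂˣ, η * η' = 1 ↔ η = η'⁻¹ := fun η η' =>
      ⟨fun h => MonoidHom.ext fun c => by
        simpa [mul_eq_one_iff_eq_inv] using congrArg (fun e : cent g0 →* ℂˣ => e c) h,
      fun h => MonoidHom.ext fun c => by simp [h]⟩
    simp only [hY, Finset.sum_add_distrib, sum_theta hodd h0]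
    simp only [hi1, hi2, hi3]
    split_ifs <;> ring
  rw [h1, h2, hD, hT, hall, hYs] at hsum
  have hq := two_le_q (F := F)
  have hG : (Nat.card G : ℂ) = (q : ℂ) * (((q : ℂ) - 1) * ((q : ℂ) + 1)) := by
    rw [card_G]; push_cast [Nat.cast_sub (by omega : 1 ≤ q)]; ring
  have hGne : (Nat.card G : ℂ) ≠ 0 := by exact_mod_cast Nat.card_pos.ne'
  rw [Cfsg.classInner, inv_mul_eq_iff_eq_mul₀ hGne, hG]
  linear_combination (hsum : _) / 2

theorem inner_princ_cusp (hodd : Odd q) (h0 : NoEig g0) (α : MulChar F ℂ)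
    (θ : cent g0 →* ℂˣ) : Cfsg.classInner (princ α) (cusp θ) = 0 := by
  classical
  set f : G → ℂ := fun g => princ α g * (starRingEnd ℂ) (cusp θ g) with hf
  have hcl : ∀ g x : G, f (x * g * x⁻¹) = f g := fun g x => by
    simp only [hf, cusp_conj, princ_conj]
  have hu : ∀ (ε : F) (g : G), ε ^ 2 = 1 → ¬ Scal g → tr g = 2 * ε →
      f g = -(α ε * sgnAt θ ε) := fun ε g hε hs ht => by
    simp only [hf, princ_unip hodd _ hε hs ht, cusp_unip _ hodd h0 hε hs ht, map_neg,
      sgnAt_conj θ ε]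
    ring
  have hsum := sum_classFun hodd h0 f hcl (-1) (-(α (-1) * sgnAt θ (-1 : F)))
    (fun g hs ht => (hu 1 g (one_pow 2) hs (by rw [ht, mul_one])).trans (by
      rw [sgnAt_one θ, map_one, mul_one]))
    (fun g hs ht => hu (-1) g (by ring) hs (by rw [ht]; ring))
  have h1 : f 1 = ((q : ℂ) + 1) * ((q : ℂ) - 1) := by
    simp only [hf, cusp_one _ hodd h0, princ_scal _ ((scal_iff (1 : G)).2 (Or.inl rfl))]
    simp [Complex.conj_natCast]
  have h2 : f (-1) = ((q : ℂ) + 1) * ((q : ℂ) - 1) * (α (-1) * sgnAt θ (-1 : F)) := by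
    simp only [hf, cusp_neg_one _ hodd h0, princ_scal _ ((scal_iff (-1 : G)).2 (Or.inr rfl))]
    simp [Complex.conj_natCast, sgnAt_conj θ (-1 : F)]
    ring
  have hD : ∑ a ∈ Finset.univ.filter (fun a : Fˣ => (a : F) ^ 2 ≠ 1), f (dd a) = 0 :=
    Finset.sum_eq_zero fun a ha => by
      simp only [hf, cusp_diag θ h0 (Finset.mem_filter.1 ha).2, map_zero, mul_zero]
  have hT : ∑ c ∈ Finset.univ.filter (fun c : G => c ∈ cent g0 ∧ ¬ Scal c), f c = 0 :=
    Finset.sum_eq_zero fun c hc => by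
      have hc' := (Finset.mem_filter.1 hc).2
      simp only [hf, princ_noEig α (noEig_of_mem_cent h0 hc'.1 hc'.2), zero_mul]
  rw [h1, h2, hD, hT] at hsum
  have hz : ∑ g : G, f g = 0 := by linear_combination hsum / 2
  rw [Cfsg.classInner, hz, mul_zero]

theorem inner_cusp_one (hodd : Odd q) (h0 : NoEig g0) (θ : cent g0 →* ℂˣ) (hθ : θ ≠ 1) :
    Cfsg.classInner (cusp θ) (fun _ => 1) = 0 := by
  classical
  have hsum := sum_classFun hodd h0 (cusp θ) (cusp_conj θ) (-1) (-sgnAt θ (-1 : F))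
    (fun g hs ht => by
      rw [cusp_unip θ hodd h0 (one_pow 2) hs (by rw [ht, mul_one]), sgnAt_one θ])
    (fun g hs ht => cusp_unip θ hodd h0 (by ring) hs (by rw [ht]; ring))
  have hD : ∑ a ∈ Finset.univ.filter (fun a : Fˣ => (a : F) ^ 2 ≠ 1), cusp θ (dd a) = 0 :=
    Finset.sum_eq_zero fun a ha => cusp_diag θ h0 (Finset.mem_filter.1 ha).2
  have hne : (-1 : F) ≠ 1 := fun h => two_ne_zero' hodd (by linear_combination -h)
  have hT : ∑ c ∈ Finset.univ.filter (fun c : G => c ∈ cent g0 ∧ ¬ Scal c), cusp θ c =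
      2 + 2 * sgnAt θ (-1 : F) := by
    rw [sum_cent_split hodd (fun c => -(((θ c : ℂˣ) : ℂ) + (((θ⁻¹ : cent g0 →* ℂˣ) c : ℂˣ) : ℂ)))
      (cusp θ) (fun c hc => by rw [cusp_cent θ h0 c hc, MonoidHom.inv_apply, map_inv])]
    rw [Finset.sum_neg_distrib, Finset.sum_add_distrib, sum_theta hodd h0, sum_theta hodd h0,
      if_neg hθ, if_neg (fun h => hθ ((inv_eq_one (α := cent g0 →* ℂˣ)).1 h))]
    have hi : ((θ (negOne g0))⁻¹ : ℂˣ) = θ (negOne g0) := by
      rw [inv_eq_iff_mul_eq_one, ← map_mul, negOne_mul_self, map_one]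
    simp only [MonoidHom.inv_apply, map_one, inv_one, hi, Units.val_one, sgnAt_neg_one θ hne]
    ring
  rw [cusp_one θ hodd h0, cusp_neg_one θ hodd h0, hD, hT] at hsum
  have hz : ∑ g : G, cusp θ g = 0 := by linear_combination hsum / 2
  simp only [Cfsg.classInner, map_one, mul_one, hz, mul_zero]

theorem isIrr_cusp (hodd : Odd q) (h0 : NoEig g0) {θ : cent g0 →* ℂˣ} (hθ : θ ≠ θ⁻¹) :
    Cfsg.IsIrrCharacter G (cusp θ) := by
  classical
  refine CT.isIrr_of_isGen_norm_one (isGen_cusp θ) ?_ ?_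
  · rw [inner_cusp hodd h0, if_pos rfl, if_neg hθ, add_zero]
  · rw [cusp_one θ hodd h0]
    have := two_le_q (F := F)
    simp only [Complex.sub_re, Complex.natCast_re, Complex.one_re]
    have : (2 : ℝ) ≤ q := by exact_mod_cast this
    linarith

end orth

end Cfsg.Agent.SL2
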