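import Cfsg.Agent.Lib.SL2.DegreeRows

/-!
# The characters of degree `(q ± 1) / 2` of `SL(2, q)`
-/

set_option autoImplicit false
set_option linter.unusedSectionVars false

namespace Cfsg.Agent.SL2

open Matrix

variable {F : Type*} [Field F] [Fintype F] [DecidableEq F]

local notation "G" => Matrix.SpecialLinearGroup (Fin 2) F
local notation "M2" => Matrix (Fin 2) (Fin 2) F
local notation "q" => Fintype.card F

variable {g0 : Matrix.SpecialLinearGroup (Fin 2) F}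

theorem half_of_deg (h0 : NoEig g0) (hodd : Odd q) (hq : 5 ≤ q) {θ0 : cent g0 →* ℂˣ}
    (h01 : θ0 ≠ 1) (h02 : θ0 = θ0⁻¹) {χ : Matrix.SpecialLinearGroup (Fin 2) F → ℂ}
    (hχ : Cfsg.IsIrrCharacter G χ) :
    (χ 1 = ((q : ℂ) + 1) / 2 → IsHalfP χ) ∧ (χ 1 = ((q : ℂ) - 1) / 2 → IsHalfC θ0 χ) := by
  have hne : ∀ (n : ℕ), n ≤ 3 → (q : ℂ) ≠ (n : ℂ) := fun n hn h => by
    have : q = n := by exact_mod_cast h
    omega
  have hpos : ∀ n : ℕ, (q : ℂ) + (n : ℂ) ≠ 0 := fun n h => by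
    have : q + n = 0 := by exact_mod_cast h
    omega
  rcases (table h0 hodd h01 h02).1 ⟨χ, hχ⟩ with h | h | ⟨α, -, h⟩ | ⟨θ, -, h⟩ | h | h
  · simp only at h; subst h
    exact ⟨fun e => absurd (by push_cast; linear_combination -2 * e) (hne 1 (by omega)),
      fun e => absurd (by push_cast; linear_combination -2 * e) (hne 3 le_rfl)⟩
  · simp only at h; subst h
    rw [st_one]
    exact ⟨fun e => absurd (by push_cast; linear_combination 2 * e) (hne 1 (by omega)),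
      fun e => absurd (by push_cast; linear_combination 2 * e) (hpos 1)⟩
  · simp only at h; subst h
    rw [princ_one]
    exact ⟨fun e => absurd (by push_cast; linear_combination 2 * e) (hpos 1),
      fun e => absurd (by push_cast; linear_combination 2 * e) (hpos 3)⟩
  · simp only at h; subst h
    rw [cusp_one θ hodd h0]
    exact ⟨fun e => absurd (by push_cast; linear_combination 2 * e) (hne 3 le_rfl),
      fun e => absurd (by push_cast; linear_combination 2 * e) (hne 1 (by omega))⟩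
  · refine ⟨fun _ => h, fun e => absurd ?_ (one_ne_zero : (1 : ℂ) ≠ 0)⟩
    have := h.1
    simp only at this
    linear_combination e - this
  · refine ⟨fun e => absurd ?_ (one_ne_zero : (1 : ℂ) ≠ 0), fun _ => h⟩
    have := h.1
    simp only at this
    linear_combination this - e

/-- The value at `uu 1` of a half, and its determining of the character. -/
theorem half_values (hodd : Odd q) {χ : G → ℂ} (hχ : Cfsg.IsIrrCharacter G χ) (e : ℕ) (he : e ≤ 1)
    (hdeg : χ 1 = ((e : ℂ) + ((q : ℂ) - 1) / 2)) (hsum : ∑ r : F, χ (uu r) = (e : ℂ) * q) :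
    (2 * χ (uu 1) - (2 * (e : ℂ) - 1)) ^ 2 = (-1 : ℂ) ^ ((q - 1) / 2) * q ∧
      ∀ r : F, r ≠ 0 → χ (uu r) =
        if IsSquare r then χ (uu 1) else 2 * (e : ℂ) - 1 - χ (uu 1) := by
  obtain ⟨n₁, n₂, S₁, S₂, hn, hS, hsq, hA, hr⟩ :=
    uu_gauss hodd (CT.isCharacter_of_isIrr hχ) e hdeg hsum
  have hn' : (n₁ : ℂ) + n₂ = 1 := by exact_mod_cast hn
  refine ⟨?_, fun r h => ?_⟩
  · rw [hA, ← hsq]
    rcases Nat.add_eq_one_iff.1 hn with ⟨rfl, rfl⟩ | ⟨rfl, rfl⟩
    · push_cast; linear_combination (2 * S₂ + 1 + S₂ - S₁) * hS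
    · push_cast; linear_combination (2 * S₁ + 1 + S₁ - S₂) * hS
  · rw [hr r h, hA]
    split_ifs
    · rfl
    · linear_combination ((n₁ : ℂ) + n₂) * hS - hn'

/-- Two halves that agree at `uu 1` are equal. -/
theorem half_ext (hodd : Odd q) {χ ψ : G → ℂ} (hχ : Cfsg.IsIrrCharacter G χ)
    (hψ : Cfsg.IsIrrCharacter G ψ) (hreg : ∀ g, Scal g ∨ tr g ^ 2 ≠ 4 → χ g = ψ g)
    (hu : ∀ r : F, r ≠ 0 → χ (uu r) = ψ (uu r)) : χ = ψ := by
  funext g
  by_cases hg : Scal g ∨ tr g ^ 2 ≠ 4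
  · exact hreg g hg
  push Not at hg
  obtain ⟨s, P, hs, hP⟩ := conj_uu_cases hg.2 hg.1
  have hc : ∀ f : G → ℂ, Cfsg.IsIrrCharacter G f → f g = f (P⁻¹ * g * P) := fun f hf => by
    have := CT.isClassFunction_of_isIrr hf g P⁻¹
    rw [inv_inv] at this
    exact this.symm
  rw [hc χ hχ, hc ψ hψ]
  rcases hP with e | e <;> rw [e]
  · exact hu s hs
  · have hz : (-1 : G) ∈ Subgroup.center G := (scal_iff_mem_center _).1 ((scal_iff _).2 (Or.inr rfl))
    have h1 := irr_central_mul hχ hz (uu s)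
    have h2 := irr_central_mul hψ hz (uu s)
    rw [neg_one_mul] at h1 h2
    rw [hu s hs, hreg _ (Or.inl ((scal_iff _).2 (Or.inr rfl))),
      hreg 1 (Or.inl ((scal_iff (1 : G)).2 (Or.inl rfl)))] at h1
    exact mul_right_cancel₀ (CT.irr_one_ne_zero hψ) (h1.trans h2.symm)

theorem sum_eq_of_ne (hodd : Odd q) {χ ψ : G → ℂ} (hχ : Cfsg.IsIrrCharacter G χ)
    (hψ : Cfsg.IsIrrCharacter G ψ) (hne : χ ≠ ψ) (hreg : ∀ g, Scal g ∨ tr g ^ 2 ≠ 4 → χ g = ψ g)
    {e : ℕ} (he : e ≤ 1) (hdχ : χ 1 = ((e : ℂ) + ((q : ℂ) - 1) / 2))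
    (hsχ : ∑ r : F, χ (uu r) = (e : ℂ) * q) (hdψ : ψ 1 = ((e : ℂ) + ((q : ℂ) - 1) / 2))
    (hsψ : ∑ r : F, ψ (uu r) = (e : ℂ) * q) : χ (uu 1) + ψ (uu 1) = 2 * (e : ℂ) - 1 := by
  obtain ⟨a1, b1⟩ := half_values hodd hχ e he hdχ hsχ
  obtain ⟨a2, b2⟩ := half_values hodd hψ e he hdψ hsψ
  have hne' : χ (uu 1) ≠ ψ (uu 1) := fun h =>
    hne (half_ext hodd hχ hψ hreg fun r hr => by rw [b1 r hr, b2 r hr, h])
  rw [← a2] at a1
  refine mul_left_cancel₀ (sub_ne_zero.2 hne') ?_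
  linear_combination a1 / 4

theorem induced_sgn_split (hodd : Odd q) (α : MulChar F ℂ) (hα : α ^ 2 = 1) (hα1 : α ≠ 1) :
    ∃ a b : G → ℂ, Cfsg.IsIrrCharacter G a ∧ Cfsg.IsIrrCharacter G b ∧ a ≠ b ∧
      princ α = a + b ∧ a 1 = ((q : ℂ) + 1) / 2 ∧ b 1 = ((q : ℂ) + 1) / 2 ∧
      ∀ g, a (diagAut (nsqU hodd) g) = b g := by
  classical
  have hinv : α = α⁻¹ := by rw [eq_inv_iff_mul_eq_one, ← pow_two, hα]
  have hs2 : Cfsg.classInner (princ α) (princ α) = 2 := by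
    rw [inner_princ hodd, if_pos rfl, if_pos hinv]; norm_num
  obtain ⟨P, Q, e, e', hPQ, he, he', hexp⟩ :=
    norm_two (CT.isGen_of_isCharacter (isCharacter_princ α)) hs2
  have hne : (P : G → ℂ) ≠ Q := fun h => hPQ (Subtype.ext h)
  have hPi : Cfsg.classInner (princ α) (P : G → ℂ) = e := by
    rw [hexp, CT.classInner_add_left, CT.classInner_smul_left, CT.classInner_smul_left,
      CT.irr_inner_self P.2, CT.irr_inner_of_ne Q.2 P.2 hne.symm]; ring
  have hQi : Cfsg.classInner (princ α) (Q : G → ℂ) = e' := by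
    rw [hexp, CT.classInner_add_left, CT.classInner_smul_left, CT.classInner_smul_left,
      CT.irr_inner_self Q.2, CT.irr_inner_of_ne P.2 Q.2 hne]; ring
  have he1 : e = 1 := by
    obtain ⟨n, hn⟩ := CT.classInner_character_nat (isCharacter_princ α) (CT.isCharacter_of_isIrr P.2)
    rw [hPi] at hn
    have : e = (n : ℤ) := by exact_mod_cast hn
    omega
  have he2 : e' = 1 := by
    obtain ⟨n, hn⟩ := CT.classInner_character_nat (isCharacter_princ α) (CT.isCharacter_of_isIrr Q.2)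
    rw [hQi] at hn
    have : e' = (n : ℤ) := by exact_mod_cast hn
    omega
  subst he1 he2
  simp only [Int.cast_one, one_smul] at hexp
  have h1 := inner_princ_trivial hodd α
  rw [if_neg hα1] at h1
  have hP1 : (P : G → ℂ) ≠ fun _ => 1 := fun h => by
    rw [h, h1] at hPi; simp at hPi
  have hQ1 : (Q : G → ℂ) ≠ fun _ => 1 := fun h => by
    rw [h, h1] at hQi; simp at hQi
  have hjump : ∀ r : F, r ≠ 0 → princ α 1 - princ α (uu r) = (q : ℂ) := fun r hr => by
    rw [princ_one, princ_uu hodd _ hr]; ring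
  have hswap := halves_swap hodd P.2 Q.2 hne hexp (fun g => princ_fixed hodd _ _ g) hjump hP1 hQ1
  obtain ⟨hval, -, -⟩ := halves hodd P.2 Q.2 hne hexp (fun g => princ_fixed hodd _ _ g) hjump hP1 hQ1
  have hs1 : Scal (1 : G) := (scal_iff (1 : G)).2 (Or.inl rfl)
  exact ⟨P, Q, P.2, Q.2, hne, hexp, by rw [(hval 1 (Or.inl hs1)).1, princ_one],
    by rw [(hval 1 (Or.inl hs1)).2, princ_one], congrFun hswap⟩

end Cfsg.Agent.SL2
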