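import Cfsg.Agent.Lib.SL2.Principal
import Cfsg.Agent.Lib.CT.Kernel
import Cfsg.Agent.Lib.CT.Integral
import Cfsg.Prelude.Def_Blocks

/-!
# Irreducible character degrees of `SL(2, q)`, `q` even

The irreducible characters are `1`, the Steinberg character, `(q - 2) / 2` principal series
characters of degree `q + 1` and `q / 2` characters of degree `q - 1`.
-/

set_option autoImplicit false
set_option linter.all false

namespace Cfsg.Agent.SL2

open Matrix
open scoped ComplexConjugate

variable {F : Type*} [Field F]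

local notation "G" => Matrix.SpecialLinearGroup (Fin 2) F
local notation "M2" => Matrix (Fin 2) (Fin 2) F

theorem neg_one_eq_one_F (h2 : (2 : F) = 0) : (-1 : F) = 1 := by linear_combination -h2

theorem scal_iff_even (h2 : (2 : F) = 0) (g : G) : Scal g ↔ g = 1 := by
  rw [scal_iff]
  refine ⟨fun h => h.elim id fun h => ?_, Or.inl⟩
  rw [h]
  apply ext4 <;> simp [neg_one_eq_one_F h2]

theorem eq_one_of_sq (h2 : (2 : F) = 0) {x : F} (h : x ^ 2 = 1) : x = 1 :=
  sub_eq_zero.1 (pow_eq_zero_iff two_ne_zero |>.1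
    (show (x - 1) ^ 2 = 0 by linear_combination h + (1 - x) * h2))

variable [Fintype F]

local notation "q" => Fintype.card F

theorem card_conjClasses_even (h2 : (2 : F) = 0) : Nat.card (ConjClasses G) = q + 1 := by
  let f : Option F → ConjClasses G := fun o => o.elim (ConjClasses.mk 1) fun t => ConjClasses.mk (comp t)
  have hne : ∀ t : F, ¬ IsConj (1 : G) (comp t) := fun t h => not_scal_comp t
    (by rw [isConj_one_right] at h; rw [h]; exact (scal_iff _).2 (Or.inl rfl))
  have hf : Function.Bijective f := by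
    constructor
    · rintro (_ | s) (_ | t) h
      · rfl
      · exact absurd (ConjClasses.mk_eq_mk_iff_isConj.1 h) (hne t)
      · exact absurd (ConjClasses.mk_eq_mk_iff_isConj.1 h.symm) (hne s)
      · obtain ⟨P, hP⟩ := isConj_iff.1 (ConjClasses.mk_eq_mk_iff_isConj.1 h)
        have := congrArg tr hP
        rw [tr_conj, tr_comp, tr_comp] at this
        rw [this]
    · intro c
      obtain ⟨g, rfl⟩ := ConjClasses.mk_surjective c
      by_cases hs : Scal g
      · exact ⟨none, by rw [(scal_iff_even h2 g).1 hs]; rfl⟩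
      · obtain ⟨P, hP⟩ := exists_conj_comp (Or.inr ⟨h2, hs⟩)
        exact ⟨some (tr g), ConjClasses.mk_eq_mk_iff_isConj.2 (isConj_iff.2 ⟨P, hP⟩)⟩
  rw [← Nat.card_eq_of_bijective f hf, Nat.card_eq_fintype_card, Fintype.card_option]

variable [DecidableEq F]

theorem princ_unip_even (h2 : (2 : F) = 0) (α : MulChar F ℂ) {g : G} (hg : ¬ Scal g)
    (ht : tr g = 0) : princ α g = 1 := by
  obtain ⟨ε, s, P, hε, hs, -, hP⟩ := exists_unip_conj hg (by rw [ht]; linear_combination (-2 : F) * h2)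
  have h := princ_conj α g P⁻¹
  rw [inv_inv] at h
  rw [← h, princ_upper_unip α (by rw [hP]; simp) (by rw [hP]; simp) (by rw [hP]; simpa using hs), hP]
  simp [eq_one_of_sq h2 hε]

theorem princ_one' (α : MulChar F ℂ) : princ α (1 : G) = (q : ℂ) + 1 := by
  rw [princ_scal α ((scal_iff (1 : G)).2 (Or.inl rfl))]
  simp

theorem isCharacter_princ' (α : MulChar F ℂ) : Cfsg.IsCharacter G (princ α) := by
  let φ : borel F →* ℂ :=
    { toFun := fun b => α (((b : G) : M2) 0 0)
      map_one' := by simp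
      map_mul' := fun a b => by
        rw [← map_mul]
        congr 1
        simp [Subgroup.coe_mul, Matrix.SpecialLinearGroup.coe_mul, Matrix.mul_apply,
          Fin.sum_univ_two, mem_borel.1 b.2] }
  exact CT.isCharacter_indFun _ (CT.isCharacter_lin φ.toHomUnits)

theorem card_unip_even (h2 : (2 : F) = 0) [DecidablePred fun g : G => ¬ Scal g ∧ tr g = 0] :
    (Finset.univ.filter fun g : G => ¬ Scal g ∧ tr g = 0).card = q ^ 2 - 1 := by
  classical
  have hr : nroots (0 : F) = 1 := by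
    rw [nroots, Nat.card_eq_one_iff_unique]
    refine ⟨⟨fun a b => ?_⟩, ⟨⟨1, by linear_combination -h2⟩⟩⟩
    have key : ∀ x : {a : F // a * (0 - a) = 1}, x.1 = 1 := fun x =>
      eq_one_of_sq h2 (by linear_combination -x.2 - h2)
    exact Subtype.ext ((key a).trans (key b).symm)
  have h := card_trace (0 : F)
  rw [hr, mul_one, Nat.card_eq_fintype_card, Fintype.card_subtype, nat_card_F] at h
  have e : (Finset.univ.filter fun g : G => ¬ Scal g ∧ tr g = 0) =
      (Finset.univ.filter fun g : G => tr g = 0).erase 1 := by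
    ext g
    simp only [Finset.mem_filter, Finset.mem_univ, true_and, Finset.mem_erase, scal_iff_even h2]
  rw [e, Finset.card_erase_of_mem (Finset.mem_filter.2 ⟨Finset.mem_univ _, by
    rw [← h2]; simp [tr]; norm_num⟩), h]
  have hq := two_le_q (F := F)
  obtain ⟨j, hj⟩ : ∃ j, q = j + 1 := ⟨q - 1, by omega⟩
  rw [hj, show j + 1 - 1 = j from rfl, show (j + 1) ^ 2 = (j + 1) * j + (j + 1) by ring]

/-- Summing a class function vanishing on the elements without eigenvectors. -/
theorem sum_classFun_even (h2 : (2 : F) = 0) (f : G → ℂ) (hf : ∀ g x : G, f (x * g * x⁻¹) = f g)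
    (U : ℂ) (hU : ∀ g : G, ¬ Scal g → tr g = 0 → f g = U) (h0 : ∀ g : G, NoEig g → f g = 0) :
    2 * ∑ g : G, f g = 2 * (f 1 + ((q : ℂ) ^ 2 - 1) * U) +
      (q : ℂ) * ((q : ℂ) + 1) * ∑ a ∈ (Finset.univ : Finset Fˣ).erase 1, f (dd a) := by
  classical
  have hq := two_le_q (F := F)
  set D := (ddHom : Fˣ →* G).range with hD
  have hD4 : ∀ g ∈ regSet D, tr g ≠ 0 := by
    rintro g ⟨hs, P, hP⟩
    have hs' := not_scal_conj hs P⁻¹
    rw [inv_inv] at hs'
    have ht : tr (P⁻¹ * g * P) = tr g := by simpa using tr_conj g P⁻¹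
    intro h
    exact (tr_sq_of_diag hP hs').1 (by rw [ht, h]; linear_combination (-2 : F) * h2)
  have hd : ∀ g : G, f g = (if g = 1 then f g else 0) +
      (if ¬ Scal g ∧ tr g = 0 then f g else 0) + (if g ∈ regSet D then f g else 0) := by
    intro g
    by_cases hs : Scal g
    · have n4 : g ∉ regSet D := fun hh => hh.1 hs
      simp [hs, (scal_iff_even h2 g).1 hs ▸ n4, (scal_iff_even h2 g).1 hs, (scal_iff_even h2 1).2 rfl]
    have hg1 : g ≠ 1 := fun e => hs ((scal_iff_even h2 g).2 e)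
    by_cases ht : tr g = 0
    · have n4 : g ∉ regSet D := fun hh => hD4 g hh ht
      simp [hs, ht, hg1, n4]
    have ht4 : tr g ^ 2 ≠ 4 := fun h => ht (pow_eq_zero_iff two_ne_zero |>.1
      (by linear_combination h + (2 : F) * h2))
    by_cases hn : NoEig g
    · simp [h0 g hn]
    · rw [noEig_iff] at hn
      push Not at hn
      obtain ⟨a, ha⟩ := hn
      obtain ⟨u, P, -, -, hP⟩ := exists_dd_conj ht4 ha
      have : g ∈ regSet D := ⟨hs, P, by
        rw [← hP, show P⁻¹ * (P * dd u * P⁻¹) * P = dd u by group]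
        exact ⟨u, rfl⟩⟩
      simp [hg1, ht, this]
  rw [Finset.sum_congr rfl (fun g _ => hd g), Finset.sum_add_distrib, Finset.sum_add_distrib,
    Finset.sum_ite_eq' Finset.univ (1 : G) f, if_pos (Finset.mem_univ _)]
  rw [← Finset.sum_filter, ← Finset.sum_filter]
  have hA2 : ∑ g ∈ Finset.univ.filter (fun g : G => ¬ Scal g ∧ tr g = 0), f g =
      ((q : ℂ) ^ 2 - 1) * U := by
    rw [Finset.sum_congr rfl (fun g hg => hU g (Finset.mem_filter.1 hg).2.1
      (Finset.mem_filter.1 hg).2.2), Finset.sum_const, nsmul_eq_mul, card_unip_even h2,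
      Nat.cast_sub (Nat.one_le_pow _ _ (by omega))]
    push_cast
    rfl
  have hG : (Nat.card G : ℂ) = (q : ℂ) * (((q : ℂ) - 1) * ((q : ℂ) + 1)) := by
    rw [card_G]; push_cast [Nat.cast_sub (by omega : 1 ≤ q)]; ring
  have h := sum_regSet D (fun c hc hs => tr_sq_of_diag hc hs) f hf
  rw [card_diag, Nat.cast_sub (by omega : 1 ≤ q), Nat.cast_one, hG] at h
  have e : ∑ c ∈ Finset.univ.filter (fun c : G => c ∈ D ∧ ¬ Scal c), f c =
      ∑ a ∈ (Finset.univ : Finset Fˣ).erase 1, f (dd a) := by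
    rw [← Finset.sum_image (g := dd) (fun a _ b _ h => dd_injective h)]
    refine Finset.sum_congr (Finset.ext fun c => ?_) fun _ _ => rfl
    simp only [Finset.mem_filter, Finset.mem_univ, true_and, Finset.mem_image, Finset.mem_erase]
    constructor
    · rintro ⟨⟨a, rfl⟩, hs⟩
      exact ⟨a, ⟨fun h => hs ((scal_dd_iff a).2 (by simp [h])), trivial⟩, rfl⟩
    · rintro ⟨a, ⟨ha, -⟩, rfl⟩
      exact ⟨⟨a, rfl⟩, fun h => ha (Units.ext (eq_one_of_sq h2 ((scal_dd_iff a).1 h)))⟩
  rw [e] at h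
  rw [hA2]
  refine mul_left_cancel₀ (sub_ne_zero.2 (show (q : ℂ) ≠ 1 by exact_mod_cast (by omega : q ≠ 1))) ?_
  linear_combination h

theorem inner_princ_even (h2 : (2 : F) = 0) (α β : MulChar F ℂ) [Decidable (α = β)]
    [Decidable (α = β⁻¹)] :
    Cfsg.classInner (princ α) (princ β) =
      (if α = β then 1 else 0) + (if α = β⁻¹ then 1 else 0) := by
  classical
  have hstar : ∀ x : F, (starRingEnd ℂ) (β x) = β⁻¹ x := fun x => MulChar.star_apply' β x
  set f : G → ℂ := fun g => princ α g * (starRingEnd ℂ) (princ β g) with hf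
  have hsum := sum_classFun_even h2 f (fun g x => by simp only [hf, princ_conj]) 1
    (fun g hs ht => by simp [hf, princ_unip_even h2 _ hs ht])
    (fun g hg => by simp [hf, princ_noEig α hg])
  have h1 : f 1 = ((q : ℂ) + 1) ^ 2 := by
    simp [hf, princ_one', Complex.conj_natCast]
    ring
  set X : Fˣ → ℂ := fun a => (α (a : F) + α ((a : F)⁻¹)) * (β⁻¹ (a : F) + β⁻¹ ((a : F)⁻¹)) with hX
  have hD : ∑ a ∈ (Finset.univ : Finset Fˣ).erase 1, f (dd a) =
      ∑ a ∈ (Finset.univ : Finset Fˣ).erase 1, X a :=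
    Finset.sum_congr rfl fun a ha => by
      have h' : (a : F) ^ 2 ≠ 1 := fun h => (Finset.mem_erase.1 ha).1 (Units.ext (eq_one_of_sq h2 h))
      simp only [hf, hX, princ_diag _ h', map_add, hstar]
  have hall : ∑ a : Fˣ, X a = ((q : ℂ) - 1) *
      (2 * (if α = β then (1 : ℂ) else 0) + 2 * (if α = β⁻¹ then (1 : ℂ) else 0)) := by
    have s1 : ∀ γ : MulChar F ℂ, ∑ a : Fˣ, γ ((a : F)⁻¹) = ∑ a : Fˣ, γ (a : F) := fun γ =>
      Fintype.sum_equiv (Equiv.inv Fˣ) _ _ fun a => by simp
    have e1 : ∀ a : Fˣ, α ((a : F)) * β⁻¹ ((a : F)⁻¹) = (α * β) (a : F) := fun a => by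
      rw [MulChar.mul_apply, MulChar.inv_apply', inv_inv]
    have e2 : ∀ a : Fˣ, α ((a : F)⁻¹) * β⁻¹ (a : F) = (α * β) ((a : F)⁻¹) := fun a => by
      rw [MulChar.mul_apply, MulChar.inv_apply']
    have e3 : ∀ a : Fˣ, X a = (α * β⁻¹) (a : F) + (α * β⁻¹) ((a : F)⁻¹) + (α * β) (a : F) +
        (α * β) ((a : F)⁻¹) := fun a => by
      simp only [hX, add_mul, mul_add, e1, e2, MulChar.mul_apply]
      ring
    rw [Finset.sum_congr rfl (fun a _ => e3 a), Finset.sum_add_distrib, Finset.sum_add_distrib,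
      Finset.sum_add_distrib, s1, s1, sum_units_char, sum_units_char]
    simp only [mul_inv_eq_one]
    simp only [mul_eq_one_iff_eq_inv]
    split_ifs <;> ring
  have hX1 : X 1 = 4 := by simp [hX]; norm_num
  rw [← Finset.add_sum_erase _ _ (Finset.mem_univ (1 : Fˣ)), hX1] at hall
  rw [h1, hD] at hsum
  have hq := two_le_q (F := F)
  have hG : (Nat.card G : ℂ) = (q : ℂ) * (((q : ℂ) - 1) * ((q : ℂ) + 1)) := by
    rw [card_G]; push_cast [Nat.cast_sub (by omega : 1 ≤ q)]; ring
  have hGne : (Nat.card G : ℂ) ≠ 0 := by exact_mod_cast Nat.card_pos.ne'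
  rw [Cfsg.classInner, inv_mul_eq_iff_eq_mul₀ hGne, hG]
  linear_combination (hsum : _) / 2 + (q : ℂ) * ((q : ℂ) + 1) / 2 * hall

theorem inner_princ_one_trivial : Cfsg.classInner (princ (1 : MulChar F ℂ)) (fun _ : G => 1) = 1 := by
  classical
  haveI : Fintype (borel F) := Fintype.ofFinite _
  rw [princ, CT.frobenius_reciprocity _ _ (fun g h => rfl), Cfsg.classInner]
  have : ∀ b : borel F, (1 : MulChar F ℂ) (((b : G) : M2) 0 0) = 1 := fun b =>
    MulChar.one_apply (IsUnit.mk0 _ (upper_root (mem_borel.1 b.2)).2.1)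
  simp only [this, map_one, mul_one, Finset.sum_const, Finset.card_univ, nsmul_eq_mul, mul_one]
  rw [← Nat.card_eq_fintype_card, inv_mul_cancel₀]
  exact_mod_cast Nat.card_pos.ne'

theorem mulChar_inv_ne (h2 : (2 : F) = 0) {α : MulChar F ℂ} (h : α ≠ 1) : α ≠ α⁻¹ := by
  classical
  intro e
  apply h
  refine MulChar.ext fun a => ?_
  have h1 : α (a : F) * α (a : F) = 1 := by
    nth_rewrite 2 [e]
    rw [MulChar.inv_apply', ← map_mul, mul_inv_cancel₀ a.ne_zero, map_one]
  haveI : CharP F 2 := CharTwo.of_one_ne_zero_of_two_eq_zero one_ne_zero h2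
  obtain ⟨b, hb⟩ := FiniteField.isSquare_of_char_two (ringChar.eq F 2) (a : F)
  have hb0 : b ≠ 0 := fun h0 => a.ne_zero (by rw [hb, h0, mul_zero])
  rw [MulChar.one_apply_coe]
  have h3 : α b * α b = 1 := by
    nth_rewrite 2 [e]
    rw [MulChar.inv_apply', ← map_mul, mul_inv_cancel₀ hb0, map_one]
  rw [hb, map_mul, h3]

theorem isIrr_princ_even (h2 : (2 : F) = 0) {α : MulChar F ℂ} (h : α ≠ 1) :
    Cfsg.IsIrrCharacter G (princ α) := by
  classical
  refine CT.isIrr_of_inner_self (isCharacter_princ' α) ?_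
  rw [inner_princ_even h2, if_pos rfl, if_neg (mulChar_inv_ne h2 h), add_zero]

theorem isIrr_st_even (h2 : (2 : F) = 0) :
    Cfsg.IsIrrCharacter G (princ (1 : MulChar F ℂ) - fun _ : G => 1) := by
  classical
  refine CT.isIrr_of_isGen_norm_one (CT.isGen_sub (CT.isGen_of_isCharacter (isCharacter_princ' 1))
    (CT.isGen_of_isIrr CT.isIrrCharacter_one)) ?_ ?_
  · rw [CT.classInner_sub_left, CT.classInner_sub_right, CT.classInner_sub_right,
      inner_princ_even h2, if_pos rfl, if_pos inv_one.symm, inner_princ_one_trivial,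
      CT.classInner_comm_of_char CT.isCharacter_one (isCharacter_princ' 1), inner_princ_one_trivial,
      CT.irr_inner_self CT.isIrrCharacter_one]
    ring
  · rw [Pi.sub_apply, princ_one']
    simpa using Fintype.card_pos (α := F)

/-- The degrees of the irreducible characters. -/
theorem deg_cases_even (h2 : (2 : F) = 0) (χ : Cfsg.IrrCharacter G) :
    (χ : G → ℂ) = (fun _ => 1) ∨ (χ : G → ℂ) = (princ (1 : MulChar F ℂ) - fun _ : G => 1) ∨
      Cfsg.charDegree (χ : G → ℂ) = q + 1 ∨ Cfsg.charDegree (χ : G → ℂ) = q - 1 := by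
  classical
  haveI : CharP F 2 := CharTwo.of_one_ne_zero_of_two_eq_zero one_ne_zero h2
  haveI : Fintype (MulChar F ℂ) := Fintype.ofFinite _
  have hq := two_le_q (F := F)
  have hd : ∀ ψ : Cfsg.IrrCharacter G, (ψ : G → ℂ) 1 = (Cfsg.charDegree (ψ : G → ℂ) : ℂ) :=
    fun ψ => CT.deg_eq (CT.isCharacter_of_isIrr ψ.2)
  let st' : Cfsg.IrrCharacter G := ⟨_, isIrr_st_even h2⟩
  have hst : (st' : G → ℂ) 1 = (q : ℂ) := by
    show princ (1 : MulChar F ℂ) 1 - 1 = _
    rw [princ_one']; ring
  let A : Finset (Cfsg.IrrCharacter G) :=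
    Finset.univ.filter fun ψ => ∃ α : MulChar F ℂ, α ≠ 1 ∧ (ψ : G → ℂ) = princ α
  have hdA : ∀ ψ ∈ A, Cfsg.charDegree (ψ : G → ℂ) = q + 1 := fun ψ hψ => by
    obtain ⟨α, -, e⟩ := (Finset.mem_filter.1 hψ).2
    have := hd ψ
    rw [e, princ_one'] at this
    rw [e]
    exact_mod_cast this.symm
  have hAcard : 2 * A.card + 2 = q := by
    obtain ⟨e⟩ := MulChar.mulEquiv_units F ℂ
    have hM : Fintype.card (MulChar F ℂ) = q - 1 := by
      rw [← Nat.card_eq_fintype_card, Nat.card_congr e.toEquiv, Nat.card_units,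
        Nat.card_eq_fintype_card]
    let S := (Finset.univ : Finset (MulChar F ℂ)).erase 1
    have hS : S.card = q - 2 := by
      rw [Finset.card_erase_of_mem (Finset.mem_univ _), Finset.card_univ, hM]; omega
    let f : MulChar F ℂ → G → ℂ := fun α => princ α
    have hfib : ∀ y ∈ S.image f, (S.filter fun a => f a = y).card = 2 := by
      intro y hy
      obtain ⟨α, ha, rfl⟩ := Finset.mem_image.1 hy
      have ha1 := (Finset.mem_erase.1 ha).1
      have : (S.filter fun b => f b = f α) = {α, α⁻¹} := by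
        ext b
        simp only [Finset.mem_filter, Finset.mem_insert, Finset.mem_singleton, S, Finset.mem_erase,
          Finset.mem_univ, and_true, f]
        constructor
        · rintro ⟨hb, hfb⟩
          by_contra hh
          push Not at hh
          have h1 := inner_princ_even h2 b α
          rw [hfb, inner_princ_even h2 α α, if_pos rfl, if_neg (mulChar_inv_ne h2 ha1),
            if_neg hh.1, if_neg hh.2] at h1
          norm_num at h1
        · intro hb
          have hb1 : b ≠ 1 := by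
            rcases hb with rfl | rfl
            · exact ha1
            · exact fun e => ha1 (inv_eq_one.1 e)
          refine ⟨hb1, CT.eq_of_inner_ne_zero (isIrr_princ_even h2 hb1) (isIrr_princ_even h2 ha1) ?_⟩
          rw [inner_princ_even h2]
          rcases hb with rfl | rfl
          · rw [if_pos rfl, if_neg (mulChar_inv_ne h2 ha1)]; norm_num
          · rw [if_neg (mulChar_inv_ne h2 ha1).symm, if_pos rfl]; norm_num
      rw [this, Finset.card_pair (mulChar_inv_ne h2 ha1)]
    have h1 : S.card = (S.image f).card * 2 := by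
      rw [Finset.card_eq_sum_card_image f S, Finset.sum_congr rfl hfib, Finset.sum_const,
        smul_eq_mul]
    have h3 : A.card = (S.image f).card := by
      refine Finset.card_bij (fun ψ _ => (ψ : G → ℂ)) (fun ψ hψ => ?_)
        (fun a _ b _ h => Subtype.ext h) fun y hy => ?_
      · obtain ⟨α, hα, he⟩ := (Finset.mem_filter.1 hψ).2
        exact Finset.mem_image.2 ⟨α, Finset.mem_erase.2 ⟨hα, Finset.mem_univ _⟩, he.symm⟩
      · obtain ⟨α, hα, rfl⟩ := Finset.mem_image.1 hy
        have hα' := (Finset.mem_erase.1 hα).1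
        exact ⟨⟨_, isIrr_princ_even h2 hα'⟩,
          Finset.mem_filter.2 ⟨Finset.mem_univ _, α, hα', rfl⟩, rfl⟩
    omega
  let K : Finset (Cfsg.IrrCharacter G) := insert (CT.trivIrr G) (insert st' A)
  have hst1 : CT.trivIrr G ≠ st' := fun h => by
    have := congrArg (fun ψ : Cfsg.IrrCharacter G => (ψ : G → ℂ) 1) h
    simp only [hst, CT.trivIrr_apply] at this
    have h' : (1 : ℕ) = q := by exact_mod_cast this
    omega
  have h1A : CT.trivIrr G ∉ A := fun h => by
    have := hd (CT.trivIrr G)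
    rw [hdA _ h, CT.trivIrr_apply] at this
    have h' : (1 : ℕ) = q + 1 := by exact_mod_cast this
    omega
  have hstA : st' ∉ A := fun h => by
    have := hd st'
    rw [hdA _ h, hst] at this
    have h' : q = q + 1 := by exact_mod_cast this
    omega
  have hKcard : K.card = A.card + 2 := by
    rw [Finset.card_insert_of_notMem (by simp [hst1, h1A]), Finset.card_insert_of_notMem hstA]
  have hrest : ∀ ψ : Cfsg.IrrCharacter G, ψ ∉ K → q - 1 ∣ Cfsg.charDegree (ψ : G → ℂ) := by
    intro ψ hψ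
    simp only [K, Finset.mem_insert, not_or] at hψ
    obtain ⟨hψ1, hψst, hψA⟩ := hψ
    have hz : ∀ α : MulChar F ℂ, Cfsg.classInner (princ α) (ψ : G → ℂ) = 0 := by
      intro α
      by_cases h : α = 1
      · subst h
        rw [show princ (1 : MulChar F ℂ) = (st' : G → ℂ) + (CT.trivIrr G : G → ℂ) from
          funext fun g => by simp [st'], CT.classInner_add_left,
          CT.irr_inner_of_ne st'.2 ψ.2 (fun e => hψst (Subtype.ext e.symm)),
          CT.irr_inner_of_ne (CT.trivIrr G).2 ψ.2 (fun e => hψ1 (Subtype.ext e.symm)), add_zero]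
      · refine CT.irr_inner_of_ne (isIrr_princ_even h2 h) ψ.2 fun e => hψA ?_
        exact Finset.mem_filter.2 ⟨Finset.mem_univ _, α, h, e.symm⟩
    haveI : Fintype (borel F) := Fintype.ofFinite _
    have hcl : Cfsg.IsClassFunction G (ψ : G → ℂ) := CT.isClassFunction_of_isGen (CT.isGen_of_isIrr ψ.2)
    have hB : ∀ α : MulChar F ℂ, ∑ b : borel F,
        α (((b : G) : M2) 0 0) * conj ((ψ : G → ℂ) b) = 0 := by
      intro α
      have h := hz α
      rw [princ, CT.frobenius_reciprocity _ _ hcl, Cfsg.classInner] at h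
      exact (mul_eq_zero.1 h).resolve_left (inv_ne_zero card_borel_ne)
    have hsum : ∑ b : borel F, (if ((b : G) : M2) 0 0 = 1 then conj ((ψ : G → ℂ) b) else 0) = 0 := by
      have e : ∀ x : F, x ≠ 0 →
          ∑ α : MulChar F ℂ, α x = if x = 1 then (Fintype.card (MulChar F ℂ) : ℂ) else 0 := by
        intro x hx
        split_ifs with h1
        · simp [h1]
        · obtain ⟨β, hβ⟩ := MulChar.exists_apply_ne_one_of_hasEnoughRootsOfUnity F ℂ h1
          have hh : β x * ∑ α : MulChar F ℂ, α x = ∑ α : MulChar F ℂ, α x := by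
            rw [Finset.mul_sum]
            exact Fintype.sum_equiv (Equiv.mulLeft β) _ _ fun α => by simp
          exact eq_zero_of_mul_eq_self_left hβ hh
      have h := Finset.sum_eq_zero (fun α (_ : α ∈ (Finset.univ : Finset (MulChar F ℂ))) => hB α)
      rw [Finset.sum_comm] at h
      simp only [← Finset.sum_mul] at h
      have hc : (Fintype.card (MulChar F ℂ) : ℂ) ≠ 0 := by exact_mod_cast Fintype.card_ne_zero
      refine (mul_eq_zero.1 ?_).resolve_left hc
      rw [Finset.mul_sum]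
      refine Eq.trans (Finset.sum_congr rfl fun b _ => ?_) h
      rw [e _ (upper_root (mem_borel.1 b.2)).2.1]
      split_ifs <;> simp
    rw [← Finset.sum_filter] at hsum
    have hU : ∑ b ∈ Finset.univ.filter (fun b : borel F => ((b : G) : M2) 0 0 = 1),
        conj ((ψ : G → ℂ) b) = ∑ r : F, conj ((ψ : G → ℂ) (uu r)) := by
      refine Finset.sum_bij' (fun b _ => ((b : G) : M2) 0 1)
        (fun r _ => ⟨uu r, mem_borel.2 (by simp [uu])⟩) (fun b _ => Finset.mem_univ _)
        (fun r _ => Finset.mem_filter.2 ⟨Finset.mem_univ _, by simp [uu]⟩) (fun b hb => ?_)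
        (fun r _ => by simp [uu]) (fun b hb => ?_)
      all_goals
        have h00 := (Finset.mem_filter.1 hb).2
        have h10 := mem_borel.1 b.2
        have h11 : ((b : G) : M2) 1 1 = 1 := by rw [(upper_root h10).2.2, h00, inv_one]
        have e : uu (((b : G) : M2) 0 1) = (b : G) := by
          apply ext4 <;> simp [uu, h00, h10, h11]
      · exact Subtype.ext e
      · rw [e]
    have hval : ∀ r : F, r ≠ 0 → (ψ : G → ℂ) (uu r) = (ψ : G → ℂ) (uu 1) := by
      intro r hr
      obtain ⟨P, hP⟩ := isConj_of_char_two h2 (not_scal_uu hr) (not_scal_uu one_ne_zero)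
        (by rw [tr_uu, tr_uu])
      rw [← hP, hcl]
    rw [hU, ← Finset.add_sum_erase _ _ (Finset.mem_univ (0 : F)), uu_zero,
      Finset.sum_congr rfl (fun r hr => by rw [hval r (Finset.ne_of_mem_erase hr)]),
      Finset.sum_const, Finset.card_erase_of_mem (Finset.mem_univ _), Finset.card_univ,
      nsmul_eq_mul, hd ψ, map_natCast] at hsum
    refine CT.dvd_of_isIntegral_div (by omega) ?_
    have hne : ((q - 1 : ℕ) : ℂ) ≠ 0 := by exact_mod_cast (by omega : q - 1 ≠ 0)
    rw [show (Cfsg.charDegree (ψ : G → ℂ) : ℂ) / ((q - 1 : ℕ) : ℂ) = -conj ((ψ : G → ℂ) (uu 1)) by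
      rw [div_eq_iff hne]; linear_combination hsum]
    exact (CT.isIntegral_conj (CT.isIntegral_isCharacter (CT.isCharacter_of_isIrr ψ.2) _)).neg
  by_cases hK : χ ∈ K
  · simp only [K, Finset.mem_insert] at hK
    rcases hK with h | h | h
    · exact Or.inl (by rw [h]; rfl)
    · exact Or.inr (Or.inl (by rw [h]))
    · exact Or.inr (Or.inr (Or.inl (hdA _ h)))
  refine Or.inr (Or.inr (Or.inr ?_))
  have htot : ∑ ψ : Cfsg.IrrCharacter G, Cfsg.charDegree (ψ : G → ℂ) ^ 2 = Nat.card G := by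
    have h : ∑ ψ : Cfsg.IrrCharacter G, (ψ : G → ℂ) 1 ^ 2 = (Nat.card G : ℂ) := CT.sum_degree_sq
    simp only [hd] at h
    exact_mod_cast h
  have hd1 : Cfsg.charDegree (CT.trivIrr G : G → ℂ) = 1 := by
    have := hd (CT.trivIrr G); simp at this; exact_mod_cast this.symm
  have hdst : Cfsg.charDegree (st' : G → ℂ) = q := by
    have := hd st'; rw [hst] at this; exact_mod_cast this.symm
  have hKsum : ∑ ψ ∈ K, Cfsg.charDegree (ψ : G → ℂ) ^ 2 = 1 + q ^ 2 + A.card * (q + 1) ^ 2 := by
    rw [Finset.sum_insert (by simp [hst1, h1A]), Finset.sum_insert hstA,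
      Finset.sum_congr rfl (fun ψ hψ => by rw [hdA ψ hψ]), Finset.sum_const, smul_eq_mul, hd1,
      hdst, one_pow, add_assoc]
  have hcnt : Fintype.card (Cfsg.IrrCharacter G) = q + 1 := by
    rw [← Nat.card_eq_fintype_card, CT.card_irr_eq_card_conjClasses, card_conjClasses_even h2]
  have hge : ∀ ψ ∈ Kᶜ, (q - 1) ^ 2 ≤ Cfsg.charDegree (ψ : G → ℂ) ^ 2 := fun ψ hψ =>
    Nat.pow_le_pow_left (Nat.le_of_dvd (CT.deg_pos ψ.2) (hrest ψ (Finset.mem_compl.1 hψ))) 2
  have hcomp : Kᶜ.card = A.card + 1 := by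
    rw [Finset.card_compl, hcnt, hKcard]; omega
  rw [card_G, ← Finset.sum_add_sum_compl K, hKsum] at htot
  by_contra hne
  have hlt : (q - 1) ^ 2 < Cfsg.charDegree (χ : G → ℂ) ^ 2 :=
    Nat.pow_lt_pow_left (lt_of_le_of_ne (Nat.le_of_dvd (CT.deg_pos χ.2) (hrest χ hK)) (Ne.symm hne))
      two_ne_zero
  have hsumlt : ∑ ψ ∈ Kᶜ, (q - 1) ^ 2 < ∑ ψ ∈ Kᶜ, Cfsg.charDegree (ψ : G → ℂ) ^ 2 :=
    Finset.sum_lt_sum hge ⟨χ, Finset.mem_compl.2 hK, hlt⟩
  rw [Finset.sum_const, smul_eq_mul, hcomp] at hsumlt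
  obtain ⟨j, hj⟩ : ∃ j, q = 2 * j + 2 := ⟨A.card, hAcard.symm⟩
  have hA : A.card = j := by omega
  rw [hA, hj] at htot hsumlt
  rw [show 2 * j + 2 - 1 = 2 * j + 1 from rfl] at htot hsumlt
  nlinarith

theorem card_rest_even (h2 : (2 : F) = 0) :
    ∃ χ : Cfsg.IrrCharacter G, Cfsg.charDegree (χ : G → ℂ) = q - 1 := by
  classical
  by_contra hno
  push Not at hno
  have hq := two_le_q (F := F)
  have hd : ∀ ψ : Cfsg.IrrCharacter G, (ψ : G → ℂ) 1 = (Cfsg.charDegree (ψ : G → ℂ) : ℂ) :=
    fun ψ => CT.deg_eq (CT.isCharacter_of_isIrr ψ.2)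
  have hsum : ∑ ψ : Cfsg.IrrCharacter G, Cfsg.charDegree (ψ : G → ℂ) ^ 2 = Nat.card G := by
    have h : ∑ ψ : Cfsg.IrrCharacter G, (ψ : G → ℂ) 1 ^ 2 = (Nat.card G : ℂ) := CT.sum_degree_sq
    simp only [hd] at h
    exact_mod_cast h
  let st' : Cfsg.IrrCharacter G := ⟨_, isIrr_st_even h2⟩
  have hdst : Cfsg.charDegree (st' : G → ℂ) = q := by
    have := hd st'
    rw [show (st' : G → ℂ) 1 = (q : ℂ) by
      show princ (1 : MulChar F ℂ) 1 - 1 = _
      rw [princ_one']; ring] at this
    exact_mod_cast this.symm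
  have hd1 : Cfsg.charDegree (CT.trivIrr G : G → ℂ) = 1 := by
    have := hd (CT.trivIrr G); simp at this; exact_mod_cast this.symm
  have hne : CT.trivIrr G ≠ st' := fun h => by
    rw [h, hdst] at hd1; omega
  have hcnt : Fintype.card (Cfsg.IrrCharacter G) = q + 1 := by
    rw [← Nat.card_eq_fintype_card, CT.card_irr_eq_card_conjClasses, card_conjClasses_even h2]
  have hrest : ∀ ψ ∈ ({CT.trivIrr G, st'} : Finset (Cfsg.IrrCharacter G))ᶜ,
      Cfsg.charDegree (ψ : G → ℂ) ^ 2 = (q + 1) ^ 2 := fun ψ hψ => by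
    simp only [Finset.mem_compl, Finset.mem_insert, Finset.mem_singleton, not_or] at hψ
    rcases deg_cases_even h2 ψ with h | h | h | h
    · exact absurd (Subtype.ext h) hψ.1
    · exact absurd (Subtype.ext h) hψ.2
    · rw [h]
    · exact absurd h (hno ψ)
  rw [← Finset.sum_add_sum_compl ({CT.trivIrr G, st'} : Finset (Cfsg.IrrCharacter G)),
    Finset.sum_pair hne, hd1, hdst, Finset.sum_congr rfl hrest, Finset.sum_const,
    Finset.card_compl, hcnt, Finset.card_pair hne, card_G, smul_eq_mul] at hsum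
  obtain ⟨j, hj⟩ : ∃ j, q = j + 2 := ⟨q - 2, by omega⟩
  rw [hj, show j + 2 + 1 - 2 = j + 1 from rfl, show j + 2 - 1 = j + 1 from rfl] at hsum
  nlinarith

end Cfsg.Agent.SL2
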