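import Cfsg.Agent.Lib.SL2.TableUse
import Cfsg.Agent.Lib.SL2.EvenTable
import Cfsg.Agent.Lib.SL2.Quaternion

/-!
# Degrees and values of the irreducible characters of `SL(2, q)`
-/

set_option autoImplicit false
set_option linter.unusedSectionVars false

namespace Cfsg.Agent.SL2

open Matrix

variable {F : Type*} [Field F]

local notation "G" => Matrix.SpecialLinearGroup (Fin 2) F
local notation "M2" => Matrix (Fin 2) (Fin 2) F

variable [Fintype F]

local notation "q" => Fintype.card F

theorem conj_uu_cases {g : G} (ht : tr g ^ 2 = 4) (hs : ¬ Scal g) :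
    ∃ (s : F) (P : G), s ≠ 0 ∧ ((P⁻¹ * g * P = uu s) ∨ (P⁻¹ * g * P = -uu s)) := by
  obtain ⟨ε, s, P, hε, hs', -, hP⟩ := exists_unip_conj hs ht
  rcases sq_eq_one_iff.1 hε with rfl | rfl
  · refine ⟨s, P, hs', Or.inl ?_⟩
    apply ext4 <;> simp [hP, coe_uu']
  · refine ⟨-s, P, neg_ne_zero.2 hs', Or.inr ?_⟩
    apply ext4 <;> simp [hP, coe_uu', Matrix.SpecialLinearGroup.coe_neg]

variable [DecidableEq F]

/-- Odd `q`: the degrees of irreducible characters. -/
theorem degree_list (hodd : Odd q) {χ : G → ℂ} (hχ : Cfsg.IsIrrCharacter G χ) :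
    χ 1 = 1 ∨ χ 1 = (q : ℂ) ∨ χ 1 = (q : ℂ) + 1 ∨ χ 1 = (q : ℂ) - 1 ∨
      χ 1 = (((q + 1) / 2 : ℕ) : ℂ) ∨ χ 1 = (((q - 1) / 2 : ℕ) : ℂ) := by
  obtain ⟨g0, h0⟩ := exists_noEig (F := F)
  obtain ⟨θ0, h01, h02, -⟩ := exists_theta0 h0 hodd
  rw [half_add hodd, half_sub hodd]
  rcases uu_sum_cases hodd h0 h01 h02 hχ with h | h | h | h | h | h <;> simp [h.1]

theorem card_degree (hodd : Odd q) (x : ℂ) :
    2 * (Nat.card {χ : Cfsg.IrrCharacter G // (χ : G → ℂ) 1 = x} : ℂ) =
      2 * (if (1 : ℂ) = x then 1 else 0) + 2 * (if (q : ℂ) = x then 1 else 0) +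
      ((q : ℂ) - 3) * (if (q : ℂ) + 1 = x then 1 else 0) +
        ((q : ℂ) - 1) * (if (q : ℂ) - 1 = x then 1 else 0) +
        4 * (if ((q : ℂ) + 1) / 2 = x then 1 else 0) +
        4 * (if ((q : ℂ) - 1) / 2 = x then 1 else 0) := by
  classical
  obtain ⟨g0, h0⟩ := exists_noEig (F := F)
  obtain ⟨θ0, h01, h02, -⟩ := exists_theta0 h0 hodd
  rw [← (table h0 hodd h01 h02).2 (fun y => if y = x then 1 else 0), Nat.card_eq_fintype_card,
    Fintype.card_subtype, Finset.natCast_card_filter]

theorem card_classes_odd (hodd : Odd q) : Nat.card (ConjClasses G) = q + 4 := by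
  obtain ⟨g0, h0⟩ := exists_noEig (F := F)
  obtain ⟨θ0, h01, h02, -⟩ := exists_theta0 h0 hodd
  have h := (table h0 hodd h01 h02).2 (fun _ => 1)
  rw [Finset.sum_const, Finset.card_univ, nsmul_eq_mul, mul_one, ← Nat.card_eq_fintype_card,
    CT.card_irr_eq_card_conjClasses] at h
  have h' : (Nat.card (ConjClasses G) : ℂ) = ((q + 4 : ℕ) : ℂ) := by
    push_cast
    linear_combination h / 2
  exact_mod_cast h'

/-- Values of a character on the unipotent elements through a multiplicity function on `F`. -/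
theorem uu_fourier (χ : G → ℂ) (hχ : Cfsg.IsCharacter G χ) :
    ∃ n : F → ℕ, (∀ c, (n c : ℂ) * q = ∑ r : F, χ (uu r) * psi F (-(c * r))) ∧
      (∀ r, χ (uu r) = ∑ c : F, (n c : ℂ) * psi F (c * r)) ∧
      ∀ c d : F, d ≠ 0 → n (c * d ^ 2) = n c := by
  classical
  let U : Subgroup G :=
    { carrier := Set.range uu
      one_mem' := ⟨0, uu_zero⟩
      mul_mem' := by
        rintro _ _ ⟨a, rfl⟩ ⟨b, rfl⟩
        exact ⟨a + b, (uu_mul a b).symm⟩
      inv_mem' := by
        rintro _ ⟨a, rfl⟩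
        refine ⟨-a, ?_⟩
        rw [eq_inv_iff_mul_eq_one, uu_mul, neg_add_cancel, uu_zero] }
  have hinj : Function.Injective (uu : F → G) := fun a b h => by
    have := congrArg (fun g : G => (g : M2) 0 1) h
    simpa [coe_uu'] using this
  let e : F ≃ U := Equiv.ofInjective uu hinj
  have he : ∀ u : U, uu (e.symm u) = (u : G) := fun u => Equiv.apply_ofInjective_symm hinj u
  letI : Fintype U := Fintype.ofEquiv F e
  have hlin : ∀ c : F, Cfsg.IsCharacter U (fun u : U => psi F (c * e.symm u)) := by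
    intro c
    let lam : U →* ℂ :=
      { toFun := fun u => psi F (c * e.symm u)
        map_one' := by
          have : e.symm 1 = 0 := hinj (by rw [he, uu_zero]; rfl)
          rw [this, mul_zero, AddChar.map_zero_eq_one]
        map_mul' := fun a b => by
          have : e.symm (a * b) = e.symm a + e.symm b := hinj (by
            rw [he, Subgroup.coe_mul, ← he a, ← he b, uu_mul])
          rw [this, mul_add, AddChar.map_add_eq_mul] }
    exact CT.isCharacter_lin lam.toHomUnits
  have hn : ∀ c : F, ∃ n : ℕ, (n : ℂ) * q = ∑ r : F, χ (uu r) * psi F (-(c * r)) := by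
    intro c
    obtain ⟨n, hn⟩ := CT.classInner_character_nat (CT.isCharacter_restrict U hχ) (hlin c)
    refine ⟨n, ?_⟩
    rw [← hn, Cfsg.classInner, Nat.card_eq_fintype_card, ← Fintype.card_congr e, mul_comm,
      ← mul_assoc, mul_inv_cancel₀ (by exact_mod_cast (Fintype.card_pos (α := F)).ne'), one_mul]
    refine (Fintype.sum_equiv e _ _ fun r => ?_).symm
    rw [Equiv.symm_apply_apply, AddChar.map_neg_eq_conj]
    rfl
  choose n hn using hn
  refine ⟨n, hn, fun r => ?_, fun c d hd => ?_⟩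
  · have hq : (q : ℂ) ≠ 0 := by exact_mod_cast (Fintype.card_pos (α := F)).ne'
    apply mul_right_cancel₀ hq
    rw [Finset.sum_mul, Finset.sum_congr rfl (fun c _ => show (n c : ℂ) * psi F (c * r) * q =
      ∑ s : F, χ (uu s) * psi F (-(c * s)) * psi F (c * r) by rw [mul_right_comm, hn, Finset.sum_mul]),
      Finset.sum_comm, Finset.sum_eq_single r]
    · rw [Finset.sum_congr rfl (fun c _ => show χ (uu r) * psi F (-(c * r)) * psi F (c * r) =
        χ (uu r) by rw [mul_assoc, ← AddChar.map_add_eq_mul, neg_add_cancel, AddChar.map_zero_eq_one,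
          mul_one]), Finset.sum_const, Finset.card_univ, nsmul_eq_mul, mul_comm]
    · intro s _ hs
      rw [Finset.sum_congr rfl (fun c _ => show χ (uu s) * psi F (-(c * s)) * psi F (c * r) =
        χ (uu s) * psi F (c * (r - s)) by rw [mul_assoc, ← AddChar.map_add_eq_mul]; ring_nf),
        ← Finset.mul_sum, sum_psi_mul (sub_ne_zero.2 hs.symm), mul_zero]
    · simp
  · have hcl : ∀ r : F, χ (uu (d ^ 2 * r)) = χ (uu r) := fun r => by
      have := CT.isClassFunction_of_isCharacter hχ (uu r) (dd (Units.mk0 d hd))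
      rwa [dd_uu_dd, Units.val_mk0] at this
    have : (n (c * d ^ 2) : ℂ) * q = (n c : ℂ) * q := by
      rw [hn, hn]
      refine Fintype.sum_equiv (Equiv.mulLeft₀ (d ^ 2) (pow_ne_zero 2 hd)) _ _ fun r => ?_
      rw [Equiv.mulLeft₀_apply, hcl, mul_assoc c]
    exact_mod_cast mul_right_cancel₀ (by exact_mod_cast (Fintype.card_pos (α := F)).ne') this

/-- The value at a transvection of a character with prescribed average over `U`. -/
theorem uu_gauss (hodd : Odd q) {χ : G → ℂ} (hχ : Cfsg.IsCharacter G χ) (e : ℕ)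
    (hdeg : χ 1 = ((e : ℂ) + ((q : ℂ) - 1) / 2)) (hsum : ∑ r : F, χ (uu r) = (e : ℂ) * q) :
    ∃ (n₁ n₂ : ℕ) (S₁ S₂ : ℂ), n₁ + n₂ = 1 ∧ S₁ + S₂ = -1 ∧
      (S₁ - S₂) ^ 2 = (-1 : ℂ) ^ ((q - 1) / 2) * q ∧
      χ (uu 1) = e + n₁ * S₁ + n₂ * S₂ ∧
      ∀ r : F, r ≠ 0 → χ (uu r) =
        if IsSquare r then (e : ℂ) + n₁ * S₁ + n₂ * S₂ else e + n₁ * S₂ + n₂ * S₁ := by
  classical
  have hq := two_le_q (F := F)
  obtain ⟨n, hn, hval, hinv⟩ := uu_fourier χ hχ
  have hν := nsq_ne_zero (F := F) hodd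
  set ν := nsq F
  have hn0 : n 0 = e := by
    have h := hn 0
    simp only [zero_mul, neg_zero, AddChar.map_zero_eq_one, mul_one] at h
    rw [hsum] at h
    exact_mod_cast mul_right_cancel₀ (by exact_mod_cast (Fintype.card_pos (α := F)).ne') h
  have hcls : ∀ c : F, c ≠ 0 → n c = if IsSquare c then n 1 else n ν := by
    intro c hc
    split_ifs with h
    · obtain ⟨d, rfl⟩ := h
      rw [← hinv 1 d (left_ne_zero_of_mul hc), one_mul, pow_two]
    · obtain ⟨d, hd⟩ : IsSquare (c / ν) := by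
        rw [← quadraticChar_one_iff_isSquare (div_ne_zero hc hν)]
        have h1 := quadraticChar_neg_one_iff_not_isSquare.2 h
        have e1 : c = ν * (c / ν) := by rw [mul_div_cancel₀ _ hν]
        rw [e1, map_mul, quadraticChar_neg_one_iff_not_isSquare.2 (nsq_spec hodd)] at h1
        linear_combination -h1
      have hd0 : d ≠ 0 := fun h' => hc (by
        rw [h', mul_zero, div_eq_zero_iff] at hd
        exact hd.resolve_right hν)
      rw [← hinv ν d hd0, pow_two, ← hd, mul_div_cancel₀ _ hν]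
  set T := fun r : F => ∑ c ∈ Finset.univ.erase (0 : F),
    (if IsSquare c then psi F (c * r) else 0) with hT
  set T' := fun r : F => ∑ c ∈ Finset.univ.erase (0 : F),
    (if IsSquare c then 0 else psi F (c * r)) with hT'
  have hexp : ∀ r : F, χ (uu r) = e + n 1 * T r + n ν * T' r := by
    intro r
    rw [hval, ← Finset.add_sum_erase _ _ (Finset.mem_univ (0 : F)), hn0, zero_mul,
      AddChar.map_zero_eq_one, mul_one, hT, hT', Finset.mul_sum, Finset.mul_sum, add_assoc,
      ← Finset.sum_add_distrib]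
    congr 1
    refine Finset.sum_congr rfl fun c hc => ?_
    rw [hcls c (Finset.ne_of_mem_erase hc)]
    split_ifs <;> simp
  have hsumT : ∀ r : F, r ≠ 0 → T r + T' r = -1 := by
    intro r hr
    rw [hT, hT', ← Finset.sum_add_distrib]
    have h := sum_psi_mul hr
    rw [← Finset.add_sum_erase _ _ (Finset.mem_univ (0 : F)), zero_mul,
      AddChar.map_zero_eq_one] at h
    rw [eq_neg_iff_add_eq_zero, add_comm]
    refine Eq.trans ?_ h
    congr 1
    exact Finset.sum_congr rfl fun c _ => by split_ifs <;> simp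
  have hchar : ringChar F ≠ 2 := ringChar_ne_two hodd
  have hgauss : T 1 - T' 1 = gaussSum (sgnChar F) (psi F) := by
    rw [gaussSum, ← Finset.add_sum_erase _ _ (Finset.mem_univ (0 : F)), sgnChar_apply,
      quadraticChar_zero, Int.cast_zero, zero_mul, zero_add, hT, hT', ← Finset.sum_sub_distrib]
    refine Finset.sum_congr rfl fun c hc => ?_
    rw [sgnChar_apply, mul_one]
    split_ifs with h
    · rw [(quadraticChar_one_iff_isSquare (Finset.ne_of_mem_erase hc)).2 h]; simp
    · rw [quadraticChar_neg_one_iff_not_isSquare.2 h]; simp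
  have hprim : (psi F).IsPrimitive := by
    unfold psi
    exact AddChar.FiniteField.primitiveChar_to_Complex_isPrimitive F
  have hsq : (T 1 - T' 1) ^ 2 = (-1 : ℂ) ^ ((q - 1) / 2) * q := by
    rw [hgauss, gaussSum_sq (sgnChar_ne_one hodd)
      ((quadraticChar_isQuadratic F).comp (Int.castRingHom ℂ)) hprim, sgnChar_apply,
      quadraticChar_neg_one hchar, ZMod.χ₄_eq_neg_one_pow (Nat.odd_iff.1 hodd)]
    push_cast
    rw [show q / 2 = (q - 1) / 2 by rcases hodd with ⟨k, hk⟩; omega]
  have hn12 : n 1 + n ν = 1 := by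
    have h := hexp 0
    rw [uu_zero, hdeg] at h
    have hT0 : T 0 + T' 0 = (q : ℂ) - 1 := by
      rw [hT, hT', ← Finset.sum_add_distrib, Finset.sum_congr rfl (fun c _ => show
        (if IsSquare c then psi F (c * 0) else 0) + (if IsSquare c then 0 else psi F (c * 0)) = 1 by
          rw [mul_zero, AddChar.map_zero_eq_one]; split_ifs <;> simp),
        Finset.sum_const, Finset.card_erase_of_mem (Finset.mem_univ _), Finset.card_univ,
        nsmul_eq_mul, mul_one, Nat.cast_sub (by omega), Nat.cast_one]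
    have hT0' : T 0 = T' 0 := by
      rw [hT, hT']
      have h2 : ∑ c ∈ Finset.univ.erase (0 : F), ((quadraticChar F c : ℤ) : ℂ) = 0 := by
        have h3 : ∑ c : F, ((quadraticChar F c : ℤ) : ℂ) = 0 := by
          rw [← Int.cast_sum, quadraticChar_sum_zero hchar, Int.cast_zero]
        rw [← Finset.add_sum_erase _ _ (Finset.mem_univ (0 : F)), quadraticChar_zero,
          Int.cast_zero, zero_add] at h3
        exact h3
      rw [← sub_eq_zero, ← Finset.sum_sub_distrib]
      refine Eq.trans ?_ h2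
      refine Finset.sum_congr rfl fun c hc => ?_
      rw [mul_zero, AddChar.map_zero_eq_one]
      split_ifs with hh
      · rw [(quadraticChar_one_iff_isSquare (Finset.ne_of_mem_erase hc)).2 hh]; simp
      · rw [quadraticChar_neg_one_iff_not_isSquare.2 hh]; simp
    have h' : ((n 1 + n ν : ℕ) : ℂ) * (((q : ℂ) - 1) / 2) = 1 * (((q : ℂ) - 1) / 2) := by
      push_cast
      rw [← hT0'] at hT0
      linear_combination -h + ((n 1 : ℂ) + n ν) / 2 * (hT0) * (-1) + (n ν : ℂ) * hT0'
    have hne : ((q : ℂ) - 1) / 2 ≠ 0 :=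
      div_ne_zero (sub_ne_zero.2 (by exact_mod_cast (by omega : q ≠ 1))) two_ne_zero
    exact_mod_cast mul_right_cancel₀ hne h'
  have htrans : ∀ r : F, r ≠ 0 → IsSquare r → T r = T 1 ∧ T' r = T' 1 := by
    rintro r hr ⟨d, rfl⟩
    have hd : d ≠ 0 := left_ne_zero_of_mul hr
    have hiff : ∀ c : F, IsSquare (c * (d * d)) ↔ IsSquare c := fun c =>
      ⟨fun ⟨s, hs⟩ => ⟨s / d, by field_simp; linear_combination hs⟩,
        fun ⟨s, hs⟩ => ⟨s * d, by rw [hs]; ring⟩⟩
    constructor <;>
    · simp only [hT, hT']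
      refine Finset.sum_equiv (Equiv.mulRight₀ (d * d) hr) (fun c => ?_) fun c _ => ?_
      · simp [hr]
      · simp only [Equiv.mulRight₀_apply, hiff, mul_one]
  have htrans' : ∀ r : F, r ≠ 0 → ¬ IsSquare r → T r = T' 1 ∧ T' r = T 1 := by
    intro r hr hns
    have hiff : ∀ c : F, c ≠ 0 → (IsSquare (c * r) ↔ ¬ IsSquare c) := fun c hc => by
      rw [← quadraticChar_one_iff_isSquare (mul_ne_zero hc hr), map_mul,
        quadraticChar_neg_one_iff_not_isSquare.2 hns, ← quadraticChar_neg_one_iff_not_isSquare]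
      constructor <;> intro h <;> linear_combination -h
    constructor <;>
    · simp only [hT, hT']
      refine Finset.sum_equiv (Equiv.mulRight₀ r hr) (fun c => ?_) fun c hc => ?_
      · simp [hr]
      · simp only [Equiv.mulRight₀_apply, hiff c (Finset.ne_of_mem_erase hc), mul_one]
        split_ifs <;> rfl
  refine ⟨n 1, n ν, T 1, T' 1, hn12, hsumT 1 one_ne_zero, hsq, hexp 1, fun r hr => ?_⟩
  rw [hexp r]
  split_ifs with h
  · rw [(htrans r hr h).1, (htrans r hr h).2]
  · rw [(htrans' r hr h).1, (htrans' r hr h).2]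

theorem tr_sq_of_scal {g : G} (h : Scal g) : tr g ^ 2 = 4 := by
  rcases (scal_iff g).1 h with rfl | rfl
  · simp [tr]; norm_num
  · simp [tr, Matrix.SpecialLinearGroup.coe_neg]; norm_num

/-- For `q = 3` a cuspidal character vanishes on the non-split torus outside the centre. -/
theorem cusp_cent_three {g0 : Matrix.SpecialLinearGroup (Fin 2) F} (h0 : NoEig g0) (hodd : Odd q)
    (h3 : q = 3) {θ : cent g0 →* ℂˣ} (hθ : θ ≠ θ⁻¹) (c : cent g0) (hc : ¬ Scal (c : G)) :
    -(((θ c : ℂˣ) : ℂ) + ((θ c⁻¹ : ℂˣ) : ℂ)) = 0 := by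
  classical
  haveI := isCyclic_cent h0.tr_sq
  have hcard : Nat.card (cent g0) = 4 := by
    rcases card_cent_regular h0.tr_sq with ⟨-, hc', -⟩ | ⟨he, -, -⟩
    · omega
    · obtain ⟨a, ha⟩ := he
      exact absurd ha ((noEig_iff g0).1 h0 a)
  have hgen : Subgroup.zpowers c = ⊤ := by
    refine Subgroup.eq_top_of_card_eq _ ?_
    rw [Nat.card_zpowers, hcard]
    have hd : orderOf c ∣ 2 ^ 2 := (orderOf_dvd_natCard c).trans (by rw [hcard]; norm_num)
    obtain ⟨i, hi, he⟩ := (Nat.dvd_prime_pow Nat.prime_two).1 hd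
    interval_cases i
    · exfalso
      rw [pow_zero, orderOf_eq_one_iff] at he
      exact hc (by rw [he]; exact (scal_iff _).2 (Or.inl rfl))
    · exfalso
      have h2 : (c : G) * c = 1 := by
        have := pow_orderOf_eq_one c
        rw [he, pow_one, pow_two] at this
        exact congrArg Subtype.val this
      exact hc ((scal_iff _).2 (eq_one_or_of_sq (two_ne_zero' hodd) h2))
    · exact he
  have h4 : ((θ c : ℂˣ) : ℂ) ^ 4 = 1 := by
    rw [← Units.val_pow_eq_pow_val, ← map_pow, ← hcard, pow_card_eq_one', map_one, Units.val_one]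
  have hsq : ((θ c : ℂˣ) : ℂ) ^ 2 ≠ 1 := by
    intro h
    refine hθ (MonoidHom.ext fun x => ?_)
    obtain ⟨z, rfl⟩ := Subgroup.mem_zpowers_iff.1 (hgen ▸ Subgroup.mem_top x)
    rw [MonoidHom.inv_apply, map_zpow]
    have h' : θ c = (θ c)⁻¹ := by
      rw [eq_inv_iff_mul_eq_one]
      exact Units.ext (by rw [Units.val_mul, ← pow_two, h, Units.val_one])
    conv_lhs => rw [h', _root_.inv_zpow]
  have hm : ((θ c : ℂˣ) : ℂ) ^ 2 = -1 := by
    refine eq_neg_of_add_eq_zero_left ((mul_eq_zero.1 ?_).resolve_left (sub_ne_zero.2 hsq))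
    linear_combination h4
  rw [map_inv, Units.val_inv_eq_inv_val, neg_eq_zero]
  field_simp
  linear_combination hm

end Cfsg.Agent.SL2
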