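import Cfsg.Agent.Lib.SL2.EvenTable

/-!
# Values at a transvection, `q` even
-/

set_option autoImplicit false
set_option linter.unusedSectionVars false

namespace Cfsg.Agent.SL2

open Matrix
open scoped ComplexConjugate

variable {F : Type*} [Field F]

local notation "G" => Matrix.SpecialLinearGroup (Fin 2) F
local notation "M2" => Matrix (Fin 2) (Fin 2) F

variable [Fintype F]

local notation "q" => Fintype.card F

theorem sum_uu_eq_zero_of_orth {ψ : G → ℂ} (hψ : Cfsg.IsClassFunction G ψ) [DecidableEq F]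
    (hz : ∀ α : MulChar F ℂ, Cfsg.classInner (princ α) ψ = 0) :
    ∑ r : F, conj (ψ (uu r)) = 0 := by
  classical
  haveI : Fintype (MulChar F ℂ) := Fintype.ofFinite _
  haveI : Fintype (borel F) := Fintype.ofFinite _
  have hB : ∀ α : MulChar F ℂ, ∑ b : borel F, α (((b : G) : M2) 0 0) * conj (ψ b) = 0 := by
    intro α
    have h := hz α
    rw [princ, CT.frobenius_reciprocity _ _ hψ, Cfsg.classInner] at h
    exact (mul_eq_zero.1 h).resolve_left (inv_ne_zero card_borel_ne)
  have e : ∀ x : F, x ≠ 0 →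
      ∑ α : MulChar F ℂ, α x = if x = 1 then (Fintype.card (MulChar F ℂ) : ℂ) else 0 := by
    intro x hx
    split_ifs with h1
    · simp [h1]
    · obtain ⟨β, hβ⟩ := MulChar.exists_apply_ne_one_of_hasEnoughRootsOfUnity F ℂ h1
      have hh : β x * ∑ α : MulChar F ℂ, α x = ∑ α : MulChar F ℂ, α x := by
        rw [Finset.mul_sum]
        exact Fintype.sum_equiv (Equiv.mulLeft β) _ _ fun α => by simp
      exact eq_zero_of_mul_eq_self_left hβ hh
  have h := Finset.sum_eq_zero (fun α (_ : α ∈ (Finset.univ : Finset (MulChar F ℂ))) => hB α)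
  rw [Finset.sum_comm] at h
  simp only [← Finset.sum_mul] at h
  have hsum : ∑ b ∈ Finset.univ.filter (fun b : borel F => ((b : G) : M2) 0 0 = 1), conj (ψ b) = 0 := by
    have hc : (Fintype.card (MulChar F ℂ) : ℂ) ≠ 0 := by exact_mod_cast Fintype.card_ne_zero
    rw [Finset.sum_filter]
    refine (mul_eq_zero.1 ?_).resolve_left hc
    rw [Finset.mul_sum]
    refine Eq.trans (Finset.sum_congr rfl fun b _ => ?_) h
    rw [e _ (upper_root (mem_borel.1 b.2)).2.1]
    split_ifs <;> simp
  suffices hU : ∑ b ∈ Finset.univ.filter (fun b : borel F => ((b : G) : M2) 0 0 = 1), conj (ψ b) =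
      ∑ r : F, conj (ψ (uu r)) by rw [← hU, hsum]
  refine Finset.sum_bij' (fun b _ => ((b : G) : M2) 0 1)
    (fun r _ => ⟨uu r, mem_borel.2 (by simp [uu])⟩) (fun b _ => Finset.mem_univ _)
    (fun r _ => Finset.mem_filter.2 ⟨Finset.mem_univ _, by simp [uu]⟩) (fun b hb => ?_)
    (fun r _ => by simp [uu]) (fun b hb => ?_)
  all_goals
    have h00 := (Finset.mem_filter.1 hb).2
    have h10 := mem_borel.1 b.2
    have h11 : ((b : G) : M2) 1 1 = 1 := by rw [(upper_root h10).2.2, h00, inv_one]
    have e' : uu (((b : G) : M2) 0 1) = (b : G) := by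
      apply ext4 <;> simp [uu, h00, h10, h11]
  · exact Subtype.ext e'
  · rw [e']

theorem charDegree_of_one {χ : G → ℂ} {n : ℕ} (h : χ 1 = (n : ℂ)) : Cfsg.charDegree χ = n := by
  simp [Cfsg.charDegree, h]

theorem value_transvection_even (h2 : (2 : F) = 0) (h4 : 4 ≤ q) {χ : G → ℂ}
    (hχ : Cfsg.IsIrrCharacter G χ) :
    (χ 1 = (q : ℂ) + 1 → χ (uu 1) = 1) ∧ (χ 1 = (q : ℂ) - 1 → χ (uu 1) = -1) := by
  classical
  have key : (∀ α : MulChar F ℂ, Cfsg.classInner (princ α) χ = 0) →
      χ 1 + ((q : ℂ) - 1) * χ (uu 1) = 0 := by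
    intro hz
    have h := congrArg conj (sum_uu_eq_zero_of_orth (CT.isClassFunction_of_isIrr hχ) hz)
    simp only [map_sum, Complex.conj_conj, map_zero] at h
    have hval : ∀ r : F, r ≠ 0 → χ (uu r) = χ (uu 1) := by
      intro r hr
      obtain ⟨P, hP⟩ := isConj_of_char_two h2 (not_scal_uu hr) (not_scal_uu one_ne_zero)
        (by rw [tr_uu, tr_uu])
      rw [← hP, CT.isClassFunction_of_isIrr hχ]
    rw [← Finset.add_sum_erase _ _ (Finset.mem_univ (0 : F)), uu_zero,
      Finset.sum_congr rfl (fun r hr => hval r (Finset.ne_of_mem_erase hr)), Finset.sum_const,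
      Finset.card_erase_of_mem (Finset.mem_univ _), Finset.card_univ, nsmul_eq_mul,
      Nat.cast_sub (by omega), Nat.cast_one] at h
    exact h
  have hmain : (∀ α : MulChar F ℂ, Cfsg.classInner (princ α) χ = 0) ∨
      χ = (fun _ => 1) ∨ χ = (princ (1 : MulChar F ℂ) - fun _ : G => 1) ∨
      ∃ α : MulChar F ℂ, α ≠ 1 ∧ χ = princ α := by
    by_contra hcon
    push Not at hcon
    obtain ⟨⟨α, hα⟩, h1, h2', h3⟩ := hcon
    by_cases ha : α = 1
    · subst ha
      have e : princ (1 : MulChar F ℂ) =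
          (princ (1 : MulChar F ℂ) - fun _ : G => 1) + fun _ : G => (1 : ℂ) := by simp
      rw [e, CT.classInner_add_left, CT.irr_inner_of_ne (isIrr_st_even h2) hχ (Ne.symm h2'),
        CT.irr_inner_of_ne CT.isIrrCharacter_one hχ (Ne.symm h1), add_zero] at hα
      exact hα rfl
    · exact hα (CT.irr_inner_of_ne (isIrr_princ_even h2 ha) hχ (Ne.symm (h3 α ha)))
  have hq1 : (q : ℂ) - 1 ≠ 0 := sub_ne_zero.2 (by exact_mod_cast (by omega : q ≠ 1))
  constructor
  · intro hdeg
    rcases hmain with hz | h | h | ⟨α, -, h⟩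
    · exfalso
      have h := key hz
      have hdvd : q - 1 ∣ q + 1 := by
        refine CT.dvd_of_isIntegral_div (by omega) ?_
        rw [Nat.cast_sub (by omega), Nat.cast_one]
        push_cast
        rw [show ((q : ℂ) + 1) / ((q : ℂ) - 1) = -χ (uu 1) by
          rw [div_eq_iff hq1]; linear_combination h - hdeg]
        exact (CT.isIntegral_isCharacter (CT.isCharacter_of_isIrr hχ) _).neg
      have h2' : q - 1 ∣ 2 := by
        have := Nat.dvd_sub hdvd (dvd_refl (q - 1))
        rwa [show q + 1 - (q - 1) = 2 by omega] at this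
      have := Nat.le_of_dvd two_pos h2'
      omega
    · exfalso
      rw [h] at hdeg
      exact (show (q : ℕ) ≠ 0 by omega) (by exact_mod_cast (by linear_combination -hdeg : (q : ℂ) = 0))
    · exfalso
      rw [h] at hdeg
      simp only [Pi.sub_apply, princ_one'] at hdeg
      exact one_ne_zero (by linear_combination -hdeg : (1 : ℂ) = 0)
    · rw [h]
      exact princ_unip_even h2 α (not_scal_uu one_ne_zero) (by rw [tr_uu, h2])
  · intro hdeg
    rcases hmain with hz | h | h | ⟨α, -, h⟩
    · have h := key hz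
      exact mul_left_cancel₀ hq1 (by linear_combination h - hdeg)
    · exfalso
      rw [h] at hdeg
      exact (show (q : ℕ) ≠ 2 by omega) (by exact_mod_cast (by linear_combination -hdeg : (q : ℂ) = 2))
    · exfalso
      rw [h] at hdeg
      simp only [Pi.sub_apply, princ_one'] at hdeg
      exact one_ne_zero (by linear_combination hdeg : (1 : ℂ) = 0)
    · exfalso
      rw [h, princ_one'] at hdeg
      exact two_ne_zero (by linear_combination hdeg : (2 : ℂ) = 0)

theorem counts_even (h2 : (2 : F) = 0) (h4 : 4 ≤ q) :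
    Nat.card {χ : Cfsg.IrrCharacter G // (χ : G → ℂ) 1 = 1} = 1 ∧
      Nat.card {χ : Cfsg.IrrCharacter G // (χ : G → ℂ) 1 = (q : ℂ)} = 1 ∧
      Nat.card {χ : Cfsg.IrrCharacter G // (χ : G → ℂ) 1 = (q : ℂ) + 1} = (q - 2) / 2 ∧
      Nat.card {χ : Cfsg.IrrCharacter G // (χ : G → ℂ) 1 = (q : ℂ) - 1} = q / 2 := by
  classical
  set d : Cfsg.IrrCharacter G → ℕ := fun ψ => Cfsg.charDegree (ψ : G → ℂ) with hd
  have hcast : ∀ ψ : Cfsg.IrrCharacter G, (ψ : G → ℂ) 1 = (d ψ : ℂ) := fun ψ =>
    CT.deg_eq (CT.isCharacter_of_isIrr ψ.2)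
  have hval : ∀ n : ℕ, Nat.card {χ : Cfsg.IrrCharacter G // (χ : G → ℂ) 1 = (n : ℂ)} =
      (Finset.univ.filter fun χ => d χ = n).card := fun n => by
    rw [Nat.card_eq_fintype_card, Fintype.card_subtype]
    exact congrArg Finset.card (Finset.filter_congr fun χ _ => by rw [hcast, Nat.cast_inj])
  let st' : Cfsg.IrrCharacter G := ⟨_, isIrr_st_even h2⟩
  have hst : d st' = q := charDegree_of_one (by
    show princ (1 : MulChar F ℂ) 1 - 1 = _
    rw [princ_one']; ring)
  have h1 : d (CT.trivIrr G) = 1 := charDegree_of_one (by simp)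
  have hcases : ∀ ψ, ψ = CT.trivIrr G ∨ ψ = st' ∨ d ψ = q + 1 ∨ d ψ = q - 1 := fun ψ =>
    (deg_cases_even h2 ψ).imp (fun h => Subtype.ext h) (Or.imp_left fun h => Subtype.ext h)
  have hn1 : (Finset.univ.filter fun χ => d χ = 1) = {CT.trivIrr G} := by
    ext ψ
    simp only [Finset.mem_filter, Finset.mem_univ, true_and, Finset.mem_singleton]
    refine ⟨fun h => ?_, fun h => h ▸ h1⟩
    rcases hcases ψ with e | e | e | e
    · exact e
    all_goals first
      | omega
      | (rw [e, hst] at h; omega)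
  have hnq : (Finset.univ.filter fun χ => d χ = q) = {st'} := by
    ext ψ
    simp only [Finset.mem_filter, Finset.mem_univ, true_and, Finset.mem_singleton]
    refine ⟨fun h => ?_, fun h => h ▸ hst⟩
    rcases hcases ψ with e | e | e | e
    · rw [e, h1] at h; omega
    · exact e
    all_goals omega
  set a := (Finset.univ.filter fun χ => d χ = q + 1).card
  set b := (Finset.univ.filter fun χ => d χ = q - 1).card
  have hpart : ∀ f : ℕ → ℕ, ∑ ψ, f (d ψ) = f 1 + f q + a * f (q + 1) + b * f (q - 1) := by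
    intro f
    have hmem : ∀ ψ ∈ (Finset.univ : Finset (Cfsg.IrrCharacter G)),
        d ψ ∈ ({1, q, q + 1, q - 1} : Finset ℕ) := fun ψ _ => by
      rcases hcases ψ with e | e | e | e
      · rw [e, h1]; simp
      · rw [e, hst]; simp
      · simp [e]
      · simp [e]
    rw [← Finset.sum_fiberwise_of_maps_to hmem, Finset.sum_insert (by simp; omega),
      Finset.sum_insert (by simp; omega), Finset.sum_pair (by omega)]
    have hc : ∀ n : ℕ, ∑ ψ ∈ Finset.univ.filter (fun χ => d χ = n), f (d ψ) =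
        (Finset.univ.filter fun χ => d χ = n).card * f n := fun n => by
      rw [Finset.sum_congr rfl (fun ψ hψ => by rw [(Finset.mem_filter.1 hψ).2]), Finset.sum_const,
        smul_eq_mul]
    rw [hc, hc, hc, hc, hn1, hnq, Finset.card_singleton, Finset.card_singleton, one_mul, one_mul]
    ring
  have htot := hpart (fun _ => 1)
  rw [Finset.sum_const, smul_eq_mul, mul_one, Finset.card_univ, ← Nat.card_eq_fintype_card,
    CT.card_irr_eq_card_conjClasses, card_conjClasses_even h2] at htot
  have hsq := hpart (fun n => n ^ 2)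
  have hsum : ∑ ψ, d ψ ^ 2 = Nat.card G := by
    have h : ∑ ψ : Cfsg.IrrCharacter G, (ψ : G → ℂ) 1 ^ 2 = (Nat.card G : ℂ) := CT.sum_degree_sq
    simp only [hcast] at h
    exact_mod_cast h
  rw [hsum, card_G] at hsq
  obtain ⟨j, hj⟩ : ∃ j, q = j + 1 := ⟨q - 1, by omega⟩
  have hab : 2 * a + 2 = q := by
    rw [hj, show j + 1 - 1 = j from rfl] at hsq
    have hb : a + b = j := by omega
    subst hb
    nlinarith
  refine ⟨?_, ?_, ?_, ?_⟩
  · have := hval 1
    rw [hn1, Finset.card_singleton, Nat.cast_one] at this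
    exact this
  · have := hval q
    rw [hnq, Finset.card_singleton] at this
    exact this
  · have := hval (q + 1)
    push_cast at this
    rw [this]
    show a = _
    omega
  · have := hval (q - 1)
    rw [Nat.cast_sub (by omega), Nat.cast_one] at this
    rw [this]
    show b = _
    omega

end Cfsg.Agent.SL2
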