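import Cfsg.Agent.Lib.SL2.Table

/-!
# Using the character table of `SL(2, q)`
-/

set_option autoImplicit false
set_option linter.unusedSectionVars false

namespace Cfsg.Agent.SL2

open Matrix

variable {F : Type*} [Field F]

local notation "G" => Matrix.SpecialLinearGroup (Fin 2) F
local notation "M2" => Matrix (Fin 2) (Fin 2) F

theorem irr_central_mul {H : Type*} [Group H] [Finite H] {χ : H → ℂ}
    (hχ : Cfsg.IsIrrCharacter H χ) {z : H} (hz : z ∈ Subgroup.center H) (g : H) :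
    χ (z * g) * χ 1 = χ z * χ g := by
  haveI := Fintype.ofFinite H
  obtain ⟨n, ρ, hρ, rfl⟩ := hχ
  obtain ⟨ω, hω, -⟩ := CT.central_scalar ρ hz
  have hz' : ∀ x : H, ρ.character (z * x) = ω * ρ.character x := fun x => by
    simp only [Representation.character, map_mul, hω, Module.End.mul_eq_comp,
      LinearMap.smul_comp, LinearMap.id_comp, map_smul, smul_eq_mul]
  have h1 := hz' 1
  rw [mul_one] at h1
  rw [hz' g, h1]
  ring

variable [Fintype F]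

local notation "q" => Fintype.card F

/-- A cyclic subgroup of order `q + 1` is the centraliser of a generator without eigenvectors. -/
theorem exists_gen_noEig (hodd : Odd q) (C : Subgroup G) (hC : IsCyclic C)
    (hcard : Nat.card C = q + 1) : ∃ g0 : G, NoEig g0 ∧ C = cent g0 := by
  obtain ⟨γ, hγ⟩ := IsCyclic.exists_generator (α := C)
  have hord : orderOf (γ : G) = q + 1 := by
    rw [Subgroup.orderOf_coe, orderOf_eq_card_of_forall_mem_zpowers hγ, hcard]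
  have hq := two_le_q (F := F)
  have hle : C ≤ cent (γ : G) := fun x hx => by
    rw [mem_cent]
    letI : CommGroup C := IsCyclic.commGroup
    exact congrArg Subtype.val (mul_comm γ ⟨x, hx⟩)
  have hdvd : q + 1 ∣ Nat.card (cent (γ : G)) := hcard ▸ Subgroup.card_dvd_of_le hle
  have hns : ¬ Scal (γ : G) := fun h => by
    have h2 : (γ : G) ^ 2 = 1 := by
      rcases (scal_iff _).1 h with e | e <;> rw [e] <;> simp
    have := Nat.le_of_dvd two_pos (orderOf_dvd_of_pow_eq_one h2)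
    omega
  have ht : tr (γ : G) ^ 2 ≠ 4 := fun h4 => by
    rw [card_cent_unip hns h4, card_sq_one hodd] at hdvd
    have hsum : q + 1 ∣ 2 * (q + 1) := dvd_mul_left _ _
    have h2 : q + 1 ∣ 2 := (Nat.dvd_add_right hdvd).1 (by rwa [mul_add, mul_one] at hsum)
    have := Nat.le_of_dvd two_pos h2
    omega
  rcases card_cent_regular ht with ⟨hno, hc, -⟩ | ⟨-, hc, -⟩
  · refine ⟨γ, (noEig_iff _).2 hno, ?_⟩
    exact Subgroup.eq_of_le_of_card_ge hle (by omega)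
  · rw [hc] at hdvd
    have := Nat.le_of_dvd (by omega) hdvd
    omega

theorem eq_dd_of_diag {g : G} (h1 : (g : M2) 0 1 = 0) (h2 : (g : M2) 1 0 = 0) :
    ∃ a : Fˣ, (a : F) = (g : M2) 0 0 ∧ g = dd a := by
  obtain ⟨-, hne, h11⟩ := upper_root h2
  refine ⟨Units.mk0 _ hne, rfl, ?_⟩
  apply ext4 <;> simp [coe_dd', h1, h2, h11]

theorem eq_uu_of_unitri {g : G} (h2 : (g : M2) 1 0 = 0) (h0 : (g : M2) 0 0 = 1)
    (h3 : (g : M2) 1 1 = 1) : g = uu ((g : M2) 0 1) := by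
  apply ext4 <;> simp [coe_uu', h0, h2, h3]

variable [DecidableEq F]

theorem halfC_torus {g0 : Matrix.SpecialLinearGroup (Fin 2) F} (h0 : NoEig g0)
    {θ0 : cent g0 →* ℂˣ} (h02 : θ0 = θ0⁻¹)
    {χ : Matrix.SpecialLinearGroup (Fin 2) F → ℂ} (h : IsHalfC θ0 χ) (c : cent g0)
    (hc : ¬ Scal (c : G)) : χ (c : G) = -((θ0 c : ℂˣ) : ℂ) := by
  rw [h.2.1 _ (Or.inr (tr_sq_of_cent h0 c.2 hc).1), cusp_cent θ0 h0 c hc]
  have e : θ0 c⁻¹ = θ0 c := by
    conv_rhs => rw [h02]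
    simp
  rw [e]
  ring

theorem halfP_diag {χ : Matrix.SpecialLinearGroup (Fin 2) F → ℂ} (h : IsHalfP χ) {a : Fˣ}
    (ha : (a : F) ^ 2 ≠ 1) : χ (dd a) = (quadraticChar F (a : F) : ℂ) := by
  rw [h.2.1 _ (Or.inr (tr_sq_dd ha)), princ_diag _ ha, ← MulChar.inv_apply', sgnChar_inv,
    sgnChar_apply]
  ring

/-- The possible degrees, with the values of the sum over `U`. -/
theorem uu_sum_cases (hodd : Odd q) {g0 : Matrix.SpecialLinearGroup (Fin 2) F} (h0 : NoEig g0)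
    {θ0 : cent g0 →* ℂˣ} (h01 : θ0 ≠ 1) (h02 : θ0 = θ0⁻¹)
    {χ : Matrix.SpecialLinearGroup (Fin 2) F → ℂ} (hχ : Cfsg.IsIrrCharacter G χ) :
    (χ 1 = 1 ∧ ∑ r : F, χ (uu r) = (q : ℂ)) ∨ (χ 1 = (q : ℂ) ∧ ∑ r : F, χ (uu r) = (q : ℂ)) ∨
      (χ 1 = (q : ℂ) + 1 ∧ ∑ r : F, χ (uu r) = 2 * (q : ℂ)) ∨
      (χ 1 = (q : ℂ) - 1 ∧ ∑ r : F, χ (uu r) = 0) ∨
      (χ 1 = ((q : ℂ) + 1) / 2 ∧ ∑ r : F, χ (uu r) = (q : ℂ)) ∨
      (χ 1 = ((q : ℂ) - 1) / 2 ∧ ∑ r : F, χ (uu r) = 0) := by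
  rcases (table h0 hodd h01 h02).1 ⟨χ, hχ⟩ with h | h | ⟨α, -, h⟩ | ⟨θ, -, h⟩ | h | h
  · simp only at h; subst h
    exact Or.inl ⟨rfl, by simp⟩
  · simp only at h; subst h
    refine Or.inr (Or.inl ⟨st_one, ?_⟩)
    rw [sum_uu_const st (A := 0) (fun r hr => by simp [st, princ_uu hodd 1 hr]), st_one]
    ring
  · simp only at h; subst h
    refine Or.inr (Or.inr (Or.inl ⟨princ_one α, ?_⟩))
    rw [sum_uu_const _ (fun r hr => princ_uu hodd α hr), princ_one]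
    ring
  · simp only at h; subst h
    refine Or.inr (Or.inr (Or.inr (Or.inl ⟨cusp_one θ hodd h0, ?_⟩)))
    rw [sum_uu_const _ (fun r hr => cusp_uu h0 hodd θ hr), cusp_one θ hodd h0]
    ring
  · exact Or.inr (Or.inr (Or.inr (Or.inr (Or.inl ⟨h.1, h.2.2⟩))))
  · exact Or.inr (Or.inr (Or.inr (Or.inr (Or.inr ⟨h.1, h.2.2⟩))))

theorem sum_ite_unitri (χ : G → ℂ) :
    (∑ g : G, if (g : M2) 1 0 = 0 ∧ (g : M2) 0 0 = 1 ∧ (g : M2) 1 1 = 1 then χ g else 0) =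
      ∑ r : F, χ (uu r) := by
  rw [← Finset.sum_filter]
  refine Finset.sum_nbij' (fun g => (g : M2) 0 1) uu (fun g _ => Finset.mem_univ _)
    (fun r _ => by simp [coe_uu']) (fun g hg => ?_) (fun r _ => by simp [coe_uu'])
    (fun g hg => ?_)
  · obtain ⟨a, b, c⟩ := (Finset.mem_filter.1 hg).2
    exact (eq_uu_of_unitri a b c).symm
  · obtain ⟨a, b, c⟩ := (Finset.mem_filter.1 hg).2
    exact congrArg χ (eq_uu_of_unitri a b c)

theorem half_add (hodd : Odd q) : (((q + 1) / 2 : ℕ) : ℂ) = ((q : ℂ) + 1) / 2 := by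
  obtain ⟨k, hk⟩ := hodd
  rw [show (q + 1) / 2 = k + 1 by omega, hk]
  push_cast; ring

theorem half_sub (hodd : Odd q) : (((q - 1) / 2 : ℕ) : ℂ) = ((q : ℂ) - 1) / 2 := by
  obtain ⟨k, hk⟩ := hodd
  rw [show (q - 1) / 2 = k by omega, hk]
  push_cast; ring

end Cfsg.Agent.SL2
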