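import Cfsg.Agent.Lib.SL2.EvenTable
import Cfsg.Agent.Lib.SL2.TableUse
import Cfsg.Agent.Lib.SL2.McKay
import Cfsg.Prelude.Def_DegreeGraph

/-!
# Character degrees of `SL(2, q)` and `PSL(2, q)`
-/

set_option autoImplicit false
set_option linter.all false

namespace Cfsg.Agent.SL2

open Matrix

universe u v w

theorem charDegrees_congr {H : Type u} {K : Type v} [Group H] [Group K] (e : H ≃* K) :
    Cfsg.charDegrees H = Cfsg.charDegrees K := by
  have key : ∀ (A : Type u) (B : Type v) [Group A] [Group B] (f : A ≃* B)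
      (χ : Cfsg.IrrCharacter B), Cfsg.charDegree (χ : B → ℂ) =
        Cfsg.charDegree ((irrEquiv f χ) : A → ℂ) := fun A B _ _ f χ => by
    show _ = Cfsg.charDegree fun x => (χ : B → ℂ) (f x)
    simp only [Cfsg.charDegree, map_one]
  ext d
  constructor
  · rintro ⟨χ, rfl⟩
    exact ⟨(irrEquiv e).symm χ, by rw [key H K e, Equiv.apply_symm_apply]⟩
  · rintro ⟨χ, rfl⟩
    exact ⟨irrEquiv e χ, (key H K e χ).symm⟩

variable {F : Type w} [Field F] [Fintype F] [DecidableEq F]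

local notation "G" => Matrix.SpecialLinearGroup (Fin 2) F
local notation "PS" => Matrix.ProjectiveSpecialLinearGroup (Fin 2) F
local notation "q" => Fintype.card F

theorem deg_inflate (ψ : Cfsg.IrrCharacter PS) : ∃ χ : Cfsg.IrrCharacter G,
    (χ : G → ℂ) = fun g => (ψ : PS → ℂ) (QuotientGroup.mk g) :=
  ⟨⟨_, CT.isIrr_inflate (Subgroup.center G) ψ.2 (fun g => rfl)⟩, rfl⟩

theorem mem_charDegrees_psl {χ : Cfsg.IrrCharacter G}
    (h : (χ : G → ℂ) (-1) = (χ : G → ℂ) 1) :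
    ∃ ψ : Cfsg.IrrCharacter PS, Cfsg.charDegree (ψ : PS → ℂ) = Cfsg.charDegree (χ : G → ℂ) ∧
      ∀ g : G, (ψ : PS → ℂ) (QuotientGroup.mk g) = (χ : G → ℂ) g := by
  obtain ⟨ψ, hψ, he⟩ := CT.exists_quotient_irr χ.2 (Subgroup.center G) (fun z hz => by
    rcases (scal_iff z).1 ((scal_iff_mem_center z).2 hz) with rfl | rfl
    · rfl
    · exact h)
  exact ⟨⟨ψ, hψ⟩, by simp only [Cfsg.charDegree, ← QuotientGroup.mk_one, he], he⟩

theorem charDegrees_psl_subset : Cfsg.charDegrees PS ⊆ Cfsg.charDegrees G := by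
  rintro d ⟨ψ, rfl⟩
  obtain ⟨χ, hχ⟩ := deg_inflate ψ
  exact ⟨χ, by rw [hχ]; rfl⟩

theorem char_st_even (h2 : (2 : F) = 0) (χ : Cfsg.IrrCharacter G)
    (hd : Even (Cfsg.charDegree (χ : G → ℂ))) :
    (χ : G → ℂ) = (princ (1 : MulChar F ℂ) - fun _ : G => 1) ∧
      Cfsg.charDegree (χ : G → ℂ) = q := by
  haveI : CharP F 2 := CharTwo.of_one_ne_zero_of_two_eq_zero one_ne_zero h2
  have hev : q % 2 = 0 := FiniteField.even_card_of_char_two (ringChar.eq F 2)
  have hq := two_le_q (F := F)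
  have hd' := charDegree_eq χ
  rcases deg_cases_even h2 χ with h | h | h | h
  · rw [h] at hd'
    have : Cfsg.charDegree (χ : G → ℂ) = 1 := by rw [h]; simpa [Cfsg.charDegree] using Nat.floor_one
    rw [this] at hd; simp at hd
  · refine ⟨h, ?_⟩
    rw [h] at hd' ⊢
    rw [Pi.sub_apply, princ_one', add_sub_cancel_right] at hd'
    exact_mod_cast hd'.symm
  · rw [h, Nat.even_iff] at hd; omega
  · rw [h, Nat.even_iff] at hd; omega

theorem degrees_even (h2 : (2 : F) = 0) (h4 : 4 ≤ q) :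
    (∀ d ∈ Cfsg.charDegrees G, d = 1 ∨ d = q ∨ d = q + 1 ∨ d = q - 1) ∧
      q ∈ Cfsg.charDegrees PS ∧ q + 1 ∈ Cfsg.charDegrees PS ∧ q - 1 ∈ Cfsg.charDegrees PS := by
  have hq := two_le_q (F := F)
  have hm1 : (-1 : G) = 1 := (scal_iff_even h2 (-1)).1 ((scal_iff (-1)).2 (Or.inr rfl))
  have hup : ∀ χ : Cfsg.IrrCharacter G, Cfsg.charDegree (χ : G → ℂ) ∈ Cfsg.charDegrees PS :=
    fun χ => by
      obtain ⟨ψ, hψ, -⟩ := mem_charDegrees_psl (χ := χ) (by rw [hm1])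
      exact ⟨ψ, hψ⟩
  refine ⟨?_, ?_, ?_, ?_⟩
  · rintro d ⟨χ, rfl⟩
    have hd' := charDegree_eq χ
    rcases deg_cases_even h2 χ with h | h | h | h
    · rw [h]
      exact Or.inl (by simp [Cfsg.charDegree])
    · rw [h] at hd' ⊢
      rw [Pi.sub_apply, princ_one', add_sub_cancel_right] at hd'
      exact Or.inr (Or.inl (by exact_mod_cast hd'.symm))
    · exact Or.inr (Or.inr (Or.inl h))
    · exact Or.inr (Or.inr (Or.inr h))
  · have h := hup ⟨_, isIrr_st_even h2⟩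
    simp only [Cfsg.charDegree, Pi.sub_apply, princ_one', add_sub_cancel_right, Complex.natCast_re,
      Nat.floor_natCast] at h
    exact h
  · obtain ⟨e⟩ := MulChar.mulEquiv_units F ℂ
    obtain ⟨a, ha⟩ : ∃ α : MulChar F ℂ, α ≠ 1 := by
      haveI : Nontrivial Fˣ := Finite.one_lt_card_iff_nontrivial.1
        (by rw [Nat.card_units, Nat.card_eq_fintype_card]; omega)
      obtain ⟨u, hu⟩ := exists_ne (1 : Fˣ)
      exact ⟨e.symm u, fun h => hu (by simpa using congrArg e h)⟩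
    have h := hup ⟨_, isIrr_princ_even h2 ha⟩
    simp only [Cfsg.charDegree, princ_one'] at h
    rw [← Nat.cast_add_one, Complex.natCast_re, Nat.floor_natCast] at h
    exact h
  · obtain ⟨χ, hχ⟩ := card_rest_even (F := F) h2
    exact hχ ▸ hup χ

theorem deg_cases_odd (hodd : Odd q) (χ : Cfsg.IrrCharacter G) :
    (χ : G → ℂ) = st ∨ (Cfsg.charDegree (χ : G → ℂ) = 1 ∨
      Cfsg.charDegree (χ : G → ℂ) = q + 1 ∨ Cfsg.charDegree (χ : G → ℂ) + 1 = q ∨
      2 * Cfsg.charDegree (χ : G → ℂ) = q + 1 ∨ 2 * Cfsg.charDegree (χ : G → ℂ) + 1 = q) := by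
  obtain ⟨g0, h0⟩ := exists_noEig (F := F)
  obtain ⟨θ0, h01, h02, -⟩ := exists_theta0 h0 hodd
  have hd := charDegree_eq χ
  rcases (table h0 hodd h01 h02).1 χ with h | h | ⟨α, -, h⟩ | ⟨θ, -, h⟩ | h | h
  · refine Or.inr (Or.inl ?_)
    simp [h, Cfsg.charDegree]
  · exact Or.inl h
  · refine Or.inr (Or.inr (Or.inl ?_))
    rw [h] at hd ⊢
    rw [princ_one] at hd
    exact_mod_cast hd.symm
  · refine Or.inr (Or.inr (Or.inr (Or.inl ?_)))
    rw [h] at hd ⊢
    rw [cusp_one θ hodd h0] at hd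
    have : ((Cfsg.charDegree (cusp θ : G → ℂ) + 1 : ℕ) : ℂ) = (q : ℂ) := by
      push_cast; linear_combination -hd
    exact_mod_cast this
  · refine Or.inr (Or.inr (Or.inr (Or.inr (Or.inl ?_))))
    have : ((2 * Cfsg.charDegree (χ : G → ℂ) : ℕ) : ℂ) = ((q + 1 : ℕ) : ℂ) := by
      push_cast; linear_combination -2 * hd + 2 * h.1
    exact_mod_cast this
  · refine Or.inr (Or.inr (Or.inr (Or.inr (Or.inr ?_))))
    have : ((2 * Cfsg.charDegree (χ : G → ℂ) + 1 : ℕ) : ℂ) = (q : ℂ) := by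
      push_cast; linear_combination -2 * hd + 2 * h.1
    exact_mod_cast this

theorem charDegree_st : Cfsg.charDegree (st : G → ℂ) = q := by
  simp [Cfsg.charDegree, st_one]

theorem st_neg_one : (st : G → ℂ) (-1) = (q : ℂ) := by
  have : princ (1 : MulChar F ℂ) (-1 : G) = (q : ℂ) + 1 := by
    rw [princ_scal 1 ((scal_iff (-1 : G)).2 (Or.inr rfl))]
    simp [MulChar.one_apply (isUnit_one.neg : IsUnit (-1 : F))]
  simp [st, this]

theorem degrees_odd (hodd : Odd q) (h5 : 5 < q) :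
    (∀ d ∈ Cfsg.charDegrees G, d ∣ q ∨ d ∣ q + 1 ∨ d ∣ q - 1) ∧
      q ∈ Cfsg.charDegrees PS ∧ q + 1 ∈ Cfsg.charDegrees PS ∧ q - 1 ∈ Cfsg.charDegrees PS := by
  have hq := two_le_q (F := F)
  refine ⟨?_, ?_, ?_, ?_⟩
  · rintro d ⟨χ, rfl⟩
    rcases deg_cases_odd hodd χ with h | h | h | h | h | h
    · exact Or.inl (by rw [h, charDegree_st])
    · exact Or.inl (by rw [h]; exact one_dvd _)
    · exact Or.inr (Or.inl (by rw [h]))
    · exact Or.inr (Or.inr (by rw [show q - 1 = Cfsg.charDegree (χ : G → ℂ) by omega]))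
    · exact Or.inr (Or.inl ⟨2, by omega⟩)
    · exact Or.inr (Or.inr ⟨2, by omega⟩)
  · obtain ⟨ψ, hψ, -⟩ := mem_charDegrees_psl (χ := ⟨st, isIrr_st hodd⟩)
      (by show st (-1) = st 1; rw [st_neg_one, st_one])
    exact ⟨ψ, by rw [hψ, charDegree_st]⟩
  · obtain ⟨e⟩ := MulChar.mulEquiv_units F ℂ
    haveI : IsCyclic (MulChar F ℂ) := isCyclic_of_surjective e.symm.toMonoidHom e.symm.surjective
    obtain ⟨γ, hγ⟩ := IsCyclic.exists_generator (α := MulChar F ℂ)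
    have hord : orderOf γ = q - 1 := by
      rw [orderOf_eq_card_of_forall_mem_zpowers hγ, Nat.card_congr e.toEquiv, Nat.card_units,
        Nat.card_eq_fintype_card]
    have hne : γ * γ ≠ (γ * γ)⁻¹ := fun h => by
      have h4 : γ ^ 4 = 1 := by
        rw [show γ ^ 4 = γ * γ * (γ * γ) by simp [pow_succ, mul_assoc]]
        nth_rewrite 2 [h]
        exact mul_inv_cancel _
      have := Nat.le_of_dvd (by omega) (orderOf_dvd_of_pow_eq_one h4)
      omega
    have hneg : (γ * γ) (-1 : F) = 1 := by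
      rw [MulChar.mul_apply, ← map_mul, neg_mul_neg, one_mul, map_one]
    obtain ⟨ψ, hψ, -⟩ := mem_charDegrees_psl (χ := ⟨_, isIrr_princ hodd hne⟩) (by
      show princ (γ * γ) (-1 : G) = princ (γ * γ) 1
      rw [princ_scal _ ((scal_iff (-1 : G)).2 (Or.inr rfl)), princ_one]
      simp [hneg])
    refine ⟨ψ, ?_⟩
    rw [hψ]
    simp [Cfsg.charDegree, princ_one]
    rw [← Nat.cast_add_one, Nat.floor_natCast]
  · obtain ⟨g0, h0⟩ := exists_noEig (F := F)
    haveI := isCyclic_cent h0.tr_sq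
    letI : CommGroup (cent g0) := IsCyclic.commGroup
    obtain ⟨e⟩ := CommGroup.monoidHom_mulEquiv_of_hasEnoughRootsOfUnity (cent g0) ℂ
    haveI : IsCyclic (cent g0 →* ℂˣ) := isCyclic_of_surjective e.symm.toMonoidHom e.symm.surjective
    obtain ⟨γ, hγ⟩ := IsCyclic.exists_generator (α := cent g0 →* ℂˣ)
    have hord : orderOf γ = q + 1 := by
      rw [orderOf_eq_card_of_forall_mem_zpowers hγ, Nat.card_congr e.toEquiv,
        (card_cent_noEig h0).1]
    have hne : γ * γ ≠ (γ * γ)⁻¹ := fun h => by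
      have h4 : γ ^ 4 = 1 := by
        refine MonoidHom.ext fun c => ?_
        have := congrArg (fun f : cent g0 →* ℂˣ => f c) h
        simp only [MonoidHom.inv_apply, MonoidHom.mul_apply, eq_inv_iff_mul_eq_one] at this
        simpa [pow_succ, mul_assoc] using this
      have := Nat.le_of_dvd (by omega) (orderOf_dvd_of_pow_eq_one h4)
      omega
    have hneg : (((γ * γ) (negOne g0) : ℂˣ) : ℂ) = 1 := by
      rw [MonoidHom.mul_apply, ← map_mul, negOne_mul_self, map_one, Units.val_one]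
    have hm1 : (-1 : F) ≠ 1 := fun h => two_ne_zero' hodd (by linear_combination -h)
    obtain ⟨ψ, hψ, -⟩ := mem_charDegrees_psl (χ := ⟨_, isIrr_cusp hodd h0 hne⟩) (by
      show cusp (γ * γ) (-1 : G) = cusp (γ * γ) 1
      rw [cusp_scal (γ * γ) hodd h0 ((scal_iff (-1 : G)).2 (Or.inr rfl)), cusp_one _ hodd h0]
      have : (((-1 : G) : Matrix (Fin 2) (Fin 2) F) 0 0) = -1 := by simp
      rw [this, sgnAt_neg_one (γ * γ) hm1, hneg, mul_one])
    refine ⟨ψ, ?_⟩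
    rw [hψ]
    simp only [Cfsg.charDegree, cusp_one _ hodd h0]
    rw [show (q : ℂ) - 1 = ((q - 1 : ℕ) : ℂ) by rw [Nat.cast_sub (by omega)]; norm_num,
      Complex.natCast_re, Nat.floor_natCast]

/-- The degree graph from the maximal degrees. -/
theorem graph_of_degrees {S : Type u} [Group S] {m t n : ℕ} (ht : t.Prime) (hm : m = t ^ n)
    (hm2 : 2 ≤ m)
    (hdiv : ∀ d ∈ Cfsg.charDegrees S, d ∣ m ∨ d ∣ m + 1 ∨ d ∣ m - 1)
    (h1 : m ∈ Cfsg.charDegrees S) (h2 : m + 1 ∈ Cfsg.charDegrees S)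
    (h3 : m - 1 ∈ Cfsg.charDegrees S) :
    Cfsg.degreePrimes S = {r : ℕ | r.Prime ∧ r ∣ m * (m ^ 2 - 1)} ∧
      ∀ r s : ℕ, (Cfsg.degreeGraph S).Adj r s ↔
        (r ≠ s ∧ r.Prime ∧ s.Prime ∧ ((r ∣ m + 1 ∧ s ∣ m + 1) ∨ (r ∣ m - 1 ∧ s ∣ m - 1))) := by
  have hsq : m ^ 2 - 1 = (m + 1) * (m - 1) := by
    rw [← one_pow 2, Nat.sq_sub_sq, one_pow]
  refine ⟨Set.ext fun r => ⟨?_, ?_⟩, fun r s => ⟨?_, ?_⟩⟩
  · rintro ⟨hr, d, hd, hrd⟩
    refine ⟨hr, ?_⟩
    rcases hdiv d hd with h | h | h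
    · exact (hrd.trans h).mul_right _
    · exact ((hrd.trans h).trans (hsq ▸ dvd_mul_right _ _)).mul_left _
    · exact ((hrd.trans h).trans (hsq ▸ dvd_mul_left _ _)).mul_left _
  · rintro ⟨hr, h⟩
    rw [hsq] at h
    rcases hr.dvd_mul.1 h with h | h
    · exact ⟨hr, m, h1, h⟩
    rcases hr.dvd_mul.1 h with h | h
    · exact ⟨hr, _, h2, h⟩
    · exact ⟨hr, _, h3, h⟩
  · rintro ⟨hne, hr, hs, d, hd, hrs⟩
    refine ⟨hne, hr, hs, ?_⟩
    rcases hdiv d hd with h | h | h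
    · have hrd := (dvd_mul_right r s).trans (hrs.trans h)
      have hsd := (dvd_mul_left s r).trans (hrs.trans h)
      rw [hm] at hrd hsd
      exact absurd (((Nat.prime_dvd_prime_iff_eq hr ht).1 (hr.dvd_of_dvd_pow hrd)).trans
        ((Nat.prime_dvd_prime_iff_eq hs ht).1 (hs.dvd_of_dvd_pow hsd)).symm) hne
    · exact Or.inl ⟨(dvd_mul_right r s).trans (hrs.trans h), (dvd_mul_left s r).trans (hrs.trans h)⟩
    · exact Or.inr ⟨(dvd_mul_right r s).trans (hrs.trans h), (dvd_mul_left s r).trans (hrs.trans h)⟩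
  · rintro ⟨hne, hr, hs, h⟩
    refine ⟨hne, hr, hs, ?_⟩
    have hco := (Nat.coprime_primes hr hs).2 hne
    rcases h with h | h
    · exact ⟨_, h2, hco.mul_dvd_of_dvd_of_dvd h.1 h.2⟩
    · exact ⟨_, h3, hco.mul_dvd_of_dvd_of_dvd h.1 h.2⟩

end Cfsg.Agent.SL2
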