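import Cfsg.Agent.Lib.SL2.DicksonGroups

/-!
# Subgroups of `PSL(2, q)` isomorphic to `PSL(2, K)` or `PGL(2, K)`
-/

set_option autoImplicit false
set_option linter.unusedSectionVars false

namespace Cfsg.Agent.SL2

open Matrix

variable {F : Type*} [Field F]

local notation "G" => Matrix.SpecialLinearGroup (Fin 2) F
local notation "M2" => Matrix (Fin 2) (Fin 2) F
local notation "PS" => Matrix.ProjectiveSpecialLinearGroup (Fin 2) F

theorem uu_coe (a : F) : ((uu a : G) : M2) = !![1, a; 0, 1] := rfl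

theorem dd_coe (a : Fˣ) : ((dd a : G) : M2) = !![(a : F), 0; 0, (a : F)⁻¹] := rfl

theorem pi_uu_inj {a b : F} (h : π (uu a) = π (uu b)) : a = b := by
  rcases π_eq_iff.1 h with e | e
  · have := congrArg (fun x : G => (x : M2) 0 1) e
    simpa [uu] using this.symm
  · have e00 := congrArg (fun x : G => (x : M2) 0 0) e
    have e01 := congrArg (fun x : G => (x : M2) 0 1) e
    rw [Matrix.SpecialLinearGroup.coe_neg, Matrix.neg_apply, uu_coe, uu_coe] at e00 e01
    simp at e00 e01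
    linear_combination a * e00 - e01

theorem pi_dd_sq {a b : Fˣ} (h : π (dd a) = π (dd b)) : a ^ 2 = b ^ 2 := by
  apply Units.ext
  rcases π_eq_iff.1 h with e | e <;>
  · have := congrArg (fun x : G => (x : M2) 0 0) e
    simp [dd_coe, Matrix.SpecialLinearGroup.coe_neg] at this
    simp [this]

theorem pi_dd_eq_of_sq {a b : Fˣ} (h : a ^ 2 = b ^ 2) : π (dd a) = π (dd b) := by
  have h' : (a : F) ^ 2 = (b : F) ^ 2 := by simpa using congrArg Units.val h
  rw [π_eq_iff]
  rcases sq_eq_sq_iff_eq_or_eq_neg.1 h' with e | e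
  · exact Or.inl (congrArg dd (Units.ext e.symm))
  · right
    apply ext4 <;> simp [dd_coe, Matrix.SpecialLinearGroup.coe_neg, e, inv_neg]

theorem dd_conj_uu (a : Fˣ) (b : F) : dd a * uu b * (dd a)⁻¹ = uu ((a : F) ^ 2 * b) := by
  apply Subtype.ext
  rw [Matrix.SpecialLinearGroup.coe_mul, Matrix.SpecialLinearGroup.coe_mul, coe_inv']
  apply mext <;> simp [dd, uu, tr, Matrix.mul_apply, Fin.sum_univ_two, Matrix.vecMul, dotProduct] <;>
    field_simp

/-- A regular semisimple triangular element is diagonalised by a unitriangular one. -/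
theorem exists_diag [Fintype F] {s : G} (hs : (s : M2) 1 0 = 0) (ht : tr s ^ 2 ≠ 4) :
    ∃ (c : F) (a : Fˣ), (a : F) ^ 2 ≠ 1 ∧ uu c * s * (uu c)⁻¹ = dd a := by
  obtain ⟨-, h0, h11⟩ := upper_root hs
  have h1 : ((s : M2) 0 0) ^ 2 ≠ 1 := by
    intro h
    refine ht ?_
    rw [tr, h11]
    rcases sq_eq_one_iff.1 h with e | e <;> rw [e] <;> norm_num
  have hd : (s : M2) 0 0 - ((s : M2) 0 0)⁻¹ ≠ 0 :=
    fun h => h1 ((unit_sub_inv (Units.mk0 _ h0)).1 h)
  refine ⟨(s : M2) 0 1 / ((s : M2) 0 0 - ((s : M2) 0 0)⁻¹), Units.mk0 _ h0, h1, ?_⟩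
  have key := div_mul_cancel₀ ((s : M2) 0 1) hd
  apply Subtype.ext
  rw [Matrix.SpecialLinearGroup.coe_mul, Matrix.SpecialLinearGroup.coe_mul, coe_inv']
  apply mext <;>
    simp [dd, uu, tr, Matrix.mul_apply, Fin.sum_univ_two, Matrix.vecMul, dotProduct, hs, h11]
  linear_combination -key

/-- An element conjugating a diagonal element into the diagonal torus. -/
theorem diag_or_antidiag [Fintype F] {a : Fˣ} (ha : (a : F) ^ 2 ≠ 1) {s : G}
    (h : s * dd a * s⁻¹ ∈ cent (dd a)) :
    ((s : M2) 0 1 = 0 ∧ (s : M2) 1 0 = 0) ∨ ((s : M2) 0 0 = 0 ∧ (s : M2) 1 1 = 0) := by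
  obtain ⟨h01, h10⟩ := (mem_cent_dd ha).1 h
  rw [Matrix.SpecialLinearGroup.coe_mul, Matrix.SpecialLinearGroup.coe_mul, coe_inv'] at h01 h10
  simp [dd, tr, Matrix.mul_apply, Fin.sum_univ_two, Matrix.vecMul, dotProduct] at h01 h10
  have hd : (a : F) - (a : F)⁻¹ ≠ 0 := fun h => ha ((unit_sub_inv a).1 h)
  have e01 : (s : M2) 0 0 * (s : M2) 0 1 = 0 :=
    (mul_eq_zero.1 (show (s : M2) 0 0 * (s : M2) 0 1 * ((a : F) - (a : F)⁻¹) = 0 by
      linear_combination -h01)).resolve_right hd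
  have e10 : (s : M2) 1 0 * (s : M2) 1 1 = 0 :=
    (mul_eq_zero.1 (show (s : M2) 1 0 * (s : M2) 1 1 * ((a : F) - (a : F)⁻¹) = 0 by
      linear_combination h10)).resolve_right hd
  have hdet := det_eq s
  rcases mul_eq_zero.1 e01 with h00 | h01'
  · refine Or.inr ⟨h00, (mul_eq_zero.1 e10).resolve_left fun h => ?_⟩
    simp [h00, h] at hdet
  · refine Or.inl ⟨h01', (mul_eq_zero.1 e10).resolve_right fun h => ?_⟩
    simp [h01', h] at hdet

theorem pglMap_injective {K : Type*} [Field K] (f : K →+* F) :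
    Function.Injective (Matrix.ProjGenLinGroup.map (n := Fin 2) f) := by
  rw [injective_iff_map_eq_one]
  intro x
  induction x using Matrix.ProjGenLinGroup.induction_on with | mk g => ?_
  intro h
  rw [Matrix.ProjGenLinGroup.map_mk, Matrix.ProjGenLinGroup.mk_eq_one,
    Matrix.GeneralLinearGroup.mem_center_iff_val_mem_range_scalar] at h
  obtain ⟨c, hc⟩ := h
  rw [Matrix.ProjGenLinGroup.mk_eq_one, Matrix.GeneralLinearGroup.mem_center_iff_val_mem_range_scalar]
  refine ⟨(g : Matrix (Fin 2) (Fin 2) K) 0 0, ?_⟩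
  have e : ∀ i j, (Matrix.scalar (Fin 2) c) i j = f ((g : Matrix (Fin 2) (Fin 2) K) i j) := fun i j => by
    rw [hc]; rfl
  ext i j
  apply f.injective
  rw [← e i j]
  fin_cases i <;> fin_cases j <;> simp <;> rw [← e 0 0] <;> simp

/-- An index two subgroup of `PGL(2, K)`, `|K|` odd, is the image of `PSL(2, K)`. -/
theorem eq_psl_range {K : Type*} [Field K] [Fintype K] (h2 : (2 : K) ≠ 0)
    (R : Subgroup (Matrix.ProjGenLinGroup (Fin 2) K)) (hR : R.index = 2) :
    R = (Matrix.ProjectiveSpecialLinearGroup.toPGL (n := Fin 2) (R := K)).range := by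
  haveI : Finite (Matrix.ProjGenLinGroup (Fin 2) K) :=
    Finite.of_surjective _ Matrix.ProjGenLinGroup.mk_surjective
  have hle : (Matrix.ProjectiveSpecialLinearGroup.toPGL (n := Fin 2) (R := K)).range ≤ R := by
    rintro _ ⟨x, rfl⟩
    obtain ⟨A, rfl⟩ := QuotientGroup.mk_surjective x
    have hA : A ∈ Subgroup.closure (LinGrp.transvectionSet (n := Fin 2) (F := K)) := by
      rw [LinGrp.closure_transvectionSet]; exact Subgroup.mem_top A
    induction hA using Subgroup.closure_induction with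
    | mem A hA =>
      obtain ⟨i, j, hij, a, rfl⟩ := hA
      have e : (Matrix.SpecialLinearGroup.transvection hij a : Matrix.SpecialLinearGroup (Fin 2) K) =
          Matrix.SpecialLinearGroup.transvection hij (a / 2) *
            Matrix.SpecialLinearGroup.transvection hij (a / 2) := by
        apply Subtype.ext
        rw [Matrix.SpecialLinearGroup.coe_mul, Matrix.SpecialLinearGroup.transvection_coe,
          Matrix.SpecialLinearGroup.transvection_coe]
        have hs : (Matrix.single i j (a / 2) : Matrix (Fin 2) (Fin 2) K) * Matrix.single i j (a / 2) = 0 :=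
          Matrix.single_mul_single_of_ne _ _ _ _ (Ne.symm hij) _
        simp only [add_mul, mul_add, one_mul, mul_one, hs, add_zero]
        rw [add_assoc, ← Matrix.single_add, show a / 2 + a / 2 = a by field_simp; ring]
      rw [e, QuotientGroup.mk_mul, map_mul]
      exact Subgroup.mul_self_mem_of_index_two hR _
    | one => simp
    | mul A B _ _ hA hB => rw [QuotientGroup.mk_mul, map_mul]; exact mul_mem hA hB
    | inv A _ hA => rw [QuotientGroup.mk_inv, map_inv]; exact inv_mem hA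
  refine (Subgroup.eq_of_le_of_card_ge hle ?_).symm
  rw [← Nat.card_congr (MonoidHom.ofInjective Matrix.ProjectiveSpecialLinearGroup.toPGL_injective).toEquiv]
  have h1 := R.index_mul_card
  rw [hR, card_pgl] at h1
  have h3 := card_psl (F := K)
  obtain ⟨j, hj⟩ : Odd (Fintype.card K) := by
    rw [Nat.odd_iff]
    exact FiniteField.odd_card_of_char_ne_two fun h => h2 (by
      have : CharP K 2 := h ▸ ringChar.charP K
      exact CharTwo.two_eq_zero)
  rw [Nat.gcd_eq_left (show 2 ∣ Fintype.card K - 1 from ⟨j, by omega⟩)] at h3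
  omega

/-- The last case of Dickson's theorem. -/
theorem big_case [Fintype F] {p : ℕ} [Fact p.Prime] [CharP F p] {H : Subgroup PS}
    (S : SL2Sub.Shape H p) (hT : ∀ A ∈ S.T, ∃ g : G, tr g ^ 2 ≠ 4 ∧ A = (torus g).subgroupOf H)
    (g : PS) (hgU : ∀ x : H, x ∈ (S.U : Subgroup H) ↔ g * x * g⁻¹ ∈ (W0 : Subgroup PS))
    (hgN : ∀ x : H,
      x ∈ Subgroup.normalizer ((S.U : Subgroup H) : Set H) ↔ g * x * g⁻¹ ∈ (B0 : Subgroup PS))
    {t : ℕ} (hQ : 4 ≤ Nat.card ↥(S.U : Subgroup H))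
    (ht : t = Nat.card ↥(S.U : Subgroup H) - 1 ∨ 2 * t = Nat.card ↥(S.U : Subgroup H) - 1)
    (hN : Nat.card (Subgroup.normalizer ((S.U : Subgroup H) : Set H)) =
      Nat.card ↥(S.U : Subgroup H) * t)
    (hk : Nat.card (Sylow p H) = Nat.card ↥(S.U : Subgroup H) + 1)
    {A : Subgroup H} (hA : A ∈ S.T)
    (hAN : A ≤ Subgroup.normalizer ((S.U : Subgroup H) : Set H)) (hAt : Nat.card A = t)
    (hNA : Nat.card (Subgroup.normalizer (A : Set H)) = 2 * t) :
    ∃ (K : Subfield F) (γ : Matrix.ProjGenLinGroup (Fin 2) F), 4 ≤ Nat.card K ∧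
      ((Nonempty (H ≃* Matrix.ProjectiveSpecialLinearGroup (Fin 2) K) ∧
        (H.map Matrix.ProjectiveSpecialLinearGroup.toPGL).map (MulAut.conj γ).toMonoidHom =
          ((Matrix.ProjGenLinGroup.map K.subtype).comp Matrix.ProjectiveSpecialLinearGroup.toPGL).range) ∨
      (Nonempty (H ≃* Matrix.ProjGenLinGroup (Fin 2) K) ∧
        (H.map Matrix.ProjectiveSpecialLinearGroup.toPGL).map (MulAut.conj γ).toMonoidHom =
          (Matrix.ProjGenLinGroup.map K.subtype).range)) := by
  classical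
  haveI : Finite PS := Finite.of_surjective _ π_surjective
  obtain ⟨r, hr, hAr⟩ := hT A hA
  obtain ⟨a₀, ha₀, ha₀1⟩ := A.bot_or_exists_ne_one.resolve_left (S.ne_bot A hA)
  -- diagonalise the torus
  obtain ⟨P, hP⟩ := π_surjective g
  obtain ⟨s₀, hs₀⟩ := π_surjective (g * (a₀ : PS) * g⁻¹)
  have hs₀B : (s₀ : M2) 1 0 = 0 := pi_mem_B0.1 (hs₀ ▸ (hgN a₀).1 (hAN ha₀))
  have hs₀t : tr s₀ ^ 2 ≠ 4 := by
    intro h4
    have h := not_semisimple_pow (p := p) h4
    rw [hs₀, conj_pow, conj_eq_one_iff] at h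
    exact ha₀1 (S.inter_eq_bot hA ha₀ (k := 1) (Subtype.ext (by
      rw [pow_one, SubgroupClass.coe_pow, h, Subgroup.coe_one])))
  obtain ⟨c₀, l, hl, hl'⟩ := exists_diag hs₀B hs₀t
  let e : H →* PS := (MulAut.conj (π (uu c₀) * g)).toMonoidHom.comp H.subtype
  have he : ∀ x : H, e x = π (uu c₀) * g * x * (π (uu c₀) * g)⁻¹ := fun x => rfl
  have hei : Function.Injective e := (MulAut.conj _).injective.comp H.subtype_injective
  have hu₀ : π (uu c₀) ∈ (W0 : Subgroup PS) := ⟨c₀, rfl⟩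
  have heU : ∀ x : H, x ∈ (S.U : Subgroup H) ↔ e x ∈ (W0 : Subgroup PS) := by
    intro x
    rw [hgU, he, show π (uu c₀) * g * x * (π (uu c₀) * g)⁻¹ =
      π (uu c₀) * (g * x * g⁻¹) * (π (uu c₀))⁻¹ by group]
    exact ⟨fun h => mul_mem (mul_mem hu₀ h) (inv_mem hu₀),
      fun h => by simpa [mul_assoc] using mul_mem (mul_mem (inv_mem hu₀) h) hu₀⟩
  have heN : ∀ x : H,
      x ∈ Subgroup.normalizer ((S.U : Subgroup H) : Set H) ↔ e x ∈ (B0 : Subgroup PS) := by
    intro x
    rw [hgN, he, show π (uu c₀) * g * x * (π (uu c₀) * g)⁻¹ =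
      π (uu c₀) * (g * x * g⁻¹) * (π (uu c₀))⁻¹ by group]
    have hu : π (uu c₀) ∈ (B0 : Subgroup PS) := W0_le_B0 hu₀
    exact ⟨fun h => mul_mem (mul_mem hu h) (inv_mem hu),
      fun h => by simpa [mul_assoc] using mul_mem (mul_mem (inv_mem hu) h) hu⟩
  have hea₀ : e a₀ = π (dd l) := by
    rw [he, ← hl', π_conj, hs₀]
    group
  have heA : ∀ x : H, x ∈ A ↔ e x ∈ torus (dd l) := by
    intro x
    have hg' : π (uu c₀) * g = π (uu c₀ * P) := by rw [map_mul, hP]
    have key : ∀ y : PS, π (uu c₀) * g * y * (π (uu c₀) * g)⁻¹ ∈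
        torus (uu c₀ * P * r * (uu c₀ * P)⁻¹) ↔ y ∈ torus r := by
      intro y
      rw [hg', torus_conj, show (π (uu c₀ * P))⁻¹ * (π (uu c₀ * P) * y * (π (uu c₀ * P))⁻¹) *
        π (uu c₀ * P) = y by group]
    have heq : torus (dd l) = torus (uu c₀ * P * r * (uu c₀ * P)⁻¹) := by
      refine torus_eq_of_mem (scal_of_tr_sq_ne (tr_sq_dd hl))
        (not_scal_conj (scal_of_tr_sq_ne hr) _) (y := e a₀) ?_ ?_ ?_
      · exact fun h => ha₀1 (hei (by rw [h, map_one]))
      · rw [hea₀]; exact pi_mem_torus.2 (self_mem_cent _)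
      · rw [he, key]; rw [hAr] at ha₀; exact ha₀
    rw [heq, he, key, hAr, Subgroup.mem_subgroupOf]
  -- the element exchanging `0` and `∞`
  obtain ⟨w, hwA, hwA'⟩ : ∃ w ∈ Subgroup.normalizer (A : Set H), w ∉ A := by
    by_contra hcon
    push Not at hcon
    have := Subgroup.card_le_of_le (show Subgroup.normalizer (A : Set H) ≤ A from hcon)
    have h0 : 0 < t := hAt ▸ Nat.card_pos
    omega
  obtain ⟨s, hs⟩ := π_surjective (e w)
  have hsanti : (s : M2) 0 0 = 0 ∧ (s : M2) 1 1 = 0 := by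
    refine (diag_or_antidiag hl (s := s) ?_).resolve_left fun h => hwA' ((heA w).2 ?_)
    · apply pi_mem_torus.1
      rw [π_conj, hs, ← hea₀, ← map_inv, ← map_mul, ← map_mul]
      exact (heA _).1 ((Subgroup.mem_normalizer_iff.1 hwA a₀).1 ha₀)
    · rw [← hs]; exact pi_mem_torus.2 ((mem_cent_dd hl).2 h)
  have hs10 : (s : M2) 1 0 ≠ 0 := fun h => by
    have := det_eq s
    rw [hsanti.1, h] at this
    simp at this
  have hwN : w ∉ Subgroup.normalizer ((S.U : Subgroup H) : Set H) := fun h =>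
    hs10 (pi_mem_B0.1 (hs ▸ (heN w).1 h))
  -- double coset decomposition
  have hcoset : ∀ x : H, x ∈ Subgroup.normalizer ((S.U : Subgroup H) : Set H) ∨
      ∃ u ∈ (S.U : Subgroup H), ∃ n ∈ Subgroup.normalizer ((S.U : Subgroup H) : Set H),
        x = u * w * n := by
    intro x
    have hwU : w • S.U ≠ S.U := fun h => hwN ((SylowFive.smul_sylow_eq S.U).1 h)
    let f : Option ↥(S.U : Subgroup H) → Sylow p H := fun o =>
      o.elim S.U fun u => (u : H) • w • S.U
    have hf : Function.Injective f := by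
      have key : ∀ u : ↥(S.U : Subgroup H), (u : H) • w • S.U ≠ S.U := fun u h =>
        hwU (MulAction.injective (u : H) (h.trans (SylowFive.smul_eq_of_mem S.U u.2).symm))
      rintro (_ | u) (_ | v) h
      · rfl
      · exact absurd h.symm (key v)
      · exact absurd h (key u)
      · congr 1
        have h' : ((v : H)⁻¹ * u) • w • S.U = w • S.U := by
          rw [mul_smul, show (u : H) • w • S.U = (v : H) • w • S.U from h, inv_smul_smul]
        have hm : (v : H)⁻¹ * u ∈ (S.U : Subgroup H) := mul_mem (inv_mem v.2) u.2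
        obtain ⟨i, hi⟩ := SL2Sub.Shape.pow_eq_one_of_mem_sylow S.U hm
        have hm' := SylowFive.sylow_le_of_mem_normalizer (w • S.U) ((SylowFive.smul_sylow_eq _).1 h') i hi
        by_contra hne
        exact hwU (S.ti (w • S.U) _ hm hm' fun e' => hne (Subtype.ext (inv_mul_eq_one.1 e').symm)).symm
    have hb := hf.bijective_of_nat_card_le (by rw [Finite.card_option, hk])
    obtain ⟨o, ho⟩ := hb.2 (x • S.U)
    rcases o with _ | u
    · exact Or.inl ((SylowFive.smul_sylow_eq S.U).1 ho.symm)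
    · refine Or.inr ⟨u, u.2, ((u : H) * w)⁻¹ * x, (SylowFive.smul_sylow_eq S.U).1 ?_, by group⟩
      rw [mul_smul, inv_smul_eq_iff, mul_smul]
      exact ho.symm
  -- the additive group and the multipliers
  let V : AddSubgroup F :=
    { carrier := {b | ∃ x : H, e x = π (uu b)}
      zero_mem' := ⟨1, by rw [map_one, uu_zero, map_one]⟩
      add_mem' := by
        rintro a b ⟨x, hx⟩ ⟨y, hy⟩
        exact ⟨x * y, by rw [map_mul, hx, hy, ← map_mul, uu_mul]⟩
      neg_mem' := by
        rintro a ⟨x, hx⟩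
        exact ⟨x⁻¹, by rw [map_inv, hx, inv_eq_iff_mul_eq_one, ← map_mul, uu_mul,
          add_neg_cancel, uu_zero, map_one]⟩ }
  have hVU : ∀ {x : H} {b : F}, e x = π (uu b) → x ∈ (S.U : Subgroup H) := fun h =>
    (heU _).2 ⟨_, h.symm⟩
  choose bU hbU using fun x : ↥(S.U : Subgroup H) => (heU x).1 x.2
  have hVcard : Nat.card V = Nat.card ↥(S.U : Subgroup H) := by
    refine (Nat.card_congr (Equiv.ofBijective (fun x => (⟨bU x, x, (hbU x).symm⟩ : V))
      ⟨fun x y h => ?_, fun ⟨b, x, hx⟩ => ⟨⟨x, hVU hx⟩, Subtype.ext ?_⟩⟩)).symm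
    · have h' : bU x = bU y := congrArg Subtype.val h
      exact Subtype.ext (hei (by rw [← hbU x, ← hbU y, h']))
    · exact pi_uu_inj ((hbU _).trans hx)
  have hdiag : ∀ x ∈ A, ∃ a : Fˣ, e x = π (dd a) := by
    intro x hx
    obtain ⟨c, hc, hcx⟩ := (heA x).1 hx
    obtain ⟨h01, h10⟩ := (mem_cent_dd hl).1 hc
    obtain ⟨-, h0, h11⟩ := upper_root h10
    refine ⟨Units.mk0 _ h0, ?_⟩
    rw [← hcx]
    congr 1
    apply ext4 <;> simp [dd, h01, h10, h11]
  choose! dA hdA using hdiag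
  let L : Subgroup Fˣ :=
    { carrier := {m | ∃ x ∈ A, ∃ a : Fˣ, a ^ 2 = m ∧ e x = π (dd a)}
      one_mem' := ⟨1, one_mem A, 1, one_pow 2, by rw [map_one, dd_one, map_one]⟩
      mul_mem' := by
        rintro _ _ ⟨x, hx, a, rfl, ha⟩ ⟨y, hy, b, rfl, hb⟩
        exact ⟨x * y, mul_mem hx hy, a * b, mul_pow a b 2, by rw [map_mul, ha, hb, ← map_mul, dd_mul]⟩
      inv_mem' := by
        rintro _ ⟨x, hx, a, rfl, ha⟩
        exact ⟨x⁻¹, inv_mem hx, a⁻¹, inv_pow a 2, by rw [map_inv, ha, ← map_inv, dd_inv]⟩ }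
  have hLcard : Nat.card L = t := by
    rw [← hAt]
    refine (Nat.card_congr (Equiv.ofBijective
      (fun x : A => (⟨dA x ^ 2, x, x.2, dA x, rfl, hdA x x.2⟩ : L))
      ⟨fun x y h => ?_, fun ⟨m, x, hx, a, ha, hax⟩ => ⟨⟨x, hx⟩, Subtype.ext ?_⟩⟩)).symm
    · have h' := pi_dd_eq_of_sq (congrArg Subtype.val h : dA x ^ 2 = dA y ^ 2)
      exact Subtype.ext (hei (by rw [hdA x x.2, hdA y y.2, h']))
    · show dA x ^ 2 = m
      rw [← ha]
      exact pi_dd_sq (by rw [← hdA x hx, hax])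
  have hLV : ∀ m ∈ L, ∀ b ∈ V, (m : F) * b ∈ V := by
    rintro _ ⟨x, -, a, rfl, ha⟩ b ⟨y, hy⟩
    exact ⟨x * y * x⁻¹, by rw [map_mul, map_mul, map_inv, ha, hy, ← π_conj, dd_conj_uu,
      Units.val_pow_eq_pow_val]⟩
  -- the field of multipliers
  let K : Subfield F :=
    { carrier := {x | ∀ b ∈ V, x * b ∈ V}
      one_mem' := fun b hb => by rwa [one_mul]
      zero_mem' := fun b _ => by rw [zero_mul]; exact V.zero_mem
      add_mem' := fun ha hb b hbV => by rw [add_mul]; exact V.add_mem (ha b hbV) (hb b hbV)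
      mul_mem' := fun ha hb b hbV => by rw [mul_assoc]; exact ha _ (hb b hbV)
      neg_mem' := fun ha b hbV => by rw [neg_mul]; exact V.neg_mem (ha b hbV)
      inv_mem' := by
        intro x hx b hb
        by_cases hx0 : x = 0
        · rw [hx0, _root_.inv_zero, zero_mul]; exact V.zero_mem
        have hinj : Function.Injective (fun v : V => (⟨x * v, hx v v.2⟩ : V)) := fun u v h =>
          Subtype.ext (mul_left_cancel₀ hx0 (congrArg Subtype.val h))
        obtain ⟨v, hv⟩ := Finite.surjective_of_injective hinj ⟨b, hb⟩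
        have hv' : x * (v : F) = b := congrArg Subtype.val hv
        rw [← hv', inv_mul_cancel_left₀ hx0]
        exact v.2 }
  have hLK : ∀ m ∈ L, (m : F) ∈ K := hLV
  have hKt : t + 1 ≤ Nat.card K := by
    rw [← hLcard, ← Finite.card_option]
    refine Nat.card_le_card_of_injective (fun o : Option L => o.elim (0 : K) fun m => ⟨(m : Fˣ), hLK m m.2⟩) ?_
    rintro (_ | m) (_ | m') h
    · rfl
    · exact absurd (congrArg Subtype.val h).symm m'.1.ne_zero
    · exact absurd (congrArg Subtype.val h) m.1.ne_zero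
    · exact congrArg some (Subtype.ext (Units.ext (congrArg Subtype.val h :)))
  obtain ⟨b₀, hb₀, hb₀0⟩ : ∃ b ∈ V, b ≠ (0 : F) := by
    by_contra hcon
    push Not at hcon
    have : Nat.card V ≤ 1 := Finite.card_le_one_iff_subsingleton.2
      ⟨fun u v => Subtype.ext ((hcon u u.2).trans (hcon v v.2).symm)⟩
    omega
  have hVK : ∀ b ∈ V, b / b₀ ∈ K := by
    by_contra hcon
    push Not at hcon
    obtain ⟨b₁, hb₁, hb₁'⟩ := hcon
    have h2 : Nat.card K * Nat.card K ≤ Nat.card V := by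
      rw [← Nat.card_prod]
      refine Nat.card_le_card_of_injective
        (fun z : K × K => (⟨z.1 * b₀ + z.2 * b₁, V.add_mem (z.1.2 _ hb₀) (z.2.2 _ hb₁)⟩ : V)) ?_
      rintro ⟨x, y⟩ ⟨x', y'⟩ h
      have h' : (x : F) * b₀ + y * b₁ = x' * b₀ + y' * b₁ := congrArg Subtype.val h
      by_cases hy : y = y'
      · subst hy
        have hx : (x : F) = x' := mul_right_cancel₀ hb₀0 (by linear_combination h')
        exact Prod.ext (Subtype.ext hx) rfl
      · refine absurd ?_ hb₁'
        have hne : (y : F) - y' ≠ 0 := sub_ne_zero.2 fun e' => hy (Subtype.ext e')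
        have : b₁ / b₀ = ((x' : F) - x) / (y - y') := by
          rw [div_eq_div_iff hb₀0 hne]; linear_combination h'
        rw [this]
        exact div_mem (sub_mem x'.2 x.2) (sub_mem y.2 y'.2)
    have h3 : (t + 1) * (t + 1) ≤ Nat.card V := le_trans (Nat.mul_le_mul hKt hKt) h2
    rw [hVcard] at h3
    rcases ht with h | h <;> nlinarith [Nat.sub_add_cancel (show 1 ≤ Nat.card ↥(S.U : Subgroup H) by omega)]
  have hKcard : Nat.card K = Nat.card ↥(S.U : Subgroup H) := by
    rw [← hVcard]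
    exact Nat.card_congr
      { toFun := fun x => ⟨x * b₀, x.2 _ hb₀⟩
        invFun := fun v => ⟨v / b₀, hVK v v.2⟩
        left_inv := fun x => Subtype.ext (mul_div_cancel_right₀ _ hb₀0)
        right_inv := fun v => Subtype.ext (div_mul_cancel₀ _ hb₀0) }
  -- the map to `PGL(2, K)`
  let Δ : GL (Fin 2) F := Matrix.GeneralLinearGroup.mkOfDetNeZero !![b₀⁻¹, 0; 0, 1]
    (by simp [Matrix.det_fin_two, hb₀0])
  let φ : H →* Matrix.ProjGenLinGroup (Fin 2) F :=
    (MulAut.conj (Matrix.ProjGenLinGroup.mk Δ)).toMonoidHom.comp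
      (Matrix.ProjectiveSpecialLinearGroup.toPGL.comp e)
  have hφi : Function.Injective φ := (MulAut.conj _).injective.comp
    (Matrix.ProjectiveSpecialLinearGroup.toPGL_injective.comp hei)
  let j : Matrix.ProjGenLinGroup (Fin 2) K →* Matrix.ProjGenLinGroup (Fin 2) F :=
    Matrix.ProjGenLinGroup.map K.subtype
  have hji : Function.Injective j := pglMap_injective K.subtype
  have hmem : ∀ (x : H) (z : G) (m : Matrix (Fin 2) (Fin 2) K) (f : F), e x = π z → f ≠ 0 →
      (Δ : M2) * (z : M2) = f • ((m.map K.subtype) * (Δ : M2)) → φ x ∈ j.range := by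
    intro x z m f hx hf hm
    have hmd : m.det ≠ 0 := by
      intro h0
      have h1 := congrArg Matrix.det hm
      rw [Matrix.det_mul, z.det_coe, mul_one, Matrix.det_smul, Matrix.det_mul,
        ← RingHom.mapMatrix_apply, ← RingHom.map_det, h0, map_zero, zero_mul, mul_zero] at h1
      exact Δ.det_ne_zero h1
    refine ⟨Matrix.ProjGenLinGroup.mk (Matrix.GeneralLinearGroup.mkOfDetNeZero m hmd), ?_⟩
    show j _ = Matrix.ProjGenLinGroup.mk Δ * Matrix.ProjectiveSpecialLinearGroup.toPGL (e x) *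
      (Matrix.ProjGenLinGroup.mk Δ)⁻¹
    rw [hx, eq_mul_inv_iff_mul_eq, Matrix.ProjGenLinGroup.map_mk, ← map_mul]
    show _ = Matrix.ProjGenLinGroup.mk Δ *
      Matrix.ProjGenLinGroup.mk (Matrix.SpecialLinearGroup.toGL z)
    rw [← map_mul, Matrix.ProjGenLinGroup.mk_eq_mk_iff]
    refine ⟨Units.mk0 f hf, Units.ext ?_⟩
    rw [Units.val_mul, Units.val_mul, Units.val_mul]
    show m.map K.subtype * (Δ : M2) * Matrix.scalar (Fin 2) f = (Δ : M2) * (z : M2)
    rw [hm, Matrix.scalar_apply, ← Matrix.smul_one_eq_diagonal, Matrix.mul_smul, mul_one]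
  have hU' : ∀ x ∈ (S.U : Subgroup H), φ x ∈ j.range := by
    intro x hx
    obtain ⟨b, hb⟩ := (heU x).1 hx
    refine hmem x (uu b) !![1, ⟨b / b₀, hVK b ⟨x, hb.symm⟩⟩; 0, 1] 1 hb.symm one_ne_zero ?_
    rw [one_smul]
    apply mext <;> simp [Δ, uu, Matrix.GeneralLinearGroup.mkOfDetNeZero, Matrix.mul_apply,
      Fin.sum_univ_two, div_eq_mul_inv, mul_comm]
  have hA' : ∀ x ∈ A, φ x ∈ j.range := by
    intro x hx
    have hm : dA x ^ 2 ∈ L := ⟨x, hx, dA x, rfl, hdA x hx⟩
    refine hmem x (dd (dA x)) !![⟨_, hLK _ hm⟩, 0; 0, 1] ((dA x : F))⁻¹ (hdA x hx)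
      (inv_ne_zero (dA x).ne_zero) ?_
    apply mext <;> simp [Δ, dd, Matrix.GeneralLinearGroup.mkOfDetNeZero, Matrix.mul_apply,
      Fin.sum_univ_two] <;> field_simp
  -- the relation for `w`
  have hκ : (s : M2) 0 1 / (s : M2) 1 0 / b₀ ^ 2 ∈ K := by
    obtain ⟨y, hy⟩ := hb₀
    have hsus : ((s * uu b₀ * s : G) : M2) =
        !![-1, 0; b₀ * ((s : M2) 1 0) ^ 2, -1] := by
      have hdet := det_eq s
      rw [hsanti.1] at hdet
      rw [Matrix.SpecialLinearGroup.coe_mul, Matrix.SpecialLinearGroup.coe_mul]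
      apply mext <;> simp [uu, Matrix.mul_apply, Fin.sum_univ_two, Matrix.vecMul, dotProduct,
        hsanti.1, hsanti.2] <;> first | linear_combination -hdet | ring
    have hx : e (w * y * w) = π (s * uu b₀ * s) := by
      rw [map_mul, map_mul, map_mul, map_mul, hs, hy]
    rcases hcoset (w * y * w) with h | ⟨u, hu, n, hn, hdec⟩
    · rw [heN, hx, pi_mem_B0, hsus] at h
      simp [hb₀0, hs10] at h
    · obtain ⟨b, hb⟩ := (heU u).1 hu
      obtain ⟨n', hn', hnn⟩ := (heN n).1 hn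
      have hn10 : (n' : M2) 1 0 = 0 := hn'
      rw [hdec, map_mul, map_mul, ← hb, ← hs, ← hnn, ← map_mul, ← map_mul] at hx
      obtain ⟨-, hn00, -⟩ := upper_root hn10
      have hbV : b ∈ V := ⟨u, hb.symm⟩
      have e00 : ((uu b * s * n' : G) : M2) 0 0 = b * (s : M2) 1 0 * (n' : M2) 0 0 := by
        rw [Matrix.SpecialLinearGroup.coe_mul, Matrix.SpecialLinearGroup.coe_mul]
        simp [uu, Matrix.mul_apply, Fin.sum_univ_two, Matrix.vecMul, dotProduct, hsanti.1, hn10]
      have e10 : ((uu b * s * n' : G) : M2) 1 0 = (s : M2) 1 0 * (n' : M2) 0 0 := by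
        rw [Matrix.SpecialLinearGroup.coe_mul, Matrix.SpecialLinearGroup.coe_mul]
        simp [uu, Matrix.mul_apply, Fin.sum_univ_two, Matrix.vecMul, dotProduct, hsanti.1, hn10]
      have hdet := det_eq s
      rw [hsanti.1] at hdet
      have hbval : b * b₀ * (s : M2) 1 0 ^ 2 = -1 := by
        rcases π_eq_iff.1 hx with h' | h' <;> rw [h'] at hsus
        · have a00 := congrFun (congrFun hsus 0) 0
          have a10 := congrFun (congrFun hsus 1) 0
          rw [e00] at a00
          rw [e10] at a10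
          simp at a00 a10
          grind
        · rw [Matrix.SpecialLinearGroup.coe_neg] at hsus
          have a00 := congrFun (congrFun hsus 0) 0
          have a10 := congrFun (congrFun hsus 1) 0
          rw [Matrix.neg_apply, e00] at a00
          rw [Matrix.neg_apply, e10] at a10
          simp at a00 a10
          grind
      have hs01 : (s : M2) 0 1 = b * b₀ * (s : M2) 1 0 :=
        mul_right_cancel₀ hs10 (by linear_combination -hdet - hbval)
      have : (s : M2) 0 1 / (s : M2) 1 0 / b₀ ^ 2 = b / b₀ := by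
        rw [hs01]
        field_simp
      rw [this]
      exact hVK b hbV
  have hw' : φ w ∈ j.range := by
    refine hmem w s !![0, ⟨_, hκ⟩; 1, 0] ((s : M2) 1 0 * b₀) hs.symm (mul_ne_zero hs10 hb₀0) ?_
    apply mext <;> simp [Δ, Matrix.GeneralLinearGroup.mkOfDetNeZero, Matrix.mul_apply,
      Fin.sum_univ_two, hsanti.1, hsanti.2] <;> field_simp
  -- generation
  have hN' : ∀ x ∈ Subgroup.normalizer ((S.U : Subgroup H) : Set H), φ x ∈ j.range := by
    let μ : ↥(S.U : Subgroup H) × A → Subgroup.normalizer ((S.U : Subgroup H) : Set H) :=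
      fun z => ⟨z.1.1 * z.2.1, mul_mem (Subgroup.le_normalizer z.1.2) (hAN z.2.2)⟩
    have hμ : Function.Injective μ := by
      rintro ⟨a, b⟩ ⟨a', b'⟩ h
      have h' : (a : H) * b = a' * b' := congrArg Subtype.val h
      have h1 : (a' : H)⁻¹ * a = b' * (b : H)⁻¹ := by
        rw [eq_mul_inv_iff_mul_eq, mul_assoc, h', inv_mul_cancel_left]
      obtain ⟨i, hi⟩ := SL2Sub.Shape.pow_eq_one_of_mem_sylow S.U (mul_mem (inv_mem a'.2) a.2)
      have h2 := S.inter_eq_bot hA (h1 ▸ mul_mem b'.2 (inv_mem b.2) : (a' : H)⁻¹ * a ∈ A) hi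
      have ha : a = a' := Subtype.ext (inv_mul_eq_one.1 h2).symm
      subst ha
      exact Prod.ext rfl (Subtype.ext (mul_left_cancel h'))
    have hb := hμ.bijective_of_nat_card_le (by rw [Nat.card_prod, hAt, hN])
    intro x hx
    obtain ⟨⟨a, b⟩, hab⟩ := hb.2 ⟨x, hx⟩
    rw [← show (a : H) * b = x from congrArg Subtype.val hab, map_mul]
    exact mul_mem (hU' a a.2) (hA' b b.2)
  have hrange : ∀ x, φ x ∈ j.range := by
    intro x
    rcases hcoset x with h | ⟨u, hu, n, hn, rfl⟩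
    · exact hN' x h
    · rw [map_mul, map_mul]; exact mul_mem (mul_mem (hU' u hu) hw') (hN' n hn)
  let ψ : H →* Matrix.ProjGenLinGroup (Fin 2) K :=
    (MonoidHom.ofInjective hji).symm.toMonoidHom.comp (φ.codRestrict j.range hrange)
  have hψ : Function.Injective ψ := (MonoidHom.ofInjective hji).symm.injective.comp
    fun x y h => hφi (congrArg Subtype.val h)
  haveI : Fintype K := Fintype.ofFinite K
  haveI : Finite (Matrix.ProjGenLinGroup (Fin 2) K) :=
    Finite.of_surjective _ Matrix.ProjGenLinGroup.mk_surjective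
  have hcH : Nat.card H = (Nat.card ↥(S.U : Subgroup H) + 1) * (Nat.card ↥(S.U : Subgroup H) * t) := by
    rw [← SmallSimple.card_sylow_mul S.U, hN, hk]
  have hKQ : Fintype.card K = Nat.card ↥(S.U : Subgroup H) := by
    rw [← Nat.card_eq_fintype_card, hKcard]
  have hφψ : ∀ x, j (ψ x) = φ x := fun x =>
    congrArg Subtype.val ((MonoidHom.ofInjective hji).apply_symm_apply ⟨φ x, hrange x⟩)
  have hrφ : φ.range = ψ.range.map j := by
    rw [MonoidHom.map_range]
    exact congrArg MonoidHom.range (MonoidHom.ext fun x => (hφψ x).symm)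
  let γ : Matrix.ProjGenLinGroup (Fin 2) F := Matrix.ProjGenLinGroup.mk Δ *
    Matrix.ProjectiveSpecialLinearGroup.toPGL (π (uu c₀) * g)
  have himage : (H.map Matrix.ProjectiveSpecialLinearGroup.toPGL).map (MulAut.conj γ).toMonoidHom =
      φ.range := by
    rw [Subgroup.map_map]
    ext z
    constructor
    · rintro ⟨x, hx, rfl⟩
      exact ⟨⟨x, hx⟩, by simp [φ, e, γ, mul_assoc]⟩
    · rintro ⟨x, rfl⟩
      exact ⟨x, x.2, by simp [φ, e, γ, mul_assoc]⟩
  refine ⟨K, γ, hKcard ▸ hQ, ?_⟩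
  rw [himage, hrφ]
  rcases ht with h | h
  · right
    have hb : Function.Bijective ψ := hψ.bijective_of_nat_card_le (le_of_eq (by
      rw [card_pgl, hKQ, hcH, h]
      ring))
    exact ⟨⟨MulEquiv.ofBijective ψ hb⟩,
      by rw [MonoidHom.range_eq_top.2 hb.2, ← MonoidHom.range_eq_map]⟩
  · left
    have hidx : ψ.range.index = 2 := by
      have h1 := ψ.range.index_mul_card
      rw [← Nat.card_congr (MonoidHom.ofInjective hψ).toEquiv, card_pgl, hKQ, hcH, ← h] at h1
      refine Nat.eq_of_mul_eq_mul_right (hcH ▸ (Nat.card_pos : 0 < Nat.card H)) ?_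
      rw [h1]; ring
    have h2 : (2 : K) ≠ 0 := two_ne_zero' ⟨t, by omega⟩
    refine ⟨⟨((MonoidHom.ofInjective hψ).trans (MulEquiv.subgroupCongr (eq_psl_range h2 _ hidx))).trans
      (MonoidHom.ofInjective Matrix.ProjectiveSpecialLinearGroup.toPGL_injective).symm⟩, ?_⟩
    rw [eq_psl_range h2 _ hidx, MonoidHom.map_range]

end Cfsg.Agent.SL2
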