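import Cfsg.Agent.Lib.SL2.Dickson
import Cfsg.Agent.Lib.Recog.TriangleTwoThreeFive

/-!
# Polyhedral subgroups of `PSL(2, q)`
-/

set_option autoImplicit false
set_option linter.unusedSectionVars false

namespace Cfsg.Agent.SL2Sub

open Subgroup

variable {P : Type*} [Group P] [Finite P]

theorem card_le_of_orbit {x y : P} (hgen : closure ({x, y} : Set P) = ⊤) (S : Finset (P ⧸ zpowers y))
    (h1 : QuotientGroup.mk 1 ∈ S) (hx : ∀ q ∈ S, x • q ∈ S) (hy : ∀ q ∈ S, y • q ∈ S) :
    Nat.card P ≤ S.card * orderOf y := by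
  classical
  let T : Submonoid P :=
    { carrier := {g | ∀ q ∈ S, g • q ∈ S}
      one_mem' := fun q hq => by rwa [one_smul]
      mul_mem' := fun ha hb q hq => by rw [mul_smul]; exact ha _ (hb q hq) }
  have hall : ∀ g, g ∈ T := by
    intro g
    have hg : g ∈ Submonoid.closure ({x, y} : Set P) := by
      rw [← closure_toSubmonoid_of_finite, hgen]; trivial
    refine Submonoid.closure_le.2 ?_ hg
    rintro z (rfl | rfl)
    · exact hx
    · exact hy
  haveI := Fintype.ofFinite (P ⧸ zpowers y)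
  rw [card_eq_card_quotient_mul_card_subgroup (zpowers y), Nat.card_zpowers,
    Nat.card_eq_fintype_card, ← Finset.card_univ]
  refine Nat.mul_le_mul_right _ (Finset.card_le_card fun q _ => ?_)
  induction q using QuotientGroup.induction_on with | _ g => ?_
  have := hall g _ h1
  rwa [MulAction.Quotient.smul_mk, smul_eq_mul, mul_one] at this

theorem smul_mk_one {x y : P} : y • (QuotientGroup.mk 1 : P ⧸ zpowers y) = QuotientGroup.mk 1 := by
  rw [MulAction.Quotient.smul_mk, smul_eq_mul, mul_one, QuotientGroup.eq, mul_one]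
  exact inv_mem (mem_zpowers y)

theorem triangle_rel {x y : P} (hx : x ^ 3 = 1) (hxy : (x * y) ^ 2 = 1) :
    y * x = x * x * y⁻¹ := by
  have e : x * y * (x * y) = 1 := by rw [← pow_two]; exact hxy
  have e3 : x⁻¹ = x * x := inv_eq_of_mul_eq_one_right (by rw [← mul_assoc, ← hx, pow_succ, pow_two])
  calc y * x = x⁻¹ * (x * y * (x * y)) * y⁻¹ := by group
    _ = x * x * y⁻¹ := by rw [e, e3, mul_one]

theorem card_le_twelve {x y : P} (hgen : closure ({x, y} : Set P) = ⊤) (hx : x ^ 3 = 1)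
    (hy : y ^ 3 = 1) (hxy : (x * y) ^ 2 = 1) : Nat.card P ≤ 12 := by
  classical
  have rel := triangle_rel hx hxy
  have hyi : y⁻¹ = y * y := inv_eq_of_mul_eq_one_right (by rw [← mul_assoc, ← hy, pow_succ, pow_two])
  rw [hyi] at rel
  have hx3 : ∀ q : P ⧸ zpowers y, x • x • x • q = q := fun q => by
    rw [← mul_smul, ← mul_smul, show x * x * x = 1 by rw [← hx, pow_succ, pow_two], one_smul]
  have hy3 : ∀ q : P ⧸ zpowers y, y • y • y • q = q := fun q => by
    rw [← mul_smul, ← mul_smul, show y * y * y = 1 by rw [← hy, pow_succ, pow_two], one_smul]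
  have hr : ∀ q : P ⧸ zpowers y, y • x • q = x • x • y • y • q := fun q => by
    rw [← mul_smul, rel, mul_smul, mul_smul, mul_smul]
  set p₀ : P ⧸ zpowers y := QuotientGroup.mk 1 with hp₀
  have e0 : y • p₀ = p₀ := smul_mk_one (x := x)
  have e1 : y • x • p₀ = x • x • p₀ := by rw [hr, e0, e0]
  have e2 : x • y • x • x • p₀ = y • x • x • p₀ := by
    have h := hr (x • p₀)
    rw [e1] at h
    conv_lhs => rw [h, hx3]
  refine (card_le_of_orbit hgen {p₀, x • p₀, x • x • p₀, y • x • x • p₀} (by simp [hp₀]) ?_ ?_).trans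
    (Nat.mul_le_mul (le_trans (Finset.card_le_four) le_rfl)
      (Nat.le_of_dvd (by norm_num) (orderOf_dvd_of_pow_eq_one hy)))
  · intro q hq
    simp only [Finset.mem_insert, Finset.mem_singleton] at hq ⊢
    rcases hq with rfl | rfl | rfl | rfl
    · exact Or.inr (Or.inl rfl)
    · exact Or.inr (Or.inr (Or.inl rfl))
    · exact Or.inl (hx3 _)
    · exact Or.inr (Or.inr (Or.inr e2))
  · intro q hq
    simp only [Finset.mem_insert, Finset.mem_singleton] at hq ⊢
    rcases hq with rfl | rfl | rfl | rfl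
    · exact Or.inl e0
    · exact Or.inr (Or.inr (Or.inl e1))
    · exact Or.inr (Or.inr (Or.inr rfl))
    · refine Or.inr (Or.inl ?_)
      rw [← e1, hy3]

theorem card_le_twentyfour {x y : P} (hgen : closure ({x, y} : Set P) = ⊤) (hx : x ^ 3 = 1)
    (hy : y ^ 4 = 1) (hxy : (x * y) ^ 2 = 1) : Nat.card P ≤ 24 := by
  classical
  have rel := triangle_rel hx hxy
  have hyi : y⁻¹ = y * (y * y) :=
    inv_eq_of_mul_eq_one_right (by rw [← hy, pow_succ', pow_succ', pow_two])
  rw [hyi] at rel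
  have hx3 : ∀ q : P ⧸ zpowers y, x • x • x • q = q := fun q => by
    rw [← mul_smul, ← mul_smul, show x * x * x = 1 by rw [← hx, pow_succ, pow_two], one_smul]
  have hy4 : ∀ q : P ⧸ zpowers y, y • y • y • y • q = q := fun q => by
    rw [← mul_smul, ← mul_smul, ← mul_smul, show y * y * y * y = 1 by rw [← hy, pow_succ, pow_succ, pow_two], one_smul]
  have hr : ∀ q : P ⧸ zpowers y, y • x • q = x • x • y • y • y • q := fun q => by
    rw [← mul_smul, rel, mul_smul, mul_smul, mul_smul, mul_smul]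
  set p₀ : P ⧸ zpowers y := QuotientGroup.mk 1 with hp₀
  have e0 : y • p₀ = p₀ := smul_mk_one (x := x)
  have e1 : y • x • p₀ = x • x • p₀ := by rw [hr, e0, e0, e0]
  set p₂ : P ⧸ zpowers y := x • x • p₀ with hp₂
  have e4 : y • y • y • p₂ = x • p₀ := by rw [← e1, hy4]
  have e3 : x • y • p₂ = y • y • p₂ := by
    have h := hr (x • p₀)
    rw [e1] at h
    conv_lhs => rw [show y • p₂ = x • x • y • y • p₂ from h, hx3]
  have e5 : y • x • y • y • p₂ = x • y • y • p₂ := by
    conv_lhs => rw [hr, show y • y • y • y • y • p₂ = y • p₂ from hy4 _, e3]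
  have e7 : x • x • y • y • p₂ = y • p₂ := by
    rw [← e3, hx3]
  refine (card_le_of_orbit hgen {p₀, x • p₀, p₂, y • p₂, y • y • p₂, x • y • y • p₂} (by simp [hp₀]) ?_ ?_).trans
    (Nat.mul_le_mul Finset.card_le_six (Nat.le_of_dvd (by norm_num) (orderOf_dvd_of_pow_eq_one hy)))
  · intro q hq
    simp only [Finset.mem_insert, Finset.mem_singleton] at hq ⊢
    rcases hq with rfl | rfl | rfl | rfl | rfl | rfl
    · exact Or.inr (Or.inl rfl)
    · exact Or.inr (Or.inr (Or.inl rfl))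
    · exact Or.inl (hx3 _)
    · exact Or.inr (Or.inr (Or.inr (Or.inr (Or.inl e3))))
    · exact Or.inr (Or.inr (Or.inr (Or.inr (Or.inr rfl))))
    · exact Or.inr (Or.inr (Or.inr (Or.inl e7)))
  · intro q hq
    simp only [Finset.mem_insert, Finset.mem_singleton] at hq ⊢
    rcases hq with rfl | rfl | rfl | rfl | rfl | rfl
    · exact Or.inl e0
    · exact Or.inr (Or.inr (Or.inl e1))
    · exact Or.inr (Or.inr (Or.inr (Or.inl rfl)))
    · exact Or.inr (Or.inr (Or.inr (Or.inr (Or.inl rfl))))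
    · exact Or.inr (Or.inl e4)
    · exact Or.inr (Or.inr (Or.inr (Or.inr (Or.inr e5))))

/-- In a commutative image of a `(2, 3, n)` triangle group the generators are killed by small powers. -/
theorem comm_triangle {M : Type*} [Group M] {a b : M} (hc : a * b = b * a) (ha : a ^ 3 = 1)
    (hab : (a * b) ^ 2 = 1) : a = b ^ 2 ∧ b ^ 6 = 1 := by
  have h : a ^ 2 * b ^ 2 = 1 := by rw [← (show Commute a b from hc).mul_pow, hab]
  have e : a = b ^ 2 := by
    calc a = a ^ 3 * b ^ 2 := by rw [pow_succ' a 2, mul_assoc, h, mul_one]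
      _ = b ^ 2 := by rw [ha, one_mul]
  exact ⟨e, by rw [show (6 : ℕ) = 2 * 3 from rfl, pow_mul, ← e, ha]⟩

end Cfsg.Agent.SL2Sub

namespace Cfsg.Agent.SL2

open Matrix

variable {F : Type*} [Field F]

local notation "G" => Matrix.SpecialLinearGroup (Fin 2) F
local notation "M2" => Matrix (Fin 2) (Fin 2) F
local notation "PS" => Matrix.ProjectiveSpecialLinearGroup (Fin 2) F

theorem sq_of_trace_zero {g : G} (h : tr g = 0) : g * g = -1 := by
  apply Subtype.ext
  rw [Matrix.SpecialLinearGroup.coe_mul, mul_self, h, Matrix.SpecialLinearGroup.coe_neg]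
  simp

theorem pow_three_of_trace_one {g : G} (h : tr g = 1) : g ^ 3 = -1 := by
  apply Subtype.ext
  rw [Matrix.SpecialLinearGroup.coe_pow, Matrix.SpecialLinearGroup.coe_neg, pow_succ, pow_two, mul_self, h]
  rw [one_smul, sub_mul, one_mul, mul_self, h, one_smul, Matrix.SpecialLinearGroup.coe_one]
  abel

theorem pow_four_of_trace {g : G} (h : tr g ^ 2 = 2) : g ^ 4 = -1 := by
  apply Subtype.ext
  rw [Matrix.SpecialLinearGroup.coe_pow, Matrix.SpecialLinearGroup.coe_neg, show (4 : ℕ) = 2 + 2 from rfl,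
    pow_add, pow_two, mul_self]
  rw [sub_mul, one_mul, smul_mul_assoc, mul_sub, mul_one, mul_smul_comm, mul_self,
    Matrix.SpecialLinearGroup.coe_one]
  match_scalars
  · linear_combination tr g * h
  · linear_combination -h

theorem pow_five_of_trace {g : G} (h : tr g ^ 2 = tr g + 1) : g ^ 5 = -1 := by
  apply Subtype.ext
  rw [Matrix.SpecialLinearGroup.coe_pow, Matrix.SpecialLinearGroup.coe_neg, show (5 : ℕ) = 2 + 2 + 1 from rfl,
    pow_add, pow_add, pow_one, pow_two, mul_self]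
  rw [sub_mul (tr g • (g : M2)) 1 (tr g • (g : M2) - 1), one_mul, smul_mul_assoc, mul_sub, mul_one,
    mul_smul_comm, mul_self]
  simp only [sub_mul, smul_sub, smul_smul, smul_mul_assoc, mul_self, one_mul,
    Matrix.SpecialLinearGroup.coe_one]
  match_scalars
  · linear_combination (tr g ^ 2 + tr g - 1) * h
  · linear_combination -(tr g + 1) * h

theorem pi_neg_one : π (-1 : G) = 1 := by rw [π_neg, map_one]

variable [Fintype F]

/-- Generators of a polyhedral subgroup. -/
theorem exists_triangle {t : F} (hq : ∃ x y : F, x ^ 2 - x + y ^ 2 + t * y + 1 = 0) (ht : t ≠ 0) :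
    ∃ x y : G, tr x = 1 ∧ tr y = t ∧ ¬ Scal x ∧ ¬ Scal y ∧ ¬ Scal (x * y) ∧ tr (x * y) = 0 := by
  let w : G := ⟨!![0, -1; 1, 0], by simp [Matrix.det_fin_two]⟩
  have hw : ¬ Scal w := fun h => by simpa [w] using h.2.1
  have hwt : tr w = 0 := by simp [tr, w]
  obtain ⟨a, b, hab⟩ := hq
  obtain ⟨A, hA, hB⟩ := exists_factor (h := w) hw (t := 1) (t' := t) (x := a) (y := b)
    (by rw [hwt]; linear_combination -hab)
  refine ⟨A, A⁻¹ * w, hA, hB, fun hs => ?_, fun hs => ?_, by rwa [mul_inv_cancel_left],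
    by rwa [mul_inv_cancel_left]⟩
  · rcases (scal_iff A).1 hs with rfl | rfl
    · rw [inv_one, one_mul, hwt] at hB
      exact ht hB.symm
    · rw [show (-1 : G)⁻¹ * w = -w by rw [inv_neg, inv_one, neg_one_mul], tr_neg, hwt, neg_zero] at hB
      exact ht hB.symm
  · have hA' : A = w * (A⁻¹ * w)⁻¹ := by group
    rcases (scal_iff (A⁻¹ * w)).1 hs with e | e <;> rw [e] at hA'
    · rw [inv_one, mul_one] at hA'
      rw [hA', hwt] at hA
      exact zero_ne_one hA
    · rw [inv_neg, inv_one, mul_neg, mul_one] at hA'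
      rw [hA', tr_neg, hwt, neg_zero] at hA
      exact zero_ne_one hA

theorem orderOf_pi_prime {r : ℕ} [Fact r.Prime] {g : G} (hg : ¬ Scal g) (h : g ^ r = -1) :
    orderOf (π g) = r :=
  orderOf_eq_prime (by rw [← map_pow, h, pi_neg_one]) fun e => hg (π_eq_one.1 e)

theorem orderOf_pi_two {g : G} (hg : ¬ Scal g) (h : tr g = 0) : orderOf (π g) = 2 := by
  haveI : Fact (Nat.Prime 2) := ⟨Nat.prime_two⟩
  exact orderOf_pi_prime hg (by rw [pow_two]; exact sq_of_trace_zero h)

theorem not_scal_of_trace {g : G} (h : tr g ^ 2 ≠ 4) : ¬ Scal g := scal_of_tr_sq_ne h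

/-- A solution of the quadric, in odd characteristic. -/
theorem exists_quadric (h2 : (2 : F) ≠ 0) (t : F) :
    ∃ x y : F, x ^ 2 - x + y ^ 2 + t * y + 1 = 0 := by
  obtain ⟨a, b, hab⟩ := FiniteField.exists_root_sum_quadratic
    (f := Polynomial.C (1 : F) * Polynomial.X ^ 2 + Polynomial.C (-1) * Polynomial.X + Polynomial.C 1)
    (g := Polynomial.C (1 : F) * Polynomial.X ^ 2 + Polynomial.C t * Polynomial.X + Polynomial.C 0)
    (Polynomial.degree_quadratic one_ne_zero) (Polynomial.degree_quadratic one_ne_zero)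
    (FiniteField.odd_card_of_char_ne_two fun h => h2 (by
      have : CharP F 2 := h ▸ ringChar.charP F
      exact CharTwo.two_eq_zero))
  simp at hab
  exact ⟨a, b, by linear_combination hab⟩

theorem exists_borelHom :
    ∃ ψ : (B0 : Subgroup PS) →* Fˣ, ∀ v, ψ v = 1 → (v : PS) ∈ (W0 : Subgroup PS) := by
  have hlift : ∀ v : (B0 : Subgroup PS), ∃ s : upperB (F := F), π (s : G) = v := by
    rintro ⟨_, s, hs, rfl⟩
    exact ⟨⟨s, hs⟩, rfl⟩
  choose l hl using hlift
  have hwd : ∀ s s' : upperB (F := F), π (s : G) = π (s' : G) → borelChar s = borelChar s' := by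
    intro s s' e
    rcases π_eq_iff.1 e with e | e <;>
      · apply Units.ext
        simp [borelChar, e]
  refine ⟨MonoidHom.mk' (fun v => borelChar (l v)) fun a b => ?_, fun v hv => ?_⟩
  · rw [← map_mul]
    exact hwd _ _ (by rw [Subgroup.coe_mul, map_mul, hl, hl, hl]; rfl)
  · rw [← hl]
    refine pi_upper_mem_W0 (l v).2 ?_
    simpa [borelChar] using congrArg Units.val hv

theorem W0_comm {a b : PS} (ha : a ∈ (W0 : Subgroup PS)) (hb : b ∈ (W0 : Subgroup PS)) :
    a * b = b * a := by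
  obtain ⟨u, rfl⟩ := ha
  obtain ⟨v, rfl⟩ := hb
  rw [← map_mul, ← map_mul, uu_mul, uu_mul, add_comm]

/-- The subgroup generated by the images of two elements. -/
abbrev tri (x y : G) : Subgroup PS := Subgroup.closure ({π x, π y} : Set PS)

theorem gen_top (x y : G) :
    Subgroup.closure ({⟨π x, Subgroup.subset_closure (Set.mem_insert _ _)⟩,
      ⟨π y, Subgroup.subset_closure (Set.mem_insert_of_mem _ rfl)⟩} : Set (tri x y)) = ⊤ := by
  rw [← Subgroup.closure_closure_coe_preimage (k := ({π x, π y} : Set PS))]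
  congr 1
  ext ⟨z, hz⟩
  simp

/-- `A₄ ≤ PSL(2, q)`. -/
theorem exists_alt_four (hq : ∃ a b : F, a ^ 2 - a + b ^ 2 + 1 * b + 1 = 0) :
    ∃ H : Subgroup PS, Nonempty (H ≃* alternatingGroup (Fin 4)) := by
  haveI : Finite PS := Finite.of_surjective _ π_surjective
  haveI : Fact (Nat.Prime 3) := ⟨Nat.prime_three⟩
  obtain ⟨x, y, hx, hy, hxs, hys, hxys, hxy⟩ := exists_triangle hq one_ne_zero
  refine ⟨(tri x y), ?_⟩
  let X : (tri x y) := ⟨π x, Subgroup.subset_closure (Set.mem_insert _ _)⟩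
  let Y : (tri x y) := ⟨π y, Subgroup.subset_closure (Set.mem_insert_of_mem _ rfl)⟩
  have hX : orderOf X = 3 := (Subgroup.orderOf_mk _ _).trans (orderOf_pi_prime hxs (pow_three_of_trace_one hx))
  have hY : orderOf Y = 3 := (Subgroup.orderOf_mk _ _).trans (orderOf_pi_prime hys (pow_three_of_trace_one hy))
  have hXY : orderOf (X * Y) = 2 := by
    rw [← Subgroup.orderOf_coe]
    show orderOf (π x * π y) = 2
    rw [← map_mul]
    exact orderOf_pi_two hxys hxy
  have hle := SL2Sub.card_le_twelve (gen_top x y)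
    (show X ^ 3 = 1 from hX ▸ pow_orderOf_eq_one X) (show Y ^ 3 = 1 from hY ▸ pow_orderOf_eq_one Y)
    (show (X * Y) ^ 2 = 1 from orderOf_dvd_iff_pow_eq_one.1 (dvd_of_eq hXY))
  have h3 : 3 ∣ Nat.card (tri x y) := hX ▸ orderOf_dvd_natCard X
  have h2 : 2 ∣ Nat.card (tri x y) := (dvd_of_eq hXY.symm).trans (orderOf_dvd_natCard (X * Y))
  have hnn : ¬ (Subgroup.zpowers X).Normal := by
    intro hn
    have hYX : Y ∈ Subgroup.zpowers X := by
      obtain ⟨V, hV⟩ := (IsPGroup.of_card (p := 3) (n := 1) (by rw [Nat.card_zpowers, hX, pow_one]) :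
        IsPGroup 3 (Subgroup.zpowers X)).exists_le_sylow
      obtain ⟨W, hW⟩ := (IsPGroup.of_card (p := 3) (n := 1) (by rw [Nat.card_zpowers, hY, pow_one]) :
        IsPGroup 3 (Subgroup.zpowers Y)).exists_le_sylow
      have hc : ∀ U : Sylow 3 (tri x y), Nat.card ↥(U : Subgroup (tri x y)) = 3 := fun U =>
        SL2Sub.card_sylow_eq_prime (m := Nat.card (tri x y) / 3) (Nat.mul_div_cancel' h3).symm
          (fun hd => by
            have : 0 < Nat.card (tri x y) := Nat.card_pos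
            omega) U
      have hVe : Subgroup.zpowers X = (V : Subgroup (tri x y)) :=
        Subgroup.eq_of_le_of_card_ge hV (by rw [hc, Nat.card_zpowers, hX])
      obtain ⟨g, hg⟩ := MulAction.exists_smul_eq (tri x y) V W
      have hm : Y ∈ (W : Subgroup (tri x y)) := hW (Subgroup.mem_zpowers Y)
      rw [← hg, Sylow.coe_subgroup_smul, ← hVe] at hm
      obtain ⟨u, hu, hu'⟩ := hm
      exact hu' ▸ hn.conj_mem u hu g
    have := (Subgroup.orderOf_dvd_natCard _ (mul_mem (Subgroup.mem_zpowers X) hYX)).trans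
      (dvd_of_eq (Nat.card_zpowers X))
    rw [hXY, hX] at this
    omega
  have h12 : Nat.card (tri x y) = 12 := by
    have : 0 < Nat.card (tri x y) := Nat.card_pos
    by_contra hne
    have h6 : Nat.card (tri x y) = 6 := by omega
    refine hnn (Subgroup.normal_of_index_eq_two ?_)
    have h := (Subgroup.zpowers X).index_mul_card
    rw [Nat.card_zpowers, hX, h6] at h
    omega
  obtain ⟨V, hV⟩ := SL2Sub.exists_sylow_of_card (p := 3) (m := 4) h12 (by norm_num)
    (C := Subgroup.zpowers X) (by rw [Nat.card_zpowers, hX])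
  refine SL2Sub.mulEquiv_alt_four h12 (C := Subgroup.zpowers X) (by rw [Nat.card_zpowers, hX]) ?_
  have h := SmallSimple.card_sylow_mul V
  rw [h12, hV] at h
  have hm := card_sylow_modEq_one 3 (tri x y)
  unfold Nat.ModEq at hm
  have hn1 : Nat.card (Sylow 3 (tri x y)) ≠ 1 := fun h1 => by
    haveI := (Nat.card_eq_one_iff_unique.1 h1).1
    exact hnn (hV ▸ Sylow.normal_of_subsingleton V)
  have hn : Nat.card (Sylow 3 (tri x y)) = 4 := by
    have hd : Nat.card (Sylow 3 (tri x y)) ∣ 4 := by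
      have := V.card_dvd_index
      have h' := (V : Subgroup (tri x y)).index_mul_card
      rw [hV, Nat.card_zpowers, hX, h12] at h'
      rw [hV, show (Subgroup.zpowers X).index = 4 by omega] at this
      exact this
    have := Nat.le_of_dvd (by norm_num) hd
    interval_cases Nat.card (Sylow 3 (tri x y)) <;> omega
  rw [hn] at h
  omega

/-- Dickson's list for a `(2, 3, n)`-generated subgroup, `n = 4, 5`. -/
theorem triangle_cases {x y : G} (p : ℕ) [Fact p.Prime] [CharP F p] {n : ℕ} (hn : n = 4 ∨ n = 5)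
    (hX : orderOf (π x) = 3) (hY : orderOf (π y) = n) (hXY : orderOf (π x * π y) = 2) :
    Nonempty ((tri x y) ≃* Equiv.Perm (Fin 4)) ∨ Nonempty ((tri x y) ≃* alternatingGroup (Fin 5)) ∨
      ∃ K : Subfield F, 4 ≤ Nat.card K ∧
        (Nonempty ((tri x y) ≃* Matrix.ProjectiveSpecialLinearGroup (Fin 2) K) ∨
          Nonempty ((tri x y) ≃* Matrix.ProjGenLinGroup (Fin 2) K)) := by
  haveI : Finite PS := Finite.of_surjective _ π_surjective
  have hX3 : π x ^ 3 = 1 := hX ▸ pow_orderOf_eq_one _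
  have hYn : π y ^ n = 1 := hY ▸ pow_orderOf_eq_one _
  have hXY2 : (π x * π y) ^ 2 = 1 := orderOf_dvd_iff_pow_eq_one.1 (dvd_of_eq hXY)
  have hxm : π x ∈ (tri x y) := Subgroup.subset_closure (Set.mem_insert _ _)
  have hym : π y ∈ (tri x y) := Subgroup.subset_closure (Set.mem_insert_of_mem _ rfl)
  have hnc : π x * π y ≠ π y * π x := fun hc => by
    obtain ⟨-, h6⟩ := SL2Sub.comm_triangle hc hX3 hXY2
    have := hY ▸ orderOf_dvd_of_pow_eq_one h6
    rcases hn with rfl | rfl <;> omega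
  rcases dickson p (tri x y) with ⟨r, -, -, hc⟩ | ⟨r, -, -, k, -, -, ⟨e⟩⟩ | ⟨g, hg⟩ | ⟨-, ⟨e⟩⟩ | ⟨-, h⟩ | ⟨-, -, h⟩ | ⟨K, γ, hK, h⟩
  · exfalso
    obtain ⟨u, hu⟩ := hc.exists_generator
    obtain ⟨i, hi⟩ := Subgroup.mem_zpowers_iff.1 (hu ⟨π x, hxm⟩)
    obtain ⟨j, hj⟩ := Subgroup.mem_zpowers_iff.1 (hu ⟨π y, hym⟩)
    refine hnc (congrArg Subtype.val (show (⟨π x, hxm⟩ : (tri x y)) * ⟨π y, hym⟩ = ⟨π y, hym⟩ * ⟨π x, hxm⟩ from ?_))
    rw [← hi, ← hj]
    exact (Commute.zpow_zpow_self u i j).eq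
  · exfalso
    have hox : orderOf (e ⟨π x, hxm⟩) = 3 := by rw [MulEquiv.orderOf_eq, Subgroup.orderOf_mk, hX]
    have hoy : orderOf (e ⟨π y, hym⟩) = n := by rw [MulEquiv.orderOf_eq, Subgroup.orderOf_mk, hY]
    rcases hx' : e ⟨π x, hxm⟩ with i | i <;> rw [hx'] at hox
    · rcases hy' : e ⟨π y, hym⟩ with j | j <;> rw [hy'] at hoy
      · refine hnc (congrArg Subtype.val (e.injective (?_ :
          e (⟨π x, hxm⟩ * ⟨π y, hym⟩) = e (⟨π y, hym⟩ * ⟨π x, hxm⟩))))
        rw [map_mul, map_mul, hx', hy', DihedralGroup.r_mul_r, DihedralGroup.r_mul_r, add_comm]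
      · rw [DihedralGroup.orderOf_sr] at hoy; omega
    · rw [DihedralGroup.orderOf_sr] at hox; omega
  · exfalso
    obtain ⟨ψ, hψ⟩ := exists_borelHom (F := F)
    let X : (B0 : Subgroup PS) := ⟨g * π x * g⁻¹, hg _ hxm⟩
    let Y : (B0 : Subgroup PS) := ⟨g * π y * g⁻¹, hg _ hym⟩
    have eXY : X * Y = ⟨g * (π x * π y) * g⁻¹, hg _ (mul_mem hxm hym)⟩ := Subtype.ext (by
      show g * π x * g⁻¹ * (g * π y * g⁻¹) = g * (π x * π y) * g⁻¹
      group)
    have cX3 : ψ X ^ 3 = 1 := by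
      rw [← map_pow, show X ^ 3 = 1 from Subtype.ext (by
        show (g * π x * g⁻¹) ^ 3 = 1
        rw [conj_pow, hX3, mul_one, mul_inv_cancel]), map_one]
    have cY : ψ Y ^ n = 1 := by
      rw [← map_pow, show Y ^ n = 1 from Subtype.ext (by
        show (g * π y * g⁻¹) ^ n = 1
        rw [conj_pow, hYn, mul_one, mul_inv_cancel]), map_one]
    have cXY : (ψ X * ψ Y) ^ 2 = 1 := by
      rw [← map_mul, ← map_pow, eXY, show (⟨g * (π x * π y) * g⁻¹, hg _ (mul_mem hxm hym)⟩ :
        (B0 : Subgroup PS)) ^ 2 = 1 from Subtype.ext (by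
          show (g * (π x * π y) * g⁻¹) ^ 2 = 1
          rw [conj_pow, hXY2, mul_one, mul_inv_cancel]), map_one]
    obtain ⟨e1, e6⟩ := SL2Sub.comm_triangle (mul_comm _ _) cX3 cXY
    rcases hn with rfl | rfl
    · have e2 : ψ Y ^ 2 = 1 := by
        calc ψ Y ^ 2 = ψ Y ^ 6 * ((ψ Y ^ 4)⁻¹) := by group
          _ = 1 := by rw [e6, cY, inv_one, mul_one]
      have hXW := B0_exponent (p := p) (hψ X (e1.trans e2))
      have hYW := B0_exponent (p := p) (hψ (Y ^ 2) (by rw [map_pow, e2]))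
      rw [show ((X : (B0 : Subgroup PS)) : PS) = g * π x * g⁻¹ from rfl, conj_pow, conj_eq_one_iff] at hXW
      rw [show ((Y ^ 2 : (B0 : Subgroup PS)) : PS) = (g * π y * g⁻¹) ^ 2 from rfl, conj_pow, conj_pow,
        conj_eq_one_iff, ← pow_mul] at hYW
      have h3 : 3 ∣ p := hX ▸ orderOf_dvd_of_pow_eq_one hXW
      have h4 : 4 ∣ 2 * p := hY ▸ orderOf_dvd_of_pow_eq_one hYW
      rcases (Nat.dvd_prime Fact.out).1 h3 with h | h <;> omega
    · have e2 : ψ Y = 1 := by
        calc ψ Y = ψ Y ^ 6 * ((ψ Y ^ 5)⁻¹) := by group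
          _ = 1 := by rw [e6, cY, inv_one, mul_one]
      have h := W0_comm (hψ X (by rw [e1, e2, one_pow])) (hψ Y e2)
      refine hnc ?_
      have h' : g * (π x * π y) * g⁻¹ = g * (π y * π x) * g⁻¹ := by
        calc g * (π x * π y) * g⁻¹ = g * π x * g⁻¹ * (g * π y * g⁻¹) := by group
          _ = g * π y * g⁻¹ * (g * π x * g⁻¹) := h
          _ = g * (π y * π x) * g⁻¹ := by group
      exact mul_left_cancel (mul_right_cancel h')
  · exfalso
    have hoy : orderOf (e ⟨π y, hym⟩) = n := by rw [MulEquiv.orderOf_eq, Subgroup.orderOf_mk, hY]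
    have key : ∀ g : alternatingGroup (Fin 4), g ^ 2 = 1 ∨ g ^ 3 = 1 := by decide +kernel
    rcases key (e ⟨π y, hym⟩) with h | h <;>
      have := hoy ▸ orderOf_dvd_of_pow_eq_one h <;>
      rcases hn with rfl | rfl <;> omega
  · exact Or.inl h
  · exact Or.inr (Or.inl h)
  · exact Or.inr (Or.inr ⟨K, hK, h.imp And.left And.left⟩)

theorem sixty_le_card_psl {L : Type*} [Field L] [Fintype L] (h : 4 ≤ Fintype.card L) :
    60 ≤ Nat.card (Matrix.ProjectiveSpecialLinearGroup (Fin 2) L) ∧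
      (Nat.card (Matrix.ProjectiveSpecialLinearGroup (Fin 2) L) ≤ 60 → Fintype.card L ≤ 5) := by
  have h3 := card_psl (F := L)
  have hk : 3 * (Fintype.card L * ((Fintype.card L - 1) * (Fintype.card L + 1))) ≥
      3 * (4 * (3 * 5)) := Nat.mul_le_mul_left _ (Nat.mul_le_mul h (Nat.mul_le_mul (by omega) (by omega)))
  have h0 : Nat.gcd 2 (Fintype.card L - 1) ≤ 2 := Nat.gcd_le_left _ two_pos
  rcases Nat.lt_or_ge (Fintype.card L) 7 with hlt | hge
  · have h6 : Fintype.card L ≠ 6 := by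
      intro h6
      obtain ⟨m, hp, hq⟩ := FiniteField.card L (ringChar L)
      rw [h6] at hq
      have h1 := (Nat.prime_dvd_prime_iff_eq Nat.prime_two hp).1
        (Nat.prime_two.dvd_of_dvd_pow (hq ▸ (by norm_num : 2 ∣ 6)))
      have h2 := (Nat.prime_dvd_prime_iff_eq Nat.prime_three hp).1
        (Nat.prime_three.dvd_of_dvd_pow (hq ▸ (by norm_num : 3 ∣ 6)))
      omega
    interval_cases hL : Fintype.card L
    all_goals simp_all
    all_goals omega
  · have h7 : 7 * (6 * 8) ≤ Fintype.card L * ((Fintype.card L - 1) * (Fintype.card L + 1)) :=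
      Nat.mul_le_mul hge (Nat.mul_le_mul (by omega) (by omega))
    have : Nat.gcd 2 (Fintype.card L - 1) * Nat.card (Matrix.ProjectiveSpecialLinearGroup (Fin 2) L) ≤
      2 * Nat.card (Matrix.ProjectiveSpecialLinearGroup (Fin 2) L) := Nat.mul_le_mul_right _ h0
    constructor <;> omega

theorem psl_le_pgl {L : Type*} [Field L] [Fintype L] :
    Nat.card (Matrix.ProjectiveSpecialLinearGroup (Fin 2) L) ≤
      Nat.card (Matrix.ProjGenLinGroup (Fin 2) L) := by
  haveI : Finite (Matrix.ProjGenLinGroup (Fin 2) L) :=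
    Finite.of_surjective _ Matrix.ProjGenLinGroup.mk_surjective
  exact Nat.card_le_card_of_injective _ Matrix.ProjectiveSpecialLinearGroup.toPGL_injective

/-- `S₄ ≤ PSL(2, q)`. -/
theorem exists_perm_four (h2 : (2 : F) ≠ 0) {t : F} (ht : t ^ 2 = 2) :
    ∃ H : Subgroup PS, Nonempty (H ≃* Equiv.Perm (Fin 4)) := by
  haveI : Finite PS := Finite.of_surjective _ π_surjective
  haveI : Fact (Nat.Prime (ringChar F)) := ⟨CharP.char_is_prime F _⟩
  haveI : Fact (Nat.Prime 3) := ⟨Nat.prime_three⟩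
  have ht0 : t ≠ 0 := fun h => h2 (by rw [← ht, h]; ring)
  obtain ⟨x, y, hx, hy, hxs, -, hxys, hxy⟩ := exists_triangle (exists_quadric h2 t) ht0
  have hX : orderOf (π x) = 3 := orderOf_pi_prime hxs (pow_three_of_trace_one hx)
  have hy4 := pow_four_of_trace (hy ▸ ht : tr y ^ 2 = 2)
  have hY : orderOf (π y) = 4 := by
    haveI : Fact (Nat.Prime 2) := ⟨Nat.prime_two⟩
    refine orderOf_eq_prime_pow (p := 2) (n := 1) ?_ (by rw [← map_pow]; show π (y ^ 4) = 1; rw [hy4, pi_neg_one])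
    rw [pow_one, ← map_pow, π_eq_one]
    intro hs
    refine neg_ne_self h2 (1 : G) (hy4.symm.trans ?_)
    rw [show (4 : ℕ) = 2 * 2 from rfl, pow_mul]
    rcases (scal_iff _).1 hs with e | e <;> rw [e, pow_two] <;> simp
  have hXY : orderOf (π x * π y) = 2 := by rw [← map_mul]; exact orderOf_pi_two hxys hxy
  refine ⟨(tri x y), ?_⟩
  have hle : Nat.card (tri x y) ≤ 24 := SL2Sub.card_le_twentyfour (gen_top x y)
    (Subtype.ext (hX ▸ pow_orderOf_eq_one (π x))) (Subtype.ext (hY ▸ pow_orderOf_eq_one (π y)))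
    (Subtype.ext (orderOf_dvd_iff_pow_eq_one.1 (dvd_of_eq hXY) : (π x * π y) ^ 2 = 1))
  rcases triangle_cases (ringChar F) (Or.inl rfl) hX hY hXY with h | ⟨⟨e⟩⟩ | ⟨K, hK, he⟩
  · exact h
  · exfalso
    have := Nat.card_congr e.toEquiv
    have h60 : 2 * Nat.card (alternatingGroup (Fin 5)) = (5 : ℕ).factorial :=
      SmallSimple.card_alternating_fin (by norm_num)
    rw [show (5 : ℕ).factorial = 120 from rfl] at h60
    omega
  · exfalso
    haveI : Fintype K := Fintype.ofFinite K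
    rw [Nat.card_eq_fintype_card] at hK
    have h1 := (sixty_le_card_psl hK).1
    have h2' := psl_le_pgl (L := K)
    rcases he with h | h <;> obtain ⟨e⟩ := h <;> have := Nat.card_congr e.toEquiv <;> omega

/-- `A₅ ≤ PSL(2, q)`. -/
theorem exists_alt_five {t : F} (ht : t ^ 2 = t + 1) :
    ∃ H : Subgroup PS, Nonempty (H ≃* alternatingGroup (Fin 5)) := by
  haveI : Finite PS := Finite.of_surjective _ π_surjective
  haveI : Fact (Nat.Prime (ringChar F)) := ⟨CharP.char_is_prime F _⟩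
  haveI : Fact (Nat.Prime 3) := ⟨Nat.prime_three⟩
  haveI : Fact (Nat.Prime 5) := ⟨by norm_num⟩
  have hq : ∃ a b : F, a ^ 2 - a + b ^ 2 + t * b + 1 = 0 := by
    by_cases h2 : (2 : F) = 0
    · exact ⟨t, 0, by linear_combination ht + h2⟩
    · exact exists_quadric h2 t
  have ht0 : t ≠ 0 := fun h => one_ne_zero (by rw [h] at ht; linear_combination -ht : (1 : F) = 0)
  obtain ⟨x, y, hx, hy, hxs, hys, hxys, hxy⟩ := exists_triangle hq ht0
  have hX : orderOf (π x) = 3 := orderOf_pi_prime hxs (pow_three_of_trace_one hx)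
  have hY : orderOf (π y) = 5 := orderOf_pi_prime hys (pow_five_of_trace (by rw [hy, ht]))
  have hXY : orderOf (π x * π y) = 2 := by rw [← map_mul]; exact orderOf_pi_two hxys hxy
  refine ⟨(tri x y), ?_⟩
  obtain ⟨-, hle⟩ := Recog.T235.card_le _ _ (gen_top x y)
    (Subtype.ext (hX ▸ pow_orderOf_eq_one (π x))) (Subtype.ext (hY ▸ pow_orderOf_eq_one (π y)))
    (Subtype.ext (orderOf_dvd_iff_pow_eq_one.1 (dvd_of_eq hXY) : (π x * π y) ^ 2 = 1))
  rcases triangle_cases (ringChar F) (Or.inr rfl) hX hY hXY with ⟨⟨e⟩⟩ | h | ⟨K, hK, he⟩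
  · exfalso
    have h5 : orderOf (e ⟨π y, Subgroup.subset_closure (Set.mem_insert_of_mem _ rfl)⟩) = 5 := by
      rw [MulEquiv.orderOf_eq, Subgroup.orderOf_mk, hY]
    have := h5 ▸ orderOf_dvd_natCard (e ⟨π y, Subgroup.subset_closure (Set.mem_insert_of_mem _ rfl)⟩)
    rw [Nat.card_perm, Nat.card_fin] at this
    exact absurd this (by decide)
  · exact h
  · haveI : Fintype K := Fintype.ofFinite K
    rw [Nat.card_eq_fintype_card] at hK
    obtain ⟨h60, h5'⟩ := sixty_le_card_psl hK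
    haveI := Matrix.ProjectiveSpecialLinearGroup.rank_two_simple (F := K)
      (by rw [Nat.card_eq_fintype_card]; exact hK)
    have h2' := psl_le_pgl (L := K)
    haveI : Finite (Matrix.ProjGenLinGroup (Fin 2) K) :=
      Finite.of_surjective _ Matrix.ProjGenLinGroup.mk_surjective
    obtain ⟨e⟩ : Nonempty ((tri x y) ≃* Matrix.ProjectiveSpecialLinearGroup (Fin 2) K) := by
      rcases he with h | h <;> obtain ⟨e⟩ := h
      · exact ⟨e⟩
      · have := Nat.card_congr e.toEquiv
        exact ⟨e.trans (MulEquiv.ofBijective Matrix.ProjectiveSpecialLinearGroup.toPGL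
          (Matrix.ProjectiveSpecialLinearGroup.toPGL_injective.bijective_of_nat_card_le (by omega))).symm⟩
    have hc := Nat.card_congr e.toEquiv
    obtain ⟨e'⟩ : Nonempty (Matrix.ProjectiveSpecialLinearGroup (Fin 2) K ≃* alternatingGroup (Fin 5)) :=
      SmallSimple.mulEquiv_alternating_five (by omega)
    exact ⟨e.trans e'⟩

end Cfsg.Agent.SL2
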