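import Mathlib

/-!
# The subgroup of order `120` of `SL(2, 9)`, entries `u + i v` stored as pairs
-/

set_option autoImplicit false

namespace Cfsg.Agent.SL2

/-- An element of `ZMod 3 [i]`. -/
abbrev E9 := ZMod 3 × ZMod 3

/-- A matrix over `ZMod 3 [i]`, by rows. -/
abbrev Q9 := E9 × E9 × E9 × E9

/-- Decoding in base `3`. -/
def dec9 (n : ℕ) : Q9 :=
  let d : ℕ → ZMod 3 := fun k => ((n / 3 ^ k % 3 : ℕ) : ZMod 3)
  ((d 0, d 1), (d 2, d 3), (d 4, d 5), (d 6, d 7))

/-- Left multiplication by the lower unitriangular generator. -/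
def stepX (m : Q9) : Q9 := (m.1, m.2.1, m.1 + m.2.2.1, m.2.1 + m.2.2.2)

/-- Multiplication by `i`. -/
def mulI (z : E9) : E9 := (-z.2, z.1)

/-- Left multiplication by the upper unitriangular generator. -/
def stepY (m : Q9) : Q9 := (m.1 + mulI m.2.2.1, m.2.1 + mulI m.2.2.2, m.2.2.1, m.2.2.2)

/-- The codes of the elements. -/
def codes120 : List ℕ := [
  387, 392, 394, 477, 481, 485, 603, 607, 611, 693, 698, 700, 730, 757, 784, 811,
  841, 871, 892, 925, 949, 1460, 1487, 1514, 1541, 1574, 1598, 1622, 1652, 1682, 2193, 2202,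
  2211, 2436, 2446, 2456, 2679, 2690, 2698, 3013, 3025, 3073, 3103, 3118, 3133, 3183, 3203, 3220,
  3338, 3352, 3393, 3417, 3436, 3482, 3509, 3519, 3541, 3743, 3776, 3782, 3833, 3836, 3875, 3903,
  3940, 3950, 3994, 4001, 4032, 4155, 4166, 4201, 4309, 4338, 4352, 4377, 4386, 4395, 4620, 4631,
  4639, 4863, 4873, 4883, 5197, 5236, 5239, 5287, 5293, 5335, 5358, 5396, 5404, 5450, 5461, 5490,
  5610, 5620, 5657, 5765, 5796, 5812, 5927, 5942, 5993, 6017, 6038, 6050, 6096, 6115, 6134, 6250,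
  6272, 6309, 6330, 6350, 6394, 6421, 6435, 6461]

/-- The elements. -/
def elems120 : List Q9 := codes120.map dec9

theorem length_elems120 : elems120.length = 120 := by decide +kernel

theorem one_mem_elems120 : (((1, 0), (0, 0), (0, 0), (1, 0)) : Q9) ∈ elems120 := by decide +kernel

theorem step_mem_elems120 : ∀ m ∈ elems120, stepX m ∈ elems120 ∧ stepY m ∈ elems120 := by decide +kernel

end Cfsg.Agent.SL2
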