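import Cfsg.Agent.Lib.SL2.DicksonPGL
import Cfsg.Agent.Lib.SL2.DicksonGenData

/-!
# Dickson's generation theorem for `SL(2, q)`, `q` odd
-/

set_option autoImplicit false
set_option linter.unusedSectionVars false

namespace Cfsg.Agent.SL2

open Matrix

variable {F : Type*} [Field F] [Fintype F]

local notation "G" => Matrix.SpecialLinearGroup (Fin 2) F
local notation "M2" => Matrix (Fin 2) (Fin 2) F
local notation "PS" => Matrix.ProjectiveSpecialLinearGroup (Fin 2) F
local notation "PG" => Matrix.ProjGenLinGroup (Fin 2) F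
local notation "q" => Fintype.card F

/-- The lower unitriangular matrix with entry `1`. -/
def lo : G := ⟨!![1, 0; 1, 1], by simp [Matrix.det_fin_two]⟩

/-- A generator of `F` fixed by the `k`-th Frobenius power. -/
theorem card_le_of_frob {p : ℕ} [Fact p.Prime] [CharP F p] {lam : F}
    (hgen : Subfield.closure ({lam} : Set F) = ⊤) {k : ℕ} (hk : k ≠ 0) (h : lam ^ p ^ k = lam) : q ≤ p ^ k := by
  classical
  haveI : ExpChar F p := ExpChar.prime Fact.out
  let S : Subfield F := (iterateFrobenius F p k).eqLocusField (RingHom.id F)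
  have hS : ∀ x : F, x ^ p ^ k = x := fun x => by
    have : x ∈ S := (hgen ▸ Subfield.closure_le.2 (by
      rintro y rfl
      show iterateFrobenius F p k y = y
      rw [iterateFrobenius_def, h])) (Subfield.mem_top x)
    have h' : iterateFrobenius F p k x = x := this
    rwa [iterateFrobenius_def] at h'
  have hd : (Polynomial.X ^ p ^ k - Polynomial.X : Polynomial F).natDegree = p ^ k :=
    FiniteField.X_pow_card_pow_sub_X_natDegree_eq F hk (Fact.out : p.Prime).one_lt
  have hne : (Polynomial.X ^ p ^ k - Polynomial.X : Polynomial F) ≠ 0 :=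
    FiniteField.X_pow_card_pow_sub_X_ne_zero F hk (Fact.out : p.Prime).one_lt
  rw [← hd]
  calc q = (Finset.univ : Finset F).card := Finset.card_univ.symm
    _ ≤ (Polynomial.X ^ p ^ k - Polynomial.X : Polynomial F).roots.toFinset.card :=
      Finset.card_le_card fun x _ => by
        rw [Multiset.mem_toFinset, Polynomial.mem_roots hne]
        simp [hS x]
    _ ≤ _ := (Multiset.toFinset_card_le _).trans (Polynomial.card_roots' _)

/-- All transvections generate. -/
theorem eq_top_of_sq (h2 : (2 : F) ≠ 0) {L : Subgroup G} (h : ∀ t : G, t * t ∈ L) : L = ⊤ := by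
  have hu : ∀ b : F, (uu b : G) ∈ L := fun b => by
    have := h (uu (b / 2))
    rwa [uu_mul, show b / 2 + b / 2 = b by field_simp; ring] at this
  have hl : ∀ b : F, (⟨!![1, 0; b, 1], by simp [Matrix.det_fin_two]⟩ : G) ∈ L := fun b => by
    have := h ⟨!![1, 0; b / 2, 1], by simp [Matrix.det_fin_two]⟩
    let m : G := ⟨!![1, 0; b / 2, 1], by simp [Matrix.det_fin_two]⟩
    have e : (⟨!![1, 0; b, 1], by simp [Matrix.det_fin_two]⟩ : G) = m * m := ?_
    · rw [e]; exact this
    apply Subtype.ext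
    rw [Matrix.SpecialLinearGroup.coe_mul]
    apply mext <;> simp [m, Matrix.mul_apply, Fin.sum_univ_two]
    field_simp
    ring
  have key : ∀ t : G, (t : M2) 1 0 ≠ 0 → t ∈ L := by
    intro t hc
    have hd := det_eq t
    let l : G := ⟨!![1, 0; (t : M2) 1 0, 1], by simp [Matrix.det_fin_two]⟩
    have e : t = uu (((t : M2) 0 0 - 1) / (t : M2) 1 0) * l *
        uu (((t : M2) 1 1 - 1) / (t : M2) 1 0) := by
      apply Subtype.ext
      rw [Matrix.SpecialLinearGroup.coe_mul, Matrix.SpecialLinearGroup.coe_mul]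
      apply mext <;> simp [l, uu, Matrix.mul_apply, Fin.sum_univ_two] <;> field_simp
      · ring
      · linear_combination -hd
      · ring
    rw [e]
    exact mul_mem (mul_mem (hu _) (hl _)) (hu _)
  refine (Subgroup.eq_top_iff' _).2 fun t => ?_
  by_cases hc : (t : M2) 1 0 = 0
  · have h1 : t * lo ∈ L := key _ (by
      rw [Matrix.SpecialLinearGroup.coe_mul]
      simp [lo, Matrix.mul_apply, Fin.sum_univ_two, hc]
      intro h0
      have := det_eq t
      rw [hc, h0] at this
      simp at this)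
    have h2' : (lo : G) ∈ L := hl 1
    simpa using mul_mem h1 (inv_mem h2')
  · exact key t hc

/-- Squared traces of a subgroup over a subfield. -/
theorem tr_sq_mem {K : Type*} [Field K] {φ : K →+* F} {γ : PG} {t : G}
    (h : conjEmb γ (π t) ∈ pg φ) : tr t ^ 2 ∈ φ.range := by
  induction γ using Matrix.ProjGenLinGroup.induction_on with | mk g => ?_
  rw [conjEmb_glConj] at h
  rw [← tr_glConj g t]
  generalize glConj g t = s at h
  obtain ⟨x, hx⟩ := h
  induction x using Matrix.ProjGenLinGroup.induction_on with | mk W => ?_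
  rw [Matrix.ProjGenLinGroup.map_mk] at hx
  have hx' : Matrix.ProjGenLinGroup.mk (Matrix.GeneralLinearGroup.map φ W) =
      Matrix.ProjGenLinGroup.mk (Matrix.SpecialLinearGroup.toGL s) := hx
  obtain ⟨c, hc⟩ := Matrix.ProjGenLinGroup.mk_eq_mk_iff.1 hx'.symm
  have hM : (s : M2) * Matrix.scalar (Fin 2) (c : F) = ((W : Matrix (Fin 2) (Fin 2) K).map φ) :=
    congrArg Units.val hc
  have hdet := congrArg Matrix.det hM
  have htr := congrArg Matrix.trace hM
  rw [Matrix.det_mul, s.det_coe, one_mul, ← RingHom.mapMatrix_apply, ← RingHom.map_det] at hdet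
  refine ⟨(W : Matrix (Fin 2) (Fin 2) K).trace ^ 2 / (W : Matrix (Fin 2) (Fin 2) K).det, ?_⟩
  rw [map_div₀, map_pow, ← hdet,
    show φ (W : Matrix (Fin 2) (Fin 2) K).trace = ((W : Matrix (Fin 2) (Fin 2) K).map φ).trace by
      simp [Matrix.trace, map_sum],
    ← htr]
  have hc0 : (c : F) ≠ 0 := c.ne_zero
  simp [Matrix.trace, tr, Fin.sum_univ_two, Matrix.mul_apply]
  field_simp

/-- The only involution. -/
theorem eq_neg_one_of_invol (h2 : (2 : F) ≠ 0) {w : G} (h : w * w = 1) (h1 : w ≠ 1) : w = -1 := by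
  have hm := congrArg (fun g : G => (g : M2)) h
  simp only [Matrix.SpecialLinearGroup.coe_mul, Matrix.SpecialLinearGroup.coe_one, mul_self] at hm
  have e00 := congrFun (congrFun hm 0) 0
  have e01 := congrFun (congrFun hm 0) 1
  have e10 := congrFun (congrFun hm 1) 0
  have e11 := congrFun (congrFun hm 1) 1
  simp at e00 e01 e10 e11
  have hs : tr w ≠ 0 := fun h0 => h2 (by rw [h0] at e00; linear_combination -e00)
  have h01 : (w : M2) 0 1 = 0 := e01.resolve_left hs
  have h10 : (w : M2) 1 0 = 0 := e10.resolve_left hs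
  have hd : (w : M2) 0 0 = (w : M2) 1 1 := mul_left_cancel₀ hs (by linear_combination e00 - e11)
  have hdet := det_eq w
  rw [h01, h10, ← hd] at hdet
  have hsq : ((w : M2) 0 0 - 1) * ((w : M2) 0 0 + 1) = 0 := by linear_combination hdet
  rcases mul_eq_zero.1 hsq with e | e
  · refine absurd ?_ h1
    apply ext4 <;> simp [h01, h10, ← hd, sub_eq_zero.1 e]
  · apply ext4 <;> simp [coe_neg', h01, h10, ← hd, eq_neg_of_add_eq_zero_left e]

/-- The traces of the elements of order at most `5`. -/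
theorem tr_of_pow {t : G} (h10 : (t : M2) 1 0 ≠ 0) {n : ℕ} (h : π t ^ n = 1) :
    (n = 2 → tr t = 0) ∧ (n = 3 → tr t ^ 2 = 1) ∧ (n = 4 → tr t * (tr t ^ 2 - 2) = 0) ∧
      (n = 5 → tr t ^ 4 - 3 * tr t ^ 2 + 1 = 0) := by
  have h0 : ((t ^ n : G) : M2) 1 0 = 0 := by
    rw [← map_pow] at h
    exact (π_eq_one.1 h).2.1
  rw [Matrix.SpecialLinearGroup.coe_pow] at h0
  have hCH := mul_self t
  have e2 : (t : M2) ^ 2 = tr t • (t : M2) - 1 := by rw [pow_two, hCH]
  have e3 : (t : M2) ^ 3 = (tr t ^ 2 - 1) • (t : M2) - tr t • (1 : M2) := by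
    rw [pow_succ, e2, sub_mul, smul_mul_assoc, hCH, one_mul]; module
  have e4 : (t : M2) ^ 4 = (tr t ^ 3 - 2 * tr t) • (t : M2) - (tr t ^ 2 - 1) • (1 : M2) := by
    rw [pow_succ, e3, sub_mul, smul_mul_assoc, smul_mul_assoc, hCH, one_mul]; module
  have e5 : (t : M2) ^ 5 = (tr t ^ 4 - 3 * tr t ^ 2 + 1) • (t : M2) - (tr t ^ 3 - 2 * tr t) • (1 : M2) := by
    rw [pow_succ, e4, sub_mul, smul_mul_assoc, smul_mul_assoc, hCH, one_mul]; module
  refine ⟨fun hn => ?_, fun hn => ?_, fun hn => ?_, fun hn => ?_⟩ <;> subst hn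
  · rw [e2] at h0; simpa [h10] using h0
  · rw [e3] at h0; simp [h10] at h0; linear_combination h0
  · rw [e4] at h0; simp [h10] at h0; linear_combination h0
  · rw [e5] at h0; simpa [h10] using h0

section

variable (lam : F)

/-- The group in Dickson's theorem. -/
def dGen : Subgroup G := Subgroup.closure {g : G | (g : M2) = !![1, 0; 1, 1] ∨ (g : M2) = !![1, lam; 0, 1]}

theorem lo_mem : lo ∈ dGen lam := Subgroup.subset_closure (Or.inl rfl)

theorem uu_mem : uu lam ∈ dGen lam := Subgroup.subset_closure (Or.inr rfl)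

/-- At most `120` elements when `lam ^ 2 = -1` in characteristic `3`. -/
theorem card_dGen_le [CharP F 3] (hi : lam ^ 2 = -1) : Nat.card (dGen lam) ≤ 120 := by
  classical
  set c : ZMod 3 →+* F := ZMod.castHom (dvd_refl 3) F
  set e : E9 → F := fun z => c z.1 + lam * c z.2
  set ev : Q9 → M2 := fun m => !![e m.1, e m.2.1; e m.2.2.1, e m.2.2.2]
  have eI : ∀ z, e (mulI z) = lam * e z := fun z => by
    simp only [e, mulI, map_neg]
    linear_combination -c z.2 * hi
  have eA : ∀ z w, e (z + w) = e z + e w := fun z w => by simp only [e, Prod.fst_add, Prod.snd_add, map_add]; ring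
  let S : Set G := {g | ∃ m ∈ elems120, (g : M2) = ev m}
  have hX : ∀ g ∈ S, lo * g ∈ S := by
    rintro g ⟨m, hm, hg⟩
    refine ⟨stepX m, (step_mem_elems120 m hm).1, ?_⟩
    rw [Matrix.SpecialLinearGroup.coe_mul, hg]
    apply mext <;> simp [ev, lo, stepX, eA, Matrix.mul_apply, Fin.sum_univ_two]
  have hY : ∀ g ∈ S, uu lam * g ∈ S := by
    rintro g ⟨m, hm, hg⟩
    refine ⟨stepY m, (step_mem_elems120 m hm).2, ?_⟩
    rw [Matrix.SpecialLinearGroup.coe_mul, hg]
    apply mext <;> simp [ev, uu, stepY, eA, eI, Matrix.mul_apply, Fin.sum_univ_two]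
  have h3 : (3 : F) = 0 := by exact_mod_cast CharP.cast_eq_zero F 3
  have inv2 : ∀ a : G, (a = lo ∨ a = uu lam) → a⁻¹ = a * a := by
    intro a ha
    rw [inv_eq_iff_mul_eq_one]
    apply Subtype.ext
    rcases ha with rfl | rfl <;> rw [Matrix.SpecialLinearGroup.coe_mul, Matrix.SpecialLinearGroup.coe_mul] <;>
      apply mext <;> simp [lo, uu, Matrix.mul_apply, Fin.sum_univ_two]
    · linear_combination h3
    · linear_combination lam * h3
  have gens : ∀ a ∈ {g : G | (g : M2) = !![1, 0; 1, 1] ∨ (g : M2) = !![1, lam; 0, 1]}, a = lo ∨ a = uu lam := by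
    rintro a (h | h)
    · exact Or.inl (Subtype.ext h)
    · exact Or.inr (Subtype.ext h)
  have hsub : (dGen lam : Set G) ⊆ S := by
    intro g hg
    induction hg using Subgroup.closure_induction_left with
    | one => exact ⟨_, one_mem_elems120, by apply mext <;> simp [ev, e]⟩
    | mul_left a ha b _ hb =>
      rcases gens a ha with rfl | rfl
      exacts [hX b hb, hY b hb]
    | inv_mul_cancel a ha b _ hb =>
      rw [inv2 a (gens a ha), mul_assoc]
      rcases gens a ha with rfl | rfl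
      exacts [hX _ (hX b hb), hY _ (hY b hb)]
  haveI : Finite G := inferInstance
  calc Nat.card (dGen lam) = (dGen lam : Set G).ncard := rfl
    _ ≤ S.ncard := Set.ncard_le_ncard hsub (Set.toFinite _)
    _ ≤ (elems120.toFinset.image ev : Finset M2).card := by
      rw [← Set.ncard_coe_finset]
      refine Set.ncard_le_ncard_of_injOn (fun g : G => (g : M2)) ?_ Subtype.val_injective.injOn
        (Finset.finite_toSet _)
      rintro g ⟨m, hm, hg⟩
      rw [Finset.coe_image, hg]
      exact ⟨m, List.mem_toFinset.2 hm, rfl⟩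
    _ ≤ 120 := Finset.card_image_le.trans ((List.toFinset_card_le _).trans length_elems120.le)

/-- **Dickson's generation theorem.** -/
theorem dGen_cases (h2 : (2 : F) ≠ 0) (hlam : lam ≠ 0) (hgen : Subfield.closure ({lam} : Set F) = ⊤) :
    (dGen lam = ⊤ ∧ ¬ (q = 9 ∧ lam ^ 2 = -1)) ∨ (q = 9 ∧ lam ^ 2 = -1 ∧ Nat.card (dGen lam) = 120) := by
  classical
  haveI : Finite PS := Finite.of_surjective _ π_surjective
  obtain ⟨n, hp, hn⟩ := FiniteField.card F (ringChar F)
  haveI : Fact (ringChar F).Prime := ⟨hp⟩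
  set p := ringChar F with hpdef
  haveI : CharP F p := ringChar.charP F
  haveI hF3 : Fact (Nat.Prime 3) := ⟨Nat.prime_three⟩
  have hp2 : p ≠ 2 := fun h => h2 (by
    haveI : CharP F 2 := h ▸ (inferInstance : CharP F p)
    exact_mod_cast CharP.cast_eq_zero F 2)
  set L := dGen lam with hLdef
  set H : Subgroup PS := L.map π
  have hcardle : Nat.card H ≤ Nat.card L := Nat.le_of_dvd Nat.card_pos (Subgroup.card_map_dvd L π)
  have full : H = ⊤ → (L = ⊤ ∧ ¬ (q = 9 ∧ lam ^ 2 = -1)) := by
    intro hH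
    refine ⟨eq_top_of_sq h2 fun t => ?_, ?_⟩
    · obtain ⟨l, hl, hlt⟩ := (hH ▸ Subgroup.mem_top (π t) : π t ∈ H)
      rcases π_eq_iff.1 hlt with e | e <;> rw [e]
      · exact mul_mem hl hl
      · rw [neg_mul_neg]; exact mul_mem hl hl
    · rintro ⟨h9, hi⟩
      have hp3 : p = 3 := by
        rw [hn] at h9
        exact (Nat.prime_dvd_prime_iff_eq hp Nat.prime_three).1
          (hp.dvd_of_dvd_pow (n := 2) (show p ∣ 3 ^ 2 from ⟨p ^ ((n : ℕ) - 1), by
            rw [← pow_succ', Nat.sub_add_cancel n.pos, h9]; norm_num⟩))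
      haveI : CharP F 3 := hp3 ▸ (inferInstance : CharP F p)
      have h := card_dGen_le lam hi
      rw [← hLdef] at h
      have hP := card_psl (F := F)
      rw [h9, show Nat.gcd 2 (9 - 1) = 2 from rfl] at hP
      rw [hH, Subgroup.card_top] at hcardle
      omega
  have hx : π lo ∈ H := ⟨_, lo_mem lam, rfl⟩
  have hy : π (uu lam) ∈ H := ⟨_, uu_mem lam, rfl⟩
  have hxp : π (lo : G) ^ p = 1 := not_semisimple_pow (by simp [tr, lo]; norm_num)
  have hyp : π (uu lam : G) ^ p = 1 := not_semisimple_pow (by rw [tr_uu]; norm_num)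
  have hxy : π (lo : G) * π (uu lam) ≠ π (uu lam) * π lo := by
    rw [← map_mul, ← map_mul]
    intro h
    rcases π_eq_iff.1 h with e | e
    · have := congrArg (fun s : G => (s : M2) 0 0) e
      simp only [Matrix.SpecialLinearGroup.coe_mul] at this
      simp [lo, uu, Matrix.mul_apply, Fin.sum_univ_two] at this
      exact hlam this
    · have h00 := congrArg (fun s : G => (s : M2) 0 0) e
      have h01 := congrArg (fun s : G => (s : M2) 0 1) e
      simp only [coe_neg', Matrix.SpecialLinearGroup.coe_mul] at h00 h01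
      simp [lo, uu, Matrix.mul_apply, Fin.sum_univ_two] at h00 h01
      exact hlam ((mul_eq_zero.1 (show (2 : F) * lam = 0 by linear_combination h01)).resolve_left h2)
  have hs1 : π ((lo : G) * uu lam) ∈ H := ⟨_, mul_mem (lo_mem lam) (uu_mem lam), rfl⟩
  have hs2 : π ((lo : G) * (uu lam)⁻¹) ∈ H := ⟨_, mul_mem (lo_mem lam) (inv_mem (uu_mem lam)), rfl⟩
  have hv1 : tr ((lo : G) * uu lam) = 2 + lam ∧ (((lo : G) * uu lam : G) : M2) 1 0 ≠ 0 := by
    rw [tr, Matrix.SpecialLinearGroup.coe_mul]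
    constructor <;> simp [lo, uu, Matrix.mul_apply, Fin.sum_univ_two]
    ring
  have hv2 : tr ((lo : G) * (uu lam)⁻¹) = 2 - lam ∧ (((lo : G) * (uu lam)⁻¹ : G) : M2) 1 0 ≠ 0 := by
    rw [show (uu lam)⁻¹ = (uu (-lam) : G) by rw [inv_eq_iff_mul_eq_one, uu_mul, add_neg_cancel, uu_zero]]
    rw [tr, Matrix.SpecialLinearGroup.coe_mul]
    constructor <;> simp [lo, uu, Matrix.mul_apply, Fin.sum_univ_two]
    ring
  have poly : ∀ {A : Type} [Group A] (_ : H ≃* A), (∀ a : A, a ^ 2 = 1 ∨ a ^ 3 = 1 ∨ a ^ 4 = 1) →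
      12 ≤ Nat.card A → p = 3 → H = ⊤ := by
    intro A _ f hA hc hp3
    haveI : CharP F 3 := hp3 ▸ (inferInstance : CharP F p)
    have h3 : (3 : F) = 0 := by exact_mod_cast CharP.cast_eq_zero F 3
    have cases4 : ∀ {t : G}, π t ∈ H → (t : M2) 1 0 ≠ 0 → tr t = 0 ∨ tr t ^ 2 = 1 ∨ tr t ^ 2 = -1 := by
      intro t ht h10
      have hA' := hA (f ⟨π t, ht⟩)
      simp only [← map_pow, MulEquiv.map_eq_one_iff] at hA'
      rcases hA' with h | h | h <;> have h' := congrArg Subtype.val h <;>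
        simp only [SubgroupClass.coe_pow, Subgroup.coe_one] at h'
      · exact Or.inl ((tr_of_pow h10 h').1 rfl)
      · exact Or.inr (Or.inl ((tr_of_pow h10 h').2.1 rfl))
      · rcases mul_eq_zero.1 ((tr_of_pow h10 h').2.2.1 rfl) with e | e
        · exact Or.inl e
        · exact Or.inr (Or.inr (by linear_combination e + h3))
    have hlam3 : lam ^ 3 = lam := by
      rcases cases4 hs1 hv1.2 with a | a | a <;> rw [hv1.1] at a
      · linear_combination (lam ^ 2 - 2 * lam + 3) * a - 2 * h3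
      · linear_combination (lam - 4) * a + (4 * lam + 4) * h3
      rcases cases4 hs2 hv2.2 with b | b | b <;> rw [hv2.1] at b
      · linear_combination (-lam ^ 2 - 2 * lam - 3) * b + 2 * h3
      · linear_combination (lam + 4) * b + (4 * lam - 4) * h3
      · exfalso
        refine hlam ?_
        linear_combination -a + b + 3 * lam * h3
    have hq3 : q ≤ 3 := card_le_of_frob (p := 3) hgen one_ne_zero (by rw [pow_one, hlam3])
    refine Subgroup.eq_top_of_le_card _ ?_
    have hP := card_psl (F := F)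
    have : q = 3 := le_antisymm hq3 (by
      rw [hn, hp3]; exact Nat.le_self_pow n.ne_zero 3)
    rw [this, show Nat.gcd 2 (3 - 1) = 2 from rfl] at hP
    rw [Nat.card_congr f.toEquiv]
    omega
  have ordp : ∀ {A : Type} [Group A] (_ : H ≃* A) (m : ℕ), (∀ a : A, a ^ m = 1 ∨ a ^ 3 = 1) ∨
      (∀ a : A, a ^ 2 = 1 ∨ a ^ 3 = 1 ∨ a ^ m = 1) → m ∣ 4 ∨ m = 5 → p = 3 ∨ p ∣ m := by
    intro A _ f m hA hm
    have hne : π (lo : G) ≠ 1 := fun h => hxy (by rw [h, one_mul, mul_one])
    have ho : orderOf (f ⟨π lo, hx⟩) = p := by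
      rw [MulEquiv.orderOf_eq, ← Subgroup.orderOf_coe]
      exact orderOf_eq_prime hxp hne
    rcases hA with hA | hA
    · rcases hA (f ⟨π lo, hx⟩) with h | h <;> have hd := orderOf_dvd_of_pow_eq_one h <;> rw [ho] at hd
      · exact Or.inr hd
      · exact Or.inl ((Nat.prime_dvd_prime_iff_eq hp Nat.prime_three).1 hd)
    · rcases hA (f ⟨π lo, hx⟩) with h | h | h <;> have hd := orderOf_dvd_of_pow_eq_one h <;> rw [ho] at hd
      · exact absurd ((Nat.prime_dvd_prime_iff_eq hp Nat.prime_two).1 hd) hp2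
      · exact Or.inl ((Nat.prime_dvd_prime_iff_eq hp Nat.prime_three).1 hd)
      · exact Or.inr hd
  have h2d : ∀ m : ℕ, p ∣ m → m ∣ 4 → False := fun m h1 h4 =>
    hp2 ((Nat.prime_dvd_prime_iff_eq hp Nat.prime_two).1
      (hp.dvd_of_dvd_pow (n := 2) (h1.trans h4)))
  have alt4 : ∀ a : alternatingGroup (Fin 4), a ^ 2 = 1 ∨ a ^ 3 = 1 := by decide +kernel
  rcases dickson p H with ⟨r, ht, hle, -⟩ | ⟨r, ht, hle, k, hk, -, ⟨e⟩⟩ | ⟨g, hg⟩ | ⟨-, ⟨e⟩⟩ | ⟨-, ⟨e⟩⟩ |
    ⟨-, hp5, ⟨e⟩⟩ | ⟨K, γ, hK, hcase⟩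
  · refine absurd ?_ hxy
    exact congrArg Subtype.val ((isCyclic_torus ht).commGroup.mul_comm ⟨_, hle hx⟩ ⟨_, hle hy⟩)
  · exfalso
    have rot : ∀ z : PS, ∀ hz : z ∈ H, z ^ p = 1 → ∃ i, e ⟨z, hz⟩ = DihedralGroup.r i := by
      intro z hz hzp
      rcases hh : e ⟨z, hz⟩ with i | i
      · exact ⟨i, rfl⟩
      · exfalso
        have ho : orderOf (e ⟨z, hz⟩) = 2 := by rw [hh, DihedralGroup.orderOf_sr]
        have hd := orderOf_dvd_of_pow_eq_one (show (e ⟨z, hz⟩) ^ p = 1 by
          rw [← map_pow, MulEquiv.map_eq_one_iff]; exact Subtype.ext hzp)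
        rw [ho] at hd
        exact hp2 ((Nat.prime_dvd_prime_iff_eq Nat.prime_two hp).1 hd).symm
    obtain ⟨i, hi⟩ := rot _ hx hxp
    obtain ⟨j, hj⟩ := rot _ hy hyp
    refine hxy (congrArg Subtype.val (e.injective (show e (⟨_, hx⟩ * ⟨_, hy⟩) = e (⟨_, hy⟩ * ⟨_, hx⟩) by
      rw [map_mul, map_mul, hi, hj, DihedralGroup.r_mul_r, DihedralGroup.r_mul_r, add_comm])))
  · exact absurd (comm_of_pow_char (p := p) (hg _ hx) (hg _ hy) hxp hyp) hxy
  · left
    refine full (poly e (fun a => (alt4 a).imp id Or.inl) (by rw [card_alt_four]) ?_)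
    exact (ordp e 2 (Or.inl alt4) (Or.inl (by norm_num))).resolve_right fun h => h2d 2 h (by norm_num)
  · left
    refine full (poly e orders_perm_four (by rw [card_perm_four]; norm_num) ?_)
    exact (ordp e 4 (Or.inr orders_perm_four) (Or.inl dvd_rfl)).resolve_right fun h => h2d 4 h dvd_rfl
  · right
    have hp3 : p = 3 := (ordp e 5 (Or.inr orders_alt_five) (Or.inr rfl)).resolve_right fun h =>
      hp5 ((Nat.prime_dvd_prime_iff_eq hp (by norm_num)).1 h)
    haveI : CharP F 3 := hp3 ▸ (inferInstance : CharP F p)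
    have h3 : (3 : F) = 0 := by exact_mod_cast CharP.cast_eq_zero F 3
    have hH : H ≠ ⊤ := fun h => by
      have hc : Nat.card H = 60 := by rw [Nat.card_congr e.toEquiv, card_alt_five]
      have hP := card_psl (F := F)
      rw [h, Subgroup.card_top] at hc
      rw [hc] at hP
      obtain ⟨j, hj⟩ : Odd q := hn ▸ (hp.odd_of_ne_two hp2).pow
      rw [Nat.gcd_eq_left (show 2 ∣ q - 1 from ⟨j, by omega⟩)] at hP
      rcases (show (n : ℕ) = 1 ∨ 2 ≤ (n : ℕ) by have := n.pos; omega) with h1 | h1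
      · rw [hn, hp3, h1] at hP; norm_num at hP
      · have h9 : 9 ≤ q := by
          rw [hn, hp3]; exact Nat.pow_le_pow_right (n := 3) (by norm_num) h1
        have := Nat.mul_le_mul h9 (Nat.mul_le_mul (show 8 ≤ q - 1 by omega) (show 10 ≤ q + 1 by omega))
        omega
    have cases5 : ∀ {t : G}, π t ∈ H → (t : M2) 1 0 ≠ 0 → tr t = 0 ∨ tr t ^ 2 = 1 ∨ tr t ^ 4 = -1 := by
      intro t ht h10
      have hA' := orders_alt_five (e ⟨π t, ht⟩)
      simp only [← map_pow, MulEquiv.map_eq_one_iff] at hA'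
      rcases hA' with h | h | h <;> have h' := congrArg Subtype.val h <;>
        simp only [SubgroupClass.coe_pow, Subgroup.coe_one] at h'
      · exact Or.inl ((tr_of_pow h10 h').1 rfl)
      · exact Or.inr (Or.inl ((tr_of_pow h10 h').2.1 rfl))
      · exact Or.inr (Or.inr (by linear_combination (tr_of_pow h10 h').2.2.2 rfl + tr t ^ 2 * h3))
    have hne3 : lam ^ 3 ≠ lam := fun hl => by
      have hq3 : q ≤ 3 := card_le_of_frob (p := 3) hgen one_ne_zero (by rw [pow_one, hl])
      have h60 : Nat.card H ≤ Nat.card PS := Subgroup.card_le_card_group H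
      rw [Nat.card_congr e.toEquiv, card_alt_five] at h60
      have hP := card_psl (F := F)
      have hd : 0 < Nat.gcd 2 (q - 1) := Nat.gcd_pos_of_pos_left _ two_pos
      have := Nat.mul_le_mul hd h60
      have := Nat.mul_le_mul hq3 (Nat.mul_le_mul (show q - 1 ≤ 2 by omega) (show q + 1 ≤ 4 by omega))
      omega
    have a4 : (2 + lam) ^ 4 = -1 := by
      rcases cases5 hs1 hv1.2 with a | a | a <;> rw [hv1.1] at a
      · exact absurd (by linear_combination (lam ^ 2 - 2 * lam + 3) * a - 2 * h3) hne3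
      · exact absurd (by linear_combination (lam - 4) * a + (4 * lam + 4) * h3) hne3
      · exact a
    have b4 : (2 - lam) ^ 4 = -1 := by
      rcases cases5 hs2 hv2.2 with b | b | b <;> rw [hv2.1] at b
      · exact absurd (by linear_combination (-lam ^ 2 - 2 * lam - 3) * b + 2 * h3) hne3
      · exact absurd (by linear_combination (lam + 4) * b + (4 * lam - 4) * h3) hne3
      · exact b
    have hi : lam ^ 2 = -1 := by
      have hz : lam * (lam ^ 2 + 1) = 0 := by
        linear_combination a4 - b4 - lam * (5 * lam ^ 2 + 21) * h3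
      linear_combination (mul_eq_zero.1 hz).resolve_left hlam
    have hq9 : q = 9 := by
      have hle : q ≤ 3 ^ 2 := card_le_of_frob (p := 3) hgen two_ne_zero (by
        rw [show (3 : ℕ) ^ 2 = 2 * 4 + 1 from rfl, pow_succ, pow_mul, hi]; ring)
      rcases (show (n : ℕ) = 1 ∨ 2 ≤ (n : ℕ) by have := n.pos; omega) with h1 | h1
      · exfalso
        refine hne3 ?_
        conv_rhs => rw [← FiniteField.pow_card lam, hn, hp3, h1, pow_one]
      · exact le_antisymm hle (by rw [hn, hp3]; exact Nat.pow_le_pow_right (n := 3) (by norm_num) h1)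
    refine ⟨hq9, hi, ?_⟩
    have hle := card_dGen_le lam hi
    rw [← hLdef] at hle
    have hHc : Nat.card H = 60 := by rw [Nat.card_congr e.toEquiv, card_alt_five]
    have hdvd : 60 ∣ Nat.card L := hHc ▸ Subgroup.card_map_dvd L π
    obtain ⟨z, hz⟩ := hdvd
    have hz2 : z ≠ 1 := by
      rintro rfl
      rw [mul_one] at hz
      haveI : Fact (Nat.Prime 2) := ⟨Nat.prime_two⟩
      obtain ⟨w, hw⟩ := (exists_prime_orderOf_dvd_card' 2 (by rw [hz]; norm_num) : ∃ w : L, orderOf w = 2)
      have hw1 : (w : G) ≠ 1 := fun h => by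
        rw [OneMemClass.coe_eq_one] at h
        rw [h, orderOf_one] at hw
        omega
      have hw2 : (w : G) * w = 1 := by
        rw [← Subgroup.coe_mul, ← pow_two, orderOf_dvd_iff_pow_eq_one.1 hw.dvd, Subgroup.coe_one]
      have hwn : (w : G) = -1 := eq_neg_one_of_invol h2 hw2 hw1
      have hinj : Function.Injective (π.subgroupMap L) :=
        ((Nat.bijective_iff_surjective_and_card _).2 ⟨π.subgroupMap_surjective L, hz.trans hHc.symm⟩).1
      have : (⟨(w : G), w.2⟩ : L) = 1 := hinj (Subtype.ext (by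
        show π (w : G) = π ((1 : L) : G)
        rw [hwn, π_neg, Subgroup.coe_one]))
      exact hw1 (congrArg Subtype.val this)
    have : 0 < Nat.card L := Nat.card_pos
    omega
  · left
    refine full ?_
    by_contra hH
    have hcase' : H.map (conjEmb γ) ≤ pg K.subtype := by
      rcases hcase with ⟨-, h⟩ | ⟨-, h⟩ <;> rw [← map_conjEmb] at h <;> rw [h]
      · exact kg_le_pg K.subtype
      · exact le_rfl
    have m1 := tr_sq_mem (hcase' ⟨_, hs1, rfl⟩)
    have m2 := tr_sq_mem (hcase' ⟨_, hs2, rfl⟩)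
    rw [hv1.1] at m1
    rw [hv2.1] at m2
    have h8 : (8 : F) ≠ 0 := by
      rw [show (8 : F) = 2 ^ 3 by norm_num]; exact pow_ne_zero 3 h2
    have hlK : lam ∈ K := by
      obtain ⟨c1, hc1⟩ := m1
      obtain ⟨c2, hc2⟩ := m2
      have e1 : (c1 : F) = (2 + lam) ^ 2 := hc1
      have e2 : (c2 : F) = (2 - lam) ^ 2 := hc2
      have : ((c1 : F) - c2) / 8 = lam := by rw [e1, e2]; field_simp; ring
      rw [← this]
      refine K.div_mem (K.sub_mem c1.2 c2.2) ?_
      exact_mod_cast natCast_mem K 8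
    have hKt : K = ⊤ := top_le_iff.1 (hgen ▸ Subfield.closure_le.2 (Set.singleton_subset_iff.2 hlK))
    have hsq := lt_card_of_ne_top hH (hcase.imp And.left And.left)
    subst hKt
    rw [Nat.card_congr Subfield.topEquiv.toEquiv, Nat.card_eq_fintype_card] at hsq
    have : 3 ≤ q := by
      rw [hn]
      exact le_trans (by have := hp.two_le; omega) (Nat.le_self_pow n.ne_zero p)
    have := Nat.mul_le_mul_left q this
    omega

end

end Cfsg.Agent.SL2
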