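import Cfsg.Agent.Lib.SL2.DicksonKleinCount

/-!
# Tools for the maximal subgroups of `PGL(2, q)`
-/

set_option autoImplicit false
set_option linter.unusedSectionVars false

namespace Cfsg.Agent.SL2

open Matrix

variable {F : Type*} [Field F]

local notation "G" => Matrix.SpecialLinearGroup (Fin 2) F
local notation "M2" => Matrix (Fin 2) (Fin 2) F
local notation "GL2" => Matrix.GeneralLinearGroup (Fin 2) F
local notation "PS" => Matrix.ProjectiveSpecialLinearGroup (Fin 2) F
local notation "PG" => Matrix.ProjGenLinGroup (Fin 2) F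

/-- Conjugation of `SL(2)` by an element of `GL(2)`. -/
def glConj (g : GL2) : G →* G where
  toFun s := ⟨(g : M2) * (s : M2) * ((g⁻¹ : GL2) : M2), by
    rw [Matrix.det_mul, Matrix.det_mul, s.det_coe, mul_one, ← Matrix.det_mul, Units.mul_inv, Matrix.det_one]⟩
  map_one' := Subtype.ext (by simp)
  map_mul' s t := Subtype.ext (by
    show (g : M2) * ((s * t : G) : M2) * ((g⁻¹ : GL2) : M2) = _ * _
    rw [Matrix.SpecialLinearGroup.coe_mul]
    simp [mul_assoc])

theorem tr_glConj (g : GL2) (s : G) : tr (glConj g s) = tr s := by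
  rw [← trace_eq, ← trace_eq]
  exact Matrix.trace_units_conj g (s : M2)

theorem glConj_glConj_inv (g : GL2) (s : G) : glConj g (glConj g⁻¹ s) = s :=
  Subtype.ext (by
    show (g : M2) * (((g⁻¹ : GL2) : M2) * (s : M2) * (((g⁻¹)⁻¹ : GL2) : M2)) * ((g⁻¹ : GL2) : M2) = _
    simp [mul_assoc])

theorem conjEmb_glConj (g : GL2) (s : G) :
    conjEmb (Matrix.ProjGenLinGroup.mk g) (π s) =
      Matrix.ProjectiveSpecialLinearGroup.toPGL (π (glConj g s)) := by
  rw [conjEmb_mk]
  exact congrArg Matrix.ProjGenLinGroup.mk (Units.ext rfl)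

/-- Conjugation of `PSL(2)` by an element of `PGL(2)`. -/
noncomputable def conjAut (γ : PG) : PS ≃* PS :=
  (MonoidHom.ofInjective (conjEmb_injective γ)).trans
    ((MulEquiv.subgroupCongr (range_conjEmb γ)).trans
      (MonoidHom.ofInjective Matrix.ProjectiveSpecialLinearGroup.toPGL_injective).symm)

theorem toPGL_conjAut (γ : PG) (x : PS) :
    Matrix.ProjectiveSpecialLinearGroup.toPGL (conjAut γ x) = conjEmb γ x := by
  unfold conjAut
  simp only [MulEquiv.trans_apply]
  rw [MonoidHom.apply_ofInjective_symm]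
  rfl

theorem conjAut_glConj (g : GL2) (s : G) : conjAut (Matrix.ProjGenLinGroup.mk g) (π s) = π (glConj g s) :=
  Matrix.ProjectiveSpecialLinearGroup.toPGL_injective (by rw [toPGL_conjAut, conjEmb_glConj])

theorem torus_glConj (g : GL2) (r : G) (y : PS) :
    conjAut (Matrix.ProjGenLinGroup.mk g) y ∈ torus (glConj g r) ↔ y ∈ torus r := by
  obtain ⟨t, rfl⟩ := π_surjective y
  rw [conjAut_glConj, pi_mem_torus, pi_mem_torus, mem_cent, mem_cent]
  constructor
  · intro h
    have h' := congrArg (glConj g⁻¹) h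
    have e : ∀ s : G, glConj g⁻¹ (glConj g s) = s := fun s => by
      simpa using glConj_glConj_inv g⁻¹ s
    rwa [map_mul, map_mul, e, e] at h'
  · intro h
    rw [← map_mul, h, map_mul]

section Descent

variable {K : Type*} [Field K]

/-- Entry products. -/
theorem mk_mem_pg [Fintype F] (φ : K →+* F) (g : GL2)
    (hall : ∀ X : M2, InL φ X → InL φ ((g : M2) * X * ((g⁻¹ : GL2) : M2))) :
    Matrix.ProjGenLinGroup.mk g ∈ pg φ := by
  have hdet : (g : M2).det ≠ 0 := (g.isUnit.map Matrix.detMonoidHom).ne_zero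
  have hprod : ∀ k i j l : Fin 2, (g : M2) k i * ((g⁻¹ : GL2) : M2) j l ∈ φ.range := by
    intro k i j l
    have := hall (Matrix.single i j (1 : F)) (fun i' j' => by
      rw [Matrix.single_apply]; split_ifs <;> first | exact one_mem _ | exact zero_mem _) k l
    rwa [Matrix.mul_apply, Finset.sum_eq_single j, Matrix.mul_single_apply_same, mul_one] at this
    · intro j' _ hj'
      rw [Matrix.mul_single_apply_of_ne _ _ _ _ _ hj', zero_mul]
    · simp
  have e : ((g⁻¹ : GL2) : M2) =
      (g : M2).det⁻¹ • !![(g : M2) 1 1, -(g : M2) 0 1; -(g : M2) 1 0, (g : M2) 0 0] := by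
    rw [Matrix.coe_units_inv, Matrix.inv_def, Ring.inverse_eq_inv', Matrix.adjugate_fin_two]
  have hprod' : ∀ k i k' i' : Fin 2, (g : M2).det⁻¹ * ((g : M2) k i * (g : M2) k' i') ∈ φ.range := by
    intro k i k' i'
    have h00 := hprod k i 1 1
    have h01 := neg_mem (hprod k i 0 1)
    have h10 := neg_mem (hprod k i 1 0)
    have h11 := hprod k i 0 0
    rw [e] at h00 h01 h10 h11
    simp only [Matrix.smul_apply, smul_eq_mul, Matrix.of_apply, Matrix.cons_val', Matrix.cons_val_zero,
      Matrix.cons_val_one, Matrix.cons_val_fin_one, mul_neg, neg_neg, Fin.isValue] at h00 h01 h10 h11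
    fin_cases k' <;> fin_cases i' <;> simp only [Fin.isValue, Fin.zero_eta, Fin.mk_one]
    · rwa [mul_left_comm]
    · rwa [mul_left_comm]
    · rwa [mul_left_comm]
    · rwa [mul_left_comm]
  obtain ⟨k, i, hc⟩ : ∃ k i, (g : M2) k i ≠ 0 := by
    by_contra hcon
    push Not at hcon
    exact hdet (by rw [Matrix.det_fin_two, hcon 0 0, hcon 0 1]; ring)
  obtain ⟨W, hW⟩ := InL.eq_map (φ := φ) (X := ((g : M2).det⁻¹ * (g : M2) k i) • (g : M2)) fun k' i' => by
    rw [Matrix.smul_apply, smul_eq_mul, mul_assoc]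
    exact hprod' k i k' i'
  have hdW : W.det ≠ 0 := fun h0 => by
    have := congrArg Matrix.det hW
    rw [← RingHom.mapMatrix_apply, ← RingHom.map_det, h0, map_zero, Matrix.det_smul, Fintype.card_fin] at this
    exact mul_ne_zero (pow_ne_zero 2 (mul_ne_zero (inv_ne_zero hdet) hc)) hdet this.symm
  refine ⟨Matrix.ProjGenLinGroup.mk (Matrix.GeneralLinearGroup.mkOfDetNeZero W hdW), ?_⟩
  rw [Matrix.ProjGenLinGroup.map_mk, eq_comm, Matrix.ProjGenLinGroup.mk_eq_mk_iff]
  refine ⟨Units.mk0 _ (mul_ne_zero (inv_ne_zero hdet) hc), Units.ext ?_⟩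
  show (g : M2) * Matrix.scalar (Fin 2) ((g : M2).det⁻¹ * (g : M2) k i) = W.map φ
  rw [hW]
  ext r s
  fin_cases r <;> fin_cases s <;> simp [Matrix.mul_apply, Fin.sum_univ_two, mul_comm]

variable [Fintype F]

theorem inL_of_toPGL_eq {φ : K →+* F} {s t : G}
    (h : Matrix.ProjectiveSpecialLinearGroup.toPGL (π s) = Matrix.ProjectiveSpecialLinearGroup.toPGL (π t))
    (ht : InL φ (t : M2)) : InL φ (s : M2) := by
  rcases π_eq_iff.1 (Matrix.ProjectiveSpecialLinearGroup.toPGL_injective h) with e | e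
  · rw [← e]; exact ht
  · intro i j
    have := neg_mem (ht i j)
    rw [e, coe_neg'] at this
    simpa using this

theorem inL_I0 (φ : K →+* F) : InL φ (I0 : G).1 := fun i j => by
  fin_cases i <;> fin_cases j <;> simp [I0] <;>
    first | exact zero_mem φ.range | exact one_mem φ.range | exact neg_mem (one_mem φ.range)

/-- The normaliser of a four-group is defined over every subfield. -/
theorem normalizer_four_le_pg (h2 : (2 : F) ≠ 0) {a b : ℕ} (h : (a : F) ^ 2 + (b : F) ^ 2 = -1)
    (φ : K →+* F) : Subgroup.normalizer (fourPG h) ≤ pg φ := by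
  intro x hx
  induction x using Matrix.ProjGenLinGroup.induction_on with | mk g => ?_
  refine mk_mem_pg φ g ?_
  have hA : (a : F) ∈ φ.range := ⟨a, map_natCast φ a⟩
  have hB : (b : F) ∈ φ.range := ⟨b, map_natCast φ b⟩
  have h2' : (2 : F)⁻¹ ∈ φ.range := ⟨2⁻¹, by rw [map_inv₀, map_ofNat]⟩
  have three : InL φ (J0 h).1 ∧ InL φ ((I0 : G).1 * (J0 h).1) := by
    refine ⟨fun i j => ?_, fun i j => ?_⟩ <;> fin_cases i <;> fin_cases j <;>
      simp [I0, J0, Matrix.mul_apply, Fin.sum_univ_two] <;>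
      first
        | exact zero_mem φ.range
        | exact hA
        | exact hB
        | exact neg_mem hA
        | exact neg_mem hB
  have hconj : ∀ s : G, Matrix.ProjectiveSpecialLinearGroup.toPGL (π s) ∈ fourPG h →
      InL φ ((g : M2) * (s : M2) * ((g⁻¹ : GL2) : M2)) := by
    intro s hs
    have hm : conjEmb (Matrix.ProjGenLinGroup.mk g) (π s) ∈ fourPG h :=
      (Subgroup.mem_set_normalizer_iff.1 hx _).1 hs
    rw [conjEmb_glConj, fourPG, four, ← map_mul, ← map_mul] at hm
    rcases hm with e | e | e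
    · exact inL_of_toPGL_eq (s := glConj g s) e (inL_I0 φ)
    · exact inL_of_toPGL_eq (s := glConj g s) e three.1
    · exact inL_of_toPGL_eq (s := glConj g s) e (by rw [Matrix.SpecialLinearGroup.coe_mul]; exact three.2)
  have h1 : InL φ ((g : M2) * 1 * ((g⁻¹ : GL2) : M2)) := by
    rw [mul_one, Units.mul_inv]
    intro i j
    fin_cases i <;> fin_cases j <;> simp [zero_mem, one_mem]
  have hI := hconj I0 (by simp)
  have hJ := hconj (J0 h) (by simp)
  have hK := hconj (I0 * J0 h) (mem_fourPG_mul h)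
  rw [Matrix.SpecialLinearGroup.coe_mul] at hK
  intro X hX
  obtain ⟨c0, c1, c2, c3, m0, m1, m2, m3, hd⟩ : ∃ c0 c1 c2 c3 : F, c0 ∈ φ.range ∧ c1 ∈ φ.range ∧
      c2 ∈ φ.range ∧ c3 ∈ φ.range ∧ X = c0 • (1 : M2) + c1 • (I0 : G).1 + c2 • (J0 h).1 +
        c3 • ((I0 : G).1 * (J0 h).1) := by
    refine ⟨(X 0 0 + X 1 1) / 2, (X 1 0 - X 0 1) / 2,
      -((a : F) * (X 0 0 - X 1 1) + (b : F) * (X 0 1 + X 1 0)) / 2,
      ((b : F) * (X 0 0 - X 1 1) - (a : F) * (X 0 1 + X 1 0)) / 2, ?_, ?_, ?_, ?_, ?_⟩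
    · rw [div_eq_mul_inv]; exact mul_mem (add_mem (hX 0 0) (hX 1 1)) h2'
    · rw [div_eq_mul_inv]; exact mul_mem (sub_mem (hX 1 0) (hX 0 1)) h2'
    · rw [div_eq_mul_inv]; exact mul_mem (neg_mem (add_mem (mul_mem hA (sub_mem (hX 0 0) (hX 1 1)))
        (mul_mem hB (add_mem (hX 0 1) (hX 1 0))))) h2'
    · rw [div_eq_mul_inv]; exact mul_mem (sub_mem (mul_mem hB (sub_mem (hX 0 0) (hX 1 1)))
        (mul_mem hA (add_mem (hX 0 1) (hX 1 0)))) h2'
    · apply mext <;> simp [I0, J0] <;> field_simp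
      · linear_combination (X 0 0 - X 1 1) * h
      · linear_combination (X 0 1 + X 1 0) * h
      · linear_combination (X 0 1 + X 1 0) * h
      · linear_combination (X 1 1 - X 0 0) * h
  intro i j
  rw [hd]
  simp only [mul_add, add_mul, mul_smul_comm, smul_mul_assoc, Matrix.add_apply, Matrix.smul_apply,
    smul_eq_mul]
  exact add_mem (add_mem (add_mem (mul_mem m0 (h1 i j)) (mul_mem m1 (hI i j)))
    (mul_mem m2 (hJ i j))) (mul_mem m3 (hK i j))

/-- Squares in `PGL(2, K)` lie in `PSL(2, K)`. -/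
theorem sq_mem_kg {φ : K →+* F} {y : PG} (h : y ∈ pg φ) : y * y ∈ kg φ := by
  obtain ⟨x, rfl⟩ := h
  induction x using Matrix.ProjGenLinGroup.induction_on with | mk g => ?_
  have hd : (g : Matrix (Fin 2) (Fin 2) K).det ≠ 0 := (g.isUnit.map Matrix.detMonoidHom).ne_zero
  refine ⟨π ⟨(g : Matrix (Fin 2) (Fin 2) K).det⁻¹ • ((g : Matrix (Fin 2) (Fin 2) K) * g), ?_⟩, ?_⟩
  · rw [Matrix.det_smul, Fintype.card_fin, Matrix.det_mul]
    field_simp
  · show Matrix.ProjGenLinGroup.map φ (Matrix.ProjGenLinGroup.mk _) = _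
    rw [← map_mul, ← map_mul]
    congr 1
    rw [Matrix.ProjGenLinGroup.mk_eq_mk_iff]
    refine ⟨Units.mk0 _ hd, Units.ext ?_⟩
    show ((g : Matrix (Fin 2) (Fin 2) K).det⁻¹ • ((g : Matrix (Fin 2) (Fin 2) K) * g)) *
      Matrix.scalar (Fin 2) (g : Matrix (Fin 2) (Fin 2) K).det = _
    rw [Units.val_mul]
    generalize (g : Matrix (Fin 2) (Fin 2) K).det = d at hd
    generalize ((g : Matrix (Fin 2) (Fin 2) K) * g) = N
    ext r s
    fin_cases r <;> fin_cases s <;> simp [Matrix.mul_apply, Fin.sum_univ_two] <;> field_simp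

/-- A conjugator of the unipotent generators lies over the subfield. -/
theorem mem_pg_of_conj_unip (φ : K →+* F) {x : PG}
    (hu : ∀ c : K, x * Matrix.ProjectiveSpecialLinearGroup.toPGL (π (uu (φ c))) * x⁻¹ ∈ kg φ)
    (hl : ∀ c : K, x * Matrix.ProjectiveSpecialLinearGroup.toPGL
      (π (⟨!![1, 0; φ c, 1], by simp [Matrix.det_fin_two]⟩ : G)) * x⁻¹ ∈ kg φ) : x ∈ pg φ := by
  induction x using Matrix.ProjGenLinGroup.induction_on with | mk g => ?_
  refine mk_mem_pg φ g ?_
  have hconj : ∀ s : G, Matrix.ProjGenLinGroup.mk g * Matrix.ProjectiveSpecialLinearGroup.toPGL (π s) *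
      (Matrix.ProjGenLinGroup.mk g)⁻¹ ∈ kg φ → InL φ ((g : M2) * (s : M2) * ((g⁻¹ : GL2) : M2)) := by
    intro s hs
    obtain ⟨z, hz⟩ := hs
    obtain ⟨w, rfl⟩ := π_surjective z
    refine inL_of_toPGL_eq (s := glConj g s) (t := Matrix.SpecialLinearGroup.map φ w) ?_
      fun i j => ⟨_, rfl⟩
    rw [← conjEmb_glConj]
    exact hz.symm.trans (by
      show Matrix.ProjGenLinGroup.map φ (Matrix.ProjGenLinGroup.mk _) = Matrix.ProjGenLinGroup.mk _
      rw [Matrix.ProjGenLinGroup.map_mk]
      exact congrArg _ (Units.ext rfl))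
  set P := (g : M2)
  set Q := ((g⁻¹ : GL2) : M2)
  have hQP : Q * P = 1 := Units.inv_mul g
  have hPQ : P * Q = 1 := Units.mul_inv g
  have sub : ∀ {X Y : M2}, InL φ X → InL φ Y → InL φ (X - Y) := fun hX hY i j => sub_mem (hX i j) (hY i j)
  have h1 : InL φ (1 : M2) := fun i j => by
    fin_cases i <;> fin_cases j <;> simp [zero_mem, one_mem]
  have hmul : ∀ {X Y : M2}, InL φ X → InL φ Y → InL φ (X * Y) := fun {X Y} hX hY i j => by
    rw [Matrix.mul_apply]
    exact sum_mem fun k _ => mul_mem (hX i k) (hY k j)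
  set E01 : M2 := !![0, 1; 0, 0]
  set E10 : M2 := !![0, 0; 1, 0]
  have c01 : InL φ (P * E01 * Q) := by
    have e : E01 = (uu (φ (1 : K)) : G).1 - 1 := by apply mext <;> simp [E01, uu, Matrix.one_fin_two]
    rw [e, mul_sub, sub_mul, show P * 1 * Q = 1 by rw [mul_one, hPQ]]
    exact sub (hconj _ (hu 1)) h1
  have c10 : InL φ (P * E10 * Q) := by
    have e : E10 = (⟨!![1, 0; φ (1 : K), 1], by simp [Matrix.det_fin_two]⟩ : G).1 - 1 := by
      apply mext <;> simp [E10, Matrix.one_fin_two]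
    rw [e, mul_sub, sub_mul, show P * 1 * Q = 1 by rw [mul_one, hPQ]]
    exact sub (hconj _ (hl 1)) h1
  have hm : ∀ X Y : M2, P * (X * Y) * Q = (P * X * Q) * (P * Y * Q) := fun X Y => by
    rw [show P * X * Q * (P * Y * Q) = P * X * (Q * P) * Y * Q by simp only [mul_assoc], hQP]
    simp only [mul_one, mul_assoc]
  intro X hX
  have hd : X = X 0 0 • (E01 * E10) + X 0 1 • E01 + X 1 0 • E10 + X 1 1 • (E10 * E01) := by
    apply mext <;> simp [E01, E10]
  intro i j
  rw [hd]
  simp only [mul_add, add_mul, mul_smul_comm, smul_mul_assoc, Matrix.add_apply, Matrix.smul_apply,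
    smul_eq_mul, hm]
  exact add_mem (add_mem (add_mem (mul_mem (hX 0 0) (hmul c01 c10 i j)) (mul_mem (hX 0 1) (c01 i j)))
    (mul_mem (hX 1 0) (c10 i j))) (mul_mem (hX 1 1) (hmul c10 c01 i j))

end Descent

section Torus

variable [Fintype F]

local notation "q" => Fintype.card F

/-- The cyclic and dihedral groups over a torus of `PSL(2, q)` in `PGL(2, q)`. -/
theorem exists_pgl_dihedral (hodd : Odd q) {r : G} (ht : tr r ^ 2 ≠ 4) (h3 : 3 ≤ Nat.card (torus r)) :
    ∃ D : Subgroup PG, Nonempty (D ≃* DihedralGroup (2 * Nat.card (torus r))) ∧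
      ∀ y ∈ D, ∀ c ∈ torus r, conjAut y c ∈ torus r := by
  classical
  haveI : Finite PS := Finite.of_surjective _ π_surjective
  haveI : Finite PG := Finite.of_surjective _ Matrix.ProjGenLinGroup.mk_surjective
  obtain ⟨n, hp, hn⟩ := FiniteField.card F (ringChar F)
  haveI : Fact (ringChar F).Prime := ⟨hp⟩
  obtain ⟨j, hj⟩ := id hodd
  have hd : Nat.gcd 2 (q - 1) = 2 := Nat.gcd_eq_left ⟨j, by omega⟩
  set k := Nat.card (torus r) with hkdef
  have h2k : 2 * k = q - 1 ∨ 2 * k = q + 1 := by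
    have hh := card_torus r
    rw [hd] at hh
    rw [hkdef, hh]
    rcases card_cent_regular ht with ⟨-, h, -⟩ | ⟨-, h, -⟩
    · exact Or.inr h
    · exact Or.inl h
  have hpq : ringChar F ∣ q := hn ▸ dvd_pow_self _ n.ne_zero
  obtain ⟨x0, hx0⟩ : ∃ x : PG, orderOf x = 2 * k := by
    rcases h2k with h | h <;> rw [h]
    · exact Recog.PGLTwo.exists_pgl_order_sub_one
    · exact Recog.PGLTwo.exists_pgl_order_add_one
  have hP := card_pgl (F := F)
  have hidx : (R0 : Subgroup PG).index = 2 := by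
    have h1 := (R0 : Subgroup PG).index_mul_card
    rw [card_R0, hP, ← card_psl, hd] at h1
    exact Nat.eq_of_mul_eq_mul_right Nat.card_pos h1
  obtain ⟨c0, hc0⟩ : x0 * x0 ∈ (R0 : Subgroup PG) := Subgroup.mul_self_mem_of_index_two hidx x0
  have hc0k : orderOf c0 = k := by
    rw [← orderOf_injective _ Matrix.ProjectiveSpecialLinearGroup.toPGL_injective, hc0, ← pow_two,
      orderOf_pow, hx0, Nat.gcd_eq_right (dvd_mul_right 2 k), Nat.mul_div_cancel_left _ two_pos]
  obtain ⟨s, rfl⟩ := π_surjective c0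
  have hts : tr s ^ 2 ≠ 4 := fun h4 => by
    have h := orderOf_dvd_of_pow_eq_one (not_semisimple_pow (p := ringChar F) h4)
    rw [hc0k] at h
    rcases (Nat.dvd_prime hp).1 h with h | h
    · omega
    · rw [← h] at hpq
      rcases h2k with h' | h'
      · have := Nat.dvd_sub hpq (Dvd.intro_left _ h' : k ∣ q - 1)
        rw [show q - (q - 1) = 1 by omega, Nat.dvd_one] at this
        omega
      · have := (Nat.dvd_add_right hpq).1 (Dvd.intro_left _ h' : k ∣ q + 1)
        rw [Nat.dvd_one] at this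
        omega
  have hss : ¬ Scal s := scal_of_tr_sq_ne hts
  have hc : Nat.card (torus s) = k := by
    have hdvd := hc0k ▸ Subgroup.orderOf_dvd_natCard _ (pi_mem_torus.2 (self_mem_cent s) : π s ∈ torus s)
    have hs2 : 2 * Nat.card (torus s) = q - 1 ∨ 2 * Nat.card (torus s) = q + 1 := by
      have hh := card_torus s
      rw [hd] at hh
      rw [hh]
      rcases card_cent_regular hts with ⟨-, h, -⟩ | ⟨-, h, -⟩
      · exact Or.inr h
      · exact Or.inl h
    by_contra hne
    have h1 : k ∣ 1 := by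
      rcases (show Nat.card (torus s) = k + 1 ∨ k = Nat.card (torus s) + 1 by omega) with h | h
      · exact (Nat.dvd_add_right (dvd_refl k)).1 (h ▸ hdvd)
      · exact (Nat.dvd_add_right hdvd).1 (h ▸ dvd_refl k)
    rw [Nat.dvd_one] at h1
    omega
  obtain ⟨P, hP'⟩ := exists_torus_conj hodd hts ht hc
  -- move to the given torus
  set g : GL2 := Matrix.SpecialLinearGroup.toGL P
  obtain ⟨s', hs'⟩ : ∃ s' : G, s' = P * s * P⁻¹ := ⟨_, rfl⟩
  have ht' : tr s' ^ 2 ≠ 4 := by rw [hs', tr_conj]; exact hts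
  set x : PG := Matrix.ProjGenLinGroup.mk g * x0 * (Matrix.ProjGenLinGroup.mk g)⁻¹ with hx
  have hxo : orderOf x = 2 * k := by
    rw [hx, show Matrix.ProjGenLinGroup.mk g * x0 * (Matrix.ProjGenLinGroup.mk g)⁻¹ =
      MulAut.conj (Matrix.ProjGenLinGroup.mk g) x0 from rfl, MulEquiv.orderOf_eq, hx0]
  have hxx : x * x = Matrix.ProjectiveSpecialLinearGroup.toPGL (π s') := by
    have e : Matrix.ProjectiveSpecialLinearGroup.toPGL (π P) = Matrix.ProjGenLinGroup.mk g := rfl
    rw [hx, hs', π_conj, map_mul, map_mul, map_inv, e, hc0]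
    group
  -- the matrix of `x` commutes with `s'`
  obtain ⟨X, hX⟩ := Matrix.ProjGenLinGroup.mk_surjective x
  have hss' : ¬ Scal s' := scal_of_tr_sq_ne ht'
  have hcomm : (X : M2) * (s' : M2) = (s' : M2) * (X : M2) := by
    have e : Matrix.ProjGenLinGroup.mk (X * Matrix.SpecialLinearGroup.toGL s') =
        Matrix.ProjGenLinGroup.mk (Matrix.SpecialLinearGroup.toGL s' * X) := by
      rw [map_mul, map_mul, hX, show Matrix.ProjGenLinGroup.mk (Matrix.SpecialLinearGroup.toGL s') = x * x from hxx.symm]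
      group
    obtain ⟨c, hc'⟩ := Matrix.ProjGenLinGroup.mk_eq_mk_iff.1 e
    have hcv : ∀ i j, ((X : M2) * (s' : M2)) i j * (c : F) = ((s' : M2) * (X : M2)) i j := fun i j => by
      have := congrArg (fun u : GL2 => (u : M2) i j) hc'
      simpa using this
    have hdX : (X : M2).det ≠ 0 := (X.isUnit.map Matrix.detMonoidHom).ne_zero
    have hc2 : (c : F) ^ 2 = 1 := by
      have hm : ((X : M2) * (s' : M2)) * Matrix.scalar (Fin 2) (c : F) = (s' : M2) * (X : M2) := by
        ext i j; rw [← hcv i j]; simp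
      have := congrArg Matrix.det hm
      simp only [Matrix.det_mul, s'.det_coe, mul_one, one_mul, Matrix.scalar_apply, Matrix.det_diagonal,
        Finset.prod_const, Finset.card_univ, Fintype.card_fin] at this
      exact mul_left_cancel₀ hdX (this.trans (mul_one _).symm)
    rcases sq_eq_one_iff.1 hc2 with hc1 | hc1
    · ext i j; have := hcv i j; rwa [hc1, mul_one] at this
    · exfalso
      have hneg : (s' : M2) * (X : M2) = -((X : M2) * (s' : M2)) := by
        ext i j; rw [← hcv i j, hc1]; simp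
      have h1 := Matrix.trace_units_conj X (s' : M2)
      rw [show (X : M2) * (s' : M2) = -((s' : M2) * (X : M2)) by rw [hneg, neg_neg], neg_mul,
        mul_assoc, Units.mul_inv, mul_one, Matrix.trace_neg, trace_eq] at h1
      have h0 : tr s' = 0 :=
        (mul_eq_zero.1 (show (2 : F) * tr s' = 0 by linear_combination -h1)).resolve_left (two_ne_zero' hodd)
      have hsq := sq_neg_one_of_tr h0
      have hx4 : x ^ 4 = 1 := by
        rw [show x ^ 4 = (x * x) * (x * x) by rw [show (4 : ℕ) = 2 + 2 from rfl, pow_add, pow_two], hxx, ← map_mul, ← map_mul, hsq,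
          π_neg, map_one, map_one]
      have := Nat.le_of_dvd (by norm_num) (hxo ▸ orderOf_dvd_of_pow_eq_one hx4)
      omega
  obtain ⟨a, b, hab⟩ := commutant (M := (s' : M2)) hss' hcomm
  obtain ⟨w, hw⟩ := exists_invert ht'
  have hwN : w ∈ Subgroup.normalizer (cent s' : Set G) := (mem_normalizer_cent ht').2 (Or.inr hw)
  have hwc : w ∉ cent s' := fun h => ne_inv ht' (by
    rw [← hw, mul_inv_eq_iff_eq_mul.2 (mem_cent.1 h).symm])
  obtain ⟨-, hwsq⟩ := sq_of_mem_normalizer ht' hwN hwc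
  set W : PG := Matrix.ProjectiveSpecialLinearGroup.toPGL (π w) with hW
  have hW2 : W * W = 1 := by rw [hW, ← map_mul, ← map_mul, hwsq, π_neg, map_one, map_one]
  have hinv : W * x * W⁻¹ = x⁻¹ := by
    rw [eq_inv_iff_mul_eq_one, ← hX]
    show Matrix.ProjGenLinGroup.mk (Matrix.SpecialLinearGroup.toGL w) * _ *
      (Matrix.ProjGenLinGroup.mk (Matrix.SpecialLinearGroup.toGL w))⁻¹ * _ = 1
    rw [← map_inv, ← map_mul, ← map_mul, ← map_mul, Matrix.ProjGenLinGroup.mk_eq_one,
      Matrix.GeneralLinearGroup.mem_center_iff_val_mem_range_scalar]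
    refine ⟨(X : M2).det, ?_⟩
    have e1 : (w : M2) * (X : M2) * ((w⁻¹ : G) : M2) = a • (1 : M2) + b • ((s'⁻¹ : G) : M2) := by
      rw [hab, mul_add, add_mul, mul_smul_comm, mul_smul_comm, smul_mul_assoc, smul_mul_assoc, mul_one,
        ← Matrix.SpecialLinearGroup.coe_mul, mul_inv_cancel, Matrix.SpecialLinearGroup.coe_one,
        ← Matrix.SpecialLinearGroup.coe_mul, ← Matrix.SpecialLinearGroup.coe_mul, hw]
    simp only [Units.val_mul]
    rw [show ((Matrix.SpecialLinearGroup.toGL w : GL2) : M2) * (X : M2) *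
      (((Matrix.SpecialLinearGroup.toGL w)⁻¹ : GL2) : M2) =
      (w : M2) * (X : M2) * ((w⁻¹ : G) : M2) by rw [← map_inv]; rfl, e1, coe_inv', hab, det_lin]
    have hm := mul_self s'
    simp only [add_mul, mul_add, smul_mul_assoc, mul_smul_comm, sub_mul, smul_sub, one_mul, mul_one, hm,
      smul_smul]
    apply mext <;> simp <;> ring
  have hWn : W ∉ Subgroup.zpowers x := by
    intro h
    obtain ⟨i, hi⟩ := Subgroup.mem_zpowers_iff.1 h
    have hh : W * x * W⁻¹ = x := by rw [← hi]; group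
    rw [hinv, inv_eq_iff_mul_eq_one, ← pow_two] at hh
    have := Nat.le_of_dvd two_pos (hxo ▸ orderOf_dvd_of_pow_eq_one hh)
    omega
  obtain ⟨e⟩ := Invol.nonempty_dihedralEquiv hW2 hinv hWn
  refine ⟨Subgroup.closure ({W, x} : Set PG), ⟨(hxo ▸ e.symm)⟩, ?_⟩
  rw [← hP', ← hs']
  -- the generators stabilise the torus
  have hgen : ∀ y ∈ ({W, x} : Set PG), ∀ c ∈ torus s', conjAut y c ∈ torus s' := by
    rintro y (rfl | rfl) c hc'
    · obtain ⟨d, hd', rfl⟩ := hc'
      rw [hW]
      show conjAut (Matrix.ProjGenLinGroup.mk (Matrix.SpecialLinearGroup.toGL w)) (π d) ∈ _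
      rw [conjAut_glConj, pi_mem_torus]
      have : glConj (Matrix.SpecialLinearGroup.toGL w) d = w * d * w⁻¹ := Subtype.ext (by
        rw [Matrix.SpecialLinearGroup.coe_mul, Matrix.SpecialLinearGroup.coe_mul]
        show (w : M2) * (d : M2) * _ = _
        rw [← map_inv]
        rfl)
      rw [this]
      exact (Subgroup.mem_normalizer_iff.1 hwN d).1 hd'
    · obtain ⟨d, hd', rfl⟩ := hc'
      rw [← hX, conjAut_glConj, pi_mem_torus]
      suffices glConj X d = d by rw [this]; exact hd'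
      obtain ⟨u, v, huv⟩ := (mem_cent_iff hss').1 hd'
      apply Subtype.ext
      show (X : M2) * (d : M2) * ((X⁻¹ : GL2) : M2) = _
      have hxd : (X : M2) * (d : M2) = (d : M2) * (X : M2) := by
        rw [huv, mul_add, add_mul, mul_smul_comm, mul_smul_comm, smul_mul_assoc, smul_mul_assoc, hcomm,
          mul_one, one_mul]
      rw [hxd, mul_assoc, Units.mul_inv, mul_one]
  intro y hy
  have hadd : ∀ y z : PG, ∀ c, conjAut (y * z) c = conjAut y (conjAut z c) := fun y z c =>
    Matrix.ProjectiveSpecialLinearGroup.toPGL_injective (by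
      rw [toPGL_conjAut, toPGL_conjAut]
      show (y * z) * _ * (y * z)⁻¹ = y * _ * y⁻¹
      rw [toPGL_conjAut]
      show _ = y * (z * _ * z⁻¹) * y⁻¹
      group)
  have hmem : y ∈ Submonoid.closure ({W, x} : Set PG) := by
    rw [← Subgroup.closure_toSubmonoid_of_finite]; exact hy
  induction hmem using Submonoid.closure_induction with
  | mem z hz => exact hgen z hz
  | one =>
    intro c hc'
    have : conjAut (1 : PG) c = c := Matrix.ProjectiveSpecialLinearGroup.toPGL_injective (by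
      rw [toPGL_conjAut]; simp [conjEmb])
    rwa [this]
  | mul z z' hz hz' ih ih' =>
    intro c hc'
    rw [hadd]
    exact ih (by rw [← Subgroup.mem_toSubmonoid, Subgroup.closure_toSubmonoid_of_finite]; exact hz) _
      (ih' (by rw [← Subgroup.mem_toSubmonoid, Subgroup.closure_toSubmonoid_of_finite]; exact hz') c hc')

end Torus

end Cfsg.Agent.SL2
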