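import Mathlib
import Cfsg.Agent.Lib.SmallSimple.Basic
import Cfsg.Agent.Lib.SmallSimple.SylowFive

/-!
# Finite groups partitioned by cyclic tori and Sylow `p`-subgroups

The class equation of a finite subgroup of `PSL(2, F)` (Dickson), in abstract form.
-/

set_option autoImplicit false

namespace Cfsg.Agent.SL2Sub

open Subgroup

/-- The shape of a finite subgroup of `PSL(2, F)`: a partition into cyclic tori and `p`-subgroups. -/
structure Shape (P : Type*) [Group P] (p : ℕ) [Fact p.Prime] where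
  T : Set (Subgroup P)
  U : Sylow p P
  ne_bot : ∀ A ∈ T, A ≠ ⊥
  cyclic : ∀ A ∈ T, IsCyclic A
  coprime : ∀ A ∈ T, ¬ p ∣ Nat.card A
  conj : ∀ A ∈ T, ∀ g : P, A.map (MulAut.conj g).toMonoidHom ∈ T
  disjoint : ∀ A ∈ T, ∀ B ∈ T, ∀ x, x ∈ A → x ∈ B → x ≠ 1 → A = B
  cover : ∀ x : P, x ≠ 1 → (∃ k : ℕ, x ^ p ^ k = 1) ∨ ∃ A ∈ T, x ∈ A
  invert : ∀ A ∈ T, ∀ x ∈ normalizer (A : Set P), x ∉ A → x * x = 1 ∧ ∀ c ∈ A, x * c * x⁻¹ = c⁻¹
  index_two : ∀ A ∈ T, ∀ x ∈ normalizer (A : Set P), ∀ y ∈ normalizer (A : Set P), x ∉ A → y ∉ A →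
    x * y ∈ A
  ti : ∀ V : Sylow p P, ∀ x, x ∈ (U : Subgroup P) → x ∈ (V : Subgroup P) → x ≠ 1 → U = V
  borel : (U : Subgroup P) ≠ ⊥ → ∃ c ∈ normalizer ((U : Subgroup P) : Set P), ¬ p ∣ orderOf c ∧
    normalizer ((U : Subgroup P) : Set P) ≤ (U : Subgroup P) ⊔ zpowers c
  free : ∀ x ∈ (U : Subgroup P), x ≠ 1 → ∀ y ∈ normalizer ((U : Subgroup P) : Set P), y * x = x * y →
    y ∈ (U : Subgroup P)
  torus_le : (U : Subgroup P) ≠ ⊥ → ∀ A ∈ T, ∀ x ∈ A, x ≠ 1 →
    x ∈ normalizer ((U : Subgroup P) : Set P) → A ≤ normalizer ((U : Subgroup P) : Set P)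

variable {P : Type*} [Group P] [Finite P] {p : ℕ} [Fact p.Prime] (S : Shape P p)

namespace Shape

theorem two_le_card {A : Subgroup P} (hA : A ∈ S.T) : 2 ≤ Nat.card A :=
  (A.one_lt_card_iff_ne_bot).2 (S.ne_bot A hA)

/-- The normaliser of a torus has order `d` or `2d`. -/
theorem card_normalizer {A : Subgroup P} (hA : A ∈ S.T) :
    ∃ f : ℕ, (f = 1 ∨ f = 2) ∧ Nat.card (normalizer (A : Set P)) = f * Nat.card A := by
  refine ⟨(A.subgroupOf (normalizer (A : Set P))).index, ?_, ?_⟩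
  · by_cases h : ∃ x ∈ normalizer (A : Set P), x ∉ A
    · obtain ⟨x, hx, hxA⟩ := h
      right
      rw [index_eq_two_iff]
      refine ⟨⟨x, hx⟩, fun ⟨b, hb⟩ => ?_⟩
      simp only [mem_subgroupOf, Subgroup.coe_mul]
      by_cases hbA : b ∈ A
      · exact Or.inr ⟨hbA, fun hc => hxA (by simpa using mul_mem (inv_mem hbA) hc)⟩
      · exact Or.inl ⟨S.index_two A hA b hb x hx hbA hxA, hbA⟩
    · left
      push Not at h
      rw [index_eq_one, subgroupOf_eq_top]
      exact h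
  · rw [← (A.subgroupOf (normalizer (A : Set P))).index_mul_card,
      Nat.card_congr (subgroupOfEquivOfLe le_normalizer).toEquiv]

theorem inter_eq_bot {A : Subgroup P} (hA : A ∈ S.T) {x : P} (hxA : x ∈ A) {k : ℕ}
    (hk : x ^ p ^ k = 1) : x = 1 := by
  have h1 : orderOf x ∣ Nat.card A := Subgroup.orderOf_dvd_natCard _ hxA
  have h2 := orderOf_dvd_of_pow_eq_one hk
  obtain ⟨i, -, hi⟩ := (Nat.dvd_prime_pow Fact.out).1 h2
  rcases i with _ | i
  · exact orderOf_eq_one_iff.1 (by rw [hi, pow_zero])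
  · exact absurd ((dvd_pow_self p i.succ_ne_zero).trans (hi ▸ h1)) (S.coprime A hA)

omit [Finite P] in
theorem pow_eq_one_of_mem_sylow (V : Sylow p P) {x : P} (hx : x ∈ (V : Subgroup P)) :
    ∃ k : ℕ, x ^ p ^ k = 1 := by
  obtain ⟨k, hk⟩ := V.2 ⟨x, hx⟩
  exact ⟨k, congrArg Subtype.val hk⟩

include S in
/-- Sylow `p`-subgroups meet trivially. -/
theorem ti' (V W : Sylow p P) {x : P} (hV : x ∈ (V : Subgroup P)) (hW : x ∈ (W : Subgroup P))
    (hx : x ≠ 1) : V = W := by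
  obtain ⟨g, hg⟩ := MulAction.exists_smul_eq P V S.U
  have hm : ∀ R : Sylow p P, x ∈ (R : Subgroup P) → g * x * g⁻¹ ∈ ((g • R : Sylow p P) : Subgroup P) := by
    intro R hR
    rw [Sylow.coe_subgroup_smul]
    exact ⟨x, hR, by simp⟩
  refine MulAction.injective g (hg.trans (S.ti _ _ (hg ▸ hm V hV) (hm W hW) fun h => hx ?_))
  exact conj_eq_one_iff.1 h

/-- The non-identity `p`-elements. -/
theorem card_p_elements : Nat.card {x : P // x ≠ 1 ∧ ∃ k : ℕ, x ^ p ^ k = 1} =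
    Nat.card (Sylow p P) * (Nat.card ↥(S.U : Subgroup P) - 1) := by
  classical
  haveI := Fintype.ofFinite (Sylow p P)
  let f : (Σ V : Sylow p P, {x : ↥(V : Subgroup P) // x ≠ 1}) → {x : P // x ≠ 1 ∧ ∃ k : ℕ, x ^ p ^ k = 1} :=
    fun z => ⟨(z.2.1 : P), fun e => z.2.2 (Subtype.ext e), pow_eq_one_of_mem_sylow z.1 z.2.1.2⟩
  have hf : Function.Bijective f := by
    refine ⟨?_, fun ⟨x, hx, k, hk⟩ => ?_⟩
    · rintro ⟨R, ⟨x, hx⟩, hx1⟩ ⟨R', ⟨y, hy⟩, hy1⟩ hxy'
      have hxy : x = y := congrArg Subtype.val hxy'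
      subst hxy
      obtain rfl : R = R' := S.ti' R R' hx hy fun e => hx1 (Subtype.ext e)
      rfl
    · obtain ⟨V, hV⟩ := (IsPGroup.of_card_dvd_pow (p := p) (n := k)
        (by rw [Nat.card_zpowers]; exact orderOf_dvd_of_pow_eq_one hk) :
        IsPGroup p (zpowers x)).exists_le_sylow
      exact ⟨⟨V, ⟨x, hV (mem_zpowers x)⟩, fun e => hx (congrArg Subtype.val e)⟩, rfl⟩
  rw [← Nat.card_congr (Equiv.ofBijective f hf), Nat.card_sigma,
    Finset.sum_eq_card_nsmul (b := Nat.card ↥(S.U : Subgroup P) - 1), Finset.card_univ,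
    ← Nat.card_eq_fintype_card, smul_eq_mul]
  intro V _
  haveI := Fintype.ofFinite ↥(V : Subgroup P)
  rw [Nat.card_eq_fintype_card, Fintype.card_subtype_compl, Fintype.card_subtype_eq,
    ← Nat.card_eq_fintype_card, V.card_eq_multiplicity, ← S.U.card_eq_multiplicity]

/-- Conjugacy of tori. -/
def Conj (A B : Subgroup P) : Prop := ∃ g : P, A.map (MulAut.conj g).toMonoidHom = B

theorem map_conj_conj (A : Subgroup P) (a b : P) :
    (A.map (MulAut.conj a).toMonoidHom).map (MulAut.conj b).toMonoidHom =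
      A.map (MulAut.conj (b * a)).toMonoidHom := by
  rw [map_map]
  congr 1
  ext x
  simp [mul_assoc]

theorem map_conj_one (A : Subgroup P) : A.map (MulAut.conj (1 : P)).toMonoidHom = A := by
  ext x; simp [Subgroup.mem_map]

theorem map_conj_eq_iff (A : Subgroup P) (g : P) :
    A.map (MulAut.conj g).toMonoidHom = A ↔ g ∈ normalizer (A : Set P) := by
  rw [mem_normalizer_iff, SetLike.ext_iff]
  constructor
  · intro h x
    rw [← h (g * x * g⁻¹), Subgroup.mem_map]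
    exact ⟨fun hx => ⟨x, hx, by simp⟩, fun ⟨y, hy, e⟩ => by
      simp at e; rwa [← e]⟩
  · intro h x
    rw [Subgroup.mem_map]
    refine ⟨fun ⟨y, hy, e⟩ => by rw [← e]; simpa using (h y).1 hy, fun hx => ?_⟩
    exact ⟨g⁻¹ * x * g, (h _).2 (by simpa [mul_assoc] using hx), by simp [mul_assoc]⟩

theorem card_conj (A : Subgroup P) : Nat.card {B : Subgroup P // Conj A B} = (normalizer (A : Set P)).index := by
  let f : P ⧸ normalizer (A : Set P) → {B : Subgroup P // Conj A B} :=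
    fun q => ⟨A.map (MulAut.conj q.out).toMonoidHom, q.out, rfl⟩
  have hf : Function.Bijective f := by
    refine ⟨fun q r e => ?_, fun ⟨B, g, hg⟩ => ?_⟩
    · have e' : A.map (MulAut.conj q.out).toMonoidHom = A.map (MulAut.conj r.out).toMonoidHom :=
        congrArg Subtype.val e
      rw [← q.out_eq', ← r.out_eq', QuotientGroup.eq, ← map_conj_eq_iff, ← map_conj_conj, ← e',
        map_conj_conj, inv_mul_cancel, map_conj_one]
    · refine ⟨QuotientGroup.mk g, Subtype.ext ?_⟩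
      obtain ⟨⟨n, hn⟩, hng⟩ := QuotientGroup.mk_out_eq_mul (normalizer (A : Set P)) g
      show A.map (MulAut.conj (QuotientGroup.mk g : P ⧸ normalizer (A : Set P)).out).toMonoidHom = B
      rw [hng, ← map_conj_conj, (map_conj_eq_iff A n).2 hn, hg]
  exact (Nat.card_congr (Equiv.ofBijective f hf)).symm

/-- The class equation: some set of representatives of the classes of tori. -/
theorem exists_reps : ∃ R : Finset (Subgroup P), (∀ A ∈ R, A ∈ S.T) ∧
    (∀ A ∈ R, ∀ B ∈ R, Conj A B → A = B) ∧ (∀ A ∈ S.T, ∃ B ∈ R, Conj B A) ∧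
    Nat.card P = 1 + Nat.card (Sylow p P) * (Nat.card ↥(S.U : Subgroup P) - 1) +
      ∑ A ∈ R, (normalizer (A : Set P)).index * (Nat.card A - 1) := by
  classical
  haveI := Fintype.ofFinite P
  haveI := Fintype.ofFinite (Subgroup P)
  let st : Setoid S.T :=
    { r := fun A B => Conj A.1 B.1
      iseqv := ⟨fun A => ⟨1, map_conj_one _⟩, fun {A B} ⟨g, hg⟩ => ⟨g⁻¹, by
        rw [← hg, map_conj_conj, inv_mul_cancel, map_conj_one]⟩, fun {A B C} ⟨g, hg⟩ ⟨h, hh⟩ => ⟨h * g, by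
        rw [← map_conj_conj, hg, hh]⟩⟩ }
  haveI := Fintype.ofFinite (Quotient st)
  let R : Finset (Subgroup P) := Finset.univ.image fun q : Quotient st => (q.out : Subgroup P)
  have hinj : Function.Injective fun q : Quotient st => (q.out : Subgroup P) :=
    fun q r e => by rw [← Quotient.out_eq q, ← Quotient.out_eq r, Subtype.ext e]
  refine ⟨R, ?_, ?_, ?_, ?_⟩
  · intro A hA
    obtain ⟨q, -, rfl⟩ := Finset.mem_image.1 hA
    exact q.out.2
  · intro A hA B hB hAB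
    obtain ⟨q, -, rfl⟩ := Finset.mem_image.1 hA
    obtain ⟨r, -, rfl⟩ := Finset.mem_image.1 hB
    rw [← Quotient.out_eq q, ← Quotient.out_eq r, Quotient.sound (s := st) hAB]
  · intro A hA
    exact ⟨_, Finset.mem_image.2 ⟨Quotient.mk st ⟨A, hA⟩, Finset.mem_univ _, rfl⟩,
      Quotient.mk_out (s := st) ⟨A, hA⟩⟩
  rw [Finset.sum_image hinj.injOn]
  let E : {x : P // x ≠ 1 ∧ ¬ ∃ k : ℕ, x ^ p ^ k = 1} →
      Σ q : Quotient st, Σ B : {B : Subgroup P // Conj q.out.1 B}, {x : ↥B.1 // x ≠ 1} := fun x =>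
    let h := (S.cover x.1 x.2.1).resolve_left x.2.2
    ⟨Quotient.mk st ⟨h.choose, h.choose_spec.1⟩, ⟨h.choose, Quotient.mk_out (s := st) _⟩,
      ⟨x.1, h.choose_spec.2⟩, fun e => x.2.1 (congrArg Subtype.val e)⟩
  have hE : Function.Bijective E := by
    refine ⟨fun x y e => Subtype.ext (congrArg (fun z : Σ q : Quotient st,
      Σ B : {B : Subgroup P // Conj q.out.1 B}, {x : ↥B.1 // x ≠ 1} => (z.2.2.1 : P)) e), ?_⟩
    rintro ⟨q, ⟨B, hB⟩, ⟨x, hx⟩, hx1⟩
    have hBT : B ∈ S.T := by obtain ⟨g, rfl⟩ := hB; exact S.conj _ q.out.2 g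
    have hx1' : x ≠ 1 := fun e => hx1 (Subtype.ext e)
    refine ⟨⟨x, hx1', fun ⟨k, hk⟩ => hx1' (S.inter_eq_bot hBT hx hk)⟩, ?_⟩
    have h := (S.cover x hx1').resolve_left fun ⟨k, hk⟩ => hx1' (S.inter_eq_bot hBT hx hk)
    have hB' : h.choose = B := S.disjoint _ h.choose_spec.1 _ hBT x h.choose_spec.2 hx hx1'
    have hq : Quotient.mk st ⟨h.choose, h.choose_spec.1⟩ = q := by
      conv_rhs => rw [← Quotient.out_eq q]
      refine Quotient.sound (Setoid.iseqv.symm ?_)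
      show Conj q.out.1 h.choose
      rw [hB']; exact hB
    show (⟨Quotient.mk st ⟨h.choose, _⟩, ⟨h.choose, _⟩, ⟨x, _⟩, _⟩ :
      Σ q : Quotient st, Σ B : {B : Subgroup P // Conj q.out.1 B}, {x : ↥B.1 // x ≠ 1}) = _
    subst hq hB'
    rfl
  have h1 := Nat.card_congr (Equiv.ofBijective E hE)
  rw [Nat.card_sigma] at h1
  have h2 : ∀ q : Quotient st, Nat.card (Σ B : {B : Subgroup P // Conj q.out.1 B}, {x : ↥B.1 // x ≠ 1}) =
      (normalizer ((q.out : Subgroup P) : Set P)).index * (Nat.card q.out.1 - 1) := by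
    intro q
    rw [Nat.card_sigma, Finset.sum_eq_card_nsmul (b := Nat.card q.out.1 - 1), Finset.card_univ,
      ← Nat.card_eq_fintype_card, card_conj, smul_eq_mul]
    rintro ⟨B, g, hg⟩ -
    haveI := Fintype.ofFinite ↥B
    rw [Nat.card_eq_fintype_card, Fintype.card_subtype_compl, Fintype.card_subtype_eq,
      ← Nat.card_eq_fintype_card]
    subst hg
    rw [card_map_of_injective (MulAut.conj g).injective]
  rw [Finset.sum_congr rfl (fun q _ => h2 q)] at h1
  have h3 := S.card_p_elements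
  rw [← h3, ← h1, Nat.card_eq_fintype_card, Nat.card_eq_fintype_card, Nat.card_eq_fintype_card,
    Fintype.card_subtype, Fintype.card_subtype, add_assoc, ← Finset.card_union_of_disjoint,
    show Fintype.card P = 1 + (Finset.univ.erase (1 : P)).card by
      rw [Finset.card_erase_of_mem (Finset.mem_univ _), Finset.card_univ]
      have := Fintype.card_pos (α := P); omega]
  · congr 2
    ext x
    simp only [Finset.mem_erase, Finset.mem_univ, and_true, Finset.mem_union, Finset.mem_filter, true_and]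
    tauto
  · rw [Finset.disjoint_filter]
    exact fun x _ h h' => h'.2 h.2

end Shape

end Cfsg.Agent.SL2Sub
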