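import Mathlib
import Cfsg.Agent.Lib.SL2.Partition

/-!
# Solutions of the class equation of a finite subgroup of `PSL(2, F)`
-/

set_option autoImplicit false

namespace Cfsg.Agent.SL2Sub

open Subgroup

/-- A group acting freely by conjugation on a set divides its size. -/
theorem dvd_ncard_of_free {P : Type*} [Group P] [Finite P] (C : Subgroup P) (X : Set P)
    (hX : ∀ c ∈ C, ∀ x ∈ X, c * x * c⁻¹ ∈ X) (hfree : ∀ c ∈ C, ∀ x ∈ X, c * x = x * c → c = 1) :
    Nat.card C ∣ X.ncard := by
  classical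
  letI : MulAction C X :=
    { smul := fun c x => ⟨(c : P) * x * (c : P)⁻¹, hX c c.2 x x.2⟩
      one_smul := fun x => Subtype.ext (show (1 : P) * x * 1⁻¹ = x by group)
      mul_smul := fun a b x => Subtype.ext
        (show (a : P) * b * x * ((a : P) * b)⁻¹ = a * (b * x * (b : P)⁻¹) * (a : P)⁻¹ by group) }
  have hst : ∀ x : X, MulAction.stabilizer C x = ⊥ := by
    intro x
    rw [eq_bot_iff_forall]
    intro c hc
    have h : (c : P) * x * (c : P)⁻¹ = x := congrArg Subtype.val (MulAction.mem_stabilizer_iff.1 hc)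
    exact Subtype.ext (hfree c c.2 x x.2 (by rw [← mul_inv_eq_iff_eq_mul]; exact h))
  haveI := Fintype.ofFinite (MulAction.orbitRel.Quotient C X)
  rw [← Nat.card_coe_set_eq, Nat.card_congr (MulAction.selfEquivSigmaOrbitsQuotientStabilizer C X),
    Nat.card_sigma]
  refine Finset.dvd_sum fun q _ => ?_
  rw [hst, ← Subgroup.index, Subgroup.index_bot]

variable {P : Type*} [Group P] [Finite P] {p : ℕ} [Fact p.Prime] (S : Shape P p)

namespace Shape

theorem centralizer_le {A : Subgroup P} (hA : A ∈ S.T) (h3 : 3 ≤ Nat.card A) :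
    centralizer (A : Set P) ≤ A := by
  intro x hx
  by_contra hxA
  obtain ⟨-, hinv⟩ := S.invert A hA x (SmallSimple.centralizer_le_normalizer A hx) hxA
  haveI := S.cyclic A hA
  obtain ⟨⟨c, hc⟩, hgen⟩ := IsCyclic.exists_ofOrder_eq_natCard (α := A)
  have e := hinv c hc
  rw [← mem_centralizer_iff.1 hx c hc, mul_inv_cancel_right] at e
  have h2 : orderOf c ∣ 2 := by
    refine orderOf_dvd_of_pow_eq_one ?_
    rw [pow_two]
    nth_rewrite 2 [e]
    exact mul_inv_cancel c
  rw [← orderOf_coe] at hgen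
  rw [show orderOf c = Nat.card A from hgen] at h2
  have := Nat.le_of_dvd two_pos h2
  omega

theorem weight {A : Subgroup P} (hA : A ∈ S.T) : ∃ f, (f = 1 ∨ f = 2) ∧
    Nat.card (normalizer (A : Set P)) = f * Nat.card A ∧
    (normalizer (A : Set P)).index * (f * Nat.card A) = Nat.card P ∧
    4 * ((normalizer (A : Set P)).index * (Nat.card A - 1)) ≥ Nat.card P ∧
    (f = 1 → 2 * ((normalizer (A : Set P)).index * (Nat.card A - 1)) ≥ Nat.card P) := by
  obtain ⟨f, hf, hN⟩ := S.card_normalizer hA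
  have h := (normalizer (A : Set P)).index_mul_card
  rw [hN] at h
  obtain ⟨e, he⟩ : ∃ e, Nat.card A = e + 2 := ⟨Nat.card A - 2, by have := S.two_le_card hA; omega⟩
  have h0 := Nat.zero_le ((normalizer (A : Set P)).index * e)
  refine ⟨f, hf, hN, h, ?_, fun h1 => ?_⟩ <;> rw [← h, he, show e + 2 - 1 = e + 1 from rfl]
  · rcases hf with rfl | rfl <;> linarith
  · subst h1
    linarith

theorem sylow_data (hU : (S.U : Subgroup P) ≠ ⊥) : ∃ t : ℕ,
    Nat.card (normalizer ((S.U : Subgroup P) : Set P)) = Nat.card ↥(S.U : Subgroup P) * t ∧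
    t ∣ Nat.card ↥(S.U : Subgroup P) - 1 ∧
    Nat.card ↥(S.U : Subgroup P) ∣ Nat.card (Sylow p P) - 1 ∧
    (1 < t → ∃ A ∈ S.T, A ≤ normalizer ((S.U : Subgroup P) : Set P) ∧ Nat.card A = t) := by
  classical
  obtain ⟨c, hcN, hcp, hle⟩ := S.borel hU
  set N := normalizer ((S.U : Subgroup P) : Set P)
  have hdisj : ∀ x ∈ (S.U : Subgroup P), x ∈ zpowers c → x = 1 := by
    intro x hx hxc
    obtain ⟨k, hk⟩ := pow_eq_one_of_mem_sylow S.U hx
    refine orderOf_eq_one_iff.1 (Nat.dvd_one.1 ?_)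
    have h1 : (p ^ k).Coprime (orderOf c) :=
      ((Fact.out : p.Prime).coprime_iff_not_dvd.2 hcp).pow_left k
    rw [← h1.gcd_eq_one]
    exact Nat.dvd_gcd (orderOf_dvd_of_pow_eq_one hk) (orderOf_dvd_of_mem_zpowers hxc)
  have hN : Nat.card N = Nat.card ↥(S.U : Subgroup P) * orderOf c := by
    rw [← Nat.card_zpowers, ← Nat.card_prod]
    refine (Nat.card_congr (Equiv.ofBijective
      (fun z : ↥(S.U : Subgroup P) × zpowers c => (⟨(z.1 : P) * z.2, mul_mem (le_normalizer z.1.2)
        (zpowers_le.2 hcN z.2.2)⟩ : N)) ⟨?_, fun ⟨n, hn⟩ => ?_⟩)).symm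
    · rintro ⟨a, b⟩ ⟨a', b'⟩ e
      have e' : (a : P) * b = a' * b' := congrArg Subtype.val e
      have h1 : (a' : P)⁻¹ * a = b' * (b : P)⁻¹ := by
        rw [eq_mul_inv_iff_mul_eq, mul_assoc, e', inv_mul_cancel_left]
      have h2 := hdisj _ (mul_mem (inv_mem a'.2) a.2) (h1 ▸ mul_mem b'.2 (inv_mem b.2))
      have ha : a = a' := Subtype.ext (inv_mul_eq_one.1 h2).symm
      subst ha
      exact Prod.ext rfl (Subtype.ext (mul_left_cancel e'))
    · have hm : n ∈ (((S.U : Subgroup P) ⊔ zpowers c : Subgroup P) : Set P) := hle hn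
      rw [coe_mul_of_right_le_normalizer_left _ _ (zpowers_le.2 hcN)] at hm
      obtain ⟨u, hu, z, hz, rfl⟩ := hm
      exact ⟨(⟨u, hu⟩, ⟨z, hz⟩), rfl⟩
  refine ⟨orderOf c, hN, ?_, ?_, fun ht => ?_⟩
  · have h := dvd_ncard_of_free (zpowers c) (((S.U : Subgroup P) : Set P) \ {1}) (fun z hz x hx => ?_)
      (fun z hz x hx e => ?_)
    · rwa [Nat.card_zpowers, Set.ncard_diff_singleton_of_mem (one_mem _), ← Nat.card_coe_set_eq] at h
    · exact ⟨(mem_normalizer_iff.1 (zpowers_le.2 hcN hz) x).1 hx.1, fun e => hx.2 (conj_eq_one_iff.1 e)⟩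
    · exact hdisj z (S.free x hx.1 hx.2 z (zpowers_le.2 hcN hz) e) hz
  · -- the other Sylow subgroups fall into regular orbits
    let X := {V : Sylow p P // V ≠ S.U}
    letI : MulAction ↥(S.U : Subgroup P) X :=
      { smul := fun u V => ⟨(u : P) • V.1, fun e => V.2 (MulAction.injective (u : P)
          (e.trans (SylowFive.smul_eq_of_mem S.U u.2).symm))⟩
        one_smul := fun V => Subtype.ext (one_smul _ _)
        mul_smul := fun a b V => Subtype.ext (mul_smul _ _ _) }
    have hst : ∀ V : X, MulAction.stabilizer ↥(S.U : Subgroup P) V = ⊥ := by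
      intro V
      rw [eq_bot_iff_forall]
      intro u hu
      have h : (u : P) • V.1 = V.1 := congrArg Subtype.val (MulAction.mem_stabilizer_iff.1 hu)
      obtain ⟨k, hk⟩ := pow_eq_one_of_mem_sylow S.U u.2
      have huV := SylowFive.sylow_le_of_mem_normalizer V.1 ((SylowFive.smul_sylow_eq V.1).1 h) k hk
      by_contra hu1
      exact V.2 (S.ti V.1 u u.2 huV fun e => hu1 (Subtype.ext e)).symm
    haveI := Fintype.ofFinite (MulAction.orbitRel.Quotient ↥(S.U : Subgroup P) X)
    have hX : Nat.card X = Nat.card (Sylow p P) - 1 := by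
      haveI := Fintype.ofFinite (Sylow p P)
      rw [Nat.card_eq_fintype_card, Fintype.card_subtype_compl, Fintype.card_subtype_eq,
        Nat.card_eq_fintype_card]
    rw [← hX, Nat.card_congr (MulAction.selfEquivSigmaOrbitsQuotientStabilizer ↥(S.U : Subgroup P) X),
      Nat.card_sigma]
    refine Finset.dvd_sum fun q _ => ?_
    rw [hst, ← Subgroup.index, Subgroup.index_bot]
  · have hc1 : c ≠ 1 := fun e => by rw [e, orderOf_one] at ht; omega
    obtain ⟨A, hA, hcA⟩ := (S.cover c hc1).resolve_left fun ⟨k, hk⟩ => by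
      obtain ⟨i, -, hi⟩ := (Nat.dvd_prime_pow Fact.out).1 (orderOf_dvd_of_pow_eq_one hk)
      rcases i with _ | i
      · rw [hi, pow_zero] at ht; omega
      · exact hcp (hi ▸ dvd_pow_self p i.succ_ne_zero)
    have hAN : A ≤ N := S.torus_le hU A hA c hcA hc1 hcN
    refine ⟨A, hA, hAN, le_antisymm ?_ ?_⟩
    · have hle' : Nat.card ↥(S.U : Subgroup P) * Nat.card A ≤ Nat.card ↥(S.U : Subgroup P) * orderOf c := by
        rw [← hN, ← Nat.card_prod]
        refine Nat.card_le_card_of_injective (fun z : ↥(S.U : Subgroup P) × A =>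
          (⟨(z.1 : P) * z.2, mul_mem (le_normalizer z.1.2) (hAN z.2.2)⟩ : N)) ?_
        rintro ⟨a, b⟩ ⟨a', b'⟩ e
        have e' : (a : P) * b = a' * b' := congrArg Subtype.val e
        have h1 : (a' : P)⁻¹ * a = b' * (b : P)⁻¹ := by
          rw [eq_mul_inv_iff_mul_eq, mul_assoc, e', inv_mul_cancel_left]
        obtain ⟨k, hk⟩ := pow_eq_one_of_mem_sylow S.U (mul_mem (inv_mem a'.2) a.2)
        have h2 := S.inter_eq_bot hA (h1 ▸ mul_mem b'.2 (inv_mem b.2) : (a' : P)⁻¹ * a ∈ A) hk
        have ha : a = a' := Subtype.ext (inv_mul_eq_one.1 h2).symm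
        subst ha
        exact Prod.ext rfl (Subtype.ext (mul_left_cancel e'))
      exact Nat.le_of_mul_le_mul_left hle' Nat.card_pos
    · rw [← Nat.card_zpowers]
      exact Nat.card_le_card_of_injective _ (inclusion_injective (zpowers_le.2 hcA))

theorem conj_card {A B : Subgroup P} (h : Conj A B) :
    Nat.card B = Nat.card A ∧ (normalizer (B : Set P)).index = (normalizer (A : Set P)).index := by
  obtain ⟨g, rfl⟩ := h
  refine ⟨card_map_of_injective (MulAut.conj g).injective, ?_⟩
  rw [← card_conj, ← card_conj]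
  refine Nat.card_congr (Equiv.subtypeEquivRight fun C => ⟨fun ⟨x, hx⟩ => ?_, fun ⟨x, hx⟩ => ?_⟩)
  · exact ⟨x * g, by rw [← map_conj_conj]; exact hx⟩
  · exact ⟨x * g⁻¹, by rw [map_conj_conj, inv_mul_cancel_right]; exact hx⟩

theorem eq_top_of_index {H : Subgroup P} (h : Nat.card H = Nat.card P) : H = ⊤ :=
  Subgroup.eq_top_of_card_eq H h

theorem index_two_case {A : Subgroup P} (hA : A ∈ S.T) (h : 2 * Nat.card A = Nat.card P)
    (hN : Nat.card (normalizer (A : Set P)) = Nat.card P) :
    A.index = 2 ∧ ∃ x ∉ A, x * x = 1 ∧ ∀ c ∈ A, x * c * x⁻¹ = c⁻¹ := by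
  have hi : A.index = 2 := by
    have h1 := A.index_mul_card
    have : 0 < Nat.card A := Nat.card_pos
    rw [← h] at h1
    exact Nat.eq_of_mul_eq_mul_right this h1
  obtain ⟨x, hx⟩ : ∃ x, x ∉ A := by
    by_contra hc
    push Not at hc
    rw [index_eq_one.2 ((eq_top_iff' A).2 hc)] at hi
    omega
  obtain ⟨h1, h2⟩ := S.invert A hA x (eq_top_of_index hN ▸ mem_top x) hx
  exact ⟨hi, x, hx, h1, h2⟩

theorem conj_of_card_prime {r : ℕ} [hr : Fact r.Prime] {m : ℕ} (hm : Nat.card P = r * m)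
    (hrm : ¬ r ∣ m) {A B : Subgroup P} (hA : Nat.card A = r) (hB : Nat.card B = r) : Conj A B := by
  have syl : ∀ {C : Subgroup P}, Nat.card C = r → ∃ V : Sylow r P, C = (V : Subgroup P) := by
    intro C hC
    obtain ⟨V, hV⟩ := (IsPGroup.of_card (p := r) (n := 1) (by rw [hC, pow_one]) : IsPGroup r C).exists_le_sylow
    refine ⟨V, eq_of_le_of_card_ge hV ?_⟩
    rw [hC, SmallSimple.card_sylow_of_eq (k := 1) (m := m) V (by rw [pow_one, hm]) hrm, pow_one]
  obtain ⟨V, rfl⟩ := syl hA
  obtain ⟨W, rfl⟩ := syl hB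
  obtain ⟨g, hg⟩ := MulAction.exists_smul_eq P V W
  exact ⟨g, by rw [← hg, Sylow.coe_subgroup_smul]; rfl⟩

/-- The class equation with one self-normalising class and one other class. -/
theorem arith_two {g i j a b : ℕ} (hi : 0 < i) (hA : i * (1 * (a + 2)) = g)
    (hB : j * (2 * (b + 2)) = g) (heq : g = 1 + (i * (a + 1) + j * (b + 1))) :
    (a = 0 ∧ g = 2 * (b + 2)) ∨ (a = 1 ∧ b = 0 ∧ g = 12) := by
  have e1 : 2 * (i + j) = g + 2 := by linarith
  rcases a with _ | _ | a
  · have hj : j = 1 := by omega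
    subst hj
    exact Or.inl ⟨rfl, by omega⟩
  · have hb0 : b = 0 := by
      by_contra hb
      have := Nat.le_mul_of_pos_right j (Nat.pos_of_ne_zero hb)
      linarith
    subst hb0
    exact Or.inr ⟨rfl, rfl, by omega⟩
  · exfalso
    have := Nat.zero_le (i * a)
    have := Nat.zero_le (j * b)
    linarith

/-- The class equation with three classes. -/
theorem arith_three {g i j k a b c : ℕ} (hab : a ≤ b) (hbc : b ≤ c) (hi : 0 < i) (hj : 0 < j)
    (hA : i * (2 * (a + 2)) = g) (hB : j * (2 * (b + 2)) = g) (hC : k * (2 * (c + 2)) = g)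
    (heq : g = 1 + (i * (a + 1) + (j * (b + 1) + k * (c + 1)))) :
    (a = 0 ∧ b = 0 ∧ g = 2 * (c + 2)) ∨ (b = 1 ∧ c = 1 ∧ g = 12) ∨ (b = 1 ∧ c = 2 ∧ g = 24) ∨
      (b = 1 ∧ c = 3 ∧ g = 60) := by
  have e1 : 2 * (i + j + k) = g + 2 := by linarith
  have ha0 : a = 0 := by
    by_contra ha
    have := Nat.le_mul_of_pos_right i (Nat.pos_of_ne_zero ha)
    have := Nat.le_mul_of_pos_right j (show 0 < b by omega)
    have := Nat.le_mul_of_pos_right k (show 0 < c by omega)
    linarith
  subst ha0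
  rcases b with _ | _ | b
  · have hk : k = 1 := by omega
    subst hk
    exact Or.inl ⟨rfl, rfl, by omega⟩
  · have hc3 : c ≤ 3 := by
      by_contra h4
      have := Nat.mul_le_mul_left k (show 4 ≤ c by omega)
      linarith
    interval_cases c
    · exact Or.inr (Or.inl ⟨rfl, rfl, by omega⟩)
    · exact Or.inr (Or.inr (Or.inl ⟨rfl, rfl, by omega⟩))
    · exact Or.inr (Or.inr (Or.inr ⟨rfl, rfl, by omega⟩))
  · exfalso
    have := Nat.zero_le (j * b)
    have := Nat.mul_le_mul_left k (show b + 2 ≤ c by omega)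
    have := Nat.zero_le (k * b)
    linarith

/-- The class equation with `4 ≤ Q`. -/
theorem arith_big {k Q t d s m : ℕ} (hQ : 4 ≤ Q) (hk : k = Q * m + 1) (hk1 : Q + 1 ≤ k)
    (hts : Q = t * s + 1) (heq : d * (2 + k * (Q - 2)) = k * (Q * t)) :
    k = Q + 1 ∧ (s = 1 ∨ s = 2) := by
  have hd0 : 0 < d := by
    rcases Nat.eq_zero_or_pos d with h | h
    · subst h
      rw [Nat.zero_mul] at heq
      rcases Nat.eq_zero_or_pos t with h | h
      · subst h; omega
      · have : 0 < k * (Q * t) := Nat.mul_pos (by omega) (Nat.mul_pos (by omega) h)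
        omega
    · exact h
  have hz : (d : ℤ) * (2 + k * ((Q : ℤ) - 2)) = k * (Q * t) := by
    have := congrArg (Nat.cast (R := ℤ)) heq
    push_cast [Nat.cast_sub (show 2 ≤ Q by omega)] at this
    exact this
  obtain ⟨r, hr⟩ : ∃ r : ℤ, r = (Q : ℤ) * t - d * ((Q : ℤ) - 2) := ⟨_, rfl⟩
  have hts' : (Q : ℤ) = t * s + 1 := by exact_mod_cast hts
  have h2d : 2 * (d : ℤ) = k * r := by rw [hr]; linear_combination hz
  have hd' : (0 : ℤ) < d := by exact_mod_cast hd0
  have hk0 : (0 : ℤ) ≤ k := Int.natCast_nonneg k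
  have hr0 : 0 < r := pos_of_mul_pos_right (by linarith) hk0
  have hs0 : (0 : ℤ) < s := by
    rcases Nat.eq_zero_or_pos s with h | h
    · subst h; omega
    · exact_mod_cast h
  obtain ⟨n, hn⟩ : ∃ n : ℤ, n = r * s := ⟨_, rfl⟩
  have h1 : (k : ℤ) * n * ((Q : ℤ) - 2) + 2 * n = 2 * ((Q : ℤ) * ((Q : ℤ) - 1)) := by
    rw [hn]
    linear_combination (-(s : ℤ) * ((Q : ℤ) - 2)) * h2d + 2 * (s : ℤ) * hr - 2 * (Q : ℤ) * hts'
  have hn0 : 0 < n := hn ▸ mul_pos hr0 hs0
  have hQ' : (4 : ℤ) ≤ Q := by exact_mod_cast hQ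
  have hkQ : (Q : ℤ) + 1 ≤ k := by exact_mod_cast hk1
  obtain h | h | h : n = 1 ∨ n = 2 ∨ 3 ≤ n := by omega
  · exfalso
    subst h
    have h2 : ((Q : ℤ) - 2) * (k - 2 * Q - 2) = 2 := by linear_combination h1
    have := Int.le_of_dvd two_pos ⟨_, h2.symm⟩
    obtain rfl : Q = 4 := by omega
    have : k = 11 := by push_cast at h2; omega
    omega
  · subst h
    have h3 : (k : ℤ) = Q + 1 := mul_right_cancel₀ (show ((Q : ℤ) - 2) ≠ 0 by omega)
      (by linarith)
    refine ⟨by omega, ?_⟩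
    have h4 : (s : ℤ) ∣ 2 := ⟨r, by rw [hn]; ring⟩
    have := Nat.le_of_dvd two_pos (by exact_mod_cast h4 : s ∣ 2)
    omega
  · exfalso
    have h5 : ((Q : ℤ) + 1) * 3 ≤ k * n := mul_le_mul hkQ h (by norm_num) hk0
    have h6 := mul_le_mul_of_nonneg_right h5 (show (0 : ℤ) ≤ (Q : ℤ) - 2 by omega)
    nlinarith

/-- The class equation with `Q = 3`. -/
theorem arith_three_sylow {k e m : ℕ} (hk : k = 3 * m + 1) (hk1 : 4 ≤ k)
    (heq : (e + 2) * (2 + k) = k * (3 * 2)) : (e = 2 ∧ k = 4) ∨ (e = 3 ∧ k = 10) := by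
  have he : e < 4 := by
    by_contra h
    have := Nat.mul_le_mul_right k (show 6 ≤ e + 2 by omega)
    linarith
  interval_cases e <;> omega

/-- Dickson's solutions of the class equation. -/
theorem classify : Nat.card P = 1 ∨ (∃ A ∈ S.T, A = ⊤) ∨
    (∃ A ∈ S.T, A.index = 2 ∧ ∃ x ∉ A, x * x = 1 ∧ ∀ c ∈ A, x * c * x⁻¹ = c⁻¹) ∨
    ((S.U : Subgroup P) ≠ ⊥ ∧ normalizer ((S.U : Subgroup P) : Set P) = ⊤) ∨
    (Nat.card P = 12 ∧ Nat.card ↥(S.U : Subgroup P) ≤ 3 ∧ ∃ C : Subgroup P, Nat.card C = 3 ∧ Nat.card (normalizer (C : Set P)) = 3) ∨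
    (Nat.card P = 24 ∧ Nat.card ↥(S.U : Subgroup P) ≤ 3 ∧ ∃ C : Subgroup P, Nat.card C = 3 ∧ Nat.card (normalizer (C : Set P)) = 6 ∧
      centralizer (C : Set P) ≤ C) ∨
    (Nat.card P = 60 ∧ Nat.card ↥(S.U : Subgroup P) ≤ 3 ∧ ∃ C : Subgroup P, Nat.card C = 5 ∧ Nat.card (normalizer (C : Set P)) = 10 ∧
      centralizer (C : Set P) ≤ C) ∨
    (∃ t : ℕ, 4 ≤ Nat.card ↥(S.U : Subgroup P) ∧
      (t = Nat.card ↥(S.U : Subgroup P) - 1 ∨ 2 * t = Nat.card ↥(S.U : Subgroup P) - 1) ∧
      Nat.card (normalizer ((S.U : Subgroup P) : Set P)) = Nat.card ↥(S.U : Subgroup P) * t ∧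
      Nat.card (Sylow p P) = Nat.card ↥(S.U : Subgroup P) + 1 ∧
      ∃ A ∈ S.T, A ≤ normalizer ((S.U : Subgroup P) : Set P) ∧ Nat.card A = t ∧
        Nat.card (normalizer (A : Set P)) = 2 * t) := by
  classical
  obtain ⟨R, hRT, hRc, hRall, heq⟩ := S.exists_reps
  have hg : 0 < Nat.card P := Nat.card_pos
  have split : ∀ {A : Subgroup P}, A ∈ S.T → ∃ a, Nat.card A = a + 2 := fun {A} hA =>
    ⟨Nat.card A - 2, by have := S.two_le_card hA; omega⟩
  have hidx : ∀ A : Subgroup P, 0 < (normalizer (A : Set P)).index := fun A =>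
    Nat.pos_of_ne_zero index_ne_zero_of_finite
  by_cases hU : (S.U : Subgroup P) = ⊥
  · -- no `p`-elements
    have hQ : Nat.card ↥(S.U : Subgroup P) = 1 := by rw [hU, card_bot]
    rw [hQ] at heq
    simp only [Nat.sub_self, mul_zero, add_zero] at heq
    have hcard : R.card ≤ 3 := by
      by_contra hc
      have h1 : R.card * Nat.card P ≤ ∑ A ∈ R, 4 * ((normalizer (A : Set P)).index * (Nat.card A - 1)) := by
        rw [← smul_eq_mul, ← Finset.sum_const]
        exact Finset.sum_le_sum fun A hA => by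
          obtain ⟨f, -, -, -, h4, -⟩ := S.weight (hRT A hA)
          exact h4
      rw [← Finset.mul_sum] at h1
      have h4 : 4 * Nat.card P ≤ R.card * Nat.card P := Nat.mul_le_mul_right _ (by omega)
      omega
    obtain h0 | h1 | h2 | h3 : R.card = 0 ∨ R.card = 1 ∨ R.card = 2 ∨ R.card = 3 := by omega
    · rw [Finset.card_eq_zero.1 h0, Finset.sum_empty] at heq
      exact Or.inl (by omega)
    · obtain ⟨A, hR⟩ := Finset.card_eq_one.1 h1
      rw [hR, Finset.sum_singleton] at heq
      have hA := hRT A (by simp [hR])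
      obtain ⟨f, hf, hN, hi, -, -⟩ := S.weight hA
      obtain ⟨a, ha⟩ := split hA
      rw [ha, show a + 2 - 1 = a + 1 from rfl] at heq
      rw [ha] at hi
      have h0 := hidx A
      rcases hf with rfl | rfl
      · refine Or.inr (Or.inl ⟨A, hA, eq_top_of_index ?_⟩)
        have hi1 : (normalizer (A : Set P)).index = 1 := by linarith
        rw [hi1] at hi
        omega
      · have := Nat.zero_le ((normalizer (A : Set P)).index * a)
        linarith
    · obtain ⟨A, B, hAB, hR⟩ := Finset.card_eq_two.1 h2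
      rw [hR, Finset.sum_pair hAB] at heq
      have hA := hRT A (by simp [hR])
      have hB := hRT B (by simp [hR])
      obtain ⟨f, hf, hNA, hiA, -, wA⟩ := S.weight hA
      obtain ⟨f', hf', hNB, hiB, -, wB⟩ := S.weight hB
      obtain ⟨a, ha⟩ := split hA
      obtain ⟨b, hb⟩ := split hB
      have key : ∀ {A B : Subgroup P} {a b : ℕ}, B ∈ S.T → Nat.card A = a + 2 → Nat.card B = b + 2 →
          Nat.card (normalizer (A : Set P)) = 1 * Nat.card A →
          Nat.card (normalizer (B : Set P)) = 2 * Nat.card B →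
          (a = 0 ∧ Nat.card P = 2 * (b + 2)) ∨ (a = 1 ∧ b = 0 ∧ Nat.card P = 12) →
          (∃ A ∈ S.T, A.index = 2 ∧ ∃ x ∉ A, x * x = 1 ∧ ∀ c ∈ A, x * c * x⁻¹ = c⁻¹) ∨
          (Nat.card P = 12 ∧ ∃ C : Subgroup P, Nat.card C = 3 ∧ Nat.card (normalizer (C : Set P)) = 3) := by
        intro A B a b hB ha hb hNA hNB h
        rcases h with ⟨-, h⟩ | ⟨rfl, -, h⟩
        · exact Or.inl ⟨B, hB, S.index_two_case hB (by omega) (by omega)⟩
        · exact Or.inr ⟨h, A, ha, by omega⟩
      rw [ha, hb, show a + 2 - 1 = a + 1 from rfl, show b + 2 - 1 = b + 1 from rfl] at heq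
      rw [ha] at hiA
      rw [hb] at hiB
      rcases hf with rfl | rfl <;> rcases hf' with rfl | rfl
      · exfalso
        have := wA rfl
        have := wB rfl
        rw [ha, hb, show a + 2 - 1 = a + 1 from rfl, show b + 2 - 1 = b + 1 from rfl] at *
        linarith
      · rcases key hB ha hb hNA hNB (arith_two (hidx A) hiA hiB heq) with h | h
        · exact Or.inr (Or.inr (Or.inl h))
        · exact Or.inr (Or.inr (Or.inr (Or.inr (Or.inl ⟨h.1, by omega, h.2⟩))))
      · rcases key hA hb ha hNB hNA (arith_two (hidx B) hiB hiA (by rw [add_comm (_ * (b + 1))]; exact heq))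
          with h | h
        · exact Or.inr (Or.inr (Or.inl h))
        · exact Or.inr (Or.inr (Or.inr (Or.inr (Or.inl ⟨h.1, by omega, h.2⟩))))
      · exfalso
        have := hidx A
        have := hidx B
        linarith
    · obtain ⟨A, B, C, hAB, hAC, hBC, hR⟩ := Finset.card_eq_three.1 h3
      rw [hR, Finset.sum_insert (by simp [hAB, hAC]), Finset.sum_pair hBC] at heq
      have hA := hRT A (by simp [hR])
      have hB := hRT B (by simp [hR])
      have hC := hRT C (by simp [hR])
      obtain ⟨a, ha, hNA, -, wA, wA'⟩ := S.weight hA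
      obtain ⟨b, hb, hNB, -, wB, wB'⟩ := S.weight hB
      obtain ⟨c, hc, hNC, -, wC, wC'⟩ := S.weight hC
      obtain rfl : a = 2 := ha.resolve_left fun h => by have := wA' h; omega
      obtain rfl : b = 2 := hb.resolve_left fun h => by have := wB' h; omega
      obtain rfl : c = 2 := hc.resolve_left fun h => by have := wC' h; omega
      suffices key : ∀ A B C, A ∈ S.T → B ∈ S.T → C ∈ S.T → B ≠ C → B ∈ R → C ∈ R →
          Nat.card (normalizer (A : Set P)) = 2 * Nat.card A →
          Nat.card (normalizer (B : Set P)) = 2 * Nat.card B →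
          Nat.card (normalizer (C : Set P)) = 2 * Nat.card C →
          Nat.card A ≤ Nat.card B → Nat.card B ≤ Nat.card C →
          Nat.card P = 1 + ((normalizer (A : Set P)).index * (Nat.card A - 1) +
            ((normalizer (B : Set P)).index * (Nat.card B - 1) +
            (normalizer (C : Set P)).index * (Nat.card C - 1))) →
          (∃ A ∈ S.T, A.index = 2 ∧ ∃ x ∉ A, x * x = 1 ∧ ∀ c ∈ A, x * c * x⁻¹ = c⁻¹) ∨
          (Nat.card P = 24 ∧ ∃ C : Subgroup P, Nat.card C = 3 ∧ Nat.card (normalizer (C : Set P)) = 6 ∧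
            centralizer (C : Set P) ≤ C) ∨
          (Nat.card P = 60 ∧ ∃ C : Subgroup P, Nat.card C = 5 ∧ Nat.card (normalizer (C : Set P)) = 10 ∧
            centralizer (C : Set P) ≤ C) by
        have mA : A ∈ R := by simp [hR]
        have mB : B ∈ R := by simp [hR]
        have mC : C ∈ R := by simp [hR]
        have fin : (∃ A ∈ S.T, A.index = 2 ∧ ∃ x ∉ A, x * x = 1 ∧ ∀ c ∈ A, x * c * x⁻¹ = c⁻¹) ∨
            (Nat.card P = 24 ∧ ∃ C : Subgroup P, Nat.card C = 3 ∧ Nat.card (normalizer (C : Set P)) = 6 ∧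
              centralizer (C : Set P) ≤ C) ∨
            (Nat.card P = 60 ∧ ∃ C : Subgroup P, Nat.card C = 5 ∧ Nat.card (normalizer (C : Set P)) = 10 ∧
              centralizer (C : Set P) ≤ C) := by
          rcases le_total (Nat.card A) (Nat.card B) with h1 | h1 <;>
            rcases le_total (Nat.card A) (Nat.card C) with h2 | h2 <;>
            rcases le_total (Nat.card B) (Nat.card C) with h3 | h3
          all_goals
            first
            | exact key A B C hA hB hC hBC mB mC hNA hNB hNC (by omega) (by omega) (by omega)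
            | exact key A C B hA hC hB hBC.symm mC mB hNA hNC hNB (by omega) (by omega) (by omega)
            | exact key B A C hB hA hC hAC mA mC hNB hNA hNC (by omega) (by omega) (by omega)
            | exact key B C A hB hC hA hAC.symm mC mA hNB hNC hNA (by omega) (by omega) (by omega)
            | exact key C A B hC hA hB hAB mA mB hNC hNA hNB (by omega) (by omega) (by omega)
            | exact key C B A hC hB hA hAB.symm mB mA hNC hNB hNA (by omega) (by omega) (by omega)
        rcases fin with h | h | h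
        · exact Or.inr (Or.inr (Or.inl h))
        · exact Or.inr (Or.inr (Or.inr (Or.inr (Or.inr (Or.inl ⟨h.1, by omega, h.2⟩)))))
        · exact Or.inr (Or.inr (Or.inr (Or.inr (Or.inr (Or.inr (Or.inl ⟨h.1, by omega, h.2⟩))))))
      intro A B C hA hB hC hne mB mC hNA hNB hNC hab hbc heq
      have hiA := (normalizer (A : Set P)).index_mul_card
      have hiB := (normalizer (B : Set P)).index_mul_card
      have hiC := (normalizer (C : Set P)).index_mul_card
      rw [hNA] at hiA
      rw [hNB] at hiB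
      rw [hNC] at hiC
      obtain ⟨a, ha⟩ := split hA
      obtain ⟨b, hb⟩ := split hB
      obtain ⟨c, hc⟩ := split hC
      rw [ha, hb, hc, show a + 2 - 1 = a + 1 from rfl, show b + 2 - 1 = b + 1 from rfl,
        show c + 2 - 1 = c + 1 from rfl] at heq
      rw [ha] at hiA hab
      rw [hb] at hiB hab hbc
      rw [hc] at hiC hbc
      rcases arith_three (by omega) (by omega) (hidx A) (hidx B) hiA hiB hiC heq with
        ⟨-, -, h⟩ | ⟨hb1, hc1, h⟩ | ⟨hb1, -, h⟩ | ⟨-, hc1, h⟩
      · exact Or.inl ⟨C, hC, S.index_two_case hC (by omega) (by omega)⟩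
      · exfalso
        haveI : Fact (Nat.Prime 3) := ⟨Nat.prime_three⟩
        exact hne (hRc B mB C mC (conj_of_card_prime (r := 3) (m := 4) h (by norm_num)
          (by omega) (by omega)))
      · exact Or.inr (Or.inl ⟨h, B, by omega, by omega, S.centralizer_le hB (by omega)⟩)
      · exact Or.inr (Or.inr ⟨h, C, by omega, by omega, S.centralizer_le hC (by omega)⟩)
  · -- `p`-elements
    obtain ⟨t, hN, htd, hkd, htor⟩ := S.sylow_data hU
    have hQ2 : 2 ≤ Nat.card ↥(S.U : Subgroup P) := ((S.U : Subgroup P).one_lt_card_iff_ne_bot).2 hU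
    obtain ⟨Q', hQ'⟩ : ∃ Q', Nat.card ↥(S.U : Subgroup P) = Q' + 2 :=
      ⟨Nat.card ↥(S.U : Subgroup P) - 2, by omega⟩
    have ht0 : 0 < t := by
      rcases Nat.eq_zero_or_pos t with h | h
      · rw [h, mul_zero] at hN
        exact absurd hN Nat.card_pos.ne'
      · exact h
    have hgk : Nat.card (Sylow p P) * (Nat.card ↥(S.U : Subgroup P) * t) = Nat.card P :=
      hN ▸ SmallSimple.card_sylow_mul S.U
    by_cases hk1 : Nat.card (Sylow p P) = 1
    · refine Or.inr (Or.inr (Or.inr (Or.inl ⟨hU, eq_top_of_index ?_⟩)))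
      rw [hN, ← hgk, hk1, one_mul]
    obtain ⟨k, hk⟩ : ∃ k, Nat.card (Sylow p P) = k := ⟨_, rfl⟩
    rw [hk] at hgk hk1 hkd heq
    have hk0 : 0 < k := hk ▸ Nat.card_pos
    have hkQ : Q' + 3 ≤ k := by
      have := Nat.le_of_dvd (by omega) hkd
      omega
    rw [hQ', show Q' + 2 - 1 = Q' + 1 from rfl] at heq htd
    rw [hQ'] at hgk
    have hS0 : ∀ T : Finset (Subgroup P),
        0 ≤ ∑ A ∈ T, (normalizer (A : Set P)).index * (Nat.card A - 1) := fun _ => Nat.zero_le _
    have hkQ0 := Nat.zero_le (k * Q')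
    by_cases ht1 : t = 1
    · subst ht1
      rcases R.eq_empty_or_nonempty with h0 | ⟨A, hAR⟩
      · rw [h0, Finset.sum_empty] at heq
        exfalso; linarith
      rw [← Finset.add_sum_erase _ _ hAR] at heq
      have hA := hRT A hAR
      obtain ⟨f, hf, hNA, hiA, wA, wA'⟩ := S.weight hA
      have hRe : R.erase A = ∅ := by
        rw [Finset.eq_empty_iff_forall_notMem]
        intro B hB
        obtain ⟨f', -, -, -, wB, -⟩ := S.weight (hRT B (Finset.mem_of_mem_erase hB))
        rw [← Finset.add_sum_erase _ _ hB] at heq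
        have := hS0 ((R.erase A).erase B)
        linarith
      rw [hRe, Finset.sum_empty, add_zero] at heq
      rcases hf with rfl | rfl
      · exfalso; have := wA' rfl; linarith
      obtain ⟨d, hd⟩ := split hA
      rw [hd, show d + 2 - 1 = d + 1 from rfl] at heq
      rw [hd] at hiA
      rcases arith_two hk0 (b := d) (show k * (1 * (Q' + 2)) = Nat.card P by linarith) hiA (by linarith)
        with ⟨-, h⟩ | ⟨hQ1, -, h⟩
      · exact Or.inr (Or.inr (Or.inl ⟨A, hA, S.index_two_case hA (by omega) (by omega)⟩))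
      · exact Or.inr (Or.inr (Or.inr (Or.inr (Or.inl
          ⟨h, by omega, (S.U : Subgroup P), by omega, by omega⟩))))
    obtain ⟨A₀, hA₀, hA₀N, hA₀t⟩ := htor (by omega)
    obtain ⟨A, hAR, hAA₀⟩ := hRall A₀ hA₀
    obtain ⟨hct, hcN⟩ := conj_card hAA₀
    rw [← Finset.add_sum_erase _ _ hAR] at heq
    have hA := hRT A hAR
    obtain ⟨f, hf, hNA, hiA, -, -⟩ := S.weight hA
    rw [show Nat.card A = t from hct.symm.trans hA₀t] at heq hNA hiA
    obtain ⟨u, rfl⟩ : ∃ u, t = u + 2 := ⟨t - 2, by omega⟩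
    rw [show u + 2 - 1 = u + 1 from rfl] at heq
    have hQ3 : 1 ≤ Q' := by
      have := Nat.le_of_dvd (by omega) htd
      omega
    have hku : k * Q' ≤ k * (Q' * (u + 1)) := Nat.mul_le_mul_left k (Nat.le_mul_of_pos_right _ (by omega))
    have hkQ1 : k ≤ k * Q' := Nat.le_mul_of_pos_right k hQ3
    rcases hf with rfl | rfl
    · exfalso
      have hi : (normalizer (A : Set P)).index = k * (Q' + 2) :=
        Nat.eq_of_mul_eq_mul_right (show 0 < 1 * (u + 2) by omega) (by rw [hiA, ← hgk]; ring)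
      rw [hi] at heq
      have := Nat.zero_le (k * u)
      rcases (R.erase A).eq_empty_or_nonempty with h0 | ⟨B, hB⟩
      · rw [h0, Finset.sum_empty] at heq
        linarith
      · obtain ⟨f', -, -, -, wB, -⟩ := S.weight (hRT B (Finset.mem_of_mem_erase hB))
        rw [← Finset.add_sum_erase _ _ hB] at heq
        have := hS0 ((R.erase A).erase B)
        linarith
    have hi2 : 2 * (normalizer (A : Set P)).index = k * (Q' + 2) :=
      Nat.eq_of_mul_eq_mul_right (show 0 < u + 2 by omega) (by linarith)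
    rcases (R.erase A).eq_empty_or_nonempty with h0 | ⟨B, hB⟩
    · exfalso
      rw [h0, Finset.sum_empty] at heq
      have := Nat.zero_le (k * u)
      linarith
    rw [← Finset.add_sum_erase _ _ hB] at heq
    obtain ⟨f', hf', hNB, hiB, wB, wB'⟩ := S.weight (hRT B (Finset.mem_of_mem_erase hB))
    have hBT := hRT B (Finset.mem_of_mem_erase hB)
    have hRe : (R.erase A).erase B = ∅ := by
      rw [Finset.eq_empty_iff_forall_notMem]
      intro C hC
      obtain ⟨f'', -, -, -, wC, -⟩ :=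
        S.weight (hRT C (Finset.mem_of_mem_erase (Finset.mem_of_mem_erase hC)))
      rw [← Finset.add_sum_erase _ _ hC] at heq
      have := hS0 (((R.erase A).erase B).erase C)
      linarith
    rw [hRe, Finset.sum_empty, add_zero] at heq
    rcases hf' with rfl | rfl
    · exfalso; have := wB' rfl; linarith
    obtain ⟨e, he⟩ := split hBT
    rw [he] at hiB hNB
    rw [he, show e + 2 - 1 = e + 1 from rfl] at heq
    -- the equation between `k` and `d = e + 2`
    have hj : 2 * (normalizer (B : Set P)).index = 2 + k * Q' := by linarith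
    have main : (e + 2) * (2 + k * Q') = k * ((Q' + 2) * (u + 2)) := by
      rw [← hj, hgk, ← hiB]; ring
    obtain ⟨m, hm⟩ := hkd
    obtain ⟨s, hs⟩ := htd
    rw [hQ'] at hm
    have hkm : k = (Q' + 2) * m + 1 := by clear * - hm hk0; omega
    rcases Nat.lt_or_ge Q' 2 with hQlt | hQge
    · obtain rfl : Q' = 1 := by omega
      obtain rfl : u = 0 := by
        have := Nat.le_of_dvd two_pos (show u + 2 ∣ 2 from ⟨s, hs⟩)
        omega
      rcases arith_three_sylow (k := k) (e := e) (m := m) hkm hkQ (by linarith) with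
        ⟨rfl, rfl⟩ | ⟨rfl, rfl⟩
      · exact Or.inr (Or.inr (Or.inr (Or.inr (Or.inr (Or.inl ⟨by omega, by omega, (S.U : Subgroup P), hQ',
          by rw [hN]; omega, fun x hx => by
            obtain ⟨y, hy, hy1⟩ := (S.U : Subgroup P).bot_or_exists_ne_one.resolve_left hU
            exact S.free y hy hy1 x (SmallSimple.centralizer_le_normalizer _ hx)
              (mem_centralizer_iff.1 hx y hy).symm⟩)))))
      · exact Or.inr (Or.inr (Or.inr (Or.inr (Or.inr (Or.inr (Or.inl
          ⟨by omega, by omega, B, by omega, by omega, S.centralizer_le hBT (by omega)⟩))))))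
    obtain ⟨hk', hs'⟩ := arith_big (d := e + 2) (Q := Q' + 2) (t := u + 2) (k := k) (m := m) (s := s)
      (by omega) hkm hkQ (by omega) main
    refine Or.inr (Or.inr (Or.inr (Or.inr (Or.inr (Or.inr (Or.inr ⟨u + 2, by omega, ?_, hN, by omega,
      A₀, hA₀, hA₀N, hA₀t, ?_⟩))))))
    · rcases hs' with rfl | rfl
      · exact Or.inl (by omega)
      · exact Or.inr (by omega)
    · have h1 := (normalizer (A₀ : Set P)).index_mul_card
      rw [hcN, ← hiA] at h1
      exact Nat.eq_of_mul_eq_mul_left (hidx A) h1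

end Shape

end Cfsg.Agent.SL2Sub
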