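import Cfsg.Agent.Lib.SL2.Psl
import Cfsg.Agent.Lib.SL2.Borel
import Cfsg.Agent.Lib.SL2.PartitionClass

/-!
# A finite subgroup of `PSL(2, q)` is partitioned by tori and Sylow `p`-subgroups
-/

set_option autoImplicit false
set_option linter.unusedSectionVars false

namespace Cfsg.Agent.SL2

open Matrix

variable {F : Type*} [Field F]

local notation "G" => Matrix.SpecialLinearGroup (Fin 2) F
local notation "M2" => Matrix (Fin 2) (Fin 2) F
local notation "PS" => Matrix.ProjectiveSpecialLinearGroup (Fin 2) F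

theorem neg_one_mem_cent (g : G) : (-1 : G) ∈ cent g := mem_cent.2 (by simp)

/-- The torus of `PSL(2, q)` defined by `g`. -/
def torus (g : G) : Subgroup PS := (cent g).map π

theorem pi_mem_torus {g s : G} : π s ∈ torus g ↔ s ∈ cent g := by
  refine ⟨?_, fun h => ⟨s, h, rfl⟩⟩
  rintro ⟨c, hc, hcs⟩
  rcases π_eq_iff.1 hcs with h | h
  · exact h ▸ hc
  · rw [h, show -c = (-1 : G) * c by simp]
    exact mul_mem (neg_one_mem_cent g) hc

theorem torus_conj (g r : G) (y : PS) :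
    y ∈ torus (r * g * r⁻¹) ↔ (π r)⁻¹ * y * π r ∈ torus g := by
  obtain ⟨s, rfl⟩ := π_surjective y
  rw [← map_inv, ← map_mul, ← map_mul, pi_mem_torus, pi_mem_torus, cent_conj]

theorem isCyclic_torus [Finite F] {g : G} (ht : tr g ^ 2 ≠ 4) : IsCyclic (torus g) := by
  haveI := isCyclic_cent ht
  exact isCyclic_of_surjective ((π (F := F)).subgroupMap (cent g)) (π.subgroupMap_surjective _)

theorem torus_eq_of_mem {g g' : G} (hg : ¬ Scal g) (hg' : ¬ Scal g') {y : PS} (hy : y ≠ 1)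
    (h : y ∈ torus g) (h' : y ∈ torus g') : torus g = torus g' := by
  obtain ⟨s, rfl⟩ := π_surjective y
  have hs : ¬ Scal s := fun e => hy (π_eq_one.2 e)
  rw [torus, torus, ← cent_eq hg (pi_mem_torus.1 h) hs, ← cent_eq hg' (pi_mem_torus.1 h') hs]

/-- The upper unitriangular subgroup of `PSL(2, q)`. -/
def W0 : Subgroup PS where
  carrier := {y | ∃ b : F, π (uu b) = y}
  one_mem' := ⟨0, by rw [uu_zero, map_one]⟩
  mul_mem' := by
    rintro _ _ ⟨a, rfl⟩ ⟨b, rfl⟩
    exact ⟨a + b, by rw [← uu_mul, map_mul]⟩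
  inv_mem' := by
    rintro _ ⟨a, rfl⟩
    exact ⟨-a, eq_inv_of_mul_eq_one_left (by rw [← map_mul, uu_mul, neg_add_cancel, uu_zero, map_one])⟩

/-- The upper triangular subgroup of `SL(2, q)`. -/
def upperB : Subgroup G where
  carrier := {s | (s : M2) 1 0 = 0}
  one_mem' := by simp
  mul_mem' := by
    intro a b ha hb
    show ((a * b : G) : M2) 1 0 = 0
    rw [Matrix.SpecialLinearGroup.coe_mul, Matrix.mul_apply, Fin.sum_univ_two]
    rw [show (a : M2) 1 0 = 0 from ha, show (b : M2) 1 0 = 0 from hb]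
    ring
  inv_mem' := by
    intro a ha
    show ((a⁻¹ : G) : M2) 1 0 = 0
    rw [coe_inv']
    simp [show (a : M2) 1 0 = 0 from ha]

/-- The Borel subgroup of `PSL(2, q)`. -/
def B0 : Subgroup PS := (upperB (F := F)).map π

theorem pi_mem_B0 {s : G} : π s ∈ (B0 : Subgroup PS) ↔ (s : M2) 1 0 = 0 := by
  refine ⟨?_, fun h => ⟨s, h, rfl⟩⟩
  rintro ⟨c, hc, hcs⟩
  have hc' : (c : M2) 1 0 = 0 := hc
  rcases π_eq_iff.1 hcs with h | h <;> rw [h]
  · exact hc'
  · simp [hc']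

theorem W0_le_B0 : (W0 : Subgroup PS) ≤ B0 := by
  rintro _ ⟨b, rfl⟩
  exact pi_mem_B0.2 (by simp [uu])

theorem pi_upper_mem_W0 {s : G} (h : (s : M2) 1 0 = 0) (h2 : ((s : M2) 0 0) ^ 2 = 1) :
    π s ∈ (W0 : Subgroup PS) := by
  obtain ⟨-, -, h11⟩ := upper_root h
  rcases sq_eq_one_iff.1 h2 with e | e
  · refine ⟨(s : M2) 0 1, ?_⟩
    congr 1
    apply ext4 <;> simp [uu, h, h11, e]
  · refine ⟨-(s : M2) 0 1, π_eq_iff.2 (Or.inr ?_)⟩
    have hu : ((uu (-(s : M2) 0 1) : G) : M2) = !![1, -(s : M2) 0 1; 0, 1] := rfl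
    apply ext4 <;> rw [Matrix.SpecialLinearGroup.coe_neg, hu] <;> simp [h, h11, e]

theorem commute_uu_eq {b : F} (hb : b ≠ 0) {y : PS} (h : y * π (uu b) = π (uu b) * y) :
    y ∈ (W0 : Subgroup PS) := by
  obtain ⟨s, rfl⟩ := π_surjective y
  rw [← map_mul, ← map_mul] at h
  have hdet := det_eq s
  have e : ((s * uu b : G) : M2) = ((uu b * s : G) : M2) ∨
      ((s * uu b : G) : M2) = -((uu b * s : G) : M2) := by
    rcases π_eq_iff.1 h.symm with e | e
    · left; rw [e]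
    · right; rw [e, Matrix.SpecialLinearGroup.coe_neg]
  rw [Matrix.SpecialLinearGroup.coe_mul, Matrix.SpecialLinearGroup.coe_mul] at e
  have h10 : (s : M2) 1 0 = 0 ∧ (s : M2) 0 0 = (s : M2) 1 1 := by
    rcases e with e | e
    · have e00 := congrFun (congrFun e 0) 0
      have e01 := congrFun (congrFun e 0) 1
      simp [uu, Matrix.vecMul, dotProduct, Matrix.mul_apply, Fin.sum_univ_two] at e00 e01
      have h10 : (s : M2) 1 0 = 0 := e00.resolve_left hb
      exact ⟨h10, mul_right_cancel₀ hb (by linear_combination e01)⟩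
    · have e00 := congrFun (congrFun e 0) 0
      have e01 := congrFun (congrFun e 0) 1
      have e10 := congrFun (congrFun e 1) 0
      have e11 := congrFun (congrFun e 1) 1
      simp [uu, Matrix.vecMul, dotProduct, Matrix.mul_apply, Fin.sum_univ_two] at e00 e01 e10 e11
      by_cases h2 : (2 : F) = 0
      · have hbc : b * (s : M2) 1 0 = 0 := by
          linear_combination e00 - (s : M2) 0 0 * h2
        have h10 : (s : M2) 1 0 = 0 := (mul_eq_zero.1 hbc).resolve_left hb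
        exact ⟨h10, mul_right_cancel₀ hb (by linear_combination e01 - ((s : M2) 0 1 + b * (s : M2) 1 1) * h2)⟩
      · exfalso
        have h10 : (s : M2) 1 0 = 0 :=
          (mul_eq_zero.1 (show (2 : F) * (s : M2) 1 0 = 0 by linear_combination e10)).resolve_left h2
        have h00 : (s : M2) 0 0 = 0 :=
          (mul_eq_zero.1 (show (2 : F) * (s : M2) 0 0 = 0 by linear_combination e00 - b * h10)).resolve_left h2
        rw [h10, h00] at hdet
        simp at hdet
  refine pi_upper_mem_W0 h10.1 ?_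
  rw [h10.1, ← h10.2] at hdet
  linear_combination hdet

theorem conj_uu_upper {b : F} (hb : b ≠ 0) {y : PS} (h : y * π (uu b) * y⁻¹ ∈ (B0 : Subgroup PS)) :
    y ∈ (B0 : Subgroup PS) := by
  obtain ⟨s, rfl⟩ := π_surjective y
  rw [← π_conj, pi_mem_B0] at h
  rw [pi_mem_B0]
  rw [Matrix.SpecialLinearGroup.coe_mul, Matrix.SpecialLinearGroup.coe_mul, coe_inv'] at h
  simp [uu, tr, Matrix.mul_apply, Fin.sum_univ_two] at h
  have : (s : M2) 1 0 ^ 2 * b = 0 := by linear_combination -h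
  exact pow_eq_zero_iff two_ne_zero |>.1 ((mul_eq_zero.1 this).resolve_right hb)

theorem conj_mem_W0 {y w : PS} (hy : y ∈ (B0 : Subgroup PS)) (hw : w ∈ (W0 : Subgroup PS)) :
    y * w * y⁻¹ ∈ (W0 : Subgroup PS) := by
  obtain ⟨s, hs, rfl⟩ := hy
  obtain ⟨b, rfl⟩ := hw
  have hs' : (s : M2) 1 0 = 0 := hs
  obtain ⟨-, h0, h11⟩ := upper_root hs'
  rw [← π_conj]
  have hm : ((s * uu b * s⁻¹ : G) : M2) 1 0 = 0 := by
    rw [Matrix.SpecialLinearGroup.coe_mul, Matrix.SpecialLinearGroup.coe_mul, coe_inv']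
    simp [uu, tr, Matrix.mul_apply, Fin.sum_univ_two, hs']
  refine pi_upper_mem_W0 hm ?_
  rw [Matrix.SpecialLinearGroup.coe_mul, Matrix.SpecialLinearGroup.coe_mul, coe_inv']
  simp [uu, tr, Matrix.mul_apply, Fin.sum_univ_two, hs', h11, h0]

theorem not_semisimple_pow [Fintype F] {p : ℕ} [Fact p.Prime] [CharP F p] {s : G} (ht : tr s ^ 2 = 4) :
    π s ^ p = 1 := by
  by_cases hs : Scal s
  · rw [π_eq_one.2 hs, one_pow]
  obtain ⟨ε, b, P, hε, -, htr, -⟩ := exists_unip_conj hs ht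
  exact (Recog.PGLTwo.sl_mk_pow_eq_one_iff s p).2 ⟨_, Recog.PGLTwo.pow_char_of_double
    (a := ε) (by rw [trace_eq, htr]; ring) (by rw [s.det_coe, ← hε]; ring)⟩

theorem exists_conj_uu {p : ℕ} [Fact p.Prime] [CharP F p] [Fintype F] {x : PS} (hx : x ≠ 1) {k : ℕ}
    (hk : x ^ p ^ k = 1) : ∃ (g : PS) (b : F), b ≠ 0 ∧ g * x * g⁻¹ = π (uu b) := by
  obtain ⟨s, rfl⟩ := π_surjective x
  have hs : ¬ Scal s := fun e => hx (π_eq_one.2 e)
  have ht : tr s ^ 2 = 4 := by
    by_contra ht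
    have h1 : orderOf (π s) ∣ Nat.card (cent s) :=
      (orderOf_map_dvd π s).trans (Subgroup.orderOf_dvd_natCard _ (self_mem_cent s))
    obtain ⟨i, -, hi⟩ := (Nat.dvd_prime_pow (Fact.out : p.Prime)).1 (orderOf_dvd_of_pow_eq_one hk)
    rcases i with _ | i
    · exact hx (orderOf_eq_one_iff.1 (by rw [hi, pow_zero]))
    obtain ⟨m, hp, hq⟩ := FiniteField.card F p
    have hpq : p ∣ Fintype.card F := hq ▸ dvd_pow_self p m.ne_zero
    have hp1 : p ∣ Nat.card (cent s) := ((dvd_pow_self p i.succ_ne_zero).trans (hi ▸ h1))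
    have h2 := two_le_q (F := F)
    rcases card_cent_regular ht with ⟨-, hc, -⟩ | ⟨-, hc, -⟩ <;> rw [hc] at hp1
    · exact hp.one_lt.ne' (Nat.dvd_one.1 ((Nat.dvd_add_right hpq).1 hp1))
    · exact hp.one_lt.ne' (Nat.dvd_one.1 (by
        have := Nat.dvd_sub hpq hp1
        rwa [show Fintype.card F - (Fintype.card F - 1) = 1 by omega] at this))
  obtain ⟨ε, b, P, hε, hb, -, hP⟩ := exists_unip_conj hs ht
  have hε0 : ε ≠ 0 := fun h => by simp [h] at hε
  refine ⟨π P⁻¹, ε * b, mul_ne_zero hε0 hb, ?_⟩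
  rw [← π_conj, inv_inv]
  rcases sq_eq_one_iff.1 hε with e | e
  · congr 1
    apply Subtype.ext
    rw [hP, e]
    simp [uu]
  · rw [π_eq_iff]
    right
    apply Subtype.ext
    rw [Matrix.SpecialLinearGroup.coe_neg, hP, e]
    simp [uu]

theorem B0_exponent [Fintype F] {p : ℕ} [Fact p.Prime] [CharP F p] {x : PS} (hx : x ∈ (W0 : Subgroup PS)) :
    x ^ p = 1 := by
  obtain ⟨b, rfl⟩ := hx
  exact not_semisimple_pow (by rw [tr_uu]; norm_num)

/-- The map `s ↦ s₀₀²` on the Borel subgroup. -/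
noncomputable def borelChar : upperB (F := F) →* Fˣ where
  toFun s := Units.mk0 (((s : G) : M2) 0 0) (upper_root s.2).2.1 ^ 2
  map_one' := by ext; simp
  map_mul' a b := by
    have hb : ((b : G) : M2) 1 0 = 0 := b.2
    rw [← mul_pow]
    congr 1
    ext
    simp [Matrix.mul_apply, Fin.sum_univ_two, hb]

variable [Fintype F] {p : ℕ} [Fact p.Prime] [CharP F p]

/-- A Sylow `p`-subgroup of a subgroup of `PSL(2, q)` is, up to conjugation, its unipotent part. -/
theorem exists_conj_unip (H : Subgroup PS) (V : Sylow p H) :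
    ∃ g : PS, ∀ x : H, x ∈ (V : Subgroup H) ↔ g * x * g⁻¹ ∈ (W0 : Subgroup PS) := by
  haveI : Finite PS := Finite.of_surjective _ π_surjective
  obtain ⟨g, hle⟩ : ∃ g : PS, ∀ x ∈ (V : Subgroup H), g * x * g⁻¹ ∈ (W0 : Subgroup PS) := by
    rcases (V : Subgroup H).bot_or_nontrivial with h | h
    · exact ⟨1, fun x hx => by rw [h, Subgroup.mem_bot] at hx; simp [hx]⟩
    · haveI := h
      haveI : Nontrivial (Subgroup.center ↥(V : Subgroup H)) := V.isPGroup'.center_nontrivial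
      obtain ⟨⟨z, hz⟩, hz1⟩ := exists_ne (1 : Subgroup.center ↥(V : Subgroup H))
      obtain ⟨k, hk⟩ := V.2 z
      have hz' : ((z : H) : PS) ≠ 1 := fun e => hz1 (Subtype.ext (Subtype.ext (Subtype.ext e)))
      obtain ⟨g, b, hb, hg⟩ := exists_conj_uu (p := p) hz' (k := k)
        (by simpa using congrArg (fun v : ↥(V : Subgroup H) => ((v : H) : PS)) hk)
      refine ⟨g, fun x hx => commute_uu_eq hb ?_⟩
      have hc : (x : PS) * z = z * x :=
        congrArg (fun v : ↥(V : Subgroup H) => ((v : H) : PS)) (Subgroup.mem_center_iff.1 hz ⟨x, hx⟩)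
      rw [← hg]
      calc g * x * g⁻¹ * (g * ((z : H) : PS) * g⁻¹) = g * (x * z) * g⁻¹ := by group
        _ = g * (z * x) * g⁻¹ := by rw [hc]
        _ = g * ((z : H) : PS) * g⁻¹ * (g * x * g⁻¹) := by group
  let K : Subgroup H := ((W0 : Subgroup PS).comap (MulAut.conj g).toMonoidHom).subgroupOf H
  have hK : IsPGroup p K := fun x => ⟨1, Subtype.ext (Subtype.ext (by
    have h : g * ((x : H) : PS) * g⁻¹ ∈ (W0 : Subgroup PS) := x.2
    have := B0_exponent (p := p) h
    rw [conj_pow, conj_eq_one_iff] at this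
    simpa using this))⟩
  have hVK : (V : Subgroup H) ≤ K := fun x hx => hle x hx
  exact ⟨g, fun x => ⟨hle x, fun h => V.3 hK hVK ▸ (h : x ∈ K)⟩⟩

/-- The shape of a subgroup of `PSL(2, q)`. -/
theorem exists_shape (H : Subgroup PS) : ∃ S : SL2Sub.Shape H p,
    (∀ A ∈ S.T, ∃ g : G, tr g ^ 2 ≠ 4 ∧ A = (torus g).subgroupOf H) ∧
    ∃ g : PS, (∀ x : H, x ∈ (S.U : Subgroup H) ↔ g * x * g⁻¹ ∈ (W0 : Subgroup PS)) ∧
      ((S.U : Subgroup H) ≠ ⊥ → ∀ x : H,
        x ∈ Subgroup.normalizer ((S.U : Subgroup H) : Set H) ↔ g * x * g⁻¹ ∈ (B0 : Subgroup PS)) := by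
  classical
  haveI : Finite PS := Finite.of_surjective _ π_surjective
  obtain ⟨V⟩ : Nonempty (Sylow p H) := inferInstance
  obtain ⟨g, hg⟩ := exists_conj_unip H V
  have hN : (V : Subgroup H) ≠ ⊥ → ∀ x : H,
      x ∈ Subgroup.normalizer ((V : Subgroup H) : Set H) ↔ g * x * g⁻¹ ∈ (B0 : Subgroup PS) := by
    intro hV x
    constructor
    · intro hx
      obtain ⟨v, hv, hv1⟩ := (V : Subgroup H).bot_or_exists_ne_one.resolve_left hV
      obtain ⟨b, hb⟩ := (hg v).1 hv
      have hb0 : b ≠ 0 := by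
        rintro rfl
        rw [uu_zero, map_one, eq_comm, conj_eq_one_iff] at hb
        exact hv1 (Subtype.ext hb)
      refine conj_uu_upper hb0 ?_
      rw [hb]
      have h2 := (hg _).1 ((Subgroup.mem_normalizer_iff.1 hx v).1 hv)
      rw [show g * x * g⁻¹ * (g * v * g⁻¹) * (g * x * g⁻¹)⁻¹ = g * (x * v * (x : PS)⁻¹) * g⁻¹ by group]
      exact W0_le_B0 (by simpa using h2)
    · intro hx
      rw [Subgroup.mem_normalizer_iff]
      intro y
      rw [hg, hg]
      simp only [Subgroup.coe_mul, Subgroup.coe_inv]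
      rw [show g * (x * y * (x : PS)⁻¹) * g⁻¹ = g * x * g⁻¹ * (g * y * g⁻¹) * (g * x * g⁻¹)⁻¹ by group]
      refine ⟨conj_mem_W0 hx, fun h => ?_⟩
      have h2 := conj_mem_W0 (inv_mem hx) h
      rwa [show (g * x * g⁻¹)⁻¹ * (g * x * g⁻¹ * (g * y * g⁻¹) * (g * x * g⁻¹)⁻¹) *
        (g * x * g⁻¹)⁻¹⁻¹ = g * y * g⁻¹ by group] at h2
  let T : Set (Subgroup H) := {A | A ≠ ⊥ ∧ ∃ g : G, tr g ^ 2 ≠ 4 ∧ A = (torus g).subgroupOf H}
  have hcop : ∀ A ∈ T, ¬ p ∣ Nat.card A := by
    rintro A ⟨-, r, hr, rfl⟩ hd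
    have h1 : Nat.card ((torus r).subgroupOf H) ∣ Nat.card (cent r) := by
      have e : Nat.card ((torus r).subgroupOf H) = Nat.card ↥(torus r ⊓ H) := by
        rw [← Subgroup.inf_subgroupOf_right]
        exact Nat.card_congr (Subgroup.subgroupOfEquivOfLe inf_le_right).toEquiv
      rw [e]
      exact (Subgroup.card_dvd_of_le inf_le_left).trans (Subgroup.card_map_dvd _ π)
    obtain ⟨m, hp, hq⟩ := FiniteField.card F p
    have hpq : p ∣ Fintype.card F := hq ▸ dvd_pow_self p m.ne_zero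
    have h2 := two_le_q (F := F)
    have hp1 := hd.trans h1
    rcases card_cent_regular hr with ⟨-, hc, -⟩ | ⟨-, hc, -⟩ <;> rw [hc] at hp1
    · exact hp.one_lt.ne' (Nat.dvd_one.1 ((Nat.dvd_add_right hpq).1 hp1))
    · exact hp.one_lt.ne' (Nat.dvd_one.1 (by
        have := Nat.dvd_sub hpq hp1
        rwa [show Fintype.card F - (Fintype.card F - 1) = 1 by omega] at this))
  have hcover : ∀ x : H, x ≠ 1 → (∃ k : ℕ, x ^ p ^ k = 1) ∨ ∃ A ∈ T, x ∈ A := by
    intro x hx
    obtain ⟨s, hs⟩ := π_surjective (x : PS)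
    by_cases ht : tr s ^ 2 = 4
    · exact Or.inl ⟨1, Subtype.ext (by
        rw [pow_one, SubgroupClass.coe_pow, ← hs, not_semisimple_pow ht, Subgroup.coe_one])⟩
    · refine Or.inr ⟨(torus s).subgroupOf H, ⟨fun h => hx ?_, s, ht, rfl⟩, ?_⟩
      · rw [← Subgroup.mem_bot, ← h, Subgroup.mem_subgroupOf, ← hs]
        exact pi_mem_torus.2 (self_mem_cent s)
      · rw [Subgroup.mem_subgroupOf, ← hs]
        exact pi_mem_torus.2 (self_mem_cent s)
  have hinv : ∀ A ∈ T, ∀ x ∈ Subgroup.normalizer (A : Set H), x ∉ A →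
      ∃ r s : G, tr r ^ 2 ≠ 4 ∧ A = (torus r).subgroupOf H ∧ π s = x ∧
        s ∈ Subgroup.normalizer (cent r : Set G) ∧ s ∉ cent r := by
    rintro A ⟨hA, r, hr, rfl⟩ x hx hxA
    obtain ⟨s, hs⟩ := π_surjective (x : PS)
    obtain ⟨a, ha, ha1⟩ := ((torus r).subgroupOf H).bot_or_exists_ne_one.resolve_left hA
    obtain ⟨c, hc⟩ := π_surjective (a : PS)
    have hcs : ¬ Scal c := fun e => ha1 (Subtype.ext (hc ▸ π_eq_one.2 e))
    have hcr : c ∈ cent r := pi_mem_torus.1 (hc ▸ Subgroup.mem_subgroupOf.1 ha)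
    have hscs : s * c * s⁻¹ ∈ cent r := by
      apply pi_mem_torus.1
      rw [π_conj, hs, hc]
      exact Subgroup.mem_subgroupOf.1 ((Subgroup.mem_normalizer_iff.1 hx a).1 ha)
    refine ⟨r, s, hr, rfl, hs, ?_, fun h => hxA (by
      rw [Subgroup.mem_subgroupOf, ← hs]; exact pi_mem_torus.2 h)⟩
    rw [Subgroup.mem_normalizer_iff]
    intro y
    have hrs := scal_of_tr_sq_ne hr
    conv_rhs => rw [← cent_eq hrs hscs (not_scal_conj hcs s), cent_conj,
      show s⁻¹ * (s * y * s⁻¹) * s = y by group, cent_eq hrs hcr hcs]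
  refine ⟨{
    T := T
    U := V
    ne_bot := fun A hA => hA.1
    cyclic := ?_
    coprime := hcop
    conj := ?_
    disjoint := ?_
    cover := hcover
    invert := ?_
    index_two := ?_
    ti := ?_
    borel := ?_
    free := ?_
    torus_le := ?_ }, fun A hA => hA.2, g, hg, hN⟩
  · rintro A ⟨-, r, hr, rfl⟩
    haveI := isCyclic_torus hr
    exact isCyclic_of_injective ((H.subtype.comp ((torus r).subgroupOf H).subtype).codRestrict
      (torus r) fun a => a.2) fun a b e => Subtype.ext (Subtype.ext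
        (congrArg (fun z : torus r => (z : PS)) e))
  · rintro A ⟨hA, r, hr, rfl⟩ h
    refine ⟨fun e => hA ((Subgroup.map_eq_bot_iff_of_injective _ (MulAut.conj h).injective).1 e), ?_⟩
    obtain ⟨s, hs⟩ := π_surjective (h : PS)
    refine ⟨s * r * s⁻¹, by rwa [tr_conj], ?_⟩
    ext x
    rw [Subgroup.mem_map, Subgroup.mem_subgroupOf, torus_conj, hs]
    constructor
    · rintro ⟨y, hy, rfl⟩
      simpa [mul_assoc] using Subgroup.mem_subgroupOf.1 hy
    · intro hx
      exact ⟨h⁻¹ * x * h, Subgroup.mem_subgroupOf.2 (by simpa using hx), by simp [mul_assoc]⟩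
  · rintro A ⟨-, r, hr, rfl⟩ B ⟨-, r', hr', rfl⟩ x hx hx' hx1
    rw [torus_eq_of_mem (scal_of_tr_sq_ne hr) (scal_of_tr_sq_ne hr')
      (fun e => hx1 (Subtype.ext e)) hx hx']
  · intro A hA x hx hxA
    obtain ⟨r, s, hr, rfl, hs, hsN, hsr⟩ := hinv A hA x hx hxA
    obtain ⟨-, h2⟩ := sq_of_mem_normalizer hr hsN hsr
    refine ⟨Subtype.ext ?_, fun c hc => Subtype.ext ?_⟩
    · rw [Subgroup.coe_mul, ← hs, ← map_mul, h2, π_neg, map_one, Subgroup.coe_one]
    · obtain ⟨d, hd, hdc⟩ := Subgroup.mem_subgroupOf.1 hc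
      rcases normalizer_act hr hsN with ⟨h, -⟩ | ⟨-, h⟩
      · exact absurd h hsr
      simp only [Subgroup.coe_mul, Subgroup.coe_inv]
      rw [← hs, ← hdc, ← π_conj, h d hd, map_inv]
  · intro A hA x hx y hy hxA hyA
    obtain ⟨r, s, hr, hAe, hs, hsN, hsr⟩ := hinv A hA x hx hxA
    obtain ⟨r', s', hr', hAe', hs', hsN', hsr'⟩ := hinv A hA y hy hyA
    have hcent : cent r' = cent r := by
      obtain ⟨a, ha, ha1⟩ := A.bot_or_exists_ne_one.resolve_left hA.1
      obtain ⟨c, hc⟩ := π_surjective (a : PS)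
      have hcs : ¬ Scal c := fun e => ha1 (Subtype.ext (hc ▸ π_eq_one.2 e))
      have h1 : c ∈ cent r := pi_mem_torus.1 (hc ▸ Subgroup.mem_subgroupOf.1 (hAe ▸ ha))
      have h2 : c ∈ cent r' := pi_mem_torus.1 (hc ▸ Subgroup.mem_subgroupOf.1 (hAe' ▸ ha))
      rw [← cent_eq (scal_of_tr_sq_ne hr') h2 hcs, cent_eq (scal_of_tr_sq_ne hr) h1 hcs]
    rw [hcent] at hsN' hsr'
    obtain ⟨e1, -⟩ := sq_of_mem_normalizer hr hsN hsr
    obtain ⟨e2, -⟩ := sq_of_mem_normalizer hr hsN' hsr'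
    rw [hAe, Subgroup.mem_subgroupOf, Subgroup.coe_mul, ← hs, ← hs', ← map_mul, pi_mem_torus, mem_cent]
    have e3 : s * s' * r * (s * s')⁻¹ = r := by
      rw [show s * s' * r * (s * s')⁻¹ = s * (s' * r * s'⁻¹) * s⁻¹ by group, e2,
        show s * r⁻¹ * s⁻¹ = (s * r * s⁻¹)⁻¹ by group, e1, inv_inv]
    exact (mul_inv_eq_iff_eq_mul.1 e3).symm
  · intro W x hxV hxW hx1
    haveI : Nontrivial ↥(W : Subgroup H) :=
      ⟨⟨x, hxW⟩, 1, fun e => hx1 (congrArg Subtype.val e)⟩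
    haveI : Nontrivial (Subgroup.center ↥(W : Subgroup H)) := W.isPGroup'.center_nontrivial
    obtain ⟨⟨z, hz⟩, hz1⟩ := exists_ne (1 : Subgroup.center ↥(W : Subgroup H))
    obtain ⟨b, hb⟩ := (hg x).1 hxV
    have hb0 : b ≠ 0 := by
      rintro rfl
      rw [uu_zero, map_one, eq_comm, conj_eq_one_iff] at hb
      exact hx1 (Subtype.ext hb)
    have hzV : g * ((z : H) : PS) * g⁻¹ ∈ (W0 : Subgroup PS) := by
      refine commute_uu_eq hb0 ?_
      have hc : (x : PS) * z = z * x :=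
        congrArg (fun v : ↥(W : Subgroup H) => ((v : H) : PS)) (Subgroup.mem_center_iff.1 hz ⟨x, hxW⟩)
      rw [hb]
      calc g * ((z : H) : PS) * g⁻¹ * (g * x * g⁻¹) = g * (z * x) * g⁻¹ := by group
        _ = g * (x * z) * g⁻¹ := by rw [hc]
        _ = g * x * g⁻¹ * (g * ((z : H) : PS) * g⁻¹) := by group
    obtain ⟨b', hb'⟩ := hzV
    have hb0' : b' ≠ 0 := by
      rintro rfl
      rw [uu_zero, map_one, eq_comm, conj_eq_one_iff] at hb'
      exact hz1 (Subtype.ext (Subtype.ext (Subtype.ext hb')))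
    refine (Sylow.ext (W.3 V.2 fun v hv => (hg v).2 (commute_uu_eq hb0' ?_))).symm ▸ rfl
    have hc : (v : PS) * z = z * v :=
      congrArg (fun u : ↥(W : Subgroup H) => ((u : H) : PS)) (Subgroup.mem_center_iff.1 hz ⟨v, hv⟩)
    rw [hb']
    calc g * v * g⁻¹ * (g * ((z : H) : PS) * g⁻¹) = g * (v * z) * g⁻¹ := by group
      _ = g * (z * v) * g⁻¹ := by rw [hc]
      _ = g * ((z : H) : PS) * g⁻¹ * (g * v * g⁻¹) := by group
  · intro hU
    let f : Subgroup.normalizer ((V : Subgroup H) : Set H) →* PS :=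
      (MulAut.conj g).toMonoidHom.comp (H.subtype.comp (Subgroup.normalizer ((V : Subgroup H) : Set H)).subtype)
    have hf : ∀ x, f x = g * ((x : H) : PS) * g⁻¹ := fun x => rfl
    have hlift : ∀ x, ∃ s : upperB (F := F), π (s : G) = f x := fun x => by
      obtain ⟨s, hs, he⟩ := (hN hU x.1).1 x.2
      exact ⟨⟨s, hs⟩, he⟩
    choose l hl using hlift
    have hwd : ∀ s s' : upperB (F := F), π (s : G) = π (s' : G) → borelChar s = borelChar s' := by
      intro s s' e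
      rcases π_eq_iff.1 e with e | e <;>
        · apply Units.ext
          simp [borelChar, e]
    let χ : Subgroup.normalizer ((V : Subgroup H) : Set H) →* Fˣ := MonoidHom.mk' (fun x => borelChar (l x))
      fun a b => by
        rw [← map_mul]
        exact hwd _ _ (by rw [Subgroup.coe_mul, map_mul, hl, hl, hl, map_mul])
    have hker : ∀ x, χ x = 1 → (x : H) ∈ (V : Subgroup H) := by
      intro x hx
      rw [hg, ← hf, ← hl]
      refine pi_upper_mem_W0 (l x).2 ?_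
      have := congrArg Units.val hx
      simpa [χ, borelChar] using this
    by_cases htriv : ∀ y, χ y = 1
    · exact ⟨1, one_mem _, fun hp => by
        rw [orderOf_one] at hp
        exact (Fact.out : p.Prime).one_lt.ne' (Nat.dvd_one.1 hp),
        fun x hx => Subgroup.mem_sup_left (hker ⟨x, hx⟩ (htriv _))⟩
    obtain ⟨⟨u, c, hcu⟩, hc⟩ := IsCyclic.exists_generator (α := χ.range)
    have hgen : ∀ y, ∃ i : ℤ, χ c ^ i = χ y := fun y => by
      obtain ⟨i, hi⟩ := Subgroup.mem_zpowers_iff.1 (hc ⟨χ y, y, rfl⟩)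
      exact ⟨i, by rw [hcu]; simpa using congrArg Subtype.val hi⟩
    refine ⟨c, c.2, fun hp => ?_, fun x hx => ?_⟩
    · have hc1 : (c : H) ≠ 1 := fun e => by
        rw [e, orderOf_one] at hp
        exact (Fact.out : p.Prime).one_lt.ne' (Nat.dvd_one.1 hp)
      rcases hcover (c : H) hc1 with ⟨k, hk⟩ | ⟨A, hA, hcA⟩
      · have hu : χ c ^ p ^ k = 1 := by
          rw [← map_pow, show c ^ p ^ k = 1 from Subtype.ext hk, map_one]
        obtain ⟨m, hm, hq⟩ := FiniteField.card F p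
        have h1 : orderOf (χ c) ∣ Fintype.card Fˣ := orderOf_dvd_card
        rw [Fintype.card_units, hq] at h1
        have h2 : (p ^ k).Coprime (p ^ (m : ℕ) - 1) := by
          refine Nat.Coprime.pow_left k ((Nat.Prime.coprime_iff_not_dvd hm).2 fun hd => ?_)
          have h3 := Nat.dvd_sub (dvd_pow_self p m.ne_zero) hd
          have : 0 < p ^ (m : ℕ) := pow_pos hm.pos _
          rw [show p ^ (m : ℕ) - (p ^ (m : ℕ) - 1) = 1 by omega] at h3
          exact hm.one_lt.ne' (Nat.dvd_one.1 h3)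
        have h3 := orderOf_eq_one_iff.1 (Nat.eq_one_of_dvd_coprimes h2 (orderOf_dvd_of_pow_eq_one hu) h1)
        refine htriv fun y => ?_
        obtain ⟨i, hi⟩ := hgen y
        rw [← hi, h3, _root_.one_zpow]
      · exact hcop A hA (hp.trans (Subgroup.orderOf_dvd_natCard _ hcA))
    · obtain ⟨i, hi'⟩ := hgen ⟨x, hx⟩
      have : χ (⟨x, hx⟩ * (c ^ i)⁻¹) = 1 := by rw [map_mul, map_inv, map_zpow, hi', mul_inv_cancel]
      have h5 := hker _ this
      rw [show x = x * ((c : H) ^ i)⁻¹ * (c : H) ^ i by group]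
      exact mul_mem (Subgroup.mem_sup_left (by simpa using h5))
        (Subgroup.mem_sup_right (zpow_mem (Subgroup.mem_zpowers _) i))
  · intro x hx hx1 y hy e
    rw [hg]
    obtain ⟨b, hb⟩ := (hg x).1 hx
    have hb0 : b ≠ 0 := by
      rintro rfl
      rw [uu_zero, map_one, eq_comm, conj_eq_one_iff] at hb
      exact hx1 (Subtype.ext hb)
    refine commute_uu_eq hb0 ?_
    have e' : (y : PS) * x = x * y := congrArg Subtype.val e
    rw [hb]
    calc g * y * g⁻¹ * (g * x * g⁻¹) = g * (y * x) * g⁻¹ := by group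
      _ = g * (x * y) * g⁻¹ := by rw [e']
      _ = g * x * g⁻¹ * (g * y * g⁻¹) := by group
  · rintro hU A ⟨-, r, hr, rfl⟩ x hx hx1 hxN y hy
    rw [hN hU] at hxN ⊢
    obtain ⟨P, rfl⟩ := π_surjective g
    obtain ⟨s, hs, hsx⟩ := Subgroup.mem_subgroupOf.1 hx
    obtain ⟨c, hc, hcy⟩ := Subgroup.mem_subgroupOf.1 hy
    have hss : ¬ Scal s := fun e => hx1 (Subtype.ext (hsx ▸ π_eq_one.2 e))
    have hcs : c ∈ cent s := by rw [cent_eq (scal_of_tr_sq_ne hr) hs hss]; exact hc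
    obtain ⟨u, v, huv⟩ := (mem_cent_iff hss).1 hcs
    rw [← hsx, ← π_conj, pi_mem_B0] at hxN
    rw [← hcy, ← π_conj, pi_mem_B0, conj_lin huv]
    simp only [Matrix.add_apply, Matrix.smul_apply, hxN]
    simp

end Cfsg.Agent.SL2
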