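import Cfsg.Agent.Lib.SL2.ElevenData
import Cfsg.Agent.Lib.SL2.Psl
import Cfsg.Agent.Lib.SL2.Quaternion
import Mathlib.GroupTheory.SpecificGroups.Alternating.Simple
import Mathlib.GroupTheory.GroupAction.MultipleTransitivity

/-!
# The icosahedral subgroups of `PSL(2, 11)`

There are two classes of eleven subgroups `A_5`; the action on the cosets of one of them is
2-transitive.
-/

set_option autoImplicit false
set_option linter.unusedSectionVars false

namespace Cfsg.Agent.Eleven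

open Matrix
open scoped Pointwise

instance fact_prime_eleven : Fact (Nat.Prime 11) := ⟨by norm_num⟩

/-- `SL(2, 11)`. -/
abbrev S11 : Type := Matrix.SpecialLinearGroup (Fin 2) (ZMod 11)

/-- `PSL(2, 11)`. -/
abbrev P11 : Type := Matrix.ProjectiveSpecialLinearGroup (Fin 2) (ZMod 11)

/-- Determinant. -/
def vdet (v : V) : ZMod 11 := v.1 * v.2.2.2 - v.2.1 * v.2.2.1

/-- Product. -/
def vmul (v w : V) : V :=
  (v.1 * w.1 + v.2.1 * w.2.2.1, v.1 * w.2.1 + v.2.1 * w.2.2.2,
    v.2.2.1 * w.1 + v.2.2.2 * w.2.2.1, v.2.2.1 * w.2.1 + v.2.2.2 * w.2.2.2)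

/-- Negative. -/
def vneg (v : V) : V := (-v.1, -v.2.1, -v.2.2.1, -v.2.2.2)

/-- Inverse of an element of determinant one. -/
def vinv (v : V) : V := (v.2.2.2, -v.2.1, -v.2.2.1, v.1)

/-- The identity. -/
def vone : V := (1, 0, 0, 1)

/-- An element of `SL(2, 11)` from its entries. -/
def toSL (v : V) (h : vdet v = 1) : S11 :=
  ⟨!![v.1, v.2.1; v.2.2.1, v.2.2.2], by rw [Matrix.det_fin_two_of]; exact h⟩

/-- The entries of an element of `SL(2, 11)`. -/
def ofSL (g : S11) : V :=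
  ((g : Matrix (Fin 2) (Fin 2) (ZMod 11)) 0 0, (g : Matrix (Fin 2) (Fin 2) (ZMod 11)) 0 1,
    (g : Matrix (Fin 2) (Fin 2) (ZMod 11)) 1 0, (g : Matrix (Fin 2) (Fin 2) (ZMod 11)) 1 1)

theorem vdet_ofSL (g : S11) : vdet (ofSL g) = 1 := SL2.det_eq g

theorem ofSL_toSL (v : V) (h : vdet v = 1) : ofSL (toSL v h) = v := by simp [ofSL, toSL]

theorem ofSL_injective : Function.Injective ofSL := fun g h e => by
  simp only [ofSL, Prod.mk.injEq] at e
  exact SL2.ext4 e.1 e.2.1 e.2.2.1 e.2.2.2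

theorem toSL_ofSL (g : S11) : toSL (ofSL g) (vdet_ofSL g) = g :=
  ofSL_injective (ofSL_toSL _ _)

theorem ofSL_mul (g h : S11) : ofSL (g * h) = vmul (ofSL g) (ofSL h) := by
  simp [ofSL, vmul, Matrix.SpecialLinearGroup.coe_mul, Matrix.mul_apply, Fin.sum_univ_two]

theorem ofSL_neg (g : S11) : ofSL (-g) = vneg (ofSL g) := by
  simp [ofSL, vneg, Matrix.SpecialLinearGroup.coe_neg]

theorem ofSL_inv (g : S11) : ofSL g⁻¹ = vinv (ofSL g) := by
  simp [ofSL, vinv, Matrix.SpecialLinearGroup.coe_inv, Matrix.adjugate_fin_two]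

theorem ofSL_one : ofSL 1 = vone := by simp [ofSL, vone]

/-- The class of `v` in `PSL(2, 11)`. -/
def piV (v : V) : P11 := if h : vdet v = 1 then SL2.π (toSL v h) else 1

theorem piV_ofSL (g : S11) : piV (ofSL g) = SL2.π g := by
  rw [piV, dif_pos (vdet_ofSL g), toSL_ofSL]

theorem piV_eq {v : V} (h : vdet v = 1) : piV v = SL2.π (toSL v h) := dif_pos h

theorem piV_one : piV vone = 1 := by rw [← ofSL_one, piV_ofSL, map_one]

theorem piV_vneg {v : V} (h : vdet v = 1) : piV (vneg v) = piV v := by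
  conv_lhs => rw [← ofSL_toSL v h, ← ofSL_neg, piV_ofSL, SL2.π_neg]
  rw [piV_eq h]

theorem piV_mul {v w : V} (hv : vdet v = 1) (hw : vdet w = 1) :
    piV (vmul v w) = piV v * piV w := by
  conv_lhs => rw [← ofSL_toSL v hv, ← ofSL_toSL w hw, ← ofSL_mul, piV_ofSL, map_mul]
  rw [piV_eq hv, piV_eq hw]

theorem piV_inv {v : V} (hv : vdet v = 1) : piV (vinv v) = (piV v)⁻¹ := by
  conv_lhs => rw [← ofSL_toSL v hv, ← ofSL_inv, piV_ofSL, map_inv]
  rw [piV_eq hv]

theorem vdet_vmul {v w : V} (hv : vdet v = 1) (hw : vdet w = 1) : vdet (vmul v w) = 1 := by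
  rw [← ofSL_toSL v hv, ← ofSL_toSL w hw, ← ofSL_mul]
  exact vdet_ofSL _

theorem vdet_vinv {v : V} (hv : vdet v = 1) : vdet (vinv v) = 1 := by
  rw [← ofSL_toSL v hv, ← ofSL_inv]
  exact vdet_ofSL _

theorem piV_eq_iff {v w : V} (hv : vdet v = 1) (hw : vdet w = 1) :
    piV v = piV w ↔ w = v ∨ w = vneg v := by
  rw [piV_eq hv, piV_eq hw, SL2.π_eq_iff]
  refine or_congr ?_ ?_
  · rw [← ofSL_injective.eq_iff, ofSL_toSL, ofSL_toSL]
  · rw [← ofSL_injective.eq_iff, ofSL_neg, ofSL_toSL, ofSL_toSL]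

theorem exists_piV (x : P11) : ∃ v : V, vdet v = 1 ∧ piV v = x := by
  obtain ⟨g, rfl⟩ := SL2.π_surjective x
  exact ⟨ofSL g, vdet_ofSL g, piV_ofSL g⟩

/-! ### Permutations of five letters -/

/-- The image of the involution. -/
def sA : Equiv.Perm (Fin 5) := Equiv.swap 0 1 * Equiv.swap 2 3

/-- The image of the element of order three. -/
def sB : Equiv.Perm (Fin 5) := Equiv.swap 1 4 * Equiv.swap 1 2

theorem orders_AB : orderOf sA = 2 ∧ orderOf sB = 3 ∧ orderOf (sA * sB) = 5 := by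
  haveI : Fact (Nat.Prime 5) := ⟨by norm_num⟩
  exact ⟨orderOf_eq_prime (by decide +kernel) (by decide +kernel),
    orderOf_eq_prime (by decide +kernel) (by decide +kernel),
    orderOf_eq_prime (by decide +kernel) (by decide +kernel)⟩

theorem card_A5 : Nat.card (alternatingGroup (Fin 5)) = 60 := by
  have h := two_mul_nat_card_alternatingGroup (α := Fin 5)
  rw [Nat.card_perm, Nat.card_fin] at h
  have e : Nat.factorial 5 = 120 := rfl
  omega

theorem closure_AB : Subgroup.closure ({sA, sB} : Set (Equiv.Perm (Fin 5))) =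
    alternatingGroup (Fin 5) := by
  set H := Subgroup.closure ({sA, sB} : Set (Equiv.Perm (Fin 5))) with hH
  have hle : H ≤ alternatingGroup (Fin 5) := by
    rw [hH, Subgroup.closure_le]
    rintro x (rfl | rfl) <;> rw [SetLike.mem_coe, Equiv.Perm.mem_alternatingGroup] <;>
      decide +kernel
  have hA : sA ∈ H := Subgroup.subset_closure (Or.inl rfl)
  have hB : sB ∈ H := Subgroup.subset_closure (Or.inr rfl)
  obtain ⟨o2, o3, o5⟩ := orders_AB
  have h2 : 2 ∣ Nat.card H := by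
    have := Subgroup.orderOf_dvd_natCard _ hA
    rwa [o2] at this
  have h3 : 3 ∣ Nat.card H := by
    have := Subgroup.orderOf_dvd_natCard _ hB
    rwa [o3] at this
  have h5 : 5 ∣ Nat.card H := by
    have := Subgroup.orderOf_dvd_natCard _ (mul_mem hA hB)
    rwa [o5] at this
  have hd : Nat.card H ∣ 60 := card_A5 ▸ Subgroup.card_dvd_of_le hle
  have h30 : Nat.card H = 30 ∨ Nat.card H = 60 := by
    have hle' := Nat.le_of_dvd (by norm_num) hd
    have hpos : 0 < Nat.card H := Nat.card_pos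
    have : 30 ∣ Nat.card H := by omega
    omega
  rcases h30 with h | h
  · exfalso
    set K := H.subgroupOf (alternatingGroup (Fin 5))
    have hK : Nat.card K = 30 := (Nat.card_congr (Subgroup.subgroupOfEquivOfLe hle).toEquiv).trans h
    have hidx : K.index = 2 := by
      have := K.card_mul_index
      rw [card_A5, hK] at this
      omega
    haveI : IsSimpleGroup (alternatingGroup (Fin 5)) :=
      alternatingGroup.isSimpleGroup (by rw [Nat.card_fin])
    rcases (Subgroup.normal_of_index_eq_two hidx).eq_bot_or_eq_top with e | e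
    · rw [e, Subgroup.card_bot] at hK; omega
    · rw [e, Subgroup.index_top] at hidx; omega
  · exact Subgroup.eq_of_le_of_card_ge hle (by rw [card_A5, h])

/-! ### The tables -/

/-- The table of one of the two subgroups. -/
structure Tab where
  /-- second generator -/
  B : V
  /-- the elements -/
  mats : List V
  /-- their images in `S_5` -/
  perms : List (List (Fin 5))
  /-- left multiplication by the first generator -/
  nA : List (Fin 60)
  /-- left multiplication by the second generator -/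
  nB : List (Fin 60)
  /-- elements moving the base coset to the others -/
  mv : List (Fin 60)
  /-- conjugators of the involutions -/
  cj : List (Fin 60)

/-- The first table. -/
def T1 : Tab := ⟨matB1, mats1, perms1, nextA1, nextB1, move1, toA1⟩

/-- The second table. -/
def T2 : Tab := ⟨matB2, mats2, perms2, nextA2, nextB2, move2, toA2⟩

namespace Tab

variable (T : Tab)

/-- The element with number `i`. -/
def M (i : Fin 60) : V := T.mats.getD i.val vone

/-- Its permutation. -/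
def P (i : Fin 60) (k : Fin 5) : Fin 5 := (T.perms.getD i.val []).getD k.val 0

/-- Membership of a matrix, up to sign, in the table. -/
def Mem (v : V) : Prop := ∃ i : Fin 60, T.M i = v ∨ T.M i = vneg v

/-- The translation by the upper unitriangular matrix with entry `i`. -/
def U (i : ZMod 11) : V := (1, i, 0, 1)

/-- The properties of a table that are checked by computation. -/
structure Good : Prop where
  detB : vdet T.B = 1
  cubeB : vmul T.B (vmul T.B T.B) = vone
  det : ∀ i, vdet (T.M i) = 1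
  zero : T.M 0 = vone ∧ ∀ k, T.P 0 k = k
  stepA : ∀ i, (vmul matA (T.M i) = T.M (T.nA.getD i.val 0) ∨
      vmul matA (T.M i) = vneg (T.M (T.nA.getD i.val 0))) ∧
    ∀ k, sA (T.P i k) = T.P (T.nA.getD i.val 0) k
  stepB : ∀ i, (vmul T.B (T.M i) = T.M (T.nB.getD i.val 0) ∨
      vmul T.B (T.M i) = vneg (T.M (T.nB.getD i.val 0))) ∧
    ∀ k, sB (T.P i k) = T.P (T.nB.getD i.val 0) k
  faith1 : ∀ i, (T.M i = vone ∨ T.M i = vneg vone) → ∀ k, T.P i k = k
  faith2 : ∀ i, (∀ k, T.P i k = k) → i = 0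
  free : ∀ i : ZMod 11, T.Mem (U i) → i = 0
  moves : ∀ i : ZMod 11, i ≠ 0 →
    T.Mem (vmul (vmul (U (-i)) (T.M (T.mv.getD i.val 0))) (U 1))
  notNormal : ¬ T.Mem (vmul (vmul (U 1) T.B) (U (-1)))
  invol : ∀ i, (T.M i).1 + (T.M i).2.2.2 = 0 →
    (vmul (vmul (T.M (T.cj.getD i.val 0)) (T.M i)) (vinv (T.M (T.cj.getD i.val 0))) = matA ∨
      vmul (vmul (T.M (T.cj.getD i.val 0)) (T.M i)) (vinv (T.M (T.cj.getD i.val 0))) = vneg matA)

end Tab

theorem vdet_U (i : ZMod 11) : vdet (Tab.U i) = 1 := by simp [vdet, Tab.U]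

theorem U_mul (i j : ZMod 11) : vmul (Tab.U i) (Tab.U j) = Tab.U (i + j) := by
  simp [vmul, Tab.U, add_comm]

theorem good_T1 : T1.Good := by
  constructor <;> (try unfold Tab.Mem) <;> decide +kernel

theorem good_T2 : T2.Good := by
  constructor <;> (try unfold Tab.Mem) <;> decide +kernel

theorem det_matA : vdet matA = 1 := by decide +kernel

theorem sq_matA : piV matA * piV matA = 1 := by
  rw [← piV_mul det_matA det_matA, show vmul matA matA = vneg vone by decide +kernel,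
    piV_vneg (by decide +kernel), piV_one]

/-- The pairs (element, permutation). -/
def graph (T : Tab) : Subgroup (P11 × Equiv.Perm (Fin 5)) :=
  Subgroup.closure {(piV matA, sA), (piV T.B, sB)}

/-- The subgroup of a table. -/
def sub (T : Tab) : Subgroup P11 := (graph T).map (MonoidHom.fst _ _)

variable {T : Tab}

theorem mem_graph (hT : T.Good) {x : P11 × Equiv.Perm (Fin 5)} (hx : x ∈ graph T) :
    ∃ i : Fin 60, x.1 = piV (T.M i) ∧ ∀ k, x.2 k = T.P i k := by
  have hA : ∀ y : P11 × Equiv.Perm (Fin 5), (∃ i, y.1 = piV (T.M i) ∧ ∀ k, y.2 k = T.P i k) →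
      ∃ i, ((piV matA, sA) * y).1 = piV (T.M i) ∧ ∀ k, ((piV matA, sA) * y).2 k = T.P i k := by
    rintro y ⟨i, h1, h2⟩
    obtain ⟨hm, hp⟩ := hT.stepA i
    refine ⟨T.nA.getD i.val 0, ?_, fun k => ?_⟩
    · rw [Prod.fst_mul, h1, ← piV_mul det_matA (hT.det i)]
      rcases hm with e | e <;> rw [e]
      exact piV_vneg (hT.det _)
    · rw [Prod.snd_mul, Equiv.Perm.mul_apply, h2, hp]
  have hB : ∀ y : P11 × Equiv.Perm (Fin 5), (∃ i, y.1 = piV (T.M i) ∧ ∀ k, y.2 k = T.P i k) →
      ∃ i, ((piV T.B, sB) * y).1 = piV (T.M i) ∧ ∀ k, ((piV T.B, sB) * y).2 k = T.P i k := by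
    rintro y ⟨i, h1, h2⟩
    obtain ⟨hm, hp⟩ := hT.stepB i
    refine ⟨T.nB.getD i.val 0, ?_, fun k => ?_⟩
    · rw [Prod.fst_mul, h1, ← piV_mul hT.detB (hT.det i)]
      rcases hm with e | e <;> rw [e]
      exact piV_vneg (hT.det _)
    · rw [Prod.snd_mul, Equiv.Perm.mul_apply, h2, hp]
  have hAinv : ((piV matA, sA) : P11 × Equiv.Perm (Fin 5))⁻¹ = (piV matA, sA) := by
    refine inv_eq_of_mul_eq_one_right (Prod.ext sq_matA ?_)
    show sA * sA = 1
    decide +kernel
  have hBinv : ((piV T.B, sB) : P11 × Equiv.Perm (Fin 5))⁻¹ = (piV T.B, sB) * (piV T.B, sB) := by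
    refine inv_eq_of_mul_eq_one_right (Prod.ext ?_ ?_)
    · show piV T.B * (piV T.B * piV T.B) = 1
      rw [← piV_mul hT.detB hT.detB, ← piV_mul hT.detB (vdet_vmul hT.detB hT.detB), hT.cubeB,
        piV_one]
    · show sB * (sB * sB) = 1
      decide +kernel
  induction hx using Subgroup.closure_induction_left with
  | one => exact ⟨0, by rw [hT.zero.1, piV_one]; rfl, fun k => (hT.zero.2 k).symm⟩
  | mul_left y hy z hz ih =>
    rcases hy with rfl | rfl
    · exact hA z ih
    · exact hB z ih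
  | inv_mul_cancel y hy z hz ih =>
    rcases hy with rfl | rfl
    · rw [hAinv]; exact hA z ih
    · rw [hBinv, mul_assoc]; exact hB _ (hB z ih)

theorem graph_eq_one_of_fst (hT : T.Good) {x : P11 × Equiv.Perm (Fin 5)} (hx : x ∈ graph T)
    (h : x.1 = 1) : x = 1 := by
  obtain ⟨i, h1, h2⟩ := mem_graph hT hx
  refine Prod.ext h ?_
  rw [h, ← piV_one, eq_comm, piV_eq_iff (hT.det i) (by decide +kernel)] at h1
  have h3 : T.M i = vone ∨ T.M i = vneg vone := by
    rcases h1 with e | e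
    · exact Or.inl e.symm
    · refine Or.inr ?_
      rw [e]
      simp [vneg]
  exact Equiv.ext fun k => (h2 k).trans (hT.faith1 i h3 k)

theorem graph_eq_one_of_snd (hT : T.Good) {x : P11 × Equiv.Perm (Fin 5)} (hx : x ∈ graph T)
    (h : x.2 = 1) : x = 1 := by
  obtain ⟨i, h1, h2⟩ := mem_graph hT hx
  have hi : i = 0 := hT.faith2 i fun k => by rw [← h2 k, h]; rfl
  subst hi
  exact Prod.ext (by rw [h1, hT.zero.1, piV_one]; rfl) h

theorem iso_A5 (hT : T.Good) : Nonempty (sub T ≃* alternatingGroup (Fin 5)) := by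
  let f1 : graph T →* P11 := (MonoidHom.fst _ _).comp (graph T).subtype
  let f2 : graph T →* Equiv.Perm (Fin 5) := (MonoidHom.snd _ _).comp (graph T).subtype
  have hf1 : Function.Injective f1 :=
    (injective_iff_map_eq_one f1).2 fun x hx => Subtype.ext (graph_eq_one_of_fst hT x.2 hx)
  have hf2 : Function.Injective f2 :=
    (injective_iff_map_eq_one f2).2 fun x hx => Subtype.ext (graph_eq_one_of_snd hT x.2 hx)
  have e1 : f1.range = sub T := by rw [MonoidHom.range_comp, Subgroup.range_subtype]; rfl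
  have e2 : f2.range = alternatingGroup (Fin 5) := by
    rw [MonoidHom.range_comp, Subgroup.range_subtype, graph, MonoidHom.map_closure,
      Set.image_pair]
    exact closure_AB
  exact ⟨((MulEquiv.subgroupCongr e1).symm.trans (MonoidHom.ofInjective hf1).symm).trans
    ((MonoidHom.ofInjective hf2).trans (MulEquiv.subgroupCongr e2))⟩

theorem card_sub (hT : T.Good) : Nat.card (sub T) = 60 := by
  obtain ⟨e⟩ := iso_A5 hT
  rw [Nat.card_congr e.toEquiv, card_A5]

theorem sub_eq (hT : T.Good) : (sub T : Set P11) = Set.range fun i : Fin 60 => piV (T.M i) := by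
  refine Set.eq_of_subset_of_ncard_le ?_ ?_ (Set.finite_range _)
  · rintro x ⟨y, hy, rfl⟩
    obtain ⟨i, h1, -⟩ := mem_graph hT hy
    exact ⟨i, h1.symm⟩
  · rw [← Nat.card_coe_set_eq (sub T : Set P11), SetLike.coe_sort_coe, card_sub hT,
      ← Set.image_univ]
    refine (Set.ncard_image_le Set.finite_univ).trans ?_
    rw [Set.ncard_univ, Nat.card_fin]

theorem piV_mem_sub (hT : T.Good) (i : Fin 60) : piV (T.M i) ∈ sub T := by
  rw [← SetLike.mem_coe, sub_eq hT]
  exact ⟨i, rfl⟩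

theorem mem_sub_iff (hT : T.Good) {v : V} (hv : vdet v = 1) : piV v ∈ sub T ↔ T.Mem v := by
  rw [← SetLike.mem_coe, sub_eq hT]
  constructor
  · rintro ⟨i, hi⟩
    have := (piV_eq_iff hv (hT.det i)).1 hi.symm
    exact ⟨i, this⟩
  · rintro ⟨i, hi⟩
    exact ⟨i, ((piV_eq_iff hv (hT.det i)).2 hi).symm⟩

theorem matA_mem (T : Tab) : piV matA ∈ sub T :=
  ⟨(piV matA, sA), Subgroup.subset_closure (Or.inl rfl), rfl⟩

theorem B_mem (T : Tab) : piV T.B ∈ sub T :=
  ⟨(piV T.B, sB), Subgroup.subset_closure (Or.inr rfl), rfl⟩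

theorem card_P11 : Nat.card P11 = 660 := by
  have h := (Subgroup.center S11).card_eq_card_quotient_mul_card_subgroup
  rw [SL2.card_G, ZMod.card] at h
  have hc : Nat.card (Subgroup.center S11) = 2 := by
    have e : ((Subgroup.center S11 : Subgroup S11) : Set S11) = {1, -1} := by
      ext g
      rw [SetLike.mem_coe, ← SL2.scal_iff_mem_center, SL2.scal_iff]
      simp
    rw [← SetLike.coe_sort_coe, e, Nat.card_coe_set_eq, Set.ncard_pair]
    exact fun h => SL2.neg_ne_self (F := ZMod 11) (by decide +kernel) 1 h.symm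
  rw [hc] at h
  show Nat.card (S11 ⧸ Subgroup.center S11) = 660
  omega

theorem index_sub (hT : T.Good) : (sub T).index = 11 := by
  have h := (sub T).card_mul_index
  rw [card_sub hT, card_P11] at h
  omega

theorem piV_U_mul (i j : ZMod 11) : piV (Tab.U i) * piV (Tab.U j) = piV (Tab.U (i + j)) := by
  rw [← piV_mul (vdet_U i) (vdet_U j), U_mul]

theorem piV_U_zero : piV (Tab.U 0) = 1 := piV_one

theorem piV_U_inv (i : ZMod 11) : (piV (Tab.U i))⁻¹ = piV (Tab.U (-i)) :=
  inv_eq_of_mul_eq_one_right (by rw [piV_U_mul, add_neg_cancel, piV_U_zero])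

/-- The upper unitriangular group is a transversal. -/
theorem coset_surjective (hT : T.Good) (x : P11) :
    ∃ i : ZMod 11, (piV (Tab.U i))⁻¹ * x ∈ sub T := by
  let f : ZMod 11 → P11 ⧸ sub T := fun i => QuotientGroup.mk (piV (Tab.U i))
  have hinj : Function.Injective f := fun i j h => by
    rw [QuotientGroup.eq, piV_U_inv, piV_U_mul, mem_sub_iff hT (vdet_U _)] at h
    exact neg_add_eq_zero.1 (hT.free _ h)
  have hbij := (Nat.bijective_iff_injective_and_card f).2 ⟨hinj, by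
    rw [Nat.card_zmod]; exact (index_sub hT).symm⟩
  obtain ⟨i, hi⟩ := hbij.surjective (QuotientGroup.mk x)
  exact ⟨i, QuotientGroup.eq.1 hi⟩

theorem exists_mover (hT : T.Good) :
    ∃ u : P11, ∀ x : P11, x ∉ sub T → ∃ h ∈ sub T, x⁻¹ * (h * u) ∈ sub T := by
  refine ⟨piV (Tab.U 1), fun x hx => ?_⟩
  obtain ⟨i, hi⟩ := coset_surjective hT x
  have hi0 : i ≠ 0 := fun e => hx (by rwa [e, piV_U_zero, inv_one, one_mul] at hi)
  refine ⟨piV (T.M (T.mv.getD i.val 0)), piV_mem_sub hT _, ?_⟩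
  have h := hT.moves i hi0
  rw [← mem_sub_iff hT (vdet_vmul (vdet_vmul (vdet_U _) (hT.det _)) (vdet_U _)),
    piV_mul (vdet_vmul (vdet_U _) (hT.det _)) (vdet_U _), piV_mul (vdet_U _) (hT.det _),
    ← piV_U_inv] at h
  have h2 := mul_mem (inv_mem hi) h
  rw [show ((piV (Tab.U i))⁻¹ * x)⁻¹ * ((piV (Tab.U i))⁻¹ * piV (T.M (T.mv.getD i.val 0)) *
    piV (Tab.U 1)) = x⁻¹ * (piV (T.M (T.mv.getD i.val 0)) * piV (Tab.U 1)) by group] at h2
  exact h2

theorem normalizer_sub (hT : T.Good) : Subgroup.normalizer (sub T : Set P11) = sub T := by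
  have hle : sub T ≤ Subgroup.normalizer (sub T : Set P11) := Subgroup.le_normalizer
  set N := Subgroup.normalizer (sub T : Set P11) with hN
  have h60 : 60 ∣ Nat.card N := card_sub hT ▸ Subgroup.card_dvd_of_le hle
  have h660 : Nat.card N ∣ 660 := card_P11 ▸ Subgroup.card_subgroup_dvd_card N
  obtain ⟨c, hc⟩ := h60
  have hc' : c ∣ 11 := Nat.dvd_of_mul_dvd_mul_left (by norm_num : 0 < 60) (hc ▸ h660)
  rcases (Nat.dvd_prime (by norm_num)).1 hc' with e | e
  · exact (Subgroup.eq_of_le_of_card_ge hle (by rw [card_sub hT, hc, e])).symm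
  · exfalso
    have htop : N = ⊤ := Subgroup.eq_top_of_card_eq N (by rw [hc, e, card_P11])
    refine hT.notNormal ?_
    have hm := (Subgroup.mem_normalizer_iff.1 (htop ▸ Subgroup.mem_top (piV (Tab.U 1)) :
      piV (Tab.U 1) ∈ N) (piV T.B)).1 (B_mem T)
    rw [piV_U_inv, ← piV_mul (vdet_U 1) hT.detB,
      ← piV_mul (vdet_vmul (vdet_U 1) hT.detB) (vdet_U _),
      mem_sub_iff hT (vdet_vmul (vdet_vmul (vdet_U 1) hT.detB) (vdet_U _))] at hm
    exact hm

/-- Elements commuting or anticommuting with `matA`. -/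
theorem centralizer_form : ∀ x y : ZMod 11,
    (vdet (x, y, -y, x) = 1 → ¬ T2.Mem (vmul (vmul (x, y, -y, x) matB1) (vinv (x, y, -y, x)))) ∧
    (vdet (x, y, y, -x) = 1 → ¬ T2.Mem (vmul (vmul (x, y, y, -x) matB1) (vinv (x, y, y, -x)))) := by
  unfold Tab.Mem
  decide +kernel

theorem not_conj : ∀ g : P11, MulAut.conj g • sub T1 ≠ sub T2 := by
  intro g hg
  have hmem : ∀ y ∈ sub T1, g * y * g⁻¹ ∈ sub T2 := fun y hy => by
    rw [← hg]
    exact Subgroup.smul_mem_pointwise_smul y (MulAut.conj g) (sub T1) hy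
  obtain ⟨v, hv, rfl⟩ := exists_piV g
  have h1 := hmem _ (matA_mem T1)
  rw [← piV_inv hv, ← piV_mul hv det_matA, ← piV_mul (vdet_vmul hv det_matA) (vdet_vinv hv),
    mem_sub_iff good_T2 (vdet_vmul (vdet_vmul hv det_matA) (vdet_vinv hv))] at h1
  obtain ⟨i, hi⟩ := h1
  have htr : (T2.M i).1 + (T2.M i).2.2.2 = 0 := by
    rcases hi with e | e <;> rw [e] <;> simp [vmul, vinv, vneg, matA] <;> ring
  have hd : vdet (T2.M (T2.cj.getD i.val 0)) = 1 := good_T2.det _
  set k := piV (T2.M (T2.cj.getD i.val 0)) with hk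
  have hkA : k * piV (T2.M i) * k⁻¹ = piV matA := by
    have h := good_T2.invol i htr
    rw [hk, ← piV_inv hd, ← piV_mul hd (good_T2.det i),
      ← piV_mul (vdet_vmul hd (good_T2.det i)) (vdet_vinv hd)]
    rcases h with e | e <;> rw [e]
    exact piV_vneg det_matA
  have hkg : (k * piV v) * piV matA * (k * piV v)⁻¹ = piV matA := by
    rw [show k * piV v * piV matA * (k * piV v)⁻¹ = k * (piV v * piV matA * (piV v)⁻¹) * k⁻¹ by group]
    have e1 : piV v * piV matA * (piV v)⁻¹ = piV (T2.M i) := by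
      rw [← piV_inv hv, ← piV_mul hv det_matA, ← piV_mul (vdet_vmul hv det_matA) (vdet_vinv hv)]
      rcases hi with e | e
      · rw [e]
      · rw [e, piV_vneg (vdet_vmul (vdet_vmul hv det_matA) (vdet_vinv hv))]
    rw [e1, hkA]
  have hkm : k ∈ sub T2 := piV_mem_sub good_T2 _
  have hB : (k * piV v) * piV matB1 * (k * piV v)⁻¹ ∈ sub T2 := by
    rw [show k * piV v * piV matB1 * (k * piV v)⁻¹ = k * (piV v * piV matB1 * (piV v)⁻¹) * k⁻¹ by group]
    exact mul_mem (mul_mem hkm (hmem _ (B_mem T1))) (inv_mem hkm)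
  obtain ⟨w, hw, hwe⟩ := exists_piV (k * piV v)
  rw [← hwe] at hkg hB
  rw [mul_inv_eq_iff_eq_mul, ← piV_mul hw det_matA, ← piV_mul det_matA hw,
    piV_eq_iff (vdet_vmul hw det_matA) (vdet_vmul det_matA hw)] at hkg
  have hd1 : vdet matB1 = 1 := good_T1.detB
  rw [← piV_inv hw, ← piV_mul hw hd1, ← piV_mul (vdet_vmul hw hd1) (vdet_vinv hw),
    mem_sub_iff good_T2 (vdet_vmul (vdet_vmul hw hd1) (vdet_vinv hw))] at hB
  obtain ⟨a, b, c, d⟩ := w
  simp only [vmul, vneg, matA, Prod.mk.injEq] at hkg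
  rw [show (10 : ZMod 11) = -1 by decide +kernel] at hkg
  rcases hkg with ⟨e1, e2, e3, e4⟩ | ⟨e1, e2, e3, e4⟩
  · have hc : c = -b := by linear_combination -e1
    have hd' : d = a := by linear_combination -e2
    subst hc hd'
    exact (centralizer_form _ _).1 hw hB
  · have hc : c = b := by linear_combination -e1
    have hd' : d = -a := by linear_combination -e2
    subst hc hd'
    exact (centralizer_form _ _).2 hw hB

/-- The matrices that commute or anticommute with `matA`, as a function. -/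
def cent24 (i : Fin 24) : V := cents.getD i.val vone

theorem cent24_spec : ∀ i : Fin 24, vdet (cent24 i) = 1 ∧
    (vmul (cent24 i) matA = vmul matA (cent24 i) ∨
      vmul (cent24 i) matA = vneg (vmul matA (cent24 i))) := by
  decide +kernel

theorem classify : ∀ x y z : ZMod 11, vdet (x, y, z, -1 - x) = 1 → (y - z = 3 ∨ y - z = -3) →
    ∃ i : Fin 24, vmul (vmul (cent24 i) (x, y, z, -1 - x)) (vinv (cent24 i)) = matB1 ∨
      vmul (vmul (cent24 i) (x, y, z, -1 - x)) (vinv (cent24 i)) = matB2 := by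
  decide +kernel

theorem tr_pow_five (C : S11) (hns : ¬ SL2.Scal C) (h : C ^ 5 = 1 ∨ C ^ 5 = -1) :
    SL2.tr C = 3 ∨ SL2.tr C = -3 ∨ SL2.tr C = 4 ∨ SL2.tr C = -4 := by
  set t := SL2.tr C with ht
  set M : Matrix (Fin 2) (Fin 2) (ZMod 11) := (C : Matrix (Fin 2) (Fin 2) (ZMod 11)) with hM
  have e2 : M * M = t • M - 1 := SL2.mul_self C
  have e3 : M * M * M = (t ^ 2 - 1) • M - t • 1 := by
    rw [e2, sub_mul, smul_mul_assoc, e2, one_mul]
    ext i j
    simp only [Matrix.sub_apply, Matrix.smul_apply, smul_eq_mul]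
    ring
  have e5 : (((C ^ 5 : S11)) : Matrix (Fin 2) (Fin 2) (ZMod 11)) =
      (t ^ 4 - 3 * t ^ 2 + 1) • M - (t ^ 3 - 2 * t) • 1 := by
    rw [Matrix.SpecialLinearGroup.coe_pow, ← hM,
      show M ^ 5 = (M * M * M) * (M * M) by simp [pow_succ, mul_assoc], e3, e2]
    simp only [sub_mul, mul_sub, smul_mul_assoc, mul_smul_comm, one_mul, mul_one, e2, smul_sub,
      smul_smul]
    ext i j
    simp only [Matrix.sub_apply, Matrix.smul_apply, smul_eq_mul]
    ring
  have hs : SL2.Scal (C ^ 5 : S11) := (SL2.scal_iff _).2 h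
  have hz : t ^ 4 - 3 * t ^ 2 + 1 = 0 := by
    by_contra hne
    obtain ⟨h01, h10, h00⟩ := hs
    rw [e5] at h01 h10 h00
    simp at h01 h10 h00
    exact hns ⟨h01.resolve_left hne, h10.resolve_left hne, h00.resolve_right hne⟩
  have key : ∀ s : ZMod 11, s ^ 4 - 3 * s ^ 2 + 1 = 0 → s = 3 ∨ s = -3 ∨ s = 4 ∨ s = -4 := by
    decide +kernel
  exact key t hz

theorem exists_gen_pairs : ∃ a b a' b' c : alternatingGroup (Fin 5),
    a ≠ 1 ∧ b ≠ 1 ∧ a * b ≠ 1 ∧ a * a = 1 ∧ b * (b * b) = 1 ∧ (a * b) ^ 5 = 1 ∧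
      a' ≠ 1 ∧ b' ≠ 1 ∧ a' * a' = 1 ∧ b' * (b' * b') = 1 ∧
      c * (a' * b') * c⁻¹ = (a * b) * (a * b) := by
  let σ : Equiv.Perm (Fin 5) := Equiv.swap 0 1
  let τ : Equiv.Perm (Fin 5) := Equiv.swap 1 4 * Equiv.swap 1 2
  refine ⟨⟨sA, ?_⟩, ⟨sB, ?_⟩, ⟨σ * sA * σ, ?_⟩, ⟨σ * sB * σ, ?_⟩, ⟨τ, ?_⟩, ?_⟩
  all_goals try (rw [Equiv.Perm.mem_alternatingGroup]; decide +kernel)
  simp only [Subtype.ext_iff, ne_eq, Subgroup.coe_mul, Subgroup.coe_one, Subgroup.coe_pow,
    Subgroup.coe_inv]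
  decide +kernel

/-- A lift of trace `-1` of an element of order three. -/
theorem exists_lift_three {b : P11} (hb1 : b ≠ 1) (hb : b * (b * b) = 1) :
    ∃ B : S11, SL2.π B = b ∧ SL2.tr B = -1 := by
  obtain ⟨B, rfl⟩ := SL2.π_surjective b
  have h3 : B * B * B = 1 ∨ B * B * B = -1 := by
    rw [← SL2.scal_iff, ← SL2.π_eq_one, map_mul, map_mul, mul_assoc]
    exact hb
  have hns : ¬ SL2.Scal B := fun h => hb1 (SL2.π_eq_one.2 h)
  obtain ⟨B', hB', h3', hns'⟩ : ∃ B' : S11, SL2.π B' = SL2.π B ∧ B' * B' * B' = 1 ∧ ¬ SL2.Scal B' := by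
    rcases h3 with h | h
    · exact ⟨B, rfl, h, hns⟩
    · refine ⟨-B, SL2.π_neg B, ?_, fun hh => hns ?_⟩
      · simp only [neg_mul, mul_neg, neg_neg, h]
      · exact SL2.π_eq_one.1 ((SL2.π_neg B).symm.trans (SL2.π_eq_one.2 hh))
  refine ⟨B', hB', ?_⟩
  set t := SL2.tr B' with ht
  set M : Matrix (Fin 2) (Fin 2) (ZMod 11) := (B' : Matrix (Fin 2) (Fin 2) (ZMod 11)) with hM
  have e : (t ^ 2 - 1) • M - t • 1 = 1 := by
    have e2 : M * M = t • M - 1 := SL2.mul_self B'
    have e1 : M * M * M = 1 := by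
      have := congrArg Subtype.val h3'
      rwa [Matrix.SpecialLinearGroup.coe_mul, Matrix.SpecialLinearGroup.coe_mul,
        Matrix.SpecialLinearGroup.coe_one] at this
    conv_rhs => rw [← e1]
    rw [e2, sub_mul, smul_mul_assoc, e2, one_mul]
    ext i j
    simp only [Matrix.sub_apply, Matrix.smul_apply, smul_eq_mul]
    ring
  have e01 := congrFun (congrFun e 0) 1
  have e10 := congrFun (congrFun e 1) 0
  have e00 := congrFun (congrFun e 0) 0
  have e11 := congrFun (congrFun e 1) 1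
  simp at e01 e10 e00 e11
  have hz : t ^ 2 - 1 = 0 := by
    by_contra hne
    exact hns' ⟨e01.resolve_left hne, e10.resolve_left hne,
      mul_left_cancel₀ hne (by linear_combination e00 - e11)⟩
  rw [hz, zero_mul, zero_sub] at e00
  rw [← e00, neg_neg]

/-- A lift of trace `0` of an involution. -/
theorem exists_lift_two {a : P11} (ha1 : a ≠ 1) (ha : a * a = 1) :
    ∃ A : S11, SL2.π A = a ∧ SL2.tr A = 0 := by
  obtain ⟨A, rfl⟩ := SL2.π_surjective a
  refine ⟨A, rfl, SL2.tr_zero_of_sq (by decide +kernel) ?_⟩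
  rcases (SL2.scal_iff _).1 (SL2.π_eq_one.1 (show SL2.π (A * A) = 1 by rw [map_mul, ha])) with h | h
  · exact absurd (SL2.π_eq_one.2 ((SL2.scal_iff A).2
      (SL2.eq_one_or_of_sq (by decide +kernel) h))) ha1
  · exact h

/-- Every pair with trace of the product `± 3` is conjugate to one of the two standard pairs. -/
theorem pair_conj {A B : S11} (hA : SL2.tr A = 0) (hB : SL2.tr B = -1)
    (hAB : SL2.tr (A * B) = 3 ∨ SL2.tr (A * B) = -3) :
    ∃ g : P11, g * SL2.π A * g⁻¹ = piV matA ∧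
      (g * SL2.π B * g⁻¹ = piV matB1 ∨ g * SL2.π B * g⁻¹ = piV matB2) := by
  set A0 := toSL matA det_matA with hA0
  have hA0t : SL2.tr A0 = 0 := by decide +kernel
  obtain ⟨P, hP⟩ := SL2.isConj_of_tr (g := A) (g' := A0) (hA.trans hA0t.symm)
    (by rw [hA]; decide +kernel)
  set B' := P * B * P⁻¹ with hB'
  have htB : SL2.tr B' = -1 := by rw [hB', SL2.tr_conj, hB]
  have htAB : SL2.tr (A0 * B') = 3 ∨ SL2.tr (A0 * B') = -3 := by
    rw [← hP, hB', show P * A * P⁻¹ * (P * B * P⁻¹) = P * (A * B) * P⁻¹ by group, SL2.tr_conj]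
    exact hAB
  obtain ⟨x, y, z, w, hv⟩ : ∃ x y z w : ZMod 11, ofSL B' = (x, y, z, w) := ⟨_, _, _, _, rfl⟩
  obtain rfl : w = -1 - x := by
    rw [SL2.tr] at htB
    simp only [ofSL, Prod.mk.injEq] at hv
    obtain ⟨h1, -, -, h4⟩ := hv
    linear_combination htB - h1 - h4
  have hd : vdet (x, y, z, -1 - x) = 1 := hv ▸ vdet_ofSL B'
  have hyz : y - z = 3 ∨ y - z = -3 := by
    have e : SL2.tr (A0 * B') = y - z := by
      simp only [ofSL, Prod.mk.injEq] at hv
      obtain ⟨h1, h2, h3, h4⟩ := hv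
      rw [SL2.tr, Matrix.SpecialLinearGroup.coe_mul, hA0]
      simp [toSL, matA, Matrix.mul_apply, Fin.sum_univ_two]
      rw [show (10 : ZMod 11) = -1 by decide +kernel]
      linear_combination -h3 + h2
    rwa [e] at htAB
  obtain ⟨i, hi⟩ := classify x y z hd hyz
  obtain ⟨hdc, hcA⟩ := cent24_spec i
  refine ⟨piV (cent24 i) * SL2.π P, ?_, ?_⟩
  · rw [show piV (cent24 i) * SL2.π P * SL2.π A * (piV (cent24 i) * SL2.π P)⁻¹ =
      piV (cent24 i) * (SL2.π P * SL2.π A * (SL2.π P)⁻¹) * (piV (cent24 i))⁻¹ by group,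
      ← SL2.π_conj, hP, hA0, ← piV_eq det_matA, mul_inv_eq_iff_eq_mul,
      ← piV_mul hdc det_matA, ← piV_mul det_matA hdc]
    rcases hcA with e | e <;> rw [e]
    exact piV_vneg (vdet_vmul det_matA hdc)
  · rw [show piV (cent24 i) * SL2.π P * SL2.π B * (piV (cent24 i) * SL2.π P)⁻¹ =
      piV (cent24 i) * (SL2.π P * SL2.π B * (SL2.π P)⁻¹) * (piV (cent24 i))⁻¹ by group,
      ← SL2.π_conj, ← hB', ← piV_ofSL, hv, ← piV_inv hdc, ← piV_mul hdc hd,
      ← piV_mul (vdet_vmul hdc hd) (vdet_vinv hdc)]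
    exact hi.imp (fun e => by rw [e]) fun e => by rw [e]

theorem conj_eq_of_gens (hT : T.Good) (L : Subgroup P11) (hL : Nat.card L = 60) {g a b : P11}
    (ha : a ∈ L) (hb : b ∈ L) (hga : g * a * g⁻¹ = piV matA) (hgb : g * b * g⁻¹ = piV T.B) :
    MulAut.conj g • L = sub T := by
  refine (Subgroup.eq_of_le_of_card_ge ?_ ?_).symm
  · rw [sub, graph, MonoidHom.map_closure, Subgroup.closure_le, Set.image_pair]
    rintro x (rfl | rfl)
    · exact hga ▸ Subgroup.smul_mem_pointwise_smul a (MulAut.conj g) L ha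
    · exact hgb ▸ Subgroup.smul_mem_pointwise_smul b (MulAut.conj g) L hb
  · rw [card_sub hT, ← Nat.card_congr (Subgroup.equivSMul (MulAut.conj g) L).toEquiv, hL]

theorem conj_cases (L : Subgroup P11) (hL : Nonempty (L ≃* alternatingGroup (Fin 5))) :
    ∃ g : P11, MulAut.conj g • L = sub T1 ∨ MulAut.conj g • L = sub T2 := by
  obtain ⟨e⟩ := hL
  have hcard : Nat.card L = 60 := by rw [Nat.card_congr e.toEquiv, card_A5]
  obtain ⟨a, b, a', b', c, ha, hb, hab, ha2, hb3, hab5, ha', hb', ha2', hb3', hc⟩ := exists_gen_pairs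
  let φ : alternatingGroup (Fin 5) →* P11 := L.subtype.comp e.symm.toMonoidHom
  have hφ : Function.Injective φ := Subtype.val_injective.comp e.symm.injective
  have hmem : ∀ u, φ u ∈ L := fun u => (e.symm u).2
  have lift2 : ∀ u, u ≠ 1 → u * u = 1 → ∃ A : S11, SL2.π A = φ u ∧ SL2.tr A = 0 := fun u h1 h2 =>
    exists_lift_two (fun h => h1 (hφ (h.trans (map_one φ).symm))) (by rw [← map_mul, h2, map_one])
  have lift3 : ∀ u, u ≠ 1 → u * (u * u) = 1 → ∃ B : S11, SL2.π B = φ u ∧ SL2.tr B = -1 :=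
    fun u h1 h2 => exists_lift_three (fun h => h1 (hφ (h.trans (map_one φ).symm)))
      (by rw [← map_mul, ← map_mul, h2, map_one])
  obtain ⟨A, hA, hAt⟩ := lift2 a ha ha2
  obtain ⟨B, hB, hBt⟩ := lift3 b hb hb3
  obtain ⟨A', hA', hAt'⟩ := lift2 a' ha' ha2'
  obtain ⟨B', hB', hBt'⟩ := lift3 b' hb' hb3'
  have hCns : ¬ SL2.Scal (A * B) := fun h => hab (hφ (by
    rw [map_mul, ← hA, ← hB, ← map_mul, SL2.π_eq_one.2 h, map_one]))
  have hC5 : (A * B) ^ 5 = 1 ∨ (A * B) ^ 5 = -1 := by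
    rw [← SL2.scal_iff, ← SL2.π_eq_one, map_pow, map_mul, hA, hB, ← map_mul, ← map_pow, hab5,
      map_one]
  have fin : ∀ (u v : alternatingGroup (Fin 5)) (U W : S11), SL2.π U = φ u → SL2.π W = φ v →
      SL2.tr U = 0 → SL2.tr W = -1 → (SL2.tr (U * W) = 3 ∨ SL2.tr (U * W) = -3) →
      ∃ g : P11, MulAut.conj g • L = sub T1 ∨ MulAut.conj g • L = sub T2 := by
    intro u v U W hU hW hUt hWt ht
    obtain ⟨g, hg1, hg2⟩ := pair_conj hUt hWt ht
    rw [hU] at hg1
    rw [hW] at hg2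
    exact ⟨g, hg2.imp (fun h => conj_eq_of_gens good_T1 L hcard (hmem u) (hmem v) hg1 h)
      fun h => conj_eq_of_gens good_T2 L hcard (hmem u) (hmem v) hg1 h⟩
  rcases tr_pow_five (A * B) hCns hC5 with h | h | h | h
  · exact fin a b A B hA hB hAt hBt (Or.inl h)
  · exact fin a b A B hA hB hAt hBt (Or.inr h)
  all_goals
    refine fin a' b' A' B' hA' hB' hAt' hBt' ?_
    obtain ⟨S, hS⟩ := SL2.π_surjective (φ c)
    have e' : SL2.π (S * (A' * B') * S⁻¹) = SL2.π ((A * B) * (A * B)) := by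
      simp only [map_mul, map_inv, hS, hA, hB, hA', hB']
      simp only [← map_mul, ← map_inv, hc]
    have e2 : SL2.tr ((A * B) * (A * B)) = SL2.tr (A * B) ^ 2 - 2 := by
      rw [SL2.tr, Matrix.SpecialLinearGroup.coe_mul, SL2.mul_self]
      simp only [Matrix.sub_apply, Matrix.smul_apply, Matrix.one_apply_eq, smul_eq_mul, SL2.tr]
      ring
    rcases SL2.π_eq_iff.1 e' with e3 | e3
    · left
      rw [← SL2.tr_conj _ S, ← e3, e2, h]
      decide +kernel
    · right
      rw [e3] at e2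
      rw [SL2.tr_neg, SL2.tr_conj, h] at e2
      rw [← neg_neg (SL2.tr (A' * B')), e2]
      decide +kernel

theorem count : Nat.card {H : Subgroup P11 // Nonempty (H ≃* alternatingGroup (Fin 5))} = 22 := by
  have orbit_card : ∀ T : Tab, T.Good →
      Nat.card {H : Subgroup P11 // ∃ g : P11, MulAut.conj g • sub T = H} = 11 := by
    intro T hT
    refine Eq.trans (Nat.card_congr (Equiv.ofBijective (Quotient.lift
      (fun g : P11 => (⟨MulAut.conj g • sub T, g, rfl⟩ :
        {H : Subgroup P11 // ∃ g : P11, MulAut.conj g • sub T = H})) fun g g' h => ?_) ⟨?_, ?_⟩)).symm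
      (index_sub hT)
    · have h := QuotientGroup.leftRel_apply.1 h
      refine Subtype.ext ?_
      show MulAut.conj g • sub T = MulAut.conj g' • sub T
      rw [show g' = g * (g⁻¹ * g') by group, map_mul, mul_smul, Subgroup.conj_smul_eq_self_of_mem h]
    · intro a b
      induction a using Quotient.inductionOn with
      | h g =>
        induction b using Quotient.inductionOn with
        | h g' =>
          intro h
          have h' : MulAut.conj g • sub T = MulAut.conj g' • sub T := congrArg Subtype.val h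
          refine Quotient.sound (QuotientGroup.leftRel_apply.2 ?_)
          rw [← SetLike.mem_coe, ← normalizer_sub hT, SetLike.mem_coe, Subgroup.mem_normalizer_iff]
          intro x
          have e : MulAut.conj (g⁻¹ * g') • sub T = sub T := by
            rw [map_mul, mul_smul, ← h', ← mul_smul, ← map_mul, inv_mul_cancel, map_one, one_smul]
          conv_rhs => rw [← e]
          exact Subgroup.smul_mem_pointwise_smul_iff.symm
    · rintro ⟨H, g, rfl⟩
      exact ⟨QuotientGroup.mk g, rfl⟩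
  set S1 := {H : Subgroup P11 | ∃ g : P11, MulAut.conj g • sub T1 = H}
  set S2 := {H : Subgroup P11 | ∃ g : P11, MulAut.conj g • sub T2 = H}
  have hdis : Disjoint S1 S2 := Set.disjoint_left.2 fun H ⟨g, hg⟩ ⟨g', hg'⟩ =>
    not_conj (g'⁻¹ * g) (by rw [map_mul, mul_smul, hg, ← hg', ← mul_smul, ← map_mul,
      inv_mul_cancel, map_one, one_smul])
  have hset : {H : Subgroup P11 | Nonempty (H ≃* alternatingGroup (Fin 5))} = S1 ∪ S2 := by
    ext H
    constructor
    · intro hH
      obtain ⟨g, hg⟩ := conj_cases H hH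
      rcases hg with h | h
      · exact Or.inl ⟨g⁻¹, by rw [← h, ← mul_smul, ← map_mul, inv_mul_cancel, map_one, one_smul]⟩
      · exact Or.inr ⟨g⁻¹, by rw [← h, ← mul_smul, ← map_mul, inv_mul_cancel, map_one, one_smul]⟩
    · rintro (⟨g, rfl⟩ | ⟨g, rfl⟩)
      · obtain ⟨e⟩ := iso_A5 good_T1
        exact ⟨(Subgroup.equivSMul (MulAut.conj g) (sub T1)).symm.trans e⟩
      · obtain ⟨e⟩ := iso_A5 good_T2
        exact ⟨(Subgroup.equivSMul (MulAut.conj g) (sub T2)).symm.trans e⟩
  show Nat.card ↥{H : Subgroup P11 | Nonempty (H ≃* alternatingGroup (Fin 5))} = 22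
  rw [hset, Nat.card_coe_set_eq, Set.ncard_union_eq hdis, ← Nat.card_coe_set_eq,
    ← Nat.card_coe_set_eq]
  exact congrArg₂ (· + ·) (orbit_card T1 good_T1) (orbit_card T2 good_T2)

/-! ### Transport to any field with eleven elements -/

/-- The isomorphism induced by an isomorphism of fields. -/
theorem exists_iso (F : Type*) [Field F] [Fintype F] (hF : Fintype.card F = 11) :
    Nonempty (P11 ≃* Matrix.ProjectiveSpecialLinearGroup (Fin 2) F) := by
  haveI : CharP F 11 := by
    obtain ⟨p, hp⟩ := CharP.exists F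
    obtain ⟨n, hpr, hn⟩ := FiniteField.card F p
    rw [hF] at hn
    have : p = 11 := by
      have hd : p ∣ 11 := hn ▸ dvd_pow_self p n.ne_zero
      exact (Nat.prime_dvd_prime_iff_eq hpr (by norm_num)).1 hd
    exact this ▸ hp
  let f : ZMod 11 ≃+* F := ZMod.ringEquiv F hF
  let e : S11 ≃* Matrix.SpecialLinearGroup (Fin 2) F :=
    MonoidHom.toMulEquiv (Matrix.SpecialLinearGroup.map f.toRingHom)
      (Matrix.SpecialLinearGroup.map f.symm.toRingHom)
      (MonoidHom.ext fun g => SL2.ext4 (f.symm_apply_apply _) (f.symm_apply_apply _)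
        (f.symm_apply_apply _) (f.symm_apply_apply _))
      (MonoidHom.ext fun g => SL2.ext4 (f.apply_symm_apply _) (f.apply_symm_apply _)
        (f.apply_symm_apply _) (f.apply_symm_apply _))
  refine ⟨QuotientGroup.congr _ _ e ?_⟩
  ext x
  rw [Subgroup.mem_map]
  simp only [Subgroup.mem_center_iff]
  constructor
  · rintro ⟨z, hz, rfl⟩ y
    have := congrArg e (hz (e.symm y))
    simpa using this
  · intro h
    refine ⟨e.symm x, fun y => ?_, e.apply_symm_apply x⟩
    have := congrArg e.symm (h (e y))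
    simpa using this

theorem two_pretransitive {G : Type*} [Group G] {H : Subgroup G} {u : G}
    (hu : ∀ x : G, x ∉ H → ∃ h ∈ H, x⁻¹ * (h * u) ∈ H) :
    MulAction.IsMultiplyPretransitive G (G ⧸ H) 2 := by
  have key : ∀ a b : G ⧸ H, a ≠ b →
      ∃ g : G, g • ((1 : G) : G ⧸ H) = a ∧ g • ((u : G) : G ⧸ H) = b := by
    intro a b hab
    obtain ⟨x, rfl⟩ := QuotientGroup.mk_surjective a
    obtain ⟨y, rfl⟩ := QuotientGroup.mk_surjective b
    obtain ⟨h, hh, hh'⟩ := hu (x⁻¹ * y) fun h => hab (QuotientGroup.eq.2 h)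
    refine ⟨x * h, ?_, ?_⟩
    · rw [MulAction.Quotient.smul_mk, QuotientGroup.eq, smul_eq_mul]
      simpa using inv_mem hh
    · rw [MulAction.Quotient.smul_mk, eq_comm, QuotientGroup.eq, smul_eq_mul]
      rwa [show y⁻¹ * (x * h * u) = (x⁻¹ * y)⁻¹ * (h * u) by group]
  rw [MulAction.is_two_pretransitive_iff]
  intro a b c d hab hcd
  obtain ⟨g, hg1, hg2⟩ := key a b hab
  obtain ⟨k, hk1, hk2⟩ := key c d hcd
  exact ⟨k * g⁻¹, by rw [← hg1, mul_smul, inv_smul_smul, hk1],
    by rw [← hg2, mul_smul, inv_smul_smul, hk2]⟩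

end Cfsg.Agent.Eleven
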