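import Mathlib.Data.ZMod.Basic
import Mathlib.Data.Fintype.Prod

/-!
# Tables for the two icosahedral subgroups of `PSL(2, 11)`

Each line lists representatives in `SL(2, 11)` of the sixty elements, their images in `S_5` and
the effect of left multiplication by the two generators.
-/

set_option autoImplicit false

namespace Cfsg.Agent.Eleven

/-- A 2 × 2 matrix over the field with 11 elements, row by row. -/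
abbrev V : Type := ZMod 11 × ZMod 11 × ZMod 11 × ZMod 11

def matA : V := (0, 10, 1, 0)

def matB1 : V := (0, 5, 2, 10)

def matB2 : V := (0, 9, 6, 10)

def mats1 : List V := [(1, 0, 0, 1), (0, 10, 1, 0), (0, 5, 2, 10), (5, 0, 10, 9),
    (9, 1, 0, 5), (10, 6, 9, 0), (1, 2, 5, 0), (6, 1, 0, 2),
    (0, 3, 7, 8), (2, 0, 10, 6), (3, 0, 8, 4), (0, 9, 6, 1),
    (4, 3, 0, 3), (2, 7, 4, 9), (6, 8, 5, 5), (3, 7, 3, 0),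
    (7, 9, 9, 7), (8, 5, 5, 6), (0, 4, 8, 3), (7, 2, 2, 7),
    (6, 6, 6, 8), (3, 3, 7, 0), (4, 0, 3, 3), (2, 4, 7, 9),
    (6, 5, 8, 5), (3, 8, 0, 4), (7, 4, 3, 5), (10, 2, 1, 8),
    (8, 7, 6, 4), (4, 4, 5, 8), (2, 1, 8, 10), (7, 3, 4, 5),
    (8, 6, 7, 4), (10, 3, 10, 2), (5, 7, 8, 7), (8, 9, 10, 10),
    (6, 3, 4, 4), (3, 1, 2, 1), (7, 6, 7, 3), (9, 3, 10, 1),
    (2, 9, 9, 8), (6, 10, 10, 4), (1, 1, 8, 9), (9, 9, 8, 2),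
    (10, 5, 4, 1), (1, 10, 9, 3), (2, 3, 2, 9), (1, 7, 6, 10),
    (6, 9, 2, 5), (7, 1, 5, 4), (3, 9, 9, 9), (7, 10, 10, 5),
    (9, 5, 5, 9), (1, 4, 4, 6), (9, 6, 6, 9), (6, 7, 7, 1),
    (6, 2, 9, 5), (7, 5, 1, 4), (8, 1, 1, 3), (1, 3, 3, 10)]

def perms1 : List (List (Fin 5)) := [[0, 1, 2, 3, 4], [1, 0, 3, 2, 4], [0, 2, 4, 3, 1], [2, 0, 3, 4, 1],
    [1, 3, 4, 2, 0], [0, 4, 1, 3, 2], [3, 1, 2, 4, 0], [4, 0, 3, 1, 2],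
    [2, 3, 1, 4, 0], [1, 4, 0, 2, 3], [3, 2, 4, 1, 0], [4, 1, 2, 0, 3],
    [3, 2, 0, 4, 1], [4, 3, 2, 1, 0], [2, 1, 0, 4, 3], [2, 3, 4, 0, 1],
    [3, 4, 1, 2, 0], [1, 2, 4, 0, 3], [3, 4, 0, 1, 2], [4, 2, 3, 0, 1],
    [3, 0, 1, 4, 2], [4, 2, 0, 1, 3], [4, 3, 1, 0, 2], [2, 4, 0, 3, 1],
    [0, 3, 4, 1, 2], [2, 4, 1, 0, 3], [3, 1, 0, 2, 4], [1, 4, 3, 0, 2],
    [3, 0, 2, 1, 4], [1, 3, 2, 0, 4], [4, 1, 0, 3, 2], [0, 3, 1, 2, 4],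
    [2, 0, 1, 3, 4], [0, 4, 2, 1, 3], [2, 1, 3, 0, 4], [3, 0, 4, 2, 1],
    [0, 2, 3, 1, 4], [4, 0, 1, 2, 3], [1, 2, 0, 3, 4], [0, 3, 2, 4, 1],
    [4, 0, 2, 3, 1], [0, 1, 4, 2, 3], [2, 1, 4, 3, 0], [0, 4, 3, 2, 1],
    [1, 0, 2, 4, 3], [1, 2, 3, 4, 0], [4, 1, 3, 2, 0], [1, 0, 4, 3, 2],
    [0, 2, 1, 4, 3], [4, 2, 1, 3, 0], [1, 4, 2, 3, 0], [0, 1, 3, 4, 2],
    [2, 0, 4, 1, 3], [2, 4, 3, 1, 0], [1, 3, 0, 4, 2], [4, 3, 0, 2, 1],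
    [3, 1, 4, 0, 2], [3, 4, 2, 0, 1], [2, 3, 0, 1, 4], [3, 2, 1, 0, 4]]

def nextA1 : List (Fin 60) := [1, 0, 4, 6, 2, 9, 3, 11, 12, 5, 15, 7,
    8, 19, 20, 10, 23, 24, 25, 13, 14, 22, 21, 16,
    17, 18, 32, 33, 34, 36, 37, 38, 26, 27, 28, 42,
    29, 30, 31, 45, 46, 47, 35, 50, 51, 39, 40, 41,
    54, 55, 43, 44, 56, 57, 48, 49, 52, 53, 59, 58]

def nextB1 : List (Fin 60) := [2, 3, 5, 7, 8, 0, 10, 1, 13, 14, 16, 17,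
    18, 4, 21, 22, 6, 25, 26, 27, 28, 9, 29, 30,
    31, 11, 12, 34, 35, 15, 38, 39, 40, 41, 19, 20,
    43, 44, 23, 24, 47, 48, 49, 51, 52, 53, 45, 32,
    33, 50, 42, 36, 37, 46, 58, 54, 59, 56, 55, 57]

def move1 : List (Fin 60) := [0, 0, 5, 7, 2, 9, 10, 15, 1, 3, 6]

def toA1 : List (Fin 60) := [0, 0, 0, 0, 0, 0, 0, 0, 0, 0, 0, 0,
    0, 2, 5, 0, 0, 0, 0, 0, 0, 0, 0, 3,
    7, 0, 0, 0, 0, 0, 0, 0, 0, 0, 0, 0,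
    0, 0, 0, 0, 0, 0, 0, 21, 10, 0, 18, 8,
    13, 14, 0, 0, 0, 0, 0, 0, 16, 17, 28, 26]

def mats2 : List V := [(1, 0, 0, 1), (0, 10, 1, 0), (0, 9, 6, 10), (9, 0, 10, 5),
    (5, 1, 0, 9), (10, 2, 5, 0), (1, 6, 9, 0), (2, 1, 0, 6),
    (0, 4, 8, 8), (6, 0, 10, 2), (4, 0, 8, 3), (0, 5, 2, 1),
    (3, 3, 0, 4), (6, 6, 3, 5), (2, 7, 4, 9), (3, 8, 4, 0),
    (6, 5, 5, 8), (7, 9, 9, 7), (0, 3, 7, 3), (8, 6, 6, 6),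
    (7, 2, 2, 7), (3, 4, 8, 0), (3, 0, 3, 4), (6, 3, 6, 5),
    (2, 4, 7, 9), (4, 8, 0, 3), (8, 5, 4, 4), (10, 10, 9, 8),
    (7, 8, 7, 5), (5, 3, 4, 7), (10, 1, 8, 2), (8, 4, 5, 4),
    (7, 7, 8, 5), (2, 3, 10, 10), (4, 6, 7, 8), (8, 1, 2, 10),
    (7, 4, 5, 3), (3, 9, 10, 1), (6, 7, 8, 4), (1, 3, 10, 9),
    (6, 1, 1, 4), (2, 2, 2, 8), (9, 1, 8, 1), (1, 5, 4, 10),
    (2, 9, 8, 9), (1, 2, 1, 3), (10, 7, 6, 1), (9, 3, 2, 2),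
    (7, 6, 10, 4), (6, 9, 2, 5), (7, 1, 1, 5), (3, 2, 2, 9),
    (6, 4, 4, 1), (9, 5, 5, 9), (1, 7, 7, 6), (9, 6, 6, 9),
    (7, 10, 6, 4), (6, 2, 9, 5), (8, 10, 10, 3), (10, 3, 3, 1)]

def perms2 : List (List (Fin 5)) := [[0, 1, 2, 3, 4], [1, 0, 3, 2, 4], [0, 2, 4, 3, 1], [2, 0, 3, 4, 1],
    [1, 3, 4, 2, 0], [0, 4, 1, 3, 2], [3, 1, 2, 4, 0], [4, 0, 3, 1, 2],
    [2, 3, 1, 4, 0], [1, 4, 0, 2, 3], [3, 2, 4, 1, 0], [4, 1, 2, 0, 3],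
    [3, 2, 0, 4, 1], [4, 3, 2, 1, 0], [2, 1, 0, 4, 3], [2, 3, 4, 0, 1],
    [3, 4, 1, 2, 0], [1, 2, 4, 0, 3], [3, 4, 0, 1, 2], [4, 2, 3, 0, 1],
    [3, 0, 1, 4, 2], [4, 2, 0, 1, 3], [4, 3, 1, 0, 2], [2, 4, 0, 3, 1],
    [0, 3, 4, 1, 2], [2, 4, 1, 0, 3], [3, 1, 0, 2, 4], [1, 4, 3, 0, 2],
    [3, 0, 2, 1, 4], [1, 3, 2, 0, 4], [4, 1, 0, 3, 2], [0, 3, 1, 2, 4],
    [2, 0, 1, 3, 4], [0, 4, 2, 1, 3], [2, 1, 3, 0, 4], [3, 0, 4, 2, 1],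
    [0, 2, 3, 1, 4], [4, 0, 1, 2, 3], [1, 2, 0, 3, 4], [0, 3, 2, 4, 1],
    [4, 0, 2, 3, 1], [0, 1, 4, 2, 3], [2, 1, 4, 3, 0], [0, 4, 3, 2, 1],
    [1, 0, 2, 4, 3], [1, 2, 3, 4, 0], [4, 1, 3, 2, 0], [1, 0, 4, 3, 2],
    [0, 2, 1, 4, 3], [4, 2, 1, 3, 0], [1, 4, 2, 3, 0], [0, 1, 3, 4, 2],
    [2, 0, 4, 1, 3], [2, 4, 3, 1, 0], [1, 3, 0, 4, 2], [4, 3, 0, 2, 1],
    [3, 1, 4, 0, 2], [3, 4, 2, 0, 1], [2, 3, 0, 1, 4], [3, 2, 1, 0, 4]]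

def nextA2 : List (Fin 60) := [1, 0, 4, 6, 2, 9, 3, 11, 12, 5, 15, 7,
    8, 19, 20, 10, 23, 24, 25, 13, 14, 22, 21, 16,
    17, 18, 32, 33, 34, 36, 37, 38, 26, 27, 28, 42,
    29, 30, 31, 45, 46, 47, 35, 50, 51, 39, 40, 41,
    54, 55, 43, 44, 56, 57, 48, 49, 52, 53, 59, 58]

def nextB2 : List (Fin 60) := [2, 3, 5, 7, 8, 0, 10, 1, 13, 14, 16, 17,
    18, 4, 21, 22, 6, 25, 26, 27, 28, 9, 29, 30,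
    31, 11, 12, 34, 35, 15, 38, 39, 40, 41, 19, 20,
    43, 44, 23, 24, 47, 48, 49, 51, 52, 53, 45, 32,
    33, 50, 42, 36, 37, 46, 58, 54, 59, 56, 55, 57]

def move2 : List (Fin 60) := [0, 0, 1, 4, 7, 11, 6, 10, 5, 3, 2]

def toA2 : List (Fin 60) := [0, 0, 0, 0, 0, 0, 0, 0, 0, 0, 0, 0,
    0, 2, 5, 0, 0, 0, 0, 0, 0, 0, 0, 3,
    7, 0, 0, 0, 0, 0, 0, 0, 0, 0, 0, 0,
    0, 0, 0, 0, 0, 0, 0, 21, 10, 0, 18, 8,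
    13, 14, 0, 0, 0, 0, 0, 0, 16, 17, 28, 26]

def cents : List V := [(0, 10, 1, 0), (0, 1, 10, 0), (1, 0, 0, 1), (3, 6, 5, 3),
    (3, 5, 6, 3), (5, 8, 3, 5), (5, 3, 8, 5), (6, 8, 3, 6),
    (6, 3, 8, 6), (8, 6, 5, 8), (8, 5, 6, 8), (10, 0, 0, 10),
    (1, 3, 3, 10), (1, 8, 8, 10), (3, 1, 1, 8), (3, 10, 10, 8),
    (4, 4, 4, 7), (4, 7, 7, 7), (7, 4, 4, 4), (7, 7, 7, 4),
    (8, 1, 1, 3), (8, 10, 10, 3), (10, 3, 3, 1), (10, 8, 8, 1)]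

end Cfsg.Agent.Eleven
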