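import Cfsg.Prelude.Def_ParabolicCharacters
import Cfsg.Prelude.Def_Characters
import Cfsg.Agent.Lib.CT.Induced
import Cfsg.Agent.Lib.CT.Integral
import Cfsg.Agent.Lib.CT.Tables
import Mathlib.LinearAlgebra.Matrix.GeneralLinearGroup.Card
import Mathlib.LinearAlgebra.Matrix.ToLin
import Mathlib.NumberTheory.MulChar.Duality

/-!
# The irreducible characters of `GL(2, q)`

Linear characters, twisted Steinberg characters, the principal series and the characters orthogonal
to all of the principal series, which have degree `q - 1`.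
-/

set_option autoImplicit false
set_option linter.unusedSectionVars false

namespace Cfsg.Agent.GL2T

open Matrix
open scoped ComplexConjugate

variable {F : Type*} [Field F]

local notation "G" => Matrix.GeneralLinearGroup (Fin 2) F
local notation "M2" => Matrix (Fin 2) (Fin 2) F

theorem ext4 {g h : G} (h00 : (g : M2) 0 0 = (h : M2) 0 0) (h01 : (g : M2) 0 1 = (h : M2) 0 1)
    (h10 : (g : M2) 1 0 = (h : M2) 1 0) (h11 : (g : M2) 1 1 = (h : M2) 1 1) : g = h := by
  apply Units.ext
  ext i j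
  fin_cases i <;> fin_cases j
  exacts [h00, h01, h10, h11]

theorem det_ne (g : G) : (g : M2) 0 0 * (g : M2) 1 1 - (g : M2) 0 1 * (g : M2) 1 0 ≠ 0 := by
  have := (Matrix.isUnit_iff_isUnit_det _).1 g.isUnit
  rw [Matrix.det_fin_two] at this
  exact this.ne_zero

/-- An invertible matrix from its entries. -/
noncomputable def mk4 (a b c d : F) (h : a * d - b * c ≠ 0) : G :=
  Matrix.GeneralLinearGroup.mkOfDetNeZero !![a, b; c, d] (by rw [Matrix.det_fin_two_of]; exact h)

@[simp] theorem coe_mk4 (a b c d : F) (h : a * d - b * c ≠ 0) :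
    (mk4 a b c d h : M2) = !![a, b; c, d] := rfl

/-- The trace. -/
def tr (g : G) : F := (g : M2) 0 0 + (g : M2) 1 1

/-- The determinant. -/
def dt (g : G) : F := (g : M2) 0 0 * (g : M2) 1 1 - (g : M2) 0 1 * (g : M2) 1 0

theorem tr_eq (g : G) : tr g = Matrix.trace (g : M2) := (Matrix.trace_fin_two _).symm

theorem dt_eq (g : G) : dt g = Matrix.det (g : M2) := (Matrix.det_fin_two _).symm

theorem tr_conj (g P : G) : tr (P * g * P⁻¹) = tr g := by
  rw [tr_eq, tr_eq, Units.val_mul, Units.val_mul, Matrix.trace_units_conj]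

theorem dt_mul (g h : G) : dt (g * h) = dt g * dt h := by
  rw [dt_eq, dt_eq, dt_eq, Units.val_mul, Matrix.det_mul]

theorem dt_ne (g : G) : dt g ≠ 0 := det_ne g

theorem dt_conj (g P : G) : dt (P * g * P⁻¹) = dt g := by
  have h1 : dt P * dt P⁻¹ = 1 := by
    rw [← dt_mul, mul_inv_cancel, dt_eq, Units.val_one, Matrix.det_one]
  rw [dt_mul, dt_mul, mul_comm (dt P) (dt g), mul_assoc, h1, mul_one]

/-- Scalar matrices. -/
def Scal (g : G) : Prop :=
  (g : M2) 0 1 = 0 ∧ (g : M2) 1 0 = 0 ∧ (g : M2) 0 0 = (g : M2) 1 1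

/-- The companion matrix of `X² - t X + d`. -/
noncomputable def comp (t : F) (d : Fˣ) : G :=
  mk4 0 (-(d : F)) 1 t (by simp)

theorem tr_comp (t : F) (d : Fˣ) : tr (comp t d) = t := by simp [tr, comp]

theorem dt_comp (t : F) (d : Fˣ) : dt (comp t d) = (d : F) := by simp [dt, comp]

theorem exists_conj_comp {g : G} (hg : ¬ Scal g) :
    ∃ P : G, P⁻¹ * g * P = comp (tr g) (Units.mk0 _ (dt_ne g)) := by
  set a := (g : M2) 0 0 with ha
  set b := (g : M2) 0 1 with hb
  set c := (g : M2) 1 0 with hc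
  set d := (g : M2) 1 1 with hd
  obtain ⟨v, w, hv⟩ : ∃ v w : F, v * (c * v + d * w) - (a * v + b * w) * w ≠ 0 := by
    by_cases h1 : c = 0
    · by_cases h2 : b = 0
      · refine ⟨1, 1, ?_⟩
        rw [h1, h2]
        intro h
        exact hg ⟨h2, h1, by linear_combination -h⟩
      · exact ⟨0, 1, by simpa using h2⟩
    · exact ⟨1, 0, by simpa using h1⟩
  refine ⟨mk4 v (a * v + b * w) w (c * v + d * w) hv, ?_⟩
  rw [mul_assoc, inv_mul_eq_iff_eq_mul]
  apply ext4 <;>
    simp [Matrix.mul_apply, Fin.sum_univ_two, comp, tr, dt, ← ha, ← hb, ← hc, ← hd] <;> ring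

theorem mem_upper {g : G} : g ∈ Cfsg.upperTriangularGL 2 F ↔ (g : M2) 1 0 = 0 := by
  constructor
  · intro h
    exact h (show (id (0 : Fin 2)) < id 1 by decide)
  · intro h i j hij
    fin_cases i <;> fin_cases j <;> first
      | exact absurd hij (by decide)
      | exact h

variable [Fintype F]

local notation "q" => Fintype.card F

theorem two_le_q : 2 ≤ q := Fintype.one_lt_card

theorem card_G : Nat.card G = (q ^ 2 - 1) * (q ^ 2 - q) := by
  rw [Matrix.card_GL_field, Fin.prod_univ_two]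
  simp

theorem card_conjClasses : Nat.card (ConjClasses G) = q ^ 2 - 1 := by
  classical
  let f : Fˣ ⊕ (F × Fˣ) → ConjClasses G := Sum.elim
    (fun a => ConjClasses.mk (mk4 (a : F) 0 0 a (by simp)))
    (fun x => ConjClasses.mk (comp x.1 x.2))
  have hcentral : ∀ (a : Fˣ) (P : G), P * mk4 (a : F) 0 0 a (by simp) * P⁻¹ = mk4 (a : F) 0 0 a (by simp) := by
    intro a P
    rw [mul_inv_eq_iff_eq_mul]
    apply ext4 <;> simp [Matrix.mul_apply, Fin.sum_univ_two, mul_comm]
  have hf : Function.Bijective f := by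
    constructor
    · rintro (a | ⟨t, d⟩) (b | ⟨t', d'⟩) h <;>
        obtain ⟨P, hP⟩ := isConj_iff.1 (ConjClasses.mk_eq_mk_iff_isConj.1 h)
      · rw [hcentral] at hP
        have := congrArg (fun x : G => (x : M2) 0 0) hP
        simp at this
        exact congrArg Sum.inl (Units.ext this)
      · rw [hcentral] at hP
        have := congrArg (fun x : G => (x : M2) 1 0) hP
        simp [comp] at this
      · rw [mul_inv_eq_iff_eq_mul, ← mul_inv_eq_iff_eq_mul.1 (hcentral b P), mul_left_cancel_iff] at hP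
        have := congrArg (fun x : G => (x : M2) 1 0) hP
        simp [comp] at this
      · have h1 := congrArg tr hP
        rw [tr_conj, tr_comp, tr_comp] at h1
        have h2 := congrArg dt hP
        rw [dt_conj, dt_comp, dt_comp] at h2
        dsimp only at h1 h2
        rw [h1, Units.ext h2]
    · intro c
      obtain ⟨g, rfl⟩ := ConjClasses.mk_surjective c
      by_cases hs : Scal g
      · have hne : (g : M2) 0 0 ≠ 0 := fun h0 => det_ne g (by rw [hs.1, h0]; ring)
        refine ⟨Sum.inl (Units.mk0 _ hne), congrArg ConjClasses.mk ?_⟩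
        apply ext4 <;> simp [hs.1, hs.2.1, hs.2.2]
      · obtain ⟨P, hP⟩ := exists_conj_comp hs
        refine ⟨Sum.inr (tr g, Units.mk0 _ (dt_ne g)), ?_⟩
        exact (ConjClasses.mk_eq_mk_iff_isConj.2 (isConj_iff.2 ⟨P⁻¹, by rw [inv_inv]; exact hP⟩)).symm
  rw [← Nat.card_congr (Equiv.ofBijective f hf), Nat.card_sum, Nat.card_prod, Nat.card_units,
    Nat.card_eq_fintype_card]
  obtain ⟨j, hj⟩ : ∃ j, q = j + 1 := ⟨q - 1, by have := two_le_q (F := F); omega⟩
  rw [hj, Nat.add_sub_cancel]
  symm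
  rw [show (j + 1) ^ 2 = (j + (j + 1) * j) + 1 by ring, Nat.add_sub_cancel]

theorem card_centralizer_diag {g : G} (h01 : (g : M2) 0 1 = 0) (h10 : (g : M2) 1 0 = 0)
    (hne : (g : M2) 0 0 ≠ (g : M2) 1 1) :
    Nat.card (Subgroup.centralizer ({g} : Set G)) = (q - 1) ^ 2 := by
  classical
  have key : ∀ h : G, h ∈ Subgroup.centralizer ({g} : Set G) ↔
      (h : M2) 0 1 = 0 ∧ (h : M2) 1 0 = 0 := by
    intro h
    rw [Subgroup.mem_centralizer_singleton_iff]
    constructor
    · intro e
      have em := congrArg (fun x : G => (x : M2)) e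
      have e01 := congrFun (congrFun em 0) 1
      have e10 := congrFun (congrFun em 1) 0
      simp [Matrix.mul_apply, Fin.sum_univ_two, h01, h10] at e01 e10
      exact ⟨by
        by_contra h0
        exact hne (mul_left_cancel₀ h0 (by linear_combination -e01)), by
        by_contra h0
        exact hne (mul_left_cancel₀ h0 (by linear_combination e10))⟩
    · rintro ⟨a, b⟩
      apply ext4 <;> simp [Matrix.mul_apply, Fin.sum_univ_two, h01, h10, a, b, mul_comm]
  have e : Subgroup.centralizer ({g} : Set G) ≃ Fˣ × Fˣ :=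
    { toFun := fun h => (Units.mk0 ((h.1 : M2) 0 0) (fun h0 => det_ne h.1 (by
          rw [h0, ((key _).1 h.2).1]; ring)),
        Units.mk0 ((h.1 : M2) 1 1) (fun h0 => det_ne h.1 (by
          rw [h0, ((key _).1 h.2).1]; ring)))
      invFun := fun x => ⟨mk4 (x.1 : F) 0 0 x.2 (by simp), (key _).2 (by simp)⟩
      left_inv := fun h => Subtype.ext (by
        apply ext4 <;> simp [((key _).1 h.2).1, ((key _).1 h.2).2])
      right_inv := fun x => by ext <;> simp }
  rw [Nat.card_congr e, Nat.card_prod, Nat.card_units, Nat.card_eq_fintype_card, pow_two]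

/-- No eigenvector. -/
def NoEig (g : G) : Prop :=
  ∀ (c : F) (v : Fin 2 → F), v ≠ 0 → (g : M2).mulVec v ≠ c • v

theorem NoEig.lower {g : G} (hg : NoEig g) : (g : M2) 1 0 ≠ 0 := by
  intro h
  refine hg ((g : M2) 0 0) ![1, 0] (fun e => one_ne_zero (congrFun e 0)) ?_
  ext i
  fin_cases i <;> simp [Matrix.mulVec, dotProduct, Fin.sum_univ_two, h]

theorem card_centralizer_noEig {g : G} (hg : NoEig g) :
    Nat.card (Subgroup.centralizer ({g} : Set G)) = q ^ 2 - 1 := by
  classical
  set c := (g : M2) 1 0 with hc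
  have hc0 : c ≠ 0 := hg.lower
  have hinv : ∀ x : F × F, x ≠ 0 → (x.1 + x.2 * (g : M2) 0 0) * (x.1 + x.2 * (g : M2) 1 1) -
      x.2 * (g : M2) 0 1 * (x.2 * c) ≠ 0 := by
    intro x hx h
    by_cases hy : x.2 = 0
    · rw [hy] at h
      simp at h
      exact hx (Prod.ext h hy)
    · set r := -x.1 / x.2 with hr
      have hroot : (r - (g : M2) 0 0) * (r - (g : M2) 1 1) = (g : M2) 0 1 * c := by
        rw [hr]
        field_simp
        linear_combination h
      refine hg r ![r - (g : M2) 1 1, c] (fun e => hc0 (congrFun e 1)) ?_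
      ext i
      fin_cases i <;> simp [Matrix.mulVec, dotProduct, Fin.sum_univ_two, ← hc]
      · linear_combination -hroot
      · ring
  have e : Subgroup.centralizer ({g} : Set G) ≃ {x : F × F // x ≠ 0} :=
    { toFun := fun h => ⟨((h.1 : M2) 0 0 - (h.1 : M2) 1 0 / c * (g : M2) 0 0, (h.1 : M2) 1 0 / c),
        fun e => by
          simp only [Prod.ext_iff, Prod.fst_zero, Prod.snd_zero] at e
          obtain ⟨e1, e2⟩ := e
          rw [e2, zero_mul, sub_zero] at e1
          have h10 : (h.1 : M2) 1 0 = 0 := (div_eq_zero_iff.1 e2).resolve_right hc0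
          exact det_ne h.1 (by rw [e1, h10]; ring)⟩
      invFun := fun x => ⟨mk4 (x.1.1 + x.1.2 * (g : M2) 0 0) (x.1.2 * (g : M2) 0 1) (x.1.2 * c)
          (x.1.1 + x.1.2 * (g : M2) 1 1) (hinv x.1 x.2), by
        rw [Subgroup.mem_centralizer_singleton_iff]
        apply ext4 <;> simp [Matrix.mul_apply, Fin.sum_univ_two, ← hc] <;> ring⟩
      left_inv := fun h => Subtype.ext (by
        have em := congrArg (fun x : G => (x : M2)) (Subgroup.mem_centralizer_singleton_iff.1 h.2)
        have e00 := congrFun (congrFun em 0) 0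
        have e10 := congrFun (congrFun em 1) 0
        simp [Matrix.mul_apply, Fin.sum_univ_two, ← hc] at e00 e10
        apply ext4 <;> simp [← hc] <;> field_simp <;>
          first | linear_combination -e00 | linear_combination e00 |
            linear_combination -e10 | linear_combination e10 | ring1)
      right_inv := fun x => Subtype.ext (by
        ext <;> simp [← hc] <;> field_simp <;> ring) }
  rw [Nat.card_congr e, Nat.card_eq_fintype_card, Fintype.card_subtype_compl,
    Fintype.card_subtype_eq, Fintype.card_prod, pow_two]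

variable [DecidableEq F]

/-- Representatives of the cosets of the Borel subgroup. -/
noncomputable def rep : Option F → G
  | none => 1
  | some t => mk4 t 1 1 0 (by simp)

theorem rep_inv (t : F) : (rep (some t) : G)⁻¹ = mk4 0 1 1 (-t) (by simp) := by
  refine inv_eq_of_mul_eq_one_right ?_
  apply ext4 <;> simp [rep, Matrix.mul_apply, Fin.sum_univ_two]

theorem rep_bijective :
    Function.Bijective fun x : Option F × Cfsg.upperTriangularGL 2 F => rep x.1 * (x.2 : G) := by
  constructor
  · rintro ⟨o, b⟩ ⟨o', b'⟩ h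
    have hb := mem_upper.1 b.2
    have hb' := mem_upper.1 b'.2
    have h0 := congrArg (fun x : G => (x : M2) 0 0) h
    have h1 := congrArg (fun x : G => (x : M2) 1 0) h
    have hne : ∀ c : Cfsg.upperTriangularGL 2 F, ((c : G) : M2) 0 0 ≠ 0 := fun c hc =>
      det_ne (c : G) (by rw [hc, mem_upper.1 c.2]; ring)
    have ho : o = o' := by
      rcases o with _ | t <;> rcases o' with _ | t'
      · rfl
      · simp [rep, Matrix.mul_apply, Fin.sum_univ_two, hb, hb'] at h1
        exact absurd h1.symm (hne b')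
      · simp [rep, Matrix.mul_apply, Fin.sum_univ_two, hb, hb'] at h1
        exact absurd h1 (hne b)
      · simp [rep, Matrix.mul_apply, Fin.sum_univ_two, hb, hb'] at h0 h1
        rw [← h1] at h0
        exact congrArg some (mul_right_cancel₀ (hne b) h0)
    subst ho
    exact Prod.ext rfl (Subtype.ext (mul_left_cancel h))
  · intro x
    by_cases hx : (x : M2) 1 0 = 0
    · exact ⟨(none, ⟨x, mem_upper.2 hx⟩), one_mul x⟩
    · refine ⟨(some ((x : M2) 0 0 / (x : M2) 1 0),
        ⟨(rep (some ((x : M2) 0 0 / (x : M2) 1 0)))⁻¹ * x, mem_upper.2 ?_⟩),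
        mul_inv_cancel_left _ x⟩
      rw [rep_inv]
      simp [Matrix.mul_apply, Fin.sum_univ_two]
      field_simp
      ring

/-- The linear character of the Borel subgroup. -/
noncomputable def lamB (α β : MulChar F ℂ) : Cfsg.upperTriangularGL 2 F → ℂ :=
  fun b => α (((b : G) : M2) 0 0) * β (((b : G) : M2) 1 1)

/-- The principal series character. -/
noncomputable def princ (α β : MulChar F ℂ) : G → ℂ :=
  Cfsg.indFun (Cfsg.upperTriangularGL 2 F) (lamB α β)

theorem lamB_mul (α β : MulChar F ℂ) (a b : Cfsg.upperTriangularGL 2 F) :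
    lamB α β (a * b) = lamB α β a * lamB α β b := by
  have ha := mem_upper.1 a.2
  have hb := mem_upper.1 b.2
  simp only [lamB, Subgroup.coe_mul, Units.val_mul, Matrix.mul_apply, Fin.sum_univ_two, ha, hb,
    mul_zero, zero_mul, add_zero, zero_add, map_mul]
  ring

theorem lamB_one (α β : MulChar F ℂ) : lamB α β 1 = 1 := by simp [lamB]

theorem isCharacter_princ (α β : MulChar F ℂ) : Cfsg.IsCharacter G (princ α β) := by
  let φ : Cfsg.upperTriangularGL 2 F →* ℂ :=
    { toFun := lamB α β, map_one' := lamB_one α β, map_mul' := lamB_mul α β }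
  exact CT.isCharacter_indFun _ (CT.isCharacter_lin φ.toHomUnits)

theorem extend_upper (α β : MulChar F ℂ) (y : G) :
    Cfsg.extendByZero (Cfsg.upperTriangularGL 2 F) (lamB α β) y =
      if (y : M2) 1 0 = 0 then α ((y : M2) 0 0) * β ((y : M2) 1 1) else 0 := by
  classical
  split_ifs with h
  · exact Subtype.val_injective.extend_apply _ _
      (⟨y, mem_upper.2 h⟩ : Cfsg.upperTriangularGL 2 F)
  · exact Function.extend_apply' _ _ _ fun ⟨b, hb⟩ => h (hb ▸ mem_upper.1 b.2)

/-- The formula for the principal series. -/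
theorem princ_apply (α β : MulChar F ℂ) (g : G) :
    princ α β g = (if (g : M2) 1 0 = 0 then α ((g : M2) 0 0) * β ((g : M2) 1 1) else 0) +
      ∑ t : F, if (g : M2) 0 0 * t + (g : M2) 0 1 - t * ((g : M2) 1 0 * t + (g : M2) 1 1) = 0 then
        α ((g : M2) 1 0 * t + (g : M2) 1 1) * β ((g : M2) 0 0 - t * (g : M2) 1 0) else 0 := by
  classical
  have hconst : ∀ (o : Option F) (b : Cfsg.upperTriangularGL 2 F),
      Cfsg.extendByZero (Cfsg.upperTriangularGL 2 F) (lamB α β) ((rep o * (b : G))⁻¹ * g * (rep o * b)) =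
        Cfsg.extendByZero (Cfsg.upperTriangularGL 2 F) (lamB α β) ((rep o)⁻¹ * g * rep o) := by
    intro o b
    rw [show (rep o * (b : G))⁻¹ * g * (rep o * b) = (b : G)⁻¹ * ((rep o)⁻¹ * g * rep o) * b by group]
    set y := (rep o)⁻¹ * g * rep o with hy
    by_cases hmem : y ∈ Cfsg.upperTriangularGL 2 F
    · have e1 : ∀ z : Cfsg.upperTriangularGL 2 F,
          Cfsg.extendByZero (Cfsg.upperTriangularGL 2 F) (lamB α β) (z : G) = lamB α β z :=
        fun z => Subtype.val_injective.extend_apply _ _ z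
      have := e1 (b⁻¹ * ⟨y, hmem⟩ * b)
      simp only [Subgroup.coe_mul, Subgroup.coe_inv] at this
      rw [this, lamB_mul, lamB_mul, mul_comm (lamB α β b⁻¹), mul_assoc, ← lamB_mul, inv_mul_cancel,
        lamB_one, mul_one]
      exact (e1 ⟨y, hmem⟩).symm
    · rw [extend_upper, extend_upper, if_neg (fun h => hmem (by
        have h' := mem_upper.2 h
        have := mul_mem (mul_mem b.2 h') (inv_mem b.2)
        rwa [show (b : G) * ((b : G)⁻¹ * y * b) * (b : G)⁻¹ = y by group] at this)),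
        if_neg (fun h => hmem (mem_upper.2 h))]
  rw [princ, Cfsg.indFun,
    ← Fintype.sum_bijective _ rep_bijective _ (fun x => Cfsg.extendByZero _ (lamB α β) (x⁻¹ * g * x))
      (fun _ => rfl), Fintype.sum_prod_type]
  simp only [hconst, Finset.sum_const, Finset.card_univ, nsmul_eq_mul, ← Finset.mul_sum,
    ← Nat.card_eq_fintype_card]
  rw [inv_mul_cancel_left₀ (by exact_mod_cast Nat.card_pos.ne'), Fintype.sum_option]
  congr 1
  · rw [show (rep none : G)⁻¹ * g * rep none = g by simp [rep], extend_upper]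
  · refine Finset.sum_congr rfl fun t _ => ?_
    rw [extend_upper, rep_inv]
    simp only [rep, Units.val_mul, coe_mk4, Matrix.mul_apply, Fin.sum_univ_two]
    simp only [Matrix.of_apply, Matrix.cons_val', Matrix.cons_val_zero, Matrix.cons_val_one,
      Matrix.cons_val_fin_one, Matrix.empty_val', one_mul, zero_mul, mul_one, mul_zero, zero_add,
      add_zero]
    refine if_congr ?_ ?_ rfl
    · constructor <;> intro h <;> linear_combination h
    · congr 1 <;> congr 1 <;> ring

theorem princ_conj (α β : MulChar F ℂ) (g x : G) : princ α β (x * g * x⁻¹) = princ α β g :=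
  CT.isClassFunction_indFun _ _ g x

theorem isClassFunction_princ (α β : MulChar F ℂ) : Cfsg.IsClassFunction G (princ α β) :=
  CT.isClassFunction_indFun _ _

theorem princ_one (α β : MulChar F ℂ) : princ α β (1 : G) = (q : ℂ) + 1 := by
  rw [princ_apply]
  simp
  ring

theorem princ_diag (α β : MulChar F ℂ) {g : G} (h01 : (g : M2) 0 1 = 0) (h10 : (g : M2) 1 0 = 0)
    (hne : (g : M2) 0 0 ≠ (g : M2) 1 1) : princ α β g =
      α ((g : M2) 0 0) * β ((g : M2) 1 1) + α ((g : M2) 1 1) * β ((g : M2) 0 0) := by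
  rw [princ_apply, if_pos h10, Finset.sum_eq_single (0 : F)]
  · simp [h01, h10]
  · intro t _ ht
    rw [if_neg]
    rw [h01, h10]
    intro h
    exact ht ((mul_eq_zero.1 (by linear_combination h :
      t * ((g : M2) 0 0 - (g : M2) 1 1) = 0)).resolve_right (sub_ne_zero.2 hne))
  · simp

theorem princ_noEig (α β : MulChar F ℂ) {g : G} (hg : NoEig g) : princ α β g = 0 := by
  rw [princ_apply, if_neg hg.lower, zero_add]
  refine Finset.sum_eq_zero fun t _ => if_neg fun h => ?_
  refine hg ((g : M2) 1 0 * t + (g : M2) 1 1) ![t, 1] (fun e => one_ne_zero (congrFun e 1)) ?_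
  ext i
  fin_cases i <;> simp [Matrix.mulVec, dotProduct, Fin.sum_univ_two]
  · linear_combination h

theorem princ_transvection (α β : MulChar F ℂ) {g : G} (h10 : (g : M2) 1 0 = 0)
    (he : (g : M2) 0 0 = (g : M2) 1 1) (h01 : (g : M2) 0 1 ≠ 0) :
    princ α β g = α ((g : M2) 0 0) * β ((g : M2) 0 0) := by
  rw [princ_apply, if_pos h10, ← he, Finset.sum_eq_zero, add_zero]
  intro t _
  rw [if_neg]
  rw [h10]
  intro h
  exact h01 (by linear_combination h)

noncomputable scoped instance instFintypeUpper : Fintype (Cfsg.upperTriangularGL 2 F) :=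
  Fintype.ofFinite _

/-- The Borel subgroup as triples. -/
noncomputable def upperEquiv : Cfsg.upperTriangularGL 2 F ≃ (Fˣ × Fˣ) × F where
  toFun b := ((Units.mk0 (((b : G) : M2) 0 0) fun h => det_ne (b : G) (by
      rw [h, mem_upper.1 b.2]; ring),
    Units.mk0 (((b : G) : M2) 1 1) fun h => det_ne (b : G) (by
      rw [h, mem_upper.1 b.2]; ring)), ((b : G) : M2) 0 1)
  invFun x := ⟨mk4 (x.1.1 : F) x.2 0 x.1.2 (by simp), mem_upper.2 (by simp)⟩
  left_inv b := Subtype.ext (by apply ext4 <;> simp [mem_upper.1 b.2])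
  right_inv x := by ext <;> simp

theorem card_upper : (Nat.card (Cfsg.upperTriangularGL 2 F) : ℂ) = ((q : ℂ) - 1) ^ 2 * q := by
  rw [Nat.card_congr upperEquiv, Nat.card_prod, Nat.card_prod, Nat.card_units,
    Nat.card_eq_fintype_card, Nat.cast_mul, Nat.cast_mul, Nat.cast_sub (Fintype.card_pos (α := F)),
    Nat.cast_one]
  ring

theorem card_units_cast : (Fintype.card Fˣ : ℂ) = (q : ℂ) - 1 := by
  rw [Fintype.card_units, Nat.cast_sub (Fintype.card_pos (α := F)), Nat.cast_one]

theorem q_sub_one_ne : (q : ℂ) - 1 ≠ 0 :=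
  sub_ne_zero.2 (by exact_mod_cast (by have := two_le_q (F := F); omega : q ≠ 1))

theorem sum_units_mul_conj (α γ : MulChar F ℂ) [Decidable (α = γ)] :
    ∑ a : Fˣ, α (a : F) * conj (γ (a : F)) = if α = γ then (q : ℂ) - 1 else 0 := by
  classical
  have h1 : ∑ a : Fˣ, (α * γ⁻¹) (a : F) = ∑ a : Fˣ, α (a : F) * conj (γ (a : F)) :=
    Finset.sum_congr rfl fun a _ => by
      rw [MulChar.mul_apply, ← MulChar.star_apply' γ]
      rfl
  rw [← h1]
  split_ifs with h
  · subst h
    rw [mul_inv_cancel, Finset.sum_congr rfl (fun a _ => MulChar.one_apply a.isUnit),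
      Finset.sum_const, Finset.card_univ, nsmul_eq_mul, mul_one, card_units_cast]
  · have hne : α * γ⁻¹ ≠ 1 := fun e => h (mul_inv_eq_one.1 e)
    obtain ⟨u, hu⟩ := MulChar.ne_one_iff.1 hne
    refine eq_zero_of_mul_eq_self_left hu ?_
    rw [Finset.mul_sum]
    exact Fintype.sum_equiv (Equiv.mulLeft u) _ _ fun a => by simp [mul_mul_mul_comm]

theorem sum_upper_princ (α β γ δ : MulChar F ℂ) [Decidable (α = γ)] [Decidable (β = δ)]
    [Decidable (β = γ)] [Decidable (α = δ)] :
    ∑ b : Cfsg.upperTriangularGL 2 F, princ α β (b : G) * conj (lamB γ δ b) =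
      (q : ℂ) * ((if α = γ then (q : ℂ) - 1 else 0) * (if β = δ then (q : ℂ) - 1 else 0) +
        (if β = γ then (q : ℂ) - 1 else 0) * (if α = δ then (q : ℂ) - 1 else 0)) := by
  classical
  rw [Fintype.sum_equiv upperEquiv _ (fun x : (Fˣ × Fˣ) × F =>
    (α (x.1.1 : F) * β (x.1.2 : F) +
      ∑ t : F, if (x.1.1 : F) * t + x.2 - t * (x.1.2 : F) = 0 then
        α (x.1.2 : F) * β (x.1.1 : F) else 0) *
      conj (γ (x.1.1 : F) * δ (x.1.2 : F))) fun b => ?_]
  · rw [Fintype.sum_prod_type]
    simp only [← Finset.sum_mul, Finset.sum_add_distrib, Finset.sum_const, Finset.card_univ,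
      nsmul_eq_mul]
    have hin : ∀ (a d : Fˣ), ∑ x : F, ∑ t : F,
        (if (a : F) * t + x - t * (d : F) = 0 then α (d : F) * β (a : F) else 0) =
          (q : ℂ) * (α (d : F) * β (a : F)) := by
      intro a d
      rw [Finset.sum_comm]
      rw [Finset.sum_congr rfl fun t _ => Finset.sum_eq_single (t * (d : F) - (a : F) * t)
        (fun x _ hx => if_neg fun h => hx (by linear_combination h)) (by simp)]
      rw [Finset.sum_congr rfl fun t _ => if_pos (by ring), Finset.sum_const, Finset.card_univ,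
        nsmul_eq_mul]
    simp only [hin]
    rw [← sum_units_mul_conj α γ, ← sum_units_mul_conj β δ, ← sum_units_mul_conj β γ,
      ← sum_units_mul_conj α δ, Finset.sum_mul_sum, Finset.sum_mul_sum, ← Finset.sum_add_distrib,
      Finset.mul_sum, Fintype.sum_prod_type]
    refine Finset.sum_congr rfl fun a _ => ?_
    rw [← Finset.sum_add_distrib, Finset.mul_sum]
    refine Finset.sum_congr rfl fun d _ => ?_
    rw [map_mul]
    ring
  · rw [princ_apply, if_pos (mem_upper.1 b.2), lamB, mem_upper.1 b.2]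
    simp only [zero_mul, zero_add, mul_zero, sub_zero, upperEquiv, Equiv.coe_fn_mk, Units.val_mk0]
    rfl

theorem inner_princ (α β γ δ : MulChar F ℂ) [Decidable (α = γ)] [Decidable (β = δ)]
    [Decidable (β = γ)] [Decidable (α = δ)] :
    Cfsg.classInner (princ α β) (princ γ δ) =
      (if α = γ then 1 else 0) * (if β = δ then 1 else 0) +
        (if β = γ then 1 else 0) * (if α = δ then 1 else 0) := by
  classical
  rw [show princ γ δ = Cfsg.indFun (Cfsg.upperTriangularGL 2 F) (lamB γ δ) from rfl,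
    CT.frobenius_reciprocity' _ (isClassFunction_princ α β), Cfsg.classInner,
    sum_upper_princ, card_upper]
  have := q_sub_one_ne (F := F)
  have : (q : ℂ) ≠ 0 := by exact_mod_cast (Fintype.card_pos (α := F)).ne'
  split_ifs <;> field_simp <;> ring

/-- Composition with the determinant. -/
noncomputable def detHom (μ : MulChar F ℂ) : G →* ℂˣ :=
  (MulChar.toUnitHom μ).comp Matrix.GeneralLinearGroup.det

/-- `μ ∘ det`. -/
noncomputable def detChar (μ : MulChar F ℂ) : G → ℂ := fun g => ((detHom μ g : ℂˣ) : ℂ)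

theorem detChar_apply (μ : MulChar F ℂ) (g : G) : detChar μ g = μ (dt g) := by
  rw [dt_eq]
  simp [detChar, detHom, MulChar.coe_toUnitHom]

theorem isIrr_detChar (μ : MulChar F ℂ) : Cfsg.IsIrrCharacter G (detChar μ) :=
  CT.isIrrCharacter_lin _

theorem inner_princ_det (α β μ : MulChar F ℂ) [Decidable (α = μ)] [Decidable (β = μ)] :
    Cfsg.classInner (princ α β) (detChar μ) =
      (if α = μ then 1 else 0) * (if β = μ then 1 else 0) := by
  classical
  rw [princ, CT.frobenius_reciprocity _ _ (CT.isClassFunction_of_isIrr (isIrr_detChar μ)),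
    Cfsg.classInner, card_upper, Fintype.sum_equiv upperEquiv _ (fun x : (Fˣ × Fˣ) × F =>
      α (x.1.1 : F) * conj (μ (x.1.1 : F)) * (β (x.1.2 : F) * conj (μ (x.1.2 : F)))) fun b => ?_]
  · rw [Fintype.sum_prod_type]
    simp only [Finset.sum_const, Finset.card_univ, nsmul_eq_mul, ← Finset.mul_sum]
    rw [Fintype.sum_prod_type]
    simp only [← Finset.mul_sum, ← Finset.sum_mul, sum_units_mul_conj]
    have := q_sub_one_ne (F := F)
    have : (q : ℂ) ≠ 0 := by exact_mod_cast (Fintype.card_pos (α := F)).ne'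
    split_ifs <;> field_simp <;> ring
  · rw [detChar_apply, lamB, dt, mem_upper.1 b.2, mul_zero, sub_zero, map_mul, map_mul]
    simp only [upperEquiv, Equiv.coe_fn_mk, Units.val_mk0]
    ring

/-- The twisted Steinberg character. -/
noncomputable def st (μ : MulChar F ℂ) : G → ℂ := princ μ μ - detChar μ

theorem st_one (μ : MulChar F ℂ) : st μ (1 : G) = (q : ℂ) := by
  simp [st, princ_one, detChar_apply, dt]

theorem inner_det (μ ν : MulChar F ℂ) [Decidable (μ = ν)] :
    Cfsg.classInner (detChar (F := F) μ) (detChar ν) = if μ = ν then 1 else 0 := by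
  split_ifs with h
  · subst h; exact CT.irr_inner_self (isIrr_detChar μ)
  · refine CT.irr_inner_of_ne (isIrr_detChar μ) (isIrr_detChar ν) fun e => h ?_
    refine MulChar.ext fun a => ?_
    have := congrFun e (mk4 (a : F) 0 0 1 (by simp))
    simpa [detChar_apply, dt] using this

theorem inner_st (μ ν : MulChar F ℂ) [Decidable (μ = ν)] :
    Cfsg.classInner (st (F := F) μ) (st ν) = if μ = ν then 1 else 0 := by
  classical
  have h2 : Cfsg.classInner (detChar (F := F) μ) (princ ν ν) = if μ = ν then 1 else 0 := by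
    rw [← CT.classInner_conj_symm, inner_princ_det]
    by_cases h : μ = ν
    · subst h; simp
    · rw [if_neg (Ne.symm h), if_neg h]; simp
  rw [st, st, CT.classInner_sub_left, CT.classInner_sub_right, CT.classInner_sub_right, inner_princ,
    inner_princ_det, h2, inner_det]
  by_cases h : μ = ν <;> simp [h]

theorem isIrr_st (μ : MulChar F ℂ) : Cfsg.IsIrrCharacter G (st μ) := by
  classical
  refine CT.isIrr_of_isGen_norm_one (CT.isGen_sub (CT.isGen_of_isCharacter (isCharacter_princ μ μ))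
    (CT.isGen_of_isIrr (isIrr_detChar μ))) ?_ ?_
  · have := inner_st (F := F) μ μ
    rwa [if_pos rfl] at this
  · show 0 < (st μ 1).re
    rw [st_one, Complex.natCast_re]
    exact_mod_cast Fintype.card_pos

theorem isIrr_princ {α β : MulChar F ℂ} (h : α ≠ β) : Cfsg.IsIrrCharacter G (princ α β) := by
  classical
  refine CT.isIrr_of_inner_self (isCharacter_princ α β) ?_
  rw [inner_princ, if_pos rfl, if_pos rfl, if_neg h.symm, if_neg h]
  ring

theorem princ_eq_iff (α β γ δ : MulChar F ℂ) :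
    princ α β = princ γ δ ↔ (α = γ ∧ β = δ) ∨ (α = δ ∧ β = γ) := by
  classical
  constructor
  · intro h
    by_contra hne
    have h1 := inner_princ α β γ δ
    rw [← h, inner_princ] at h1
    have h0 : (if α = γ then (1 : ℂ) else 0) * (if β = δ then 1 else 0) +
        (if β = γ then 1 else 0) * (if α = δ then 1 else 0) = 0 := by
      split_ifs <;> simp_all
    rw [h0] at h1
    by_cases he : α = β
    · simp [he] at h1
    · simp [he, Ne.symm he] at h1
  · rintro (⟨rfl, rfl⟩ | ⟨rfl, rfl⟩)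
    · rfl
    · have h0 : Cfsg.classInner (princ α β - princ β α) (princ α β - princ β α) = 0 := by
        rw [CT.classInner_sub_left, CT.classInner_sub_right, CT.classInner_sub_right, inner_princ,
          inner_princ, inner_princ, inner_princ]
        by_cases he : α = β
        · subst he; simp
        · simp [he, Ne.symm he]
      rw [Cfsg.classInner] at h0
      have h1 : ∑ g : G, ((Complex.normSq (princ α β g - princ β α g) : ℝ) : ℂ) = 0 := by
        refine Eq.trans ?_ ((mul_eq_zero.1 h0).resolve_left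
          (inv_ne_zero (by exact_mod_cast Nat.card_pos.ne')))
        refine Finset.sum_congr rfl fun g _ => ?_
        rw [← Complex.mul_conj]
        rfl
      rw [← Complex.ofReal_sum, Complex.ofReal_eq_zero,
        Finset.sum_eq_zero_iff_of_nonneg fun g _ => Complex.normSq_nonneg _] at h1
      funext g
      exact sub_eq_zero.1 (Complex.normSq_eq_zero.1 (h1 g (Finset.mem_univ g)))

theorem fixedPointCharacter_eq (g : G) :
    Cfsg.fixedPointCharacter (Cfsg.upperTriangularGL 2 F) g = princ 1 1 g := by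
  classical
  let e : Option F → G ⧸ Cfsg.upperTriangularGL 2 F := fun o => QuotientGroup.mk (rep o)
  have he : Function.Bijective e := by
    constructor
    · intro o o' h
      obtain ⟨b, hb⟩ : ∃ b : Cfsg.upperTriangularGL 2 F, rep o * (b : G) = rep o' :=
        ⟨⟨_, QuotientGroup.eq.1 h⟩, mul_inv_cancel_left _ _⟩
      exact congrArg Prod.fst (rep_bijective.1
        (a₁ := (o, b)) (a₂ := (o', 1)) (by simpa using hb))
    · intro x
      obtain ⟨y, rfl⟩ := QuotientGroup.mk_surjective x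
      obtain ⟨⟨o, b⟩, hob⟩ := rep_bijective.2 y
      refine ⟨o, QuotientGroup.eq.2 ?_⟩
      rw [← hob, inv_mul_cancel_left]
      exact b.2
  have hcard : Nat.card (MulAction.fixedBy (G ⧸ Cfsg.upperTriangularGL 2 F) g) =
      (Finset.univ.filter fun o => g • e o = e o).card := by
    rw [← Fintype.card_subtype, ← Nat.card_eq_fintype_card]
    exact Nat.card_congr (((Equiv.ofBijective e he).subtypeEquiv fun o => Iff.rfl).symm)
  rw [Cfsg.fixedPointCharacter, hcard, Finset.natCast_card_filter, princ_apply, Fintype.sum_option]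
  have hiff : ∀ o, g • e o = e o ↔ (((rep o)⁻¹ * g * rep o : G) : M2) 1 0 = 0 := fun o => by
    rw [MulAction.Quotient.smul_mk, eq_comm, QuotientGroup.eq, smul_eq_mul, ← mul_assoc, mem_upper]
  congr 1
  · rw [if_congr (hiff none) rfl rfl, show (rep none : G)⁻¹ * g * rep none = g by simp [rep]]
    refine ite_congr rfl (fun h => ?_) fun _ => rfl
    have hd := det_ne g
    rw [h, mul_zero, sub_zero] at hd
    rw [MulChar.one_apply (left_ne_zero_of_mul hd).isUnit,
      MulChar.one_apply (right_ne_zero_of_mul hd).isUnit, one_mul]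
  · refine Finset.sum_congr rfl fun t _ => ?_
    rw [if_congr (hiff (some t)) rfl rfl, rep_inv]
    simp only [rep, Units.val_mul, coe_mk4, Matrix.mul_apply, Fin.sum_univ_two]
    simp only [Matrix.of_apply, Matrix.cons_val', Matrix.cons_val_zero, Matrix.cons_val_one,
      Matrix.cons_val_fin_one, Matrix.empty_val', one_mul, zero_mul, mul_one, mul_zero, zero_add,
      add_zero]
    refine ite_congr ?_ (fun h => ?_) fun _ => rfl
    · refine propext ⟨fun h => ?_, fun h => ?_⟩ <;> linear_combination h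
    · have hd := det_ne g
      have hprod : ((g : M2) 1 0 * t + (g : M2) 1 1) * ((g : M2) 0 0 - t * (g : M2) 1 0) =
          (g : M2) 0 0 * (g : M2) 1 1 - (g : M2) 0 1 * (g : M2) 1 0 := by
        linear_combination (g : M2) 1 0 * h
      rw [← hprod] at hd
      rw [MulChar.one_apply (left_ne_zero_of_mul hd).isUnit,
        MulChar.one_apply (right_ne_zero_of_mul hd).isUnit, one_mul]

/-! ### The classification -/

/-- Orthogonal to all of the principal series. -/
def IsCusp (χ : G → ℂ) : Prop :=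
  ∀ α β : MulChar F ℂ, Cfsg.classInner χ (princ α β) = 0

theorem cusp_sum {χ : G → ℂ} (hχ : Cfsg.IsIrrCharacter G χ) (hc : IsCusp χ) (a₀ d₀ : Fˣ) :
    ∑ x : F, χ (mk4 (a₀ : F) x 0 d₀ (by simp)) = 0 := by
  classical
  haveI : Fintype (MulChar F ℂ) := Fintype.ofFinite _
  have hsum : ∀ α β : MulChar F ℂ, ∑ a : Fˣ, ∑ d : Fˣ,
      conj (α (a : F)) * conj (β (d : F)) * ∑ x : F, χ (mk4 (a : F) x 0 d (by simp)) = 0 := by
    intro α β
    have h := hc α β
    rw [princ, CT.frobenius_reciprocity' _ (CT.isClassFunction_of_isIrr hχ), Cfsg.classInner,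
      mul_eq_zero, or_iff_right (inv_ne_zero (by exact_mod_cast Nat.card_pos.ne')),
      Fintype.sum_equiv upperEquiv _ (fun x : (Fˣ × Fˣ) × F =>
        χ (mk4 (x.1.1 : F) x.2 0 x.1.2 (by simp)) * (conj (α (x.1.1 : F)) * conj (β (x.1.2 : F))))
        fun b => ?_, Fintype.sum_prod_type, Fintype.sum_prod_type] at h
    · rw [← h]
      refine Finset.sum_congr rfl fun a _ => Finset.sum_congr rfl fun d _ => ?_
      rw [Finset.mul_sum]
      exact Finset.sum_congr rfl fun x _ => mul_comm _ _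
    · rw [lamB, map_mul]
      congr 2
      exact (congrArg Subtype.val (upperEquiv.symm_apply_apply b)).symm
  have horth : ∀ a a₀ : Fˣ, ∑ α : MulChar F ℂ, α (a₀ : F) * conj (α (a : F)) =
      if a = a₀ then (Fintype.card (MulChar F ℂ) : ℂ) else 0 := by
    intro a a₀
    have hrw : ∀ α : MulChar F ℂ, α (a₀ : F) * conj (α (a : F)) = α ((a₀ * a⁻¹ : Fˣ) : F) := by
      intro α
      rw [Units.val_mul, map_mul, Units.val_inv_eq_inv_val, ← MulChar.inv_apply',
        ← MulChar.star_apply' α]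
      rfl
    rw [Finset.sum_congr rfl fun α _ => hrw α]
    split_ifs with h
    · subst h; simp
    · have h1 : ((a₀ * a⁻¹ : Fˣ) : F) ≠ 1 := fun e => h (mul_inv_eq_one.1 (Units.ext e)).symm
      obtain ⟨β, hβ⟩ := MulChar.exists_apply_ne_one_of_hasEnoughRootsOfUnity F ℂ h1
      refine eq_zero_of_mul_eq_self_left hβ ?_
      rw [Finset.mul_sum]
      exact Fintype.sum_equiv (Equiv.mulLeft β) _ _ fun α => by simp
  have h0 := Finset.sum_eq_zero (fun α (_ : α ∈ (Finset.univ : Finset (MulChar F ℂ))) =>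
    Finset.sum_eq_zero (fun β (_ : β ∈ (Finset.univ : Finset (MulChar F ℂ))) =>
      mul_eq_zero_of_right (α (a₀ : F) * β (d₀ : F)) (hsum α β)))
  simp only [Finset.mul_sum] at h0
  have hN : (Fintype.card (MulChar F ℂ) : ℂ) ≠ 0 := by exact_mod_cast Fintype.card_ne_zero
  refine (mul_eq_zero.1 ?_).resolve_left (mul_ne_zero hN hN)
  rw [← h0, Finset.mul_sum]
  symm
  rw [Finset.sum_congr rfl fun α _ => Finset.sum_comm, Finset.sum_comm]
  rw [Finset.sum_eq_single a₀]
  · rw [Finset.sum_congr rfl fun α _ => Finset.sum_comm, Finset.sum_comm, Finset.sum_eq_single d₀]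
    · rw [Finset.sum_congr rfl fun α _ => Finset.sum_comm, Finset.sum_comm]
      refine Finset.sum_congr rfl fun x _ => ?_
      have h1 := horth a₀ a₀
      have h2 := horth d₀ d₀
      rw [if_pos rfl] at h1 h2
      rw [← congrArg₂ (· * ·) h1 h2, Finset.sum_mul_sum, Finset.sum_mul]
      refine Finset.sum_congr rfl fun α _ => ?_
      rw [Finset.sum_mul]
      exact Finset.sum_congr rfl fun β _ => by ring
    · intro d _ hd
      refine Finset.sum_eq_zero fun α _ => ?_
      rw [Finset.sum_comm]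
      refine Finset.sum_eq_zero fun x _ => ?_
      have h2 := horth d d₀
      rw [if_neg hd] at h2
      rw [← mul_zero (α (a₀ : F) * (conj (α (a₀ : F)) * χ (mk4 (a₀ : F) x 0 d (by simp)))), ← h2,
        Finset.mul_sum]
      exact Finset.sum_congr rfl fun β _ => by ring
    · simp
  · intro a _ ha
    rw [Finset.sum_comm]
    refine Finset.sum_eq_zero fun β _ => ?_
    rw [Finset.sum_comm]
    refine Finset.sum_eq_zero fun d _ => ?_
    rw [Finset.sum_comm]
    refine Finset.sum_eq_zero fun x _ => ?_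
    have h1 := horth a a₀
    rw [if_neg ha] at h1
    rw [← mul_zero (β (d₀ : F) * (conj (β (d : F)) * χ (mk4 (a : F) x 0 d (by simp)))), ← h1,
      Finset.mul_sum]
    exact Finset.sum_congr rfl fun α _ => by ring
  · simp

theorem cusp_diag {χ : G → ℂ} (hχ : Cfsg.IsIrrCharacter G χ) (hc : IsCusp χ) {g : G}
    (h01 : (g : M2) 0 1 = 0) (h10 : (g : M2) 1 0 = 0) (hne : (g : M2) 0 0 ≠ (g : M2) 1 1) :
    χ g = 0 := by
  classical
  have hd := det_ne g
  rw [h01, zero_mul, sub_zero] at hd
  obtain ⟨a, ha⟩ : ∃ a : Fˣ, (a : F) = (g : M2) 0 0 := ⟨Units.mk0 _ (left_ne_zero_of_mul hd), rfl⟩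
  obtain ⟨d, hd'⟩ : ∃ d : Fˣ, (d : F) = (g : M2) 1 1 := ⟨Units.mk0 _ (right_ne_zero_of_mul hd), rfl⟩
  have hconj : ∀ x : F, χ (mk4 (a : F) x 0 d (by simp)) = χ g := by
    intro x
    have hsub : (d : F) - a ≠ 0 := by rw [ha, hd']; exact sub_ne_zero.2 hne.symm
    have hP := CT.isClassFunction_of_isIrr hχ g (mk4 1 (x / ((d : F) - a)) 0 1 (by simp))
    rw [← hP]
    congr 1
    rw [eq_mul_inv_iff_mul_eq]
    apply ext4 <;> simp [Matrix.mul_apply, Fin.sum_univ_two, h01, h10, ← ha, ← hd']
    field_simp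
    ring
  have h := cusp_sum hχ hc a d
  rw [Finset.sum_congr rfl fun x _ => hconj x, Finset.sum_const, Finset.card_univ, nsmul_eq_mul]
    at h
  exact (mul_eq_zero.1 h).resolve_left (by exact_mod_cast (Fintype.card_pos (α := F)).ne')

/-- The transvection with entry `1`. -/
noncomputable def uu1 (F : Type*) [Field F] : Matrix.GeneralLinearGroup (Fin 2) F :=
  mk4 1 1 0 1 (by simp)

theorem cusp_transvection {χ : G → ℂ} (hχ : Cfsg.IsIrrCharacter G χ) (hc : IsCusp χ) :
    χ 1 + ((q : ℂ) - 1) * χ (uu1 F) = 0 := by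
  classical
  have hconj : ∀ x : F, x ≠ 0 → χ (mk4 1 x 0 1 (by simp)) = χ (uu1 F) := by
    intro x hx
    have hP := CT.isClassFunction_of_isIrr hχ (uu1 F) (mk4 x 0 0 1 (by simpa using hx))
    rw [← hP]
    congr 1
    rw [eq_mul_inv_iff_mul_eq]
    apply ext4 <;> simp [Matrix.mul_apply, Fin.sum_univ_two, uu1]
  have h := cusp_sum hχ hc 1 1
  simp only [Units.val_one] at h
  rw [← Finset.add_sum_erase _ _ (Finset.mem_univ (0 : F)),
    Finset.sum_congr rfl (fun x hx => hconj x (Finset.ne_of_mem_erase hx)), Finset.sum_const,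
    Finset.card_erase_of_mem (Finset.mem_univ _), Finset.card_univ, nsmul_eq_mul,
    Nat.cast_sub (Fintype.card_pos (α := F)), Nat.cast_one] at h
  rwa [show mk4 (1 : F) 0 0 1 (by simp) = (1 : G) from by apply ext4 <;> simp] at h

theorem not_cusp_cases (χ : Cfsg.IrrCharacter G) :
    (∃ μ : MulChar F ℂ, (χ : G → ℂ) = detChar μ) ∨ (∃ μ : MulChar F ℂ, (χ : G → ℂ) = st μ) ∨
      (∃ α β : MulChar F ℂ, α ≠ β ∧ (χ : G → ℂ) = princ α β) ∨ IsCusp (χ : G → ℂ) := by
  classical
  by_contra hcon
  push Not at hcon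
  obtain ⟨h1, h2, h3, hc⟩ := hcon
  refine hc fun α β => ?_
  by_cases h : α = β
  · subst h
    rw [show princ α α = st α + detChar α by simp [st], CT.classInner_add_right,
      CT.irr_inner_of_ne χ.2 (isIrr_st α) (h2 α), CT.irr_inner_of_ne χ.2 (isIrr_detChar α) (h1 α),
      add_zero]
  · exact CT.irr_inner_of_ne χ.2 (isIrr_princ h) (h3 α β h)

theorem card_mulChar [Fintype (MulChar F ℂ)] : Fintype.card (MulChar F ℂ) = q - 1 := by
  obtain ⟨e⟩ := MulChar.mulEquiv_units F ℂ
  rw [← Nat.card_eq_fintype_card, Nat.card_congr e.toEquiv, Nat.card_units,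
    Nat.card_eq_fintype_card]

theorem deg_of_one {χ : G → ℂ} {n : ℕ} (h : χ 1 = (n : ℂ)) : CT.deg χ = n := by
  simp [CT.deg, h]

set_option maxHeartbeats 1000000 in
/-- The table of `GL(2, q)`. -/
theorem table :
    (∀ χ : Cfsg.IrrCharacter G, (∃ μ : MulChar F ℂ, (χ : G → ℂ) = detChar μ) ∨
      (∃ μ : MulChar F ℂ, (χ : G → ℂ) = st μ) ∨
      (∃ α β : MulChar F ℂ, α ≠ β ∧ (χ : G → ℂ) = princ α β) ∨
      (IsCusp (χ : G → ℂ) ∧ (χ : G → ℂ) 1 = (q : ℂ) - 1)) ∧
    ∀ f : ℂ → ℕ, 2 * ∑ χ : Cfsg.IrrCharacter G, f ((χ : G → ℂ) 1) =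
      2 * (q - 1) * f 1 + 2 * (q - 1) * f (q : ℂ) + (q - 1) * (q - 2) * f ((q : ℂ) + 1) +
        q * (q - 1) * f ((q : ℂ) - 1) := by
  classical
  haveI : Fintype (MulChar F ℂ) := Fintype.ofFinite _
  have hq := two_le_q (F := F)
  have hd : ∀ χ : Cfsg.IrrCharacter G, (χ : G → ℂ) 1 = (CT.deg (χ : G → ℂ) : ℂ) :=
    fun χ => CT.deg_eq (CT.isCharacter_of_isIrr χ.2)
  let LD : MulChar F ℂ → Cfsg.IrrCharacter G := fun μ => ⟨detChar μ, isIrr_detChar μ⟩
  let LS : MulChar F ℂ → Cfsg.IrrCharacter G := fun μ => ⟨st μ, isIrr_st μ⟩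
  have hLDd : ∀ μ, (LD μ : G → ℂ) 1 = 1 := fun μ => by
    show detChar μ 1 = 1
    simp [detChar]
  have hLSd : ∀ μ, (LS μ : G → ℂ) 1 = (q : ℂ) := fun μ => st_one μ
  have hLDi : Function.Injective LD := fun μ ν h => by
    by_contra hne
    have h0 := inner_det (F := F) μ ν
    rw [if_neg hne, show detChar μ = detChar ν from congrArg Subtype.val h,
      CT.irr_inner_self (isIrr_detChar ν)] at h0
    exact one_ne_zero h0
  have hLSi : Function.Injective LS := fun μ ν h => by
    by_contra hne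
    have h0 := inner_st (F := F) μ ν
    rw [if_neg hne, show st μ = st ν from congrArg Subtype.val h,
      CT.irr_inner_self (isIrr_st ν)] at h0
    exact one_ne_zero h0
  let D := Finset.univ.image LD
  let S := Finset.univ.image LS
  let P := Finset.univ.filter fun χ : Cfsg.IrrCharacter G =>
    ∃ α β : MulChar F ℂ, α ≠ β ∧ (χ : G → ℂ) = princ α β
  let R := (D ∪ S ∪ P)ᶜ
  have hPd : ∀ χ ∈ P, (χ : G → ℂ) 1 = (q : ℂ) + 1 := fun χ h => by
    obtain ⟨α, β, -, e⟩ := (Finset.mem_filter.1 h).2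
    rw [e, princ_one]
  have hne : ∀ n m : ℕ, n ≠ m → (n : ℂ) ≠ (m : ℂ) := fun n m h e => h (Nat.cast_inj.1 e)
  have hDS : Disjoint D S := Finset.disjoint_left.2 fun χ h h' => by
    obtain ⟨μ, -, rfl⟩ := Finset.mem_image.1 h
    obtain ⟨ν, -, e⟩ := Finset.mem_image.1 h'
    have := hLSd ν
    rw [e, hLDd] at this
    exact hne 1 q (by omega) (by push_cast; exact this)
  have hDSP : Disjoint (D ∪ S) P := Finset.disjoint_left.2 fun χ h h' => by
    have h1 := hPd χ h'
    rcases Finset.mem_union.1 h with h | h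
    · obtain ⟨μ, -, rfl⟩ := Finset.mem_image.1 h
      rw [hLDd] at h1
      exact hne 1 (q + 1) (by omega) (by push_cast; exact h1)
    · obtain ⟨μ, -, rfl⟩ := Finset.mem_image.1 h
      rw [hLSd] at h1
      exact hne q (q + 1) (by omega) (by push_cast; exact h1)
  have hDc : D.card = q - 1 := by
    rw [Finset.card_image_of_injective _ hLDi, Finset.card_univ, card_mulChar]
  have hSc : S.card = q - 1 := by
    rw [Finset.card_image_of_injective _ hLSi, Finset.card_univ, card_mulChar]
  have hPc : 2 * P.card = (q - 1) * (q - 2) := by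
    let T := (Finset.univ : Finset (MulChar F ℂ)).offDiag
    have hT : T.card = (q - 1) * (q - 2) := by
      rw [Finset.offDiag_card, Finset.card_univ, card_mulChar, ← Nat.mul_sub_one,
        show q - 1 - 1 = q - 2 by omega]
    let π : MulChar F ℂ × MulChar F ℂ → G → ℂ := fun x => princ x.1 x.2
    have hfib : ∀ y ∈ T.image π, (T.filter fun x => π x = y).card = 2 := by
      intro y hy
      obtain ⟨⟨α, β⟩, hab, rfl⟩ := Finset.mem_image.1 hy
      have hne' : α ≠ β := (Finset.mem_offDiag.1 hab).2.2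
      rw [show (T.filter fun x => π x = π (α, β)) = {(α, β), (β, α)} from ?_,
        Finset.card_pair fun e => hne' (congrArg Prod.fst e)]
      ext ⟨γ, δ⟩
      simp only [T, π, Finset.mem_filter, Finset.mem_offDiag, Finset.mem_univ, true_and,
        Finset.mem_insert, Finset.mem_singleton, Prod.mk.injEq, princ_eq_iff]
      constructor
      · exact fun h => h.2
      · rintro (⟨rfl, rfl⟩ | ⟨rfl, rfl⟩)
        · exact ⟨hne', Or.inl ⟨rfl, rfl⟩⟩
        · exact ⟨hne'.symm, Or.inr ⟨rfl, rfl⟩⟩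
    rw [← hT, Finset.card_eq_sum_card_image π T, Finset.sum_congr rfl hfib, Finset.sum_const,
      smul_eq_mul, mul_comm]
    congr 1
    refine Finset.card_bij (fun χ _ => (χ : G → ℂ)) (fun χ hχ => ?_)
      (fun a _ b _ h => Subtype.ext h) fun y hy => ?_
    · obtain ⟨α, β, hne', e⟩ := (Finset.mem_filter.1 hχ).2
      exact Finset.mem_image.2 ⟨(α, β), Finset.mem_offDiag.2
        ⟨Finset.mem_univ _, Finset.mem_univ _, hne'⟩, e.symm⟩
    · obtain ⟨⟨α, β⟩, hab, rfl⟩ := Finset.mem_image.1 hy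
      have hne' : α ≠ β := (Finset.mem_offDiag.1 hab).2.2
      exact ⟨⟨_, isIrr_princ hne'⟩,
        Finset.mem_filter.2 ⟨Finset.mem_univ _, α, β, hne', rfl⟩, rfl⟩
  have hRc : 2 * R.card = q * (q - 1) := by
    have htot : D.card + S.card + P.card + R.card = q ^ 2 - 1 := by
      rw [Finset.card_compl, Finset.card_union_of_disjoint hDSP,
        Finset.card_union_of_disjoint hDS]
      have hle : D.card + S.card + P.card ≤ Fintype.card (Cfsg.IrrCharacter G) := by
        rw [← Finset.card_union_of_disjoint hDS, ← Finset.card_union_of_disjoint hDSP]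
        exact Finset.card_le_univ _
      have : Fintype.card (Cfsg.IrrCharacter G) = q ^ 2 - 1 := by
        rw [← Nat.card_eq_fintype_card, CT.card_irr_eq_card_conjClasses, card_conjClasses]
      omega
    obtain ⟨j, hj⟩ : ∃ j, q = j + 2 := ⟨q - 2, by omega⟩
    rw [hj] at htot hDc hSc hPc ⊢
    rw [show j + 2 - 1 = j + 1 from rfl] at hDc hSc hPc ⊢
    rw [show j + 2 - 2 = j from rfl] at hPc
    rw [show (j + 2) ^ 2 - 1 = (j + 1) * (j + 3) by
      rw [show (j + 2) ^ 2 = (j + 1) * (j + 3) + 1 by ring, Nat.add_sub_cancel]] at htot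
    nlinarith
  have hcusp : ∀ χ ∈ R, IsCusp (χ : G → ℂ) := by
    intro χ hχ
    simp only [R, Finset.mem_compl, Finset.mem_union, not_or] at hχ
    rcases not_cusp_cases χ with ⟨μ, h⟩ | ⟨μ, h⟩ | h | h
    · exact absurd (Finset.mem_image.2 ⟨μ, Finset.mem_univ _, Subtype.ext h.symm⟩) hχ.1.1
    · exact absurd (Finset.mem_image.2 ⟨μ, Finset.mem_univ _, Subtype.ext h.symm⟩) hχ.1.2
    · exact (hχ.2 (Finset.mem_filter.2 ⟨Finset.mem_univ _, h⟩)).elim
    · exact h
  have hge : ∀ χ ∈ R, q - 1 ≤ CT.deg (χ : G → ℂ) := by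
    intro χ hχ
    refine Nat.le_of_dvd (CT.deg_pos χ.2) (CT.dvd_of_isIntegral_div (by omega) ?_)
    have h := cusp_transvection χ.2 (hcusp χ hχ)
    rw [hd] at h
    rw [Nat.cast_sub (by omega), Nat.cast_one,
      show (CT.deg (χ : G → ℂ) : ℂ) / ((q : ℂ) - 1) = -(χ : G → ℂ) (uu1 F) by
        rw [div_eq_iff q_sub_one_ne]; linear_combination h]
    exact (CT.isIntegral_isCharacter (CT.isCharacter_of_isIrr χ.2) _).neg
  have hsplit : ∀ φ : Cfsg.IrrCharacter G → ℕ, ∑ χ, φ χ =
      ∑ χ ∈ D, φ χ + ∑ χ ∈ S, φ χ + ∑ χ ∈ P, φ χ + ∑ χ ∈ R, φ χ := fun φ => by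
    rw [← Finset.sum_union hDS, ← Finset.sum_union hDSP, Finset.sum_add_sum_compl]
  have hdD : ∀ χ ∈ D, CT.deg (χ : G → ℂ) = 1 := fun χ h => by
    obtain ⟨μ, -, rfl⟩ := Finset.mem_image.1 h
    exact deg_of_one (by rw [hLDd, Nat.cast_one])
  have hdS : ∀ χ ∈ S, CT.deg (χ : G → ℂ) = q := fun χ h => by
    obtain ⟨μ, -, rfl⟩ := Finset.mem_image.1 h
    exact deg_of_one (hLSd μ)
  have hdP : ∀ χ ∈ P, CT.deg (χ : G → ℂ) = q + 1 := fun χ h =>
    deg_of_one (by rw [hPd χ h]; push_cast; rfl)
  have hdR : ∀ χ ∈ R, CT.deg (χ : G → ℂ) = q - 1 := by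
    have hsum : ∑ χ : Cfsg.IrrCharacter G, CT.deg (χ : G → ℂ) ^ 2 = Nat.card G := by
      have h : ∑ χ : Cfsg.IrrCharacter G, (χ : G → ℂ) 1 ^ 2 = (Nat.card G : ℂ) := CT.sum_degree_sq
      simp only [hd] at h
      exact_mod_cast h
    rw [hsplit, Finset.sum_congr rfl (fun χ h => by rw [hdD χ h]),
      Finset.sum_congr (s₁ := S) rfl (fun χ h => by rw [hdS χ h]),
      Finset.sum_congr (s₁ := P) rfl (fun χ h => by rw [hdP χ h]), Finset.sum_const,
      Finset.sum_const, Finset.sum_const, hDc, hSc, smul_eq_mul, smul_eq_mul, smul_eq_mul,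
      one_pow, card_G] at hsum
    have hR : ∑ χ ∈ R, CT.deg (χ : G → ℂ) ^ 2 = R.card * (q - 1) ^ 2 := by
      obtain ⟨j, hj⟩ : ∃ j, q = j + 2 := ⟨q - 2, by omega⟩
      rw [hj] at hsum hPc hRc ⊢
      rw [show j + 2 - 1 = j + 1 from rfl] at hsum hPc hRc ⊢
      rw [show j + 2 - 2 = j from rfl] at hPc
      rw [show (j + 2) ^ 2 - 1 = (j + 1) * (j + 3) by
          rw [show (j + 2) ^ 2 = (j + 1) * (j + 3) + 1 by ring, Nat.add_sub_cancel],
        show (j + 2) ^ 2 - (j + 2) = (j + 1) * (j + 2) by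
          rw [show (j + 2) ^ 2 = (j + 1) * (j + 2) + (j + 2) by ring, Nat.add_sub_cancel]] at hsum
      nlinarith
    intro χ hχ
    by_contra hne'
    have hlt : (q - 1) ^ 2 < CT.deg (χ : G → ℂ) ^ 2 :=
      Nat.pow_lt_pow_left (lt_of_le_of_ne (hge χ hχ) (Ne.symm hne')) two_ne_zero
    have := Finset.sum_lt_sum (s := R) (f := fun _ : Cfsg.IrrCharacter G => (q - 1) ^ 2)
      (g := fun χ : Cfsg.IrrCharacter G => CT.deg (χ : G → ℂ) ^ 2)
      (fun ψ hψ => Nat.pow_le_pow_left (hge ψ hψ) 2) ⟨χ, hχ, hlt⟩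
    rw [Finset.sum_const, smul_eq_mul, hR] at this
    exact lt_irrefl _ this
  refine ⟨fun χ => ?_, fun f => ?_⟩
  · by_cases h : χ ∈ R
    · refine Or.inr (Or.inr (Or.inr ⟨hcusp χ h, ?_⟩))
      rw [hd, hdR χ h, Nat.cast_sub (by omega), Nat.cast_one]
    · simp only [R, Finset.mem_compl, not_not, Finset.mem_union] at h
      rcases h with (h | h) | h
      · obtain ⟨μ, -, rfl⟩ := Finset.mem_image.1 h
        exact Or.inl ⟨μ, rfl⟩
      · obtain ⟨μ, -, rfl⟩ := Finset.mem_image.1 h
        exact Or.inr (Or.inl ⟨μ, rfl⟩)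
      · exact Or.inr (Or.inr (Or.inl (Finset.mem_filter.1 h).2))
  · rw [hsplit, Finset.sum_congr rfl (fun χ h => by rw [hd χ, hdD χ h, Nat.cast_one]),
      Finset.sum_congr (s₁ := S) rfl (fun χ h => by rw [hd χ, hdS χ h]),
      Finset.sum_congr (s₁ := P) rfl (fun χ h => by rw [hd χ, hdP χ h]),
      Finset.sum_congr (s₁ := R) rfl (fun χ h => by rw [hd χ, hdR χ h]), Finset.sum_const,
      Finset.sum_const, Finset.sum_const, Finset.sum_const, hDc, hSc]
    simp only [smul_eq_mul, Nat.cast_add, Nat.cast_sub (show 1 ≤ q by omega), Nat.cast_one,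
      mul_add, ← mul_assoc]
    rw [hPc, hRc]

end Cfsg.Agent.GL2T
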