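import Cfsg.Agent.Lib.SL2.Psl
import Cfsg.Agent.Lib.SL2.SylowTwo
import Cfsg.Agent.Lib.Basics.Tools
import Cfsg.Agent.Lib.CT.Integral
import Cfsg.Prelude.Def_OddOrderLocal

/-!
# Hall `{2, 3}`-subgroups of `PSL(2, q)`, characteristic at least `5`
-/

set_option autoImplicit false
set_option linter.unusedSectionVars false

namespace Cfsg.Agent.SL2

open Matrix

variable {F : Type*} [Field F] [Fintype F]

local notation "G" => Matrix.SpecialLinearGroup (Fin 2) F
local notation "PS" => Matrix.ProjectiveSpecialLinearGroup (Fin 2) F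
local notation "q" => Fintype.card F

theorem two_mul_card_psl_odd (hodd : Odd q) : 2 * Nat.card PS = Nat.card G := by
  have h := LinGrp.natCard_PSL_mul (n := Fin 2) (F := F)
  rwa [Fintype.card_fin, Nat.card_eq_fintype_card (α := F), Nat.gcd_eq_left] at h
  obtain ⟨k, hk⟩ := hodd
  exact ⟨k, by omega⟩

theorem card_comap_psl (hodd : Odd q) (H : Subgroup PS) :
    Nat.card (H.comap (π (F := F))) = 2 * Nat.card H := by
  have h := (H.comap (π (F := F))).card_mul_index
  rw [H.index_comap_of_surjective π_surjective, ← two_mul_card_psl_odd hodd, ← H.card_mul_index] at h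
  refine Nat.eq_of_mul_eq_mul_right (Nat.pos_of_ne_zero (Subgroup.index_ne_zero_of_finite (H := H))) ?_
  rw [h, mul_assoc]

theorem comap_map_psl (H' : Subgroup G) (hneg : (-1 : G) ∈ H') : (H'.map π).comap π = H' := by
  refine Subgroup.comap_map_eq_self (fun x hx => ?_)
  rcases (scal_iff x).1 (π_eq_one.1 hx) with rfl | rfl
  · exact one_mem _
  · exact hneg

theorem three_not_dvd_q {p : ℕ} [Fact p.Prime] [CharP F p] (hp : 5 ≤ p) : ¬ 3 ∣ q ∧ ¬ 2 ∣ q := by
  obtain ⟨n, -, hn⟩ := FiniteField.card F p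
  rw [hn]
  constructor <;> intro h
  · have := (Nat.prime_dvd_prime_iff_eq Nat.prime_three Fact.out).1 (Nat.prime_three.dvd_of_dvd_pow h)
    omega
  · have := (Nat.prime_dvd_prime_iff_eq Nat.prime_two Fact.out).1 (Nat.prime_two.dvd_of_dvd_pow h)
    omega

/-- The `{2,3}`-part of `q ^ 2 - 1`. -/
noncomputable def part23 (n : ℕ) : ℕ := 2 ^ n.factorization 2 * 3 ^ n.factorization 3

theorem card_G' : Nat.card G = q * (q ^ 2 - 1) := by
  rw [card_G, ← one_pow 2, Nat.sq_sub_sq, one_pow, mul_comm (q + 1)]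

theorem fact_psl (hodd : Odd q) (h3 : ¬ 3 ∣ q) :
    (Nat.card PS).factorization 2 + 1 = (q ^ 2 - 1).factorization 2 ∧
      (Nat.card PS).factorization 3 = (q ^ 2 - 1).factorization 3 := by
  have h := congrArg Nat.factorization (two_mul_card_psl_odd hodd)
  have hq := two_le_q (F := F)
  have hm : q ^ 2 - 1 ≠ 0 := (Nat.sub_pos_of_lt (Nat.one_lt_pow two_ne_zero (by omega))).ne'
  rw [card_G', Nat.factorization_mul two_ne_zero Nat.card_pos.ne',
    Nat.factorization_mul (by omega) hm] at h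
  have h2 := DFunLike.congr_fun h 2
  have h3' := DFunLike.congr_fun h 3
  have hq2 : ¬ 2 ∣ q := by obtain ⟨k, hk⟩ := hodd; omega
  simp [Nat.prime_two.factorization_self, Nat.factorization_eq_zero_of_not_dvd hq2] at h2
  rw [Finsupp.add_apply, Finsupp.add_apply, Nat.factorization_eq_zero_of_not_dvd h3,
    Nat.factorization_eq_zero_of_not_dvd (show ¬ 3 ∣ 2 by norm_num), zero_add, zero_add] at h3'
  exact ⟨by omega, h3'⟩

theorem isPiHall_iff (hodd : Odd q) (h3 : ¬ 3 ∣ q) (H : Subgroup PS) :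
    Cfsg.IsPiHall ({2, 3} : Set ℕ) H ↔ Nat.card (H.comap (π (F := F))) = part23 (q ^ 2 - 1) := by
  obtain ⟨f2, f3⟩ := fact_psl hodd h3
  rw [card_comap_psl hodd H, part23, ← f2, ← f3, pow_succ, mul_comm _ 2, mul_assoc,
    Nat.mul_right_inj two_ne_zero]
  have hm := congrArg Nat.factorization H.card_mul_index
  rw [Nat.factorization_mul Nat.card_pos.ne' Subgroup.index_ne_zero_of_finite] at hm
  constructor
  · rintro ⟨hc, hi⟩
    refine Nat.eq_of_factorization_eq Nat.card_pos.ne'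
      (Nat.mul_ne_zero (by simp) (by simp)) fun r => ?_
    rw [Nat.factorization_mul (by simp) (by simp), Finsupp.add_apply,
      Nat.prime_two.factorization_pow, Nat.prime_three.factorization_pow]
    have hr := DFunLike.congr_fun hm r
    rw [Finsupp.add_apply] at hr
    by_cases hr2 : r = 2
    · subst hr2
      rw [Nat.factorization_eq_zero_of_not_dvd (hi 2 Nat.prime_two (by simp))] at hr
      simp; omega
    by_cases hr3 : r = 3
    · subst hr3
      rw [Nat.factorization_eq_zero_of_not_dvd (hi 3 Nat.prime_three (by simp))] at hr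
      simp; omega
    rw [Finsupp.single_eq_of_ne hr2, Finsupp.single_eq_of_ne hr3, add_zero]
    by_cases hp : r.Prime
    · refine Nat.factorization_eq_zero_of_not_dvd fun h => ?_
      rcases hc r hp h with e | e
      · exact hr2 e
      · exact hr3 e
    · exact Nat.factorization_eq_zero_of_not_prime _ hp
  · intro e
    constructor
    · intro r hr h
      rw [e] at h
      rcases hr.dvd_mul.1 h with h | h
      · exact Or.inl ((Nat.prime_dvd_prime_iff_eq hr Nat.prime_two).1 (hr.dvd_of_dvd_pow h))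
      · exact Or.inr ((Nat.prime_dvd_prime_iff_eq hr Nat.prime_three).1 (hr.dvd_of_dvd_pow h))
    · intro r hr hrm h
      have hr' := DFunLike.congr_fun hm r
      rw [Finsupp.add_apply, e, Nat.factorization_mul (by simp) (by simp), Finsupp.add_apply,
        Nat.prime_two.factorization_pow, Nat.prime_three.factorization_pow] at hr'
      have h1 : 0 < H.index.factorization r :=
        hr.factorization_pos_of_dvd Subgroup.index_ne_zero_of_finite h
      rcases hrm with rfl | rfl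
      · simp at hr'; omega
      · simp at hr'; omega

theorem part23_dvd {a b : ℕ} (hb : b ≠ 0) (ha : a ≠ 0) (h : a ∣ b) : part23 a ∣ part23 b := by
  have hle := (Nat.factorization_le_iff_dvd ha hb).2 h
  exact Nat.mul_dvd_mul (Nat.pow_dvd_pow 2 (hle 2)) (Nat.pow_dvd_pow 3 (hle 3))

theorem part23_dvd_self {n : ℕ} : part23 n ∣ n :=
  Nat.Coprime.mul_dvd_of_dvd_of_dvd (Nat.Coprime.pow _ _ (by norm_num)) (Nat.ordProj_dvd _ _)
    (Nat.ordProj_dvd _ _)

theorem dvd_part23_two (hodd : Odd q) : 2 ^ 3 ∣ q ^ 2 - 1 := by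
  obtain ⟨k, hk⟩ := hodd
  obtain ⟨m, hm⟩ := Nat.even_mul_succ_self k
  refine ⟨m, ?_⟩
  rw [hk, show (2 * k + 1) ^ 2 = 4 * (k * (k + 1)) + 1 by ring, hm]
  omega

theorem sq_sub_split : q ^ 2 - 1 = (q - 1) * (q + 1) := by
  rw [← one_pow 2, Nat.sq_sub_sq, one_pow, mul_comm]

theorem three_dvd_sq_sub (h3 : ¬ 3 ∣ q) : 3 ∣ q ^ 2 - 1 := by
  rw [sq_sub_split, mul_comm]
  rcases (show q % 3 = 1 ∨ q % 3 = 2 by omega) with h | h
  · exact Dvd.dvd.mul_left (by omega) _
  · exact Dvd.dvd.mul_right (by omega) _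

theorem dvd_part23 (hodd : Odd q) (h3 : ¬ 3 ∣ q) : 24 ∣ part23 (q ^ 2 - 1) := by
  have hq := two_le_q (F := F)
  have hm : q ^ 2 - 1 ≠ 0 := (Nat.sub_pos_of_lt (Nat.one_lt_pow two_ne_zero (by omega))).ne'
  exact Nat.mul_dvd_mul (Nat.pow_dvd_pow 2
    ((Nat.Prime.pow_dvd_iff_le_factorization Nat.prime_two hm).1 (dvd_part23_two hodd)))
    (dvd_pow_self 3 (Nat.prime_three.factorization_pos_of_dvd hm (three_dvd_sq_sub h3)).ne')

/-- If `2 ^ v3 * 3 ^ v` divides `2 * n` then `n` is the torus divisible by `4` and `3`. -/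
theorem cond_of_dvd (hodd : Odd q) (h3 : ¬ 3 ∣ q) {n : ℕ} (hn : n = q - 1 ∨ n = q + 1)
    (h : part23 (q ^ 2 - 1) ∣ 2 * n) :
    (3 ∣ q - 1 ∧ q % 4 = 1) ∨ (3 ∣ q + 1 ∧ q % 4 = 3) := by
  have h24 := (dvd_part23 hodd h3).trans h
  obtain ⟨k, hk⟩ := hodd
  rcases hn with rfl | rfl
  · left; omega
  · right; omega

theorem hall_cond (hodd : Odd q) {p : ℕ} [Fact p.Prime] [CharP F p] (hp : 5 ≤ p)
    {H : Subgroup PS} (hH : Cfsg.IsPiHall ({2, 3} : Set ℕ) H) :
    (3 ∣ q - 1 ∧ q % 4 = 1) ∨ (3 ∣ q + 1 ∧ q % 4 = 3) ∨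
      part23 (q ^ 2 - 1) = 24 ∨ part23 (q ^ 2 - 1) = 48 := by
  obtain ⟨h3, -⟩ := three_not_dvd_q (F := F) hp
  have h2 := two_ne_zero' hodd
  have hcard := (isPiHall_iff hodd h3 H).1 hH
  set K := H.comap (π (F := F)) with hK
  have hneg : (-1 : G) ∈ K := by
    rw [hK, Subgroup.mem_comap, π_neg, map_one]; exact one_mem _
  have hHs : Group.IsSolvable H := by
    obtain ⟨a, ha⟩ : ∃ a, (q ^ 2 - 1).factorization 2 = a + 1 := ⟨(Nat.card PS).factorization 2,
      (fact_psl hodd h3).1.symm⟩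
    refine CT.isSolvable_of_card_two_primes Nat.prime_two Nat.prime_three _ H
      a ((q ^ 2 - 1).factorization 3) rfl ?_
    have h := card_comap_psl hodd H
    rw [← hK, hcard, part23, ha, pow_succ] at h
    linarith
  have hH1 : (⊤ : Subgroup H) ≠ ⊥ := by
    intro h
    have e : Nat.card H = 1 := by
      rw [← Nat.card_congr (Subgroup.topEquiv : (⊤ : Subgroup H) ≃* H).toEquiv, h, Subgroup.card_bot]
    have h24 := Nat.le_of_dvd (by rw [← hcard]; exact Nat.card_pos) (dvd_part23 hodd h3)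
    rw [← hcard, card_comap_psl hodd H, e] at h24
    omega
  obtain ⟨r, E, hr, hEn, -, hEne, hEab, hEexp⟩ :=
    Basics.exists_elementary_normal (N := (⊤ : Subgroup H)) hH1 inferInstance
  obtain ⟨e, heE, he1⟩ : ∃ e ∈ E, e ≠ 1 := by
    by_contra hcon
    push Not at hcon
    exact hEne ((Subgroup.eq_bot_iff_forall E).2 hcon)
  let E' : Subgroup G := (E.map H.subtype).comap (π (F := F))
  have hE'K : E' ≤ K := fun x hx => by
    obtain ⟨y, -, hy⟩ := Subgroup.mem_comap.1 hx
    rw [hK, Subgroup.mem_comap, ← hy]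
    exact y.2
  have hE'n : ∀ k ∈ K, ∀ x ∈ E', k * x * k⁻¹ ∈ E' := by
    intro k hk x hx
    obtain ⟨y, hy, hyx⟩ := Subgroup.mem_comap.1 hx
    refine Subgroup.mem_comap.2 ⟨⟨π k, hk⟩ * y * ⟨π k, hk⟩⁻¹, hEn.conj_mem y hy _, ?_⟩
    rw [map_mul, map_mul, map_inv, π_conj, ← hyx]; rfl
  have hcomm : ∀ x ∈ E', ∀ y ∈ E', x * y = y * x ∨ x * y = -(y * x) := by
    intro x hx y hy
    obtain ⟨a, ha, hax⟩ := Subgroup.mem_comap.1 hx
    obtain ⟨b, hb, hby⟩ := Subgroup.mem_comap.1 hy
    have h : π (y * x) = π (x * y) := by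
      rw [map_mul, map_mul, ← hax, ← hby, ← map_mul, ← map_mul,
        show a * b = b * a from congrArg Subtype.val (mul_comm' (⟨a, ha⟩ : E) ⟨b, hb⟩)]
    exact π_eq_iff.1 h
  obtain ⟨c, hcπ⟩ := π_surjective (F := F) (e : PS)
  have hcE : c ∈ E' := Subgroup.mem_comap.2 ⟨e, heE, hcπ.symm⟩
  have hcs : ¬ Scal c := fun h => he1 (Subtype.ext (by
    rw [← hcπ, π_eq_one.2 h]; rfl))
  have hrcard : r ∣ Nat.card H := by
    have : orderOf e ∣ r := orderOf_dvd_of_pow_eq_one (hEexp e heE)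
    rcases (Nat.dvd_prime hr).1 this with h | h
    · exact absurd (orderOf_eq_one_iff.1 h) he1
    · exact h ▸ orderOf_dvd_natCard e
  rcases (hH.1 r hr hrcard) with rfl | rfl
  · -- involutions
    have hsq : ∀ x ∈ E', ¬ Scal x → x * x = -1 := by
      intro x hx hxs
      obtain ⟨a, ha, hax⟩ := Subgroup.mem_comap.1 hx
      have h : π (x * x) = 1 := by
        rw [map_mul, ← hax, ← map_mul, ← pow_two, hEexp a ha, map_one]
      rcases (scal_iff _).1 (π_eq_one.1 h) with h | h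
      · exact absurd ((scal_iff x).2 (eq_one_or_of_sq h2 h)) hxs
      · exact h
    have hcc := hsq c hcE hcs
    have htc := tr_sq_of_tr_zero h2 (tr_zero_of_sq h2 hcc)
    by_cases hab : ∀ x ∈ E', c * x = x * c
    · have hle : K ≤ Subgroup.normalizer (cent c : Set G) := by
        intro k hk
        have hkc : k * c * k⁻¹ ∈ cent c := mem_cent.2 (hab _ (hE'n k hk c hcE))
        rw [Subgroup.mem_normalizer_iff]
        intro y
        have e2 := cent_eq (scal_of_tr_sq_ne htc) hkc (not_scal_conj hcs k)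
        conv_rhs => rw [← e2, cent_conj, show k⁻¹ * (k * y * k⁻¹) * k = y by group]
      have hd := Subgroup.card_dvd_of_le hle
      rw [hcard, card_normalizer_cent htc] at hd
      rcases cent_sq_neg_one hodd hcc with ⟨h, -⟩ | ⟨h, -⟩
      · rcases cond_of_dvd hodd h3 (Or.inl h) hd with h | h <;> tauto
      · rcases cond_of_dvd hodd h3 (Or.inr h) hd with h | h <;> tauto
    · push Not at hab
      obtain ⟨f, hf, hcf⟩ := hab
      have hanti : f * c = -(c * f) := (hcomm f hf c hcE).resolve_left fun h => hcf h.symm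
      have hfs : ¬ Scal f := fun h =>
        hcf (Subgroup.mem_center_iff.1 ((scal_iff_mem_center f).1 h) c)
      have hq : QPair c f := ⟨hcc, hsq f hf hfs, hanti⟩
      have hE'Q : E' ≤ hq.Q := by
        intro x hx
        have key : ∀ u ∈ E', x * u * x⁻¹ = u ∨ x * u * x⁻¹ = -u := by
          intro u hu
          rcases hcomm x hx u hu with h | h
          · left; rw [h]; group
          · right; rw [h, neg_mul, mul_inv_cancel_right]
        exact ⟨key c hcE, key f hf⟩
      have hle : K ≤ Subgroup.normalizer (hq.Q : Set G) := fun k hk =>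
        hq.mem_normalizer_Q (hE'Q (hE'n k hk c hcE)) (hE'Q (hE'n k hk f hf)) h2
      have hd := Subgroup.card_dvd_of_le hle
      rw [hcard] at hd
      obtain ⟨m, hm⟩ := dvd_part23 hodd h3
      rcases hq.card_normalizer_cases h2 with h | h <;> rw [h] at hd <;>
        have := Nat.le_of_dvd (by norm_num) hd <;>
        have := (hcard ▸ Nat.card_pos : 0 < part23 (q ^ 2 - 1)) <;> omega
  · -- elements of order three
    have hc6 : c ^ 6 = 1 := by
      have h : π (c ^ 3) = 1 := by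
        rw [map_pow, hcπ, ← SubgroupClass.coe_pow, hEexp e heE]; rfl
      rcases (scal_iff _).1 (π_eq_one.1 h) with h | h <;>
        rw [show 6 = 3 * 2 from rfl, pow_mul, h, pow_two] <;> simp
    have hd3 : c ^ 2 ≠ 1 := fun h => hcs ((scal_iff c).2 (eq_one_or_of_sq h2 (by rwa [← pow_two])))
    have hord : orderOf (c ^ 2) = 3 :=
      orderOf_eq_prime (p := 3) (by rw [← pow_mul, hc6]) hd3
    have hdmem : 3 ∣ Nat.card (cent c) :=
      hord ▸ Subgroup.orderOf_dvd_natCard _ (pow_mem (self_mem_cent c) 2)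
    have htc : tr c ^ 2 ≠ 4 := by
      intro h4
      rw [card_cent_unip hcs h4, card_sq_one hodd] at hdmem
      rcases Nat.prime_three.dvd_mul.1 hdmem with h | h
      · norm_num at h
      · exact h3 h
    have hcomm3 : ∀ x ∈ E', c * x = x * c := by
      intro x hx
      by_contra hne
      have h := (hcomm c hcE x hx).resolve_left hne
      have e : x * c * x⁻¹ = -c := by
        rw [mul_inv_eq_iff_eq_mul, neg_mul, h, neg_neg]
      have hz : c ^ 3 = -c ^ 3 := by
        have hc3 : Scal (c ^ 3) := π_eq_one.1 (by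
          rw [map_pow, hcπ, ← SubgroupClass.coe_pow, hEexp _ heE]; rfl)
        calc c ^ 3 = x * c ^ 3 * x⁻¹ := (scal_conj hc3 x).symm
          _ = (x * c * x⁻¹) ^ 3 := conj_pow.symm
          _ = -c ^ 3 := by rw [e, Odd.neg_pow (by decide)]
      exact neg_ne_self h2 _ hz.symm
    have hle : K ≤ Subgroup.normalizer (cent c : Set G) := by
      intro k hk
      have hkc : k * c * k⁻¹ ∈ cent c := mem_cent.2 (hcomm3 _ (hE'n k hk c hcE))
      rw [Subgroup.mem_normalizer_iff]
      intro y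
      have e2 := cent_eq (scal_of_tr_sq_ne htc) hkc (not_scal_conj hcs k)
      conv_rhs => rw [← e2, cent_conj, show k⁻¹ * (k * y * k⁻¹) * k = y by group]
    have hd := Subgroup.card_dvd_of_le hle
    rw [hcard, card_normalizer_cent htc] at hd
    rcases card_cent_regular htc with ⟨-, h, -⟩ | ⟨-, h, -⟩
    · rcases cond_of_dvd hodd h3 (Or.inr h) hd with h | h <;> tauto
    · rcases cond_of_dvd hodd h3 (Or.inl h) hd with h | h <;> tauto

theorem exists_eta (hodd : Odd q) {i j : G} (h : QPair i j) (hsq : IsSquare (2 : F)) :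
    Nat.card (Subgroup.normalizer (h.Q : Set G)) = 48 := by
  classical
  have h2 := two_ne_zero' hodd
  obtain ⟨s, hs⟩ := hsq
  have hs0 : s ≠ 0 := by rintro rfl; exact h2 (by rw [hs, mul_zero])
  set c : F := s⁻¹ with hc
  have hcc : 2 * c * c = 1 := by rw [hc, hs]; field_simp
  clear_value c
  have ht0 := tr_zero_of_sq h2 h.isq
  let eta : G := ⟨c • (1 : Matrix (Fin 2) (Fin 2) F) + c • (i : Matrix (Fin 2) (Fin 2) F), by
    rw [det_lin, ht0]; linear_combination hcc⟩
  have hee : eta * eta = i := by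
    apply Subtype.ext
    rw [Matrix.SpecialLinearGroup.coe_mul]
    simp only [eta, add_mul, mul_add, smul_mul_assoc, mul_smul_comm, one_mul, mul_one, mul_self, ht0]
    match_scalars <;> first | linear_combination hcc | linear_combination -hcc | ring
  have hei : eta * i * eta⁻¹ = i := by rw [← hee]; group
  have hej : eta * j * eta⁻¹ = i * j := by
    rw [mul_inv_eq_iff_eq_mul]
    apply Subtype.ext
    have hI : (i : Matrix (Fin 2) (Fin 2) F) * (j : Matrix (Fin 2) (Fin 2) F) *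
        (i : Matrix (Fin 2) (Fin 2) F) = (j : Matrix (Fin 2) (Fin 2) F) := by
      rw [← Matrix.SpecialLinearGroup.coe_mul, ← Matrix.SpecialLinearGroup.coe_mul, mul_assoc, h.anti,
        mul_neg, ← mul_assoc, h.isq, neg_one_mul, neg_neg]
    have he : (eta : Matrix (Fin 2) (Fin 2) F) =
        c • (1 : Matrix (Fin 2) (Fin 2) F) + c • (i : Matrix (Fin 2) (Fin 2) F) := rfl
    rw [Matrix.SpecialLinearGroup.coe_mul, Matrix.SpecialLinearGroup.coe_mul,
      Matrix.SpecialLinearGroup.coe_mul, he]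
    simp only [add_mul, mul_add, smul_mul_assoc, mul_smul_comm, one_mul, mul_one, hI]
    abel
  have hN : eta ∈ Subgroup.normalizer (h.Q : Set G) :=
    h.mem_normalizer_Q (hei.symm ▸ h.i_mem) (hej.symm ▸ mul_mem h.i_mem h.j_mem) h2
  rcases h.card_normalizer_cases h2 with e | e
  · exfalso
    have hne : (-1 : G) ≠ 1 := neg_ne_self h2 _
    have hi1 : i ≠ 1 := fun hh => hne (by rw [← h.isq, hh, one_mul])
    have hi2 : i ≠ -1 := fun hh => by
      have := h.isq
      rw [hh, neg_mul_neg, one_mul] at this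
      exact hne this.symm
    have horde : orderOf eta = 8 := by
      rw [show (8 : ℕ) = 2 ^ (2 + 1) from rfl]
      refine orderOf_eq_prime_pow ?_ ?_
      · rw [show 2 ^ 2 = 2 * 2 from rfl, pow_mul, pow_two eta, hee, pow_two i, h.isq]; exact hne
      · rw [show 2 ^ (2 + 1) = 2 * 4 from rfl, pow_mul, pow_two eta, hee,
          show 4 = 2 * 2 from rfl, pow_mul, pow_two i, h.isq, pow_two]; simp
    have hnot : eta ∉ h.Q := fun hh => by
      rcases QPair.sq_eq_of_not_scal h2 h hh with e' | e' | e'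
      · exact hi1 (by rw [← hee, e', one_mul])
      · exact hi1 (by rw [← hee, e', neg_mul_neg, one_mul])
      · exact hi2 (hee.symm.trans e')
    set N := Subgroup.normalizer (h.Q : Set G)
    apply hnot
    have hnm : (h.Q.subgroupOf N).Normal := Subgroup.normal_in_normalizer
    have hidx : (h.Q.subgroupOf N).index = 3 := by
      have := (h.Q.subgroupOf N).card_mul_index
      rw [Nat.card_congr (Subgroup.subgroupOfEquivOfLe Subgroup.le_normalizer).toEquiv,
        h.card_Q h2, e] at this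
      omega
    have h1 : orderOf (QuotientGroup.mk' (h.Q.subgroupOf N) ⟨eta, hN⟩) ∣ 3 :=
      (orderOf_dvd_natCard _).trans (dvd_of_eq hidx)
    have h8 : orderOf (QuotientGroup.mk' (h.Q.subgroupOf N) ⟨eta, hN⟩) ∣ 8 :=
      (orderOf_map_dvd _ _).trans (by rw [← horde, Subgroup.orderOf_mk])
    have h1' := Nat.eq_one_of_dvd_one (show orderOf (QuotientGroup.mk' (h.Q.subgroupOf N) ⟨eta, hN⟩) ∣ 1
      from (Nat.dvd_gcd h1 h8).trans (by norm_num))
    rw [orderOf_eq_one_iff] at h1'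
    exact Subgroup.mem_subgroupOf.1 ((QuotientGroup.eq_one_iff _).1 h1')
  · exact e

theorem exists_dihedral (hodd : Odd q) (h3 : ¬ 3 ∣ q)
    (hc : (3 ∣ q - 1 ∧ q % 4 = 1) ∨ (3 ∣ q + 1 ∧ q % 4 = 3)) :
    ∃ K : Subgroup G, (-1 : G) ∈ K ∧ Nat.card K = part23 (q ^ 2 - 1) := by
  classical
  have h2 := two_ne_zero' hodd
  set g : G := comp 0
  have hg : g * g = -1 := sq_neg_one_of_tr (tr_comp 0)
  have ht := tr_sq_of_tr_zero h2 (tr_comp (0 : F))
  have hgs := scal_of_tr_sq_ne ht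
  set n := Nat.card (cent g) with hn
  obtain ⟨w, hw⟩ := exists_invert ht
  have hwN : w ∈ Subgroup.normalizer (cent g : Set G) := (mem_normalizer_cent ht).2 (Or.inr hw)
  have hwc : w ∉ cent g := fun h => ne_inv ht (by
    rw [← hw, mul_inv_eq_iff_eq_mul.2 (mem_cent.1 h).symm])
  obtain ⟨-, hw2⟩ := sq_of_mem_normalizer ht hwN hwc
  have hwcomm : ∀ x ∈ cent g, w * x = x⁻¹ * w := by
    intro x hx
    rcases normalizer_act ht hwN with ⟨h, -⟩ | ⟨-, h⟩
    · exact absurd h hwc
    · exact mul_inv_eq_iff_eq_mul.1 (h x hx)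
  set M := part23 n with hM
  have hMn : M ∣ n := part23_dvd_self
  have hM2 : 2 ∣ M := by
    rw [hM]
    refine Dvd.dvd.mul_right (dvd_pow_self 2 ?_) _
    have h4 : 2 ^ 2 ∣ n := by
      rcases cent_sq_neg_one hodd hg with ⟨e, h4⟩ | ⟨e, h4⟩ <;> rw [hn, e] <;> omega
    have := (Nat.Prime.pow_dvd_iff_le_factorization Nat.prime_two Nat.card_pos.ne').1 h4
    rw [← hn] at this
    omega
  let A : Subgroup G :=
  { carrier := {x | x ∈ cent g ∧ x ^ M = 1}
    one_mem' := ⟨one_mem _, one_pow _⟩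
    mul_mem' := fun {x y} hx hy => ⟨mul_mem hx.1 hy.1, by
      rw [(show Commute x y from cent_comm hgs hx.1 hy.1).mul_pow, hx.2, hy.2, one_mul]⟩
    inv_mem' := fun {x} hx => ⟨inv_mem hx.1, by rw [inv_pow, hx.2, inv_one]⟩ }
  have hnegc : ∀ x ∈ cent g, -x ∈ cent g := fun x hx =>
    mem_cent.2 (by rw [mul_neg, neg_mul, mem_cent.1 hx])
  have hnegA : ∀ x ∈ A, -x ∈ A := fun x hx => ⟨hnegc x hx.1, by
    rw [Even.neg_pow (even_iff_two_dvd.2 hM2)]; exact hx.2⟩
  let K : Subgroup G :=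
  { carrier := {x | x ∈ A ∨ x * w⁻¹ ∈ A}
    one_mem' := Or.inl (one_mem _)
    mul_mem' := fun {x y} hx hy => by
      rcases hx with hx | hx <;> rcases hy with hy | hy
      · exact Or.inl (mul_mem hx hy)
      · exact Or.inr (by rw [mul_assoc]; exact mul_mem hx hy)
      · refine Or.inr ?_
        rw [show x * y * w⁻¹ = x * w⁻¹ * (w * y) * w⁻¹ by group, hwcomm y hy.1]
        rw [mul_assoc, mul_inv_cancel_right]
        exact mul_mem hx (A.inv_mem hy)
      · refine Or.inl ?_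
        rw [show x * y = x * w⁻¹ * (w * (y * w⁻¹)) * w by group, hwcomm _ hy.1,
          mul_assoc, mul_assoc (y * w⁻¹)⁻¹, hw2, mul_neg, mul_one, mul_neg]
        exact hnegA _ (mul_mem hx (A.inv_mem hy))
    inv_mem' := fun {x} hx => by
      rcases hx with hx | hx
      · exact Or.inl (A.inv_mem hx)
      · refine Or.inr ?_
        rw [show x⁻¹ * w⁻¹ = w⁻¹ * (x * w⁻¹)⁻¹ * w⁻¹ by group]
        rw [show w⁻¹ * (x * w⁻¹)⁻¹ * w⁻¹ = (w * (x * w⁻¹) * w)⁻¹ by group, hwcomm _ hx.1, mul_assoc,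
          hw2, mul_neg, mul_one, inv_neg, inv_inv]
        exact hnegA _ hx }
  refine ⟨K, Or.inl (hnegA 1 (one_mem A)), ?_⟩
  have hA : Nat.card A = M := by
    have := isCyclic_cent ht
    let : CommGroup (cent g) := IsCyclic.commGroup
    have e : A ≃ (powMonoidHom M : cent g →* cent g).ker :=
      { toFun := fun x => ⟨⟨x.1, x.2.1⟩, MonoidHom.mem_ker.2 (Subtype.ext (by simpa using x.2.2))⟩
        invFun := fun x => ⟨x.1.1, x.1.2, by simpa using congrArg Subtype.val (MonoidHom.mem_ker.1 x.2)⟩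
        left_inv := fun x => rfl
        right_inv := fun x => rfl }
    rw [Nat.card_congr e, IsCyclic.card_powMonoidHom_ker, Nat.gcd_eq_right hMn]
  have hK : Nat.card K = M * 2 := by
    rw [show M * 2 = Nat.card (A × Bool) by
      rw [Nat.card_prod, hA, Nat.card_eq_fintype_card (α := Bool), Fintype.card_bool]]
    refine (Nat.card_congr (Equiv.ofBijective (fun v : A × Bool =>
      (⟨if v.2 then (v.1 : G) * w else v.1, ?_⟩ : K)) ⟨?_, ?_⟩)).symm
    · split_ifs
      · exact Or.inr (by simp)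
      · exact Or.inl v.1.2
    · rintro ⟨x, b⟩ ⟨y, b'⟩ hxy
      have h' := congrArg Subtype.val hxy
      cases b <;> cases b' <;> simp at h' ⊢
      · exact h'
      · exact absurd ((Subgroup.mul_mem_cancel_left _ y.2.1).1 (h' ▸ x.2.1)) hwc
      · exact absurd ((Subgroup.mul_mem_cancel_left _ x.2.1).1 (h'.symm ▸ y.2.1)) hwc
      · exact h'
    · rintro ⟨x, hx | hx⟩
      · exact ⟨(⟨x, hx⟩, false), rfl⟩
      · exact ⟨(⟨x * w⁻¹, hx⟩, true), Subtype.ext (by simp)⟩
  rw [hK, hM]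
  obtain ⟨k, hk⟩ := id hodd
  have hq := two_le_q (F := F)
  obtain ⟨m, hm, hm3, hm2, hprod⟩ : ∃ m, 2 ∣ m ∧ ¬ 3 ∣ m ∧ ¬ 4 ∣ m ∧ q ^ 2 - 1 = n * m := by
    rcases cent_sq_neg_one hodd hg with ⟨e, h4⟩ | ⟨e, h4⟩
    · refine ⟨q + 1, by omega, by omega, by omega, ?_⟩
      rw [hn, e, sq_sub_split]
    · refine ⟨q - 1, by omega, by omega, by omega, ?_⟩
      rw [hn, e, sq_sub_split, mul_comm]
  have hm0 : m ≠ 0 := by omega
  rw [part23, part23, hprod, Nat.factorization_mul Nat.card_pos.ne' hm0]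
  have v2 : m.factorization 2 = 1 := by
    obtain ⟨d, rfl⟩ := hm
    rw [Nat.factorization_mul two_ne_zero (by omega)]
    simp [Nat.prime_two.factorization_self, Nat.factorization_eq_zero_of_not_dvd (show ¬ 2 ∣ d by omega)]
  rw [Finsupp.add_apply, Finsupp.add_apply, v2, Nat.factorization_eq_zero_of_not_dvd hm3, add_zero,
    pow_succ]
  ring

theorem exists_hall (hodd : Odd q) (h3 : ¬ 3 ∣ q)
    (hc : (3 ∣ q - 1 ∧ q % 4 = 1) ∨ (3 ∣ q + 1 ∧ q % 4 = 3) ∨
      part23 (q ^ 2 - 1) = 24 ∨ part23 (q ^ 2 - 1) = 48) :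
    ∃ H : Subgroup PS, Cfsg.IsPiHall ({2, 3} : Set ℕ) H := by
  suffices ∃ K : Subgroup G, (-1 : G) ∈ K ∧ Nat.card K = part23 (q ^ 2 - 1) by
    obtain ⟨K, hK1, hK2⟩ := this
    exact ⟨K.map π, (isPiHall_iff hodd h3 _).2 (by rw [comap_map_psl K hK1, hK2])⟩
  have h2 := two_ne_zero' hodd
  obtain ⟨j, hQ⟩ := exists_qpair hodd (sq_neg_one_of_tr (tr_comp (0 : F)))
  have hneg : (-1 : G) ∈ Subgroup.normalizer (hQ.Q : Set G) :=
    Subgroup.le_normalizer (hQ.neg_mem (one_mem _))
  rcases hc with h | h | h | h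
  · exact exists_dihedral hodd h3 (Or.inl h)
  · exact exists_dihedral hodd h3 (Or.inr h)
  · refine ⟨_, hneg, ?_⟩
    rw [h]
    rcases hQ.card_normalizer_cases h2 with e | e
    · exact e
    · exfalso
      have hd : 2 ^ 4 ∣ q * (q ^ 2 - 1) := by
        rw [← card_G']
        exact (show 2 ^ 4 ∣ 48 by norm_num).trans (e ▸ Subgroup.card_subgroup_dvd_card _)
      have hm : q ^ 2 - 1 ≠ 0 := fun h0 => by rw [part23, h0] at h; simp at h
      have hcop : Nat.Coprime (2 ^ 4) q :=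
        Nat.Coprime.pow_left 4 (Nat.coprime_two_left.2 hodd)
      have h4 := (Nat.Prime.pow_dvd_iff_le_factorization Nat.prime_two hm).1 (hcop.dvd_of_dvd_mul_left hd)
      have h16 : 16 ∣ part23 (q ^ 2 - 1) := Dvd.dvd.mul_right (Nat.pow_dvd_pow 2 h4) _
      rw [h] at h16
      norm_num at h16
  · refine ⟨_, hneg, ?_⟩
    rw [h]
    refine exists_eta hodd hQ (FiniteField.isSquare_two_iff.2 ?_)
    have h16 : 16 ∣ q ^ 2 - 1 :=
      (show 16 ∣ 48 by norm_num).trans (h ▸ part23_dvd_self)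
    obtain ⟨k, hk⟩ := hodd
    obtain ⟨d, hd⟩ := h16
    constructor <;> intro h8
    · obtain ⟨u, hu⟩ : ∃ u, q = 8 * u + 3 := ⟨q / 8, by omega⟩
      rw [hu, show (8 * u + 3) ^ 2 = 16 * (4 * u * u + 3 * u) + 9 by ring] at hd
      omega
    · obtain ⟨u, hu⟩ : ∃ u, q = 8 * u + 5 := ⟨q / 8, by omega⟩
      rw [hu, show (8 * u + 5) ^ 2 = 16 * (4 * u * u + 5 * u + 1) + 9 by ring] at hd
      omega

end Cfsg.Agent.SL2
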