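import Cfsg.Agent.Lib.SL2.Cuspidal
import Cfsg.Agent.Lib.CT.Kernel

/-!
# The diagonal automorphism of `SL(2, q)` and characters of norm two

`diagAut ν` is conjugation by `diag (ν, 1)`.  A class function fixed by it which is the sum of two
non-trivial irreducible characters, with degree minus value at a non-trivial unipotent equal to
`q`, has these two exchanged by the automorphism (`halves`).
-/

set_option autoImplicit false
set_option linter.unusedSectionVars false

namespace Cfsg.Agent.SL2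

open Matrix

variable {F : Type*} [Field F]

local notation "G" => Matrix.SpecialLinearGroup (Fin 2) F
local notation "M2" => Matrix (Fin 2) (Fin 2) F

/-- Lower unitriangular element. -/
def ll (s : F) : G := ⟨!![1, 0; s, 1], by simp [Matrix.det_fin_two]⟩

/-- The Weyl element. -/
def weyl : G := ⟨!![0, 1; -1, 0], by simp [Matrix.det_fin_two]⟩

theorem coe_ll (s : F) : (ll s : M2) = !![1, 0; s, 1] := rfl

theorem coe_weyl : ((weyl : G) : M2) = !![0, 1; -1, 0] := rfl

theorem coe_uu' (s : F) : (uu s : M2) = !![1, s; 0, 1] := rfl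

theorem coe_dd' (a : Fˣ) : (dd a : M2) = !![(a : F), 0; 0, (a : F)⁻¹] := rfl

theorem ll_eq_conj (s : F) : ll s = weyl * uu (-s) * weyl⁻¹ := by
  rw [eq_mul_inv_iff_mul_eq]
  apply ext4 <;> simp [coe_ll, coe_weyl, coe_uu', Matrix.SpecialLinearGroup.coe_mul, Matrix.mul_apply,
    Fin.sum_univ_two]

theorem eq_top_of_uu_ll (H : Subgroup G) (hu : ∀ s : F, uu s ∈ H) (hl : ∀ s : F, ll s ∈ H) :
    H = ⊤ := by
  have key : ∀ g : G, (g : M2) 1 0 ≠ 0 → g ∈ H := by
    intro g hg
    have hd := det_eq g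
    have e : g = uu (((g : M2) 0 0 - 1) / (g : M2) 1 0) * ll ((g : M2) 1 0) *
        uu (((g : M2) 1 1 - 1) / (g : M2) 1 0) := by
      apply ext4 <;> simp [coe_uu', coe_ll, Matrix.SpecialLinearGroup.coe_mul, Matrix.mul_apply,
        Fin.sum_univ_two] <;> field_simp <;> first
        | linear_combination hd
        | linear_combination -hd
        | ring
    rw [e]
    exact H.mul_mem (H.mul_mem (hu _) (hl _)) (hu _)
  refine (Subgroup.eq_top_iff' H).2 fun g => ?_
  by_cases hg : (g : M2) 1 0 = 0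
  · have h1 : ((g * ll 1 : G) : M2) 1 0 ≠ 0 := by
      simp [coe_ll, Matrix.SpecialLinearGroup.coe_mul, Matrix.mul_apply, Fin.sum_univ_two, hg]
      intro h
      have hd := det_eq g
      rw [hg, h] at hd
      simp at hd
    have := H.mul_mem (key _ h1) (H.inv_mem (hl 1))
    rwa [mul_inv_cancel_right] at this
  · exact key g hg

/-- Conjugation by `diag (ν, 1)`. -/
def diagAut (ν : Fˣ) : Matrix.SpecialLinearGroup (Fin 2) F ≃* Matrix.SpecialLinearGroup (Fin 2) F where
  toFun g := ⟨!![(g : Matrix (Fin 2) (Fin 2) F) 0 0, (ν : F) * (g : Matrix (Fin 2) (Fin 2) F) 0 1;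
      ((ν⁻¹ : Fˣ) : F) * (g : Matrix (Fin 2) (Fin 2) F) 1 0,
      (g : Matrix (Fin 2) (Fin 2) F) 1 1], by
    have hd := det_eq g
    rw [Matrix.det_fin_two_of]
    linear_combination hd - (g : Matrix (Fin 2) (Fin 2) F) 0 1 *
      (g : Matrix (Fin 2) (Fin 2) F) 1 0 * ν.mul_inv⟩
  invFun g := ⟨!![(g : Matrix (Fin 2) (Fin 2) F) 0 0,
      ((ν⁻¹ : Fˣ) : F) * (g : Matrix (Fin 2) (Fin 2) F) 0 1;
      (ν : F) * (g : Matrix (Fin 2) (Fin 2) F) 1 0,
      (g : Matrix (Fin 2) (Fin 2) F) 1 1], by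
    have hd := det_eq g
    rw [Matrix.det_fin_two_of]
    linear_combination hd - (g : Matrix (Fin 2) (Fin 2) F) 0 1 *
      (g : Matrix (Fin 2) (Fin 2) F) 1 0 * ν.mul_inv⟩
  left_inv g := by apply ext4 <;> simp
  right_inv g := by apply ext4 <;> simp
  map_mul' a b := by
    apply Subtype.ext
    refine Eq.trans ?_ (Matrix.SpecialLinearGroup.coe_mul _ _).symm
    apply mext <;> simp [Matrix.SpecialLinearGroup.coe_mul, Matrix.mul_apply, Fin.sum_univ_two] <;>
      field_simp

theorem coe_diagAut (ν : Fˣ) (g : G) : (diagAut ν g : M2) =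
    !![(g : M2) 0 0, (ν : F) * (g : M2) 0 1; ((ν⁻¹ : Fˣ) : F) * (g : M2) 1 0, (g : M2) 1 1] := rfl

theorem tr_diagAut (ν : Fˣ) (g : G) : tr (diagAut ν g) = tr g := by simp [tr, coe_diagAut]

theorem diagAut_scal (ν : Fˣ) {g : G} (hg : Scal g) : diagAut ν g = g := by
  apply ext4 <;> simp [coe_diagAut, hg.1, hg.2.1]

theorem scal_diagAut (ν : Fˣ) {g : G} : Scal (diagAut ν g) ↔ Scal g := by
  simp [Scal, coe_diagAut]

theorem diagAut_uu (ν : Fˣ) (r : F) : diagAut ν (uu r) = uu ((ν : F) * r) := by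
  apply ext4 <;> simp [coe_diagAut, coe_uu']

theorem dd_uu_dd (d : Fˣ) (r : F) : dd d * uu r * (dd d)⁻¹ = uu ((d : F) ^ 2 * r) := by
  rw [dd_inv]
  apply ext4 <;> simp [coe_dd', coe_uu', Matrix.SpecialLinearGroup.coe_mul, Matrix.mul_apply,
    Fin.sum_univ_two]
  ring

variable [Fintype F] [DecidableEq F]

local notation "q" => Fintype.card F

/-- The non-square as a unit. -/
noncomputable def nsqU (hodd : Odd q) : Fˣ := Units.mk0 (nsq F) (nsq_ne_zero hodd)

theorem classFun_diagAut {f : G → ℂ} (hf : Cfsg.IsClassFunction G f)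
    (hu : ∀ g h : G, ¬ Scal g → ¬ Scal h → tr g = tr h → tr g ^ 2 = 4 → f g = f h) (ν : Fˣ)
    (g : G) : f (diagAut ν g) = f g := by
  by_cases hs : Scal g
  · rw [diagAut_scal ν hs]
  by_cases ht : tr g ^ 2 = 4
  · exact hu _ _ (fun h => hs ((scal_diagAut ν).1 h)) hs (tr_diagAut ν g)
      ((tr_diagAut ν g).symm ▸ ht)
  · obtain ⟨P, hP⟩ := isConj_of_tr (tr_diagAut ν g).symm ht
    rw [← hP, hf]

theorem classInner_diagAut (ν : Fˣ) (f f' : G → ℂ) :
    Cfsg.classInner (fun g => f (diagAut ν g)) (fun g => f' (diagAut ν g)) =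
      Cfsg.classInner f f' := by
  simp only [Cfsg.classInner]
  congr 1
  exact Fintype.sum_equiv (diagAut ν).toEquiv _ _ fun g => rfl

theorem isIrr_diagAut (ν : Fˣ) {a : G → ℂ} (ha : Cfsg.IsIrrCharacter G a) :
    Cfsg.IsIrrCharacter G (fun g => a (diagAut ν g)) :=
  CT.isIrrCharacter_comp (diagAut ν).toMonoidHom (diagAut ν).surjective ha

/-- An irreducible character taking the value of its degree at all upper unitriangular
elements is trivial. -/
theorem eq_one_of_const_uu {a : G → ℂ} (ha : Cfsg.IsIrrCharacter G a)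
    (h : ∀ r : F, a (uu r) = a 1) : a = fun _ => 1 := by
  have hc := CT.isCharacter_of_isIrr ha
  have hcl := CT.isClassFunction_of_isIrr ha
  have hK : CT.kerChar a = ⊤ := eq_top_of_uu_ll _
    (fun r => (CT.mem_kerChar_iff hc).2 (h r))
    (fun r => (CT.mem_kerChar_iff hc).2 (by rw [ll_eq_conj, hcl, h]))
  have hconst : ∀ g : G, a g = a 1 := fun g =>
    (CT.mem_kerChar_iff hc).1 (hK ▸ Subgroup.mem_top g)
  have h1 := CT.irr_inner_self ha
  simp only [Cfsg.classInner, hconst, Finset.sum_const, Finset.card_univ, nsmul_eq_mul,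
    ← Nat.card_eq_fintype_card] at h1
  rw [← mul_assoc, inv_mul_cancel₀ (by exact_mod_cast Nat.card_pos.ne'), one_mul,
    CT.deg_eq hc, map_natCast] at h1
  have h2 : (CT.deg a * CT.deg a : ℕ) = 1 := by exact_mod_cast h1
  funext g
  rw [hconst, CT.deg_eq hc, Nat.eq_one_of_mul_eq_one_right h2]
  exact Nat.cast_one

/-- Degree minus the common value on `U ∖ 1` is a multiple of `q`. -/
theorem exists_sub_eq_mul {a : G → ℂ} (ha : Cfsg.IsCharacter G a) {A : ℂ}
    (hA : ∀ r : F, r ≠ 0 → a (uu r) = A) : ∃ n : ℕ, a 1 - A = (n : ℂ) * q := by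
  classical
  let j : Multiplicative F →* G :=
    MonoidHom.mk' (fun r => uu (Multiplicative.toAdd r)) fun r s => (uu_mul _ _).symm
  have hj := CT.isCharacter_comp j ha
  have hl := CT.isCharacter_lin (psi F).toMonoidHom.toHomUnits
  obtain ⟨n, hn⟩ := CT.classInner_character_nat hj hl
  refine ⟨n, ?_⟩
  have e : ∑ r : Multiplicative F, a (j r) * (starRingEnd ℂ)
      (((psi F).toMonoidHom.toHomUnits r : ℂˣ) : ℂ) = a 1 - A := by
    refine (Fintype.sum_equiv Multiplicative.toAdd _ (fun r : F => a (uu r) *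
      (starRingEnd ℂ) (psi F r)) (fun r => rfl)).trans ?_
    have e1 : ∀ r : F, a (uu r) * (starRingEnd ℂ) (psi F r) =
        A * (starRingEnd ℂ) (psi F r) + (if r = 0 then a 1 - A else 0) := fun r => by
      by_cases hr : r = 0
      · subst hr; rw [uu_zero, AddChar.map_zero_eq_one, map_one, if_pos rfl]; ring
      · rw [hA r hr, if_neg hr, add_zero]
    rw [Finset.sum_congr rfl (fun r _ => e1 r), Finset.sum_add_distrib, ← Finset.mul_sum,
      ← map_sum]
    have hs := sum_psi_mul (F := F) one_ne_zero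
    simp only [mul_one] at hs
    rw [hs, map_zero, mul_zero, zero_add, Finset.sum_ite_eq' Finset.univ (0 : F),
      if_pos (Finset.mem_univ _)]
  rw [Cfsg.classInner] at hn
  rw [← e]
  have hc : (Nat.card (Multiplicative F) : ℂ) = (q : ℂ) := by
    rw [Nat.card_congr (Multiplicative.toAdd : Multiplicative F ≃ F), nat_card_F]
  rw [hc, inv_mul_eq_iff_eq_mul₀ (by exact_mod_cast (Fintype.card_pos (α := F)).ne')] at hn
  rw [mul_comm]
  exact hn

/-- A generalized character of norm two is `± a ± b`. -/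
theorem norm_two {H : Type*} [Group H] [Fintype H] {R : H → ℂ}
    (hR : Cfsg.IsGeneralizedCharacter H R) (h : Cfsg.classInner R R = 2) :
    ∃ (a b : Cfsg.IrrCharacter H) (e e' : ℤ), a ≠ b ∧ (e = 1 ∨ e = -1) ∧ (e' = 1 ∨ e' = -1) ∧
      R = (e : ℂ) • (a : H → ℂ) + (e' : ℂ) • (b : H → ℂ) := by
  classical
  obtain ⟨hcf, hm⟩ := CT.isGen_iff.mp hR
  choose m hm using hm
  have hexp := CT.classFunction_eq_sum hcf
  simp only [hm] at hexp
  have hsum : ∑ χ : Cfsg.IrrCharacter H, m χ ^ 2 = 2 := by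
    have := CT.classInner_eq_sum (f := R) hcf
    rw [h] at this
    simp only [hm, map_intCast, ← pow_two] at this
    exact_mod_cast this.symm
  set S := Finset.univ.filter fun χ : Cfsg.IrrCharacter H => m χ ≠ 0 with hS
  have hS2 : ∑ χ ∈ S, m χ ^ 2 = 2 := by
    rw [← hsum, hS]
    exact Finset.sum_filter_of_ne fun χ _ hne h0 => hne (by rw [h0]; ring)
  have hone : ∀ χ ∈ S, 1 ≤ m χ ^ 2 := fun χ hχ => by
    have := (Finset.mem_filter.1 hχ).2
    have := sq_pos_of_ne_zero this
    omega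
  have hcard : S.card ≤ 2 := by
    have := Finset.sum_le_sum (f := fun _ => (1 : ℤ)) hone
    rw [Finset.sum_const, hS2, nsmul_eq_mul, mul_one] at this
    exact_mod_cast this
  have h2 : S.card = 2 := by
    rcases Nat.lt_or_eq_of_le hcard with hlt | he
    · exfalso
      rcases Nat.le_one_iff_eq_zero_or_eq_one.1 (Nat.lt_succ_iff.1 hlt) with h0 | h1
      · rw [Finset.card_eq_zero.1 h0] at hS2; simp at hS2
      · obtain ⟨χ, hχ⟩ := Finset.card_eq_one.1 h1
        rw [hχ, Finset.sum_singleton] at hS2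
        have hb : m χ ≤ 1 ∧ -1 ≤ m χ := ⟨by nlinarith, by nlinarith⟩
        obtain ⟨hb1, hb2⟩ := hb
        interval_cases (m χ) <;> simp at hS2
    · exact he
  obtain ⟨a, b, hab, hSab⟩ := Finset.card_eq_two.1 h2
  have ha := hone a (by rw [hSab]; simp)
  have hb := hone b (by rw [hSab]; simp)
  rw [hSab, Finset.sum_pair hab] at hS2
  refine ⟨a, b, m a, m b, hab, sq_eq_one_iff.1 (by omega), sq_eq_one_iff.1 (by omega), ?_⟩
  conv_lhs => rw [hexp]
  rw [← Finset.sum_subset (Finset.subset_univ S) (fun χ _ hχ => ?_), hSab, Finset.sum_pair hab]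
  have : m χ = 0 := by
    simpa [hS] using hχ
  simp [this]

/-- Two constituents exchanged by the diagonal automorphism. -/
theorem halves_swap (hodd : Odd q) {R a b : G → ℂ} (ha : Cfsg.IsIrrCharacter G a)
    (hb : Cfsg.IsIrrCharacter G b) (hab : a ≠ b) (hR : R = a + b)
    (hfix : ∀ g, R (diagAut (nsqU hodd) g) = R g)
    (hjump : ∀ r : F, r ≠ 0 → R 1 - R (uu r) = (q : ℂ))
    (ha1 : a ≠ fun _ => 1) (hb1 : b ≠ fun _ => 1) :
    (fun g => a (diagAut (nsqU hodd) g)) = b := by
  classical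
  set ν := nsqU hodd with hν
  set a' : G → ℂ := fun g => a (diagAut ν g) with ha'
  have ha'i : Cfsg.IsIrrCharacter G a' := isIrr_diagAut ν ha
  have hin : Cfsg.classInner R a' = 1 := by
    have : R = fun g => R (diagAut ν g) := funext fun g => (hfix g).symm
    rw [this, ha', classInner_diagAut, hR, CT.classInner_add_left, CT.irr_inner_self ha,
      CT.irr_inner_of_ne hb ha hab.symm, add_zero]
  have hab' : a' = a ∨ a' = b := by
    by_contra hh
    push Not at hh
    rw [hR, CT.classInner_add_left, CT.irr_inner_of_ne ha ha'i hh.1.symm,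
      CT.irr_inner_of_ne hb ha'i hh.2.symm, add_zero] at hin
    exact zero_ne_one hin
  have hswap : a' = b := by
    refine hab'.resolve_left fun hfa => ?_
    have hfb : ∀ g, b (diagAut ν g) = b g := fun g => by
      have h1 := hfix g
      simp only [hR, Pi.add_apply] at h1
      have h2 : a (diagAut ν g) = a g := congrFun hfa g
      linear_combination h1 - h2
    have hconst : ∀ f : G → ℂ, Cfsg.IsClassFunction G f → (∀ g, f (diagAut ν g) = f g) →
        ∀ r : F, r ≠ 0 → f (uu r) = f (uu 1) := by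
      intro f hf hff r hr
      by_cases hsq : IsSquare r
      · obtain ⟨d, rfl⟩ := hsq
        have hd : d ≠ 0 := left_ne_zero_of_mul hr
        rw [← hf (uu 1) (dd (Units.mk0 d hd)), dd_uu_dd, Units.val_mk0, mul_one, pow_two]
      · obtain ⟨d, hd⟩ : IsSquare (r / nsq F) := by
          rw [← quadraticChar_one_iff_isSquare (div_ne_zero hr (nsq_ne_zero hodd))]
          have h1 := quadraticChar_neg_one_iff_not_isSquare.2 hsq
          have e : r = nsq F * (r / nsq F) := by
            rw [mul_div_cancel₀ _ (nsq_ne_zero hodd)]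
          rw [e, map_mul, quadraticChar_neg_one_iff_not_isSquare.2 (nsq_spec hodd)] at h1
          linear_combination -h1
        have hd0 : d ≠ 0 := fun h => hr (by
          rw [h, mul_zero, div_eq_zero_iff] at hd
          exact hd.resolve_right (nsq_ne_zero hodd))
        have e : r = (ν : F) * (d ^ 2) := by
          rw [hν, nsqU, Units.val_mk0, pow_two, ← hd, mul_div_cancel₀ _ (nsq_ne_zero hodd)]
        rw [e, ← diagAut_uu, hff, ← hf (uu 1) (dd (Units.mk0 d hd0)), dd_uu_dd, Units.val_mk0,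
          mul_one]
    have hA := hconst a (CT.isClassFunction_of_isIrr ha) (congrFun hfa)
    have hB := hconst b (CT.isClassFunction_of_isIrr hb) hfb
    obtain ⟨n, hn⟩ := exists_sub_eq_mul (CT.isCharacter_of_isIrr ha) hA
    obtain ⟨m, hm⟩ := exists_sub_eq_mul (CT.isCharacter_of_isIrr hb) hB
    have hsum : ((n + m : ℕ) : ℂ) * q = (1 : ℕ) * q := by
      have := hjump 1 one_ne_zero
      simp only [hR, Pi.add_apply] at this
      push_cast
      linear_combination this - hn - hm
    have hnm : n + m = 1 := by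
      exact_mod_cast mul_right_cancel₀
        (by exact_mod_cast (Fintype.card_pos (α := F)).ne' : (q : ℂ) ≠ 0) hsum
    rcases Nat.add_eq_one_iff.1 hnm with ⟨h0, -⟩ | ⟨-, h0⟩
    · refine ha1 (eq_one_of_const_uu ha fun r => ?_)
      by_cases hr : r = 0
      · rw [hr, uu_zero]
      · rw [hA r hr]
        rw [h0, Nat.cast_zero, zero_mul, sub_eq_zero] at hn
        exact hn.symm
    · refine hb1 (eq_one_of_const_uu hb fun r => ?_)
      by_cases hr : r = 0
      · rw [hr, uu_zero]
      · rw [hB r hr]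
        rw [h0, Nat.cast_zero, zero_mul, sub_eq_zero] at hm
        exact hm.symm
  exact hswap

/-- The values of two constituents exchanged by the diagonal automorphism. -/
theorem halves (hodd : Odd q) {R a b : G → ℂ} (ha : Cfsg.IsIrrCharacter G a)
    (hb : Cfsg.IsIrrCharacter G b) (hab : a ≠ b) (hR : R = a + b)
    (hfix : ∀ g, R (diagAut (nsqU hodd) g) = R g)
    (hjump : ∀ r : F, r ≠ 0 → R 1 - R (uu r) = (q : ℂ))
    (ha1 : a ≠ fun _ => 1) (hb1 : b ≠ fun _ => 1) :
    (∀ g : G, Scal g ∨ tr g ^ 2 ≠ 4 → a g = R g / 2 ∧ b g = R g / 2) ∧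
      (∑ r : F, a (uu r) = (∑ r : F, R (uu r)) / 2) ∧
      (∑ r : F, b (uu r) = (∑ r : F, R (uu r)) / 2) := by
  classical
  set ν := nsqU hodd with hν
  set a' : G → ℂ := fun g => a (diagAut ν g) with ha'
  have hswap : a' = b := halves_swap hodd ha hb hab hR hfix hjump ha1 hb1
  have hval : ∀ g : G, Scal g ∨ tr g ^ 2 ≠ 4 → a (diagAut ν g) = a g := by
    intro g hg
    rcases hg with h | h
    · rw [diagAut_scal ν h]
    · obtain ⟨P, hP⟩ := isConj_of_tr (tr_diagAut ν g).symm h
      rw [← hP, CT.isClassFunction_of_isIrr ha]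
  refine ⟨fun g hg => ?_, ?_⟩
  · have h1 : b g = a g := (congrFun hswap g).symm.trans (hval g hg)
    have h2 : R g = a g + b g := congrFun hR g
    exact ⟨by linear_combination -(1 / 2 : ℂ) * h2 - (1 / 2 : ℂ) * h1,
      by linear_combination -(1 / 2 : ℂ) * h2 + (1 / 2 : ℂ) * h1⟩
  · have hUeq : ∑ r : F, b (uu r) = ∑ r : F, a (uu r) := by
      rw [← hswap]
      exact Fintype.sum_equiv (Equiv.mulLeft₀ (ν : F) ν.ne_zero) _ _ fun r => by
        simp [ha', diagAut_uu]
    have hRs : ∑ r : F, R (uu r) = ∑ r : F, a (uu r) + ∑ r : F, b (uu r) := by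
      simp only [hR, Pi.add_apply, Finset.sum_add_distrib]
    exact ⟨by linear_combination -(1 / 2 : ℂ) * hRs - (1 / 2 : ℂ) * hUeq,
      by linear_combination -(1 / 2 : ℂ) * hRs + (1 / 2 : ℂ) * hUeq⟩

end Cfsg.Agent.SL2
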