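import Cfsg.Agent.Lib.SL2.McKay

/-!
# The normaliser of order 24 of a quaternion Sylow 2-subgroup
-/

set_option autoImplicit false
set_option linter.unusedSectionVars false

namespace Cfsg.Agent.SL2

open Matrix

universe u

theorem exists_fixed_conj {H : Type*} [Group H] [Finite H] {t : H} (ht : t ^ 3 = 1)
    (P : H → Prop) (hP : ∀ x, P x ↔ P (t * x * t⁻¹)) (hc : ¬ 3 ∣ Nat.card {x : H // P x}) :
    ∃ x, P x ∧ t * x * t⁻¹ = x := by
  classical
  haveI := Fintype.ofFinite H
  haveI : Fact (Nat.Prime 3) := ⟨Nat.prime_three⟩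
  let σ : Equiv.Perm {x : H // P x} := (MulAut.conj t).toEquiv.subtypeEquiv fun x => hP x
  have hσ : σ ^ 3 ^ 1 = 1 := by
    refine Equiv.ext fun x => Subtype.ext ?_
    show t * (t * (t * (x : H) * t⁻¹) * t⁻¹) * t⁻¹ = x
    calc t * (t * (t * (x : H) * t⁻¹) * t⁻¹) * t⁻¹ = t ^ 3 * x * (t ^ 3)⁻¹ := by
          simp only [pow_succ, pow_zero, one_mul, _root_.mul_inv_rev, mul_assoc]
      _ = x := by rw [ht, one_mul, inv_one, mul_one]
  obtain ⟨x, hx⟩ := Equiv.Perm.exists_fixed_point_of_prime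
    (by rwa [← Nat.card_eq_fintype_card]) hσ
  exact ⟨x, x.2, congrArg Subtype.val hx⟩

/-- A group of order 24 with a quotient of order three, without other linear characters, and with
a commutator `z` that is a central involution. -/
theorem pdeg_two_of_24 {H : Type u} [Group H] [Finite H] (hcard : Nat.card H = 24) {z a b : H}
    (hz : z ∈ Subgroup.center H) (hz2 : z * z = 1) (hz1 : z ≠ 1) (hab : a * b * a⁻¹ * b⁻¹ = z)
    (hlin : Nat.card (H →* ℂˣ) = 3) : pdeg 2 H = 4 := by
  classical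
  haveI := Fintype.ofFinite H
  have hsign : ∀ χ : Cfsg.IrrCharacter H,
      (χ : H → ℂ) z = (χ : H → ℂ) 1 ∨ (χ : H → ℂ) z = -(χ : H → ℂ) 1 := fun χ => by
    have h := irr_central_mul χ.2 hz z
    rw [hz2, ← pow_two, ← pow_two] at h
    exact sq_eq_sq_iff_eq_or_eq_neg.1 h.symm
  set d : Cfsg.IrrCharacter H → ℕ := fun χ => Cfsg.charDegree (χ : H → ℂ) with hd
  have hval : ∀ χ : Cfsg.IrrCharacter H, (χ : H → ℂ) 1 = (d χ : ℂ) := charDegree_eq
  set P := Finset.univ.filter fun χ : Cfsg.IrrCharacter H => (χ : H → ℂ) z = (χ : H → ℂ) 1 with hP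
  have hodd : ∀ χ : Cfsg.IrrCharacter H, d χ = 1 ∨ d χ = 3 → χ ∈ P := by
    intro χ hχ
    refine Finset.mem_filter.2 ⟨Finset.mem_univ _, ?_⟩
    rcases hχ with h1 | h3
    · obtain ⟨lam, hlam⟩ := CT.exists_hom_of_degree_one (CT.isCharacter_of_isIrr χ.2)
        (by rw [hval, h1, Nat.cast_one])
      have e : lam z = 1 := by
        rw [← hab, map_mul, map_mul, map_mul, map_inv, map_inv, mul_right_comm (lam a) (lam b),
          mul_inv_cancel, one_mul, mul_inv_cancel]
      rw [hlam]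
      simp only [map_one, e]
    · rcases hsign χ with h | h
      · exact h
      exfalso
      obtain ⟨n, ρ, hρ, he⟩ := χ.2
      haveI := hρ
      obtain ⟨ω, hω, -⟩ := CT.central_scalar ρ hz
      have hn : n = 3 := by
        have h1 := hval χ
        rw [← he, Representation.char_one, h3] at h1
        rw [Module.finrank_fin_fun] at h1
        exact_mod_cast h1
      subst hn
      have hω1 : ω = -1 := by
        have hb : (χ : H → ℂ) z = ω * 3 := by
          rw [← he]
          show LinearMap.trace ℂ _ (ρ z) = ω * 3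
          rw [hω, map_smul, LinearMap.trace_id, smul_eq_mul]
          simp
        have h1 : (χ : H → ℂ) 1 = 3 := by rw [hval, h3]; norm_num
        rw [h, h1] at hb
        linear_combination -hb / 3
      have hdet : LinearMap.det (ρ z) = 1 := by
        let δ : H →* ℂ := LinearMap.det.comp ρ
        show δ z = 1
        rw [← hab, map_mul, map_mul, map_mul, mul_right_comm (δ a) (δ b), ← map_mul δ a a⁻¹,
          mul_inv_cancel, map_one, one_mul, ← map_mul, mul_inv_cancel, map_one]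
      rw [hω, LinearMap.det_smul, hω1, Module.finrank_fin_fun, LinearMap.det_id] at hdet
      norm_num at hdet
  have hone : (P.filter fun χ => d χ = 1).card = 3 := by
    rw [← hlin, ← Nat.card_eq_finsetCard]
    refine (Nat.card_congr (Equiv.ofBijective (fun lam : H →* ℂˣ =>
      (⟨CT.linIrr lam, ?_⟩ : {x // x ∈ P.filter fun χ => d χ = 1})) ⟨?_, ?_⟩)).symm
    · have h1 : d (CT.linIrr lam) = 1 := by
        have := hval (CT.linIrr lam)
        simp only [CT.linIrr, map_one, Units.val_one] at this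
        exact_mod_cast this.symm
      exact Finset.mem_filter.2 ⟨hodd _ (Or.inl h1), h1⟩
    · intro l l' h
      refine MonoidHom.ext fun x => Units.ext ?_
      exact congrFun (congrArg Subtype.val (congrArg Subtype.val h)) x
    · rintro ⟨χ, hχ⟩
      obtain ⟨lam, hlam⟩ := CT.exists_hom_of_degree_one (CT.isCharacter_of_isIrr χ.2)
        (by rw [hval, (Finset.mem_filter.1 hχ).2, Nat.cast_one])
      exact ⟨lam, Subtype.ext (Subtype.ext hlam.symm)⟩
  have htot : ∑ χ : Cfsg.IrrCharacter H, d χ ^ 2 = 24 := hcard ▸ sum_sq_charDegree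
  have hPs : ∑ χ ∈ P, d χ ^ 2 = 12 := by
    have h := CT.regular_eq_sum (G := H) z
    have hA : ∑ χ ∈ P, (χ : H → ℂ) 1 * (χ : H → ℂ) z = ((∑ χ ∈ P, d χ ^ 2 : ℕ) : ℂ) := by
      rw [Nat.cast_sum]
      refine Finset.sum_congr rfl fun χ hχ => ?_
      rw [(Finset.mem_filter.1 hχ).2, hval]
      push_cast
      ring
    have hB : ∑ χ ∈ Finset.univ.filter
        (fun χ : Cfsg.IrrCharacter H => ¬ (χ : H → ℂ) z = (χ : H → ℂ) 1),
          (χ : H → ℂ) 1 * (χ : H → ℂ) z = -((∑ χ ∈ Finset.univ.filter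
        (fun χ : Cfsg.IrrCharacter H => ¬ (χ : H → ℂ) z = (χ : H → ℂ) 1), d χ ^ 2 : ℕ) : ℂ) := by
      rw [Nat.cast_sum, ← Finset.sum_neg_distrib]
      refine Finset.sum_congr rfl fun χ hχ => ?_
      rw [(hsign χ).resolve_left (Finset.mem_filter.1 hχ).2, hval]
      push_cast
      ring
    rw [if_neg hz1, ← Finset.sum_filter_add_sum_filter_not Finset.univ
      (fun χ : Cfsg.IrrCharacter H => (χ : H → ℂ) z = (χ : H → ℂ) 1), ← hP, hA, hB,
      add_neg_eq_zero] at h
    have h' : ∑ χ ∈ P, d χ ^ 2 = ∑ χ ∈ Finset.univ.filter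
        (fun χ : Cfsg.IrrCharacter H => ¬ (χ : H → ℂ) z = (χ : H → ℂ) 1), d χ ^ 2 := by
      exact_mod_cast h
    rw [← Finset.sum_filter_add_sum_filter_not Finset.univ
      (fun χ : Cfsg.IrrCharacter H => (χ : H → ℂ) z = (χ : H → ℂ) 1), ← hP, ← h'] at htot
    omega
  have hle : ∀ χ ∈ P, d χ = 1 ∨ d χ = 2 ∨ d χ = 3 := by
    intro χ hχ
    have h := Finset.single_le_sum (f := fun χ => d χ ^ 2) (fun _ _ => Nat.zero_le _) hχ
    rw [hPs] at h
    have h4 : d χ < 4 := by
      by_contra hh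
      have : 4 ^ 2 ≤ d χ ^ 2 := Nat.pow_le_pow_left (by omega) 2
      omega
    have := charDegree_pos' χ
    rw [show Cfsg.charDegree (χ : H → ℂ) = d χ from rfl] at this
    omega
  have hsplit : ∑ χ ∈ P, d χ ^ 2 = (P.filter fun χ => d χ = 1).card +
      4 * (P.filter fun χ => d χ = 2).card + 9 * (P.filter fun χ => d χ = 3).card := by
    rw [Finset.card_filter, Finset.card_filter, Finset.card_filter, Finset.mul_sum,
      Finset.mul_sum, ← Finset.sum_add_distrib, ← Finset.sum_add_distrib]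
    exact Finset.sum_congr rfl fun χ hχ => by
      rcases hle χ hχ with h | h | h <;> simp [h]
  have hfin : (Finset.univ.filter fun χ : Cfsg.IrrCharacter H => ¬ 2 ∣ d χ) =
      (P.filter fun χ => d χ = 1) ∪ (P.filter fun χ => d χ = 3) := by
    ext χ
    simp only [Finset.mem_filter, Finset.mem_univ, true_and, Finset.mem_union]
    constructor
    · intro h
      have h24 : d χ ∣ 24 := hcard ▸ charDegree_dvd_card' χ
      have hcop : Nat.Coprime (d χ) 8 := by
        rw [show 8 = 2 ^ 3 from rfl]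
        exact Nat.Coprime.pow_right _
          (((Nat.Prime.coprime_iff_not_dvd Nat.prime_two).2 h).symm)
      have h3 : d χ ∣ 3 := hcop.dvd_of_dvd_mul_left (show d χ ∣ 8 * 3 from h24)
      rcases (Nat.dvd_prime Nat.prime_three).1 h3 with e | e
      · exact Or.inl ⟨hodd χ (Or.inl e), e⟩
      · exact Or.inr ⟨hodd χ (Or.inr e), e⟩
    · rintro (⟨-, e⟩ | ⟨-, e⟩) <;> rw [e] <;> norm_num
  rw [pdeg, Nat.card_eq_fintype_card, Fintype.card_subtype, show (Finset.univ.filter fun χ :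
    Cfsg.IrrCharacter H => ¬ 2 ∣ Cfsg.charDegree (χ : H → ℂ)) = _ from hfin,
    Finset.card_union_of_disjoint (Finset.disjoint_left.2 fun χ h h' => by
      have := (Finset.mem_filter.1 h).2
      have := (Finset.mem_filter.1 h').2
      omega)]
  omega

variable {F : Type*} [Field F] [Fintype F]

local notation "G" => Matrix.SpecialLinearGroup (Fin 2) F
local notation "M2" => Matrix (Fin 2) (Fin 2) F
local notation "q" => Fintype.card F

theorem card_hom_of_24 (hodd : Odd q) (S : Sylow 2 G) (hS : Nat.card (S : Subgroup G) = 8)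
    (hN : Nat.card (Subgroup.normalizer ((S : Subgroup G) : Set G)) = 24) {g h : G}
    (hp : QPair g h) (hg : g ∈ (S : Subgroup G)) (hh : h ∈ (S : Subgroup G)) :
    Nat.card ((Subgroup.normalizer ((S : Subgroup G) : Set G)) →* ℂˣ) = 3 := by
  classical
  have h2 := two_ne_zero' hodd
  set N := Subgroup.normalizer ((S : Subgroup G) : Set G) with hNdef
  have hle : (S : Subgroup G) ≤ N := Subgroup.le_normalizer
  set SN := (S : Subgroup G).subgroupOf N with hSN
  haveI : SN.Normal := Subgroup.normal_in_normalizer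
  have hq3 : Nat.card (N ⧸ SN) = 3 := by
    have h1 := SN.card_eq_card_quotient_mul_card_subgroup
    rw [hN, Nat.card_congr (Subgroup.subgroupOfEquivOfLe hle).toEquiv, hS] at h1
    omega
  have hneg1 : g * h * g⁻¹ * h⁻¹ = -1 := by
    rw [QPair.conj_ij hp, neg_mul, mul_inv_cancel]
  have hnegS : (-1 : G) ∈ (S : Subgroup G) := by rw [← hp.isq]; exact mul_mem hg hg
  have hnc : ¬ g * h = h * g := fun e => by
    have h1 : g * h * g⁻¹ * h⁻¹ = 1 := by rw [e]; group
    rw [hneg1] at h1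
    have := congrArg (fun g : G => (g : M2) 0 0) h1
    simp at this
    exact h2 (by linear_combination -this)
  have key : ∀ lam : N →* ℂˣ, SN ≤ lam.ker := by
    intro lam
    have hm1 : lam ⟨-1, hle hnegS⟩ = 1 := by
      have e : (⟨-1, hle hnegS⟩ : N) =
          ⟨g, hle hg⟩ * ⟨h, hle hh⟩ * ⟨g, hle hg⟩⁻¹ * ⟨h, hle hh⟩⁻¹ := Subtype.ext hneg1.symm
      rw [e, map_mul, map_mul, map_mul, map_inv, map_inv, mul_right_comm (lam _) (lam _),
        mul_inv_cancel, one_mul, mul_inv_cancel]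
    have hord : ∀ x : G, x ∈ (S : Subgroup G) → x * x = 1 ∨ x * x = -1 := by
      intro x hx
      have h8 : orderOf x ∣ 8 := hS ▸ Subgroup.orderOf_dvd_natCard _ hx
      refine eq_one_or_of_sq h2 ?_
      have h4 : orderOf x ∣ 4 := by
        obtain ⟨j, hj, e⟩ := (Nat.dvd_prime_pow Nat.prime_two).1 (show orderOf x ∣ 2 ^ 3 from h8)
        rcases Nat.lt_or_ge j 3 with hlt | hge
        · rw [e]; exact Nat.pow_dvd_pow 2 (by omega : j ≤ 2)
        · exfalso
          have hj3 : j = 3 := le_antisymm hj hge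
          subst hj3
          have hz : Subgroup.zpowers x = (S : Subgroup G) :=
            Subgroup.eq_of_le_of_card_ge ((Subgroup.zpowers_le).2 hx)
              (by rw [Nat.card_zpowers, e, hS]; norm_num)
          obtain ⟨i, hi⟩ := Subgroup.mem_zpowers_iff.1 (hz.symm ▸ hg : g ∈ Subgroup.zpowers x)
          obtain ⟨j, hj⟩ := Subgroup.mem_zpowers_iff.1 (hz.symm ▸ hh : h ∈ Subgroup.zpowers x)
          exact hnc (by rw [← hi, ← hj, ← _root_.zpow_add, ← _root_.zpow_add, add_comm])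
      have := orderOf_dvd_iff_pow_eq_one.1 h4
      rw [pow_succ, pow_succ, pow_succ, pow_one] at this
      rw [← this]
      group
    by_contra hlam
    let f : SN →* ℂˣ := lam.comp SN.subtype
    have hsq : ∀ x : SN, f x = 1 ∨ f x = -1 := by
      intro x
      have h1 : f x * f x = 1 := by
        rw [← map_mul]
        rcases hord _ (Subgroup.mem_subgroupOf.1 x.2) with e | e
        · rw [show x * x = 1 from Subtype.ext (Subtype.ext e), map_one]
        · exact (congrArg lam (Subtype.ext e : ((x * x : SN) : N) = ⟨-1, hle hnegS⟩)).trans hm1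
      rcases mul_self_eq_one_iff.1 (show ((f x : ℂˣ) : ℂ) * ((f x : ℂˣ) : ℂ) = 1 by
        rw [← Units.val_mul, h1, Units.val_one]) with e | e
      · exact Or.inl (Units.ext e)
      · exact Or.inr (Units.ext (by rw [e]; simp))
    obtain ⟨x0, hx0, hx1⟩ : ∃ x0 : N, x0 ∈ SN ∧ lam x0 ≠ 1 := by
      simpa [SetLike.le_def] using hlam
    set K : Subgroup G := (f.ker.map SN.subtype).map N.subtype with hK
    have hmemK : ∀ x : G, x ∈ K ↔ ∃ hx : x ∈ (S : Subgroup G), lam ⟨x, hle hx⟩ = 1 := by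
      intro x
      constructor
      · rintro ⟨y, ⟨z, hz, rfl⟩, rfl⟩
        exact ⟨Subgroup.mem_subgroupOf.1 z.2, hz⟩
      · rintro ⟨hx, h1⟩
        exact ⟨⟨x, hle hx⟩, ⟨⟨⟨x, hle hx⟩, Subgroup.mem_subgroupOf.2 hx⟩, h1, rfl⟩, rfl⟩
    have hK4 : Nat.card K = 4 := by
      rw [hK, Subgroup.card_map_of_injective Subtype.val_injective,
        Subgroup.card_map_of_injective Subtype.val_injective]
      have hr : Nat.card f.range = 2 := by
        have e : (f.range : Set ℂˣ) = {1, -1} := by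
          ext y
          simp only [SetLike.mem_coe, MonoidHom.mem_range, Set.mem_insert_iff, Set.mem_singleton_iff]
          refine ⟨fun ⟨x, hx⟩ => hx ▸ hsq x, ?_⟩
          rintro (rfl | rfl)
          · exact ⟨1, map_one f⟩
          · exact ⟨⟨x0, hx0⟩, (hsq ⟨x0, hx0⟩).resolve_left hx1⟩
        rw [← SetLike.coe_sort_coe, e, Nat.card_coe_set_eq, Set.ncard_pair]
        intro e'
        have := congrArg (fun u : ℂˣ => (u : ℂ)) e'
        norm_num at this
      have h1 := f.ker.card_mul_index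
      rw [Subgroup.index_ker, hr, Nat.card_congr (Subgroup.subgroupOfEquivOfLe hle).toEquiv, hS] at h1
      omega
    obtain ⟨t, ht⟩ : ∃ t : N, orderOf t = 3 := by
      haveI : Fact (Nat.Prime 3) := ⟨Nat.prime_three⟩
      exact exists_prime_orderOf_dvd_card' 3 (by rw [hN]; norm_num)
    set τ : G := (t : G) with hτ
    have hord3 : orderOf τ = 3 := by rw [hτ, Subgroup.orderOf_coe, ht]
    have ht3 : τ ^ 3 = 1 := orderOf_dvd_iff_pow_eq_one.1 (by rw [hord3])
    have hτns : ¬ Scal τ := fun hs => by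
      have e2 : τ ^ 2 = 1 := by rcases (scal_iff τ).1 hs with e | e <;> rw [e] <;> simp
      have := Nat.le_of_dvd two_pos (orderOf_dvd_of_pow_eq_one e2)
      omega
    have hKconj : ∀ x : G, x ∈ K ↔ τ * x * τ⁻¹ ∈ K := by
      have hSc : ∀ x : G, x ∈ (S : Subgroup G) ↔ τ * x * τ⁻¹ ∈ (S : Subgroup G) :=
        Subgroup.mem_normalizer_iff.1 t.2
      intro x
      rw [hmemK, hmemK]
      refine ⟨fun ⟨hx, h1⟩ => ⟨(hSc x).1 hx, ?_⟩, fun ⟨hx, h1⟩ => ⟨(hSc x).2 hx, ?_⟩⟩
      · rw [show (⟨τ * x * τ⁻¹, hle ((hSc x).1 hx)⟩ : N) = t * ⟨x, hle hx⟩ * t⁻¹ from rfl,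
          map_mul, map_mul, h1, mul_one, map_inv, mul_inv_cancel]
      · rw [show (⟨τ * x * τ⁻¹, hle hx⟩ : N) = t * ⟨x, hle ((hSc x).2 hx)⟩ * t⁻¹ from rfl,
          map_mul, map_mul, map_inv, mul_right_comm, mul_inv_cancel, one_mul] at h1
        exact h1
    have hScal : ∀ x : G, Scal x → x ∈ K := fun x hx => by
      rcases (scal_iff x).1 hx with rfl | rfl
      · exact one_mem K
      · exact (hmemK _).2 ⟨hnegS, hm1⟩
    have hz2 : Nat.card {x : G // x ∈ K ∧ ¬ Scal x} = 2 := by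
      have hset : {x : G | x ∈ K ∧ ¬ Scal x} = (K : Set G) \ {1, -1} := by
        ext x; simp [scal_iff]
      show Nat.card ↥{x : G | x ∈ K ∧ ¬ Scal x} = 2
      rw [Nat.card_coe_set_eq, hset, Set.ncard_sdiff, ← Nat.card_coe_set_eq,
        Set.ncard_pair (neg_one_ne_one' hodd).symm]
      · rw [SetLike.coe_sort_coe, hK4]
      · intro y hy
        rcases hy with rfl | rfl
        · exact one_mem K
        · exact hScal _ ((scal_iff _).2 (Or.inr rfl))
    obtain ⟨u, ⟨huK, hus⟩, hut⟩ := exists_fixed_conj ht3 (fun x : G => x ∈ K ∧ ¬ Scal x)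
      (fun x => and_congr (hKconj x) (not_congr
        (show Scal x ↔ Scal (τ * x * τ⁻¹) from ⟨fun hs => by rwa [scal_conj hs τ],
          fun hs => by by_contra hn; exact not_scal_conj hn τ hs⟩))) (by rw [hz2]; norm_num)
    have hKS : K ≤ (S : Subgroup G) := fun x hx => ((hmemK x).1 hx).1
    have hz4 : Nat.card {x : G // x ∈ (S : Subgroup G) ∧ x ∉ K} = 4 := by
      show Nat.card ↥(((S : Subgroup G) : Set G) \ (K : Set G)) = 4
      rw [Nat.card_coe_set_eq, Set.ncard_sdiff hKS, ← Nat.card_coe_set_eq, ← Nat.card_coe_set_eq,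
        SetLike.coe_sort_coe, SetLike.coe_sort_coe, hS, hK4]
    obtain ⟨v, ⟨hvS, hvK⟩, hvt⟩ := exists_fixed_conj ht3
      (fun x : G => x ∈ (S : Subgroup G) ∧ x ∉ K)
      (fun x => and_congr (Subgroup.mem_normalizer_iff.1 t.2 x) (not_congr (hKconj x)))
      (by rw [hz4]; norm_num)
    have hu' : u ∈ cent τ := mem_cent.2 (mul_inv_eq_iff_eq_mul.1 hut)
    have hv' : v ∈ cent τ := mem_cent.2 (mul_inv_eq_iff_eq_mul.1 hvt)
    have huv : v ∈ cent u := mem_cent.2 (cent_comm hτns hu' hv')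
    have hScent : ∀ x ∈ (S : Subgroup G), x ∈ cent u := by
      have hKab : ∀ x ∈ K, x ∈ cent u := by
        intro x hx
        haveI : Fact (Nat.Prime 2) := ⟨Nat.prime_two⟩
        letI : CommGroup K := IsPGroup.commGroupOfCardEqPrimeSq (p := 2) (by rw [hK4]; norm_num)
        exact mem_cent.2 (congrArg Subtype.val (mul_comm (⟨u, huK⟩ : K) ⟨x, hx⟩))
      intro x hx
      by_cases hxK : x ∈ K
      · exact hKab x hxK
      · have hmem : v⁻¹ * x ∈ K := by
          refine (hmemK _).2 ⟨mul_mem (inv_mem hvS) hx, ?_⟩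
          have hv1 : lam ⟨v, hle hvS⟩ = -1 := (hsq ⟨⟨v, hle hvS⟩, Subgroup.mem_subgroupOf.2 hvS⟩).resolve_left
            fun e => hvK ((hmemK v).2 ⟨hvS, e⟩)
          have hx1' : lam ⟨x, hle hx⟩ = -1 := (hsq ⟨⟨x, hle hx⟩, Subgroup.mem_subgroupOf.2 hx⟩).resolve_left
            fun e => hxK ((hmemK x).2 ⟨hx, e⟩)
          rw [show (⟨v⁻¹ * x, hle (mul_mem (inv_mem hvS) hx)⟩ : N) =
            ⟨v, hle hvS⟩⁻¹ * ⟨x, hle hx⟩ from rfl, map_mul, map_inv, hv1, hx1', inv_mul_cancel]
        have := (cent u).mul_mem huv (hKab _ hmem)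
        rwa [mul_inv_cancel_left] at this
    exact hnc (cent_comm hus (hScent g hg) (hScent h hh))
  let e : ((N ⧸ SN) →* ℂˣ) ≃ (N →* ℂˣ) :=
    { toFun := fun l => l.comp (QuotientGroup.mk' SN)
      invFun := fun l => QuotientGroup.lift SN l (key l)
      left_inv := fun l => MonoidHom.ext fun x => QuotientGroup.induction_on x fun y => rfl
      right_inv := fun l => MonoidHom.ext fun x => rfl }
  haveI : Fact (Nat.Prime 3) := ⟨Nat.prime_three⟩
  haveI := isCyclic_of_prime_card hq3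
  letI : CommGroup (N ⧸ SN) := IsCyclic.commGroup
  rw [← Nat.card_congr e, CommGroup.card_monoidHom_of_hasEnoughRootsOfUnity, hq3]

theorem pdeg_normalizer_two (hodd : Odd q) (S : Sylow 2 G) :
    pdeg 2 (Subgroup.normalizer ((S : Subgroup G) : Set G)) = 4 := by
  classical
  obtain ⟨h17, h35⟩ := normalizer_sylow_two hodd S
  have hmod : (q % 8 = 1 ∨ q % 8 = 7) ∨ (q % 8 = 3 ∨ q % 8 = 5) := by
    obtain ⟨k, hk⟩ := id hodd
    omega
  rcases hmod with hm | hm
  · rw [pdeg_congr 2 (MulEquiv.subgroupCongr (h17 hm))]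
    exact pdeg_two_self_normalizing hodd S
  · obtain ⟨g, h, a, hp, hgS, hhS, hh, hle, ha, ha2, hcard, -⟩ := sylow_two_structure hodd S
    have ha' : a = 2 := by
      refine le_antisymm (not_lt.1 fun h3 => ?_) ha2
      rw [ha] at h3
      have h8 := (Nat.Prime.pow_dvd_iff_le_factorization Nat.prime_two Nat.card_pos.ne').2
        (show 3 ≤ (Nat.card (cent g)).factorization 2 from h3)
      rcases cent_sq_neg_one hodd hp.isq with ⟨e, h4⟩ | ⟨e, h4⟩ <;> rw [e] at h8 <;> omega
    have hS8 : Nat.card (S : Subgroup G) = 8 := by rw [hcard, ha']; norm_num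
    have hN : Nat.card (Subgroup.normalizer ((S : Subgroup G) : Set G)) = 24 := by
      rw [h35 hm, show Nat.card S = Nat.card (S : Subgroup G) from rfl, hS8]
    set N := Subgroup.normalizer ((S : Subgroup G) : Set G) with hNdef
    have hneg : (-1 : G) ∈ N :=
      Subgroup.le_normalizer (show (-1 : G) ∈ (S : Subgroup G) by
        rw [← hp.isq]; exact mul_mem hgS hgS)
    refine pdeg_two_of_24 hN (z := ⟨-1, hneg⟩) (a := ⟨g, Subgroup.le_normalizer hgS⟩)
      (b := ⟨h, Subgroup.le_normalizer hhS⟩) ?_ ?_ ?_ ?_ (card_hom_of_24 hodd S hS8 hN hp hgS hhS)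
    · rw [Subgroup.mem_center_iff]
      exact fun x => Subtype.ext (Subgroup.mem_center_iff.1 neg_one_central (x : G))
    · exact Subtype.ext (by show (-1 : G) * -1 = 1; simp)
    · exact fun e => neg_one_ne_one' hodd (congrArg Subtype.val e)
    · exact Subtype.ext (show g * h * g⁻¹ * h⁻¹ = -1 by
        rw [QPair.conj_ij hp, neg_mul, mul_inv_cancel])

variable [DecidableEq F]

/-- The number of characters of degree prime to `ℓ` of `SL(2, q)`. -/
theorem two_mul_pdeg (hodd : Odd q) (ℓ : ℕ) [Fact ℓ.Prime] :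
    2 * pdeg ℓ G = 2 + 2 * (if ℓ ∣ q then 0 else 1) + (q - 3) * (if ℓ ∣ q + 1 then 0 else 1) +
      (q - 1) * (if ℓ ∣ q - 1 then 0 else 1) + 4 * (if ℓ ∣ (q + 1) / 2 then 0 else 1) +
      4 * (if ℓ ∣ (q - 1) / 2 then 0 else 1) := by
  classical
  obtain ⟨g0, h0⟩ := exists_noEig (F := F)
  obtain ⟨θ0, t1, t2, -⟩ := exists_theta0 h0 hodd
  have hq := two_le_q (F := F)
  have hq3 : 3 ≤ q := by obtain ⟨k, hk⟩ := id hodd; omega
  let c : ℕ → ℕ := fun n => if ℓ ∣ n then 0 else 1
  let f : ℂ → ℂ := fun z => (c ⌊z.re⌋₊ : ℂ)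
  have hf : ∀ n : ℕ, f (n : ℂ) = (c n : ℂ) := fun n => by simp [f, Nat.floor_natCast]
  have hL : ∑ χ : Cfsg.IrrCharacter G, f ((χ : G → ℂ) 1) = (pdeg ℓ G : ℂ) := by
    rw [pdeg, Nat.card_eq_fintype_card, Fintype.card_subtype, Finset.card_filter, Nat.cast_sum]
    refine Finset.sum_congr rfl fun χ _ => ?_
    rw [charDegree_eq χ, hf]
    by_cases hd : ℓ ∣ Cfsg.charDegree (χ : G → ℂ) <;> simp [c, hd]
  have h := (table h0 hodd t1 t2).2 f
  rw [hL, show (1 : ℂ) = ((1 : ℕ) : ℂ) from Nat.cast_one.symm, hf] at h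
  simp only [Nat.cast_one] at h
  rw [show (q : ℂ) + 1 = ((q + 1 : ℕ) : ℂ) by push_cast; ring, hf, hf,
    show (q : ℂ) - 1 = ((q - 1 : ℕ) : ℂ) by rw [Nat.cast_sub (by omega)]; simp, hf,
    show (q : ℂ) - 3 = ((q - 3 : ℕ) : ℂ) by rw [Nat.cast_sub hq3]; simp,
    show ((q + 1 : ℕ) : ℂ) / 2 = (((q + 1) / 2 : ℕ) : ℂ) by
      rw [half_add hodd]; push_cast; ring, hf,
    show ((q - 1 : ℕ) : ℂ) / 2 = (((q - 1) / 2 : ℕ) : ℂ) by
      rw [half_sub hodd, Nat.cast_sub (by omega)]; push_cast; ring, hf] at h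
  have h1 : c 1 = 1 := if_neg (Fact.out : ℓ.Prime).not_dvd_one
  rw [h1, Nat.cast_one, mul_one] at h
  exact_mod_cast h

end Cfsg.Agent.SL2
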