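import Mathlib

/-!
# Sylow `2`-subgroups of `PGL(2, q)` for a Mersenne prime `q` meet pairwise non-trivially
-/

set_option autoImplicit false
set_option linter.unusedSectionVars false

namespace Cfsg.Agent.SL2

open Matrix

variable {F : Type*} [Field F]

local notation "M2" => Matrix (Fin 2) (Fin 2) F
local notation "GL2" => GL (Fin 2) F
local notation "PGL2" => GL (Fin 2) F ⧸ Subgroup.center (GL (Fin 2) F)

theorem entries_of_sq_neg_one {M : M2} (ht : M 1 1 = -M 0 0) (h : M * M = -1) :
    M 0 0 * M 0 0 + M 0 1 * M 1 0 = -1 := by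
  have := congrFun (congrFun h 0) 0
  simpa [Matrix.mul_apply, Fin.sum_univ_two] using this

/-- A non-zero traceless matrix anticommuting with an irreducible one is invertible. -/
theorem det_ne_zero_of_anticomm (hns : ¬ IsSquare (-1 : F)) {M X : M2} (ht : M 1 1 = -M 0 0)
    (h : M * M = -1) (hXt : X 1 1 = -X 0 0) (hX : X ≠ 0) (hanti : M * X + X * M = 0) :
    X.det ≠ 0 := by
  intro hd
  have hM := entries_of_sq_neg_one ht h
  have e := congrFun (congrFun hanti 0) 0
  simp [Matrix.mul_apply, Fin.sum_univ_two] at e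
  rw [Matrix.det_fin_two, hXt] at hd
  have hb : M 0 1 ≠ 0 := fun hb => hns ⟨M 0 0, by rw [hb] at hM; linear_combination -hM⟩
  have hkey : (M 0 1 * X 0 0 - M 0 0 * X 0 1) ^ 2 + X 0 1 ^ 2 = 0 := by
    linear_combination (-(M 0 1 ^ 2)) * hd - M 0 1 * X 0 1 * e + X 0 1 ^ 2 * hM
  have hy : X 0 1 = 0 := by
    by_contra hy
    exact hns ⟨(M 0 1 * X 0 0 - M 0 0 * X 0 1) / X 0 1, by field_simp; linear_combination -hkey⟩
  have hx : X 0 0 = 0 := by
    rw [hy] at hkey
    simpa [hb] using hkey
  have hz : X 1 0 = 0 := by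
    rw [hx, hy] at e
    simpa [hb] using e
  apply hX
  ext i j
  fin_cases i <;> fin_cases j <;> simp [hx, hy, hz, hXt]

theorem mk_eq_mk_of_smul {g h : GL2} (c : F) (e : (h : M2) = c • (g : M2)) :
    (QuotientGroup.mk g : PGL2) = QuotientGroup.mk h := by
  rw [QuotientGroup.eq, Matrix.GeneralLinearGroup.mem_center_iff_val_mem_range_scalar]
  refine ⟨c, ?_⟩
  rw [Units.val_mul, e, mul_smul_comm, Units.inv_mul, Matrix.scalar_apply, Matrix.smul_one_eq_diagonal]

theorem exists_smul_of_mk_eq {g h : GL2} (e : (QuotientGroup.mk g : PGL2) = QuotientGroup.mk h) :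
    ∃ c : F, (h : M2) = c • (g : M2) := by
  rw [QuotientGroup.eq, Matrix.GeneralLinearGroup.mem_center_iff_val_mem_range_scalar] at e
  obtain ⟨c, hc⟩ := e
  refine ⟨c, ?_⟩
  have : (h : M2) = (g : M2) * ((g⁻¹ * h : GL2) : M2) := by
    rw [Units.val_mul, ← mul_assoc, Units.mul_inv, one_mul]
  rw [this, ← hc, Matrix.scalar_apply, ← Matrix.smul_one_eq_diagonal, mul_smul_comm, mul_one]

variable [Fintype F]

theorem exists_inter (hns : ¬ IsSquare (-1 : F)) {M N : GL2}
    (hMt : (M : M2) 1 1 = -(M : M2) 0 0) (hM : (M : M2) * (M : M2) = -1)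
    (hNt : (N : M2) 1 1 = -(N : M2) 0 0) (hN : (N : M2) * (N : M2) = -1) :
    ∃ z : PGL2, z ≠ 1 ∧ z ∈ Subgroup.centralizer ({(QuotientGroup.mk M : PGL2)} : Set PGL2) ∧
      z ∈ Subgroup.centralizer ({(QuotientGroup.mk N : PGL2)} : Set PGL2) := by
  obtain ⟨X, hX0, hXt, hXM, hXN⟩ : ∃ X : M2, X ≠ 0 ∧ X 1 1 = -X 0 0 ∧
      (M : M2) * X + X * (M : M2) = 0 ∧ (N : M2) * X + X * (N : M2) = 0 := by
    by_cases hc : (M : M2) * (N : M2) - (N : M2) * (M : M2) = 0
    · obtain ⟨E, hE⟩ : ∃ E : M2, E = !![0, 1; 0, 0] := ⟨_, rfl⟩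
      have h2 : (2 : F) ≠ 0 := fun h2 => hns ⟨1, by linear_combination -h2⟩
      refine ⟨(M : M2) * E - E * (M : M2), ?_, ?_, ?_, ?_⟩
      · intro h
        rw [hE] at h
        have hc0 := congrFun (congrFun h 0) 0
        simp [Matrix.vecMul, dotProduct, Matrix.mul_apply, Fin.sum_univ_two] at hc0
        exact hns ⟨(M : M2) 0 0, by
          have := entries_of_sq_neg_one hMt hM
          rw [hc0] at this
          linear_combination -this⟩
      · rw [hE]; simp [Matrix.vecMul, dotProduct, Matrix.mul_apply, Fin.sum_univ_two]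
      · simp only [mul_sub, sub_mul, ← mul_assoc, hM]
        simp [mul_assoc, hM]; abel
      · have hm := entries_of_sq_neg_one hMt hM
        have e00 := congrFun (congrFun hc 0) 0
        have e01 := congrFun (congrFun hc 0) 1
        simp [Matrix.mul_apply, Fin.sum_univ_two, hMt, hNt] at e00 e01
        have hb : (M : M2) 0 1 ≠ 0 := fun hb => hns ⟨(M : M2) 0 0, by
          rw [hb] at hm; linear_combination -hm⟩
        obtain ⟨k, hk⟩ : ∃ k, (N : M2) = k • (M : M2) := by
          refine ⟨(N : M2) 0 1 / (M : M2) 0 1, ?_⟩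
          ext i j
          fin_cases i <;> fin_cases j <;> simp [hMt, hNt] <;> field_simp <;> grind
        rw [hk, smul_mul_assoc, mul_smul_comm, ← smul_add]
        convert smul_zero k
        simp only [mul_sub, sub_mul, ← mul_assoc, hM]
        simp [mul_assoc, hM]; abel
    · refine ⟨_, hc, ?_, ?_, ?_⟩
      · simp [Matrix.mul_apply, Fin.sum_univ_two]; ring
      · simp only [mul_sub, sub_mul, ← mul_assoc, hM]
        simp [mul_assoc, hM]; abel
      · simp only [mul_sub, sub_mul, ← mul_assoc, hN]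
        simp [mul_assoc, hN]; abel
  have hdet := det_ne_zero_of_anticomm hns hMt hM hXt hX0 hXM
  set x : GL2 := Matrix.GeneralLinearGroup.mkOfDetNeZero X hdet with hx
  have hxv : (x : M2) = X := rfl
  refine ⟨QuotientGroup.mk x, ?_, ?_, ?_⟩
  · intro h
    rw [QuotientGroup.eq_one_iff, Matrix.GeneralLinearGroup.mem_center_iff_val_mem_range_scalar] at h
    obtain ⟨c, hc⟩ := h
    rw [hxv] at hc
    rw [← hc] at hXt hX0
    simp at hXt
    have h2 : (2 : F) ≠ 0 := fun h2 => hns ⟨1, by linear_combination -h2⟩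
    exact hX0 (by rw [(mul_eq_zero.1 (show 2 * c = 0 by linear_combination hXt)).resolve_left h2]; simp)
  all_goals
    rw [Subgroup.mem_centralizer_singleton_iff, ← QuotientGroup.mk_mul, ← QuotientGroup.mk_mul]
    refine mk_eq_mk_of_smul (-1) ?_
    rw [Units.val_mul, Units.val_mul, hxv, neg_one_smul]
  · exact eq_neg_of_add_eq_zero_left hXM
  · exact eq_neg_of_add_eq_zero_left hXN

set_option maxHeartbeats 1600000 in
theorem card_preimage (hns : ¬ IsSquare (-1 : F)) {w : GL2}
    (hw : (w : M2) = !![0, -1; 1, 0]) :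
    Nat.card {h : GL2 // (h : M2) * (w : M2) = (w : M2) * (h : M2) ∨
      (h : M2) * (w : M2) = -((w : M2) * (h : M2))} = (Nat.card F ^ 2 - 1) * 2 := by
  classical
  have h2 : (2 : F) ≠ 0 := fun h2 => hns ⟨1, by linear_combination -h2⟩
  let f : {v : F × F // v ≠ (0, 0)} × Bool → {h : GL2 // (h : M2) * (w : M2) = (w : M2) * (h : M2) ∨
      (h : M2) * (w : M2) = -((w : M2) * (h : M2))} := fun v =>
    ⟨Matrix.GeneralLinearGroup.mkOfDetNeZero (if v.2 then !![v.1.1.1, v.1.1.2; v.1.1.2, -v.1.1.1]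
      else !![v.1.1.1, -v.1.1.2; v.1.1.2, v.1.1.1] : M2) (by
        intro hd
        obtain ⟨⟨⟨a, b⟩, hv⟩, s⟩ := v
        have hd' : a ^ 2 + b ^ 2 = 0 := by
          cases s <;> simp [Matrix.det_fin_two] at hd <;> first | linear_combination hd | linear_combination -hd
        by_cases hb : b = 0
        · exact hv (by rw [hb] at hd' ⊢; simpa using hd')
        · exact hns ⟨a / b, by field_simp; linear_combination -hd'⟩), by
      obtain ⟨⟨⟨a, b⟩, hv⟩, s⟩ := v
      cases s
      · left; rw [hw]; ext i j; fin_cases i <;> fin_cases j <;> simp [Matrix.GeneralLinearGroup.mkOfDetNeZero, Matrix.mul_apply, Fin.sum_univ_two]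
      · right; rw [hw]; ext i j; fin_cases i <;> fin_cases j <;> simp [Matrix.GeneralLinearGroup.mkOfDetNeZero, Matrix.mul_apply, Fin.sum_univ_two]⟩
  have hf : Function.Bijective f := by
    constructor
    · rintro ⟨⟨⟨a, b⟩, hv⟩, s⟩ ⟨⟨⟨a', b'⟩, hv'⟩, s'⟩ h
      have h' := congrArg (fun x : {h : GL2 // _} => (x.1 : M2)) h
      have e00 := congrFun (congrFun h' 0) 0
      have e11 := congrFun (congrFun h' 1) 1
      have e01 := congrFun (congrFun h' 0) 1
      have e10 := congrFun (congrFun h' 1) 0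
      cases s <;> cases s' <;> simp [f, Matrix.GeneralLinearGroup.mkOfDetNeZero] at e00 e11 e01 e10 ⊢
      · exact ⟨e00, e10⟩
      · exfalso; refine hv (Prod.ext ?_ ?_)
        · exact (mul_eq_zero.1 (show 2 * a = 0 by linear_combination e00 + e11)).resolve_left h2
        · exact (mul_eq_zero.1 (show 2 * b = 0 by linear_combination e10 - e01)).resolve_left h2
      · exfalso; refine hv' (Prod.ext ?_ ?_)
        · exact (mul_eq_zero.1 (show 2 * a' = 0 by linear_combination -e00 - e11)).resolve_left h2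
        · exact (mul_eq_zero.1 (show 2 * b' = 0 by linear_combination e01 - e10)).resolve_left h2
      · exact ⟨e00, e10⟩
    · rintro ⟨h, hh⟩
      have hdet : (h : M2).det ≠ 0 := (h.isUnit.map Matrix.detMonoidHom).ne_zero
      rcases hh with e | e
      all_goals
        rw [hw] at e
        have e00 := congrFun (congrFun e 0) 0
        have e01 := congrFun (congrFun e 0) 1
        simp [Matrix.vecMul, dotProduct, Matrix.mul_apply, Fin.sum_univ_two] at e00 e01
        have hv : ((h : M2) 0 0, (h : M2) 1 0) ≠ (0, 0) := fun hz => hdet (by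
          rw [Matrix.det_fin_two, show (h : M2) 0 0 = 0 from congrArg Prod.fst hz,
            show (h : M2) 1 0 = 0 from congrArg Prod.snd hz]; ring)
      · refine ⟨(⟨_, hv⟩, false), Subtype.ext (Units.ext ?_)⟩
        ext i j
        fin_cases i <;> fin_cases j <;> simp [f, Matrix.GeneralLinearGroup.mkOfDetNeZero] <;> grind
      · refine ⟨(⟨_, hv⟩, true), Subtype.ext (Units.ext ?_)⟩
        ext i j
        fin_cases i <;> fin_cases j <;> simp [f, Matrix.GeneralLinearGroup.mkOfDetNeZero] <;> grind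
  rw [← Nat.card_congr (Equiv.ofBijective f hf), Nat.card_prod, Nat.card_eq_fintype_card (α := Bool),
    Fintype.card_bool, Nat.card_eq_fintype_card, Fintype.card_subtype_compl,
    Fintype.card_subtype_eq, Fintype.card_prod, Nat.card_eq_fintype_card, pow_two]

end Cfsg.Agent.SL2
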