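import Mathlib

/-!
# Words in the conjugates of one element, indexed by polynomials over a prime field

If `u` has order dividing `p` and its conjugates under the powers of `a` commute, the words give a
module over the polynomial ring; a relation word cuts it down to the field.
-/

set_option autoImplicit false

namespace Cfsg.Agent.SL2Pres

open Polynomial

variable {p : ℕ} [Fact p.Prime] {H K : Type*} [Group H] [Group K]

/-- The conjugate of `u` by the `n`-th power of `a`. -/
def cjN (a u : H) (n : ℕ) : H := a ^ n * u * (a ^ n)⁻¹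

/-- The word of a polynomial. -/
noncomputable def pw (a u : H) (f : (ZMod p)[X]) : H :=
  ((List.range (f.natDegree + 1)).map fun n => cjN a u n ^ (f.coeff n).val).prod

theorem map_pw (ψ : H →* K) (a u : H) (f : (ZMod p)[X]) : ψ (pw a u f) = pw (ψ a) (ψ u) f := by
  simp [pw, cjN, map_list_prod, List.map_map, Function.comp_def]

theorem cjN_add (a u : H) (k n : ℕ) : MulAut.conj (a ^ k) (cjN a u n) = cjN a u (k + n) := by
  simp only [cjN, MulAut.conj_apply, pow_add, mul_inv_rev, mul_assoc]

theorem val_smul {R : Type*} [AddCommGroup R] [Module (ZMod p) R] (c : ZMod p) (r : R) :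
    c • r = c.val • r := by
  rw [← Nat.cast_smul_eq_nsmul (ZMod p), ZMod.natCast_zmod_val]

/-- A word is the value of any equivariant additive parametrisation at the evaluated polynomial. -/
theorem pw_eq {R : Type*} [CommRing R] [Algebra (ZMod p) R] {a u : H} (A : R) (z : R → H)
    (hadd : ∀ s t, z (s + t) = z s * z t) (h1 : z 1 = u) (hconj : ∀ t, a * z t * a⁻¹ = z (A * t))
    (f : (ZMod p)[X]) : pw a u f = z (aeval A f) := by
  have h0 : z 0 = 1 := by
    have := hadd 0 0
    rw [add_zero] at this
    exact left_eq_mul.1 this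
  have hsm : ∀ (c : ℕ) (r : R), z (c • r) = z r ^ c := fun c r => by
    induction c with
    | zero => simpa using h0
    | succ c ih => rw [succ_nsmul, hadd, ih, pow_succ]
  have hn : ∀ n, cjN a u n = z (A ^ n) := fun n => by
    induction n with
    | zero => simp [cjN, h1]
    | succ n ih =>
      rw [pow_succ', ← hconj, ← ih]
      simp [cjN, pow_succ', mul_assoc]
  have key : ∀ N, ((List.range N).map fun n => cjN a u n ^ (f.coeff n).val).prod =
      z (∑ n ∈ Finset.range N, f.coeff n • A ^ n) := fun N => by
    induction N with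
    | zero => simp [h0]
    | succ N ih =>
      rw [List.range_succ, List.map_append, List.prod_append, ih, Finset.sum_range_succ, hadd, val_smul,
        hsm]
      simp [hn]
  rw [pw, key, aeval_eq_sum_range]

/-- Commutation spreads along the powers of `a` if `b` sends `u` to `u` times its conjugate. -/
theorem commute_cjN {a b u : H} (hc : Commute u (cjN a u 1)) (hab : Commute a b)
    (hb : b * u * b⁻¹ = u * cjN a u 1) : ∀ n, Commute u (cjN a u n) := by
  have hbn : ∀ n, MulAut.conj b (cjN a u n) = cjN a u n * cjN a u (n + 1) := fun n => by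
    have e : MulAut.conj b (cjN a u n) = MulAut.conj (a ^ n) (b * u * b⁻¹) := by
      have := (hab.pow_left n).eq
      simp only [cjN, MulAut.conj_apply]
      calc b * (a ^ n * u * (a ^ n)⁻¹) * b⁻¹ = (b * a ^ n) * u * (b * a ^ n)⁻¹ := by group
        _ = a ^ n * (b * u * b⁻¹) * (a ^ n)⁻¹ := by rw [← this]; group
    rw [e, hb, map_mul, cjN_add]
    congr 1
  intro n
  induction n using Nat.twoStepInduction with
  | zero => simp [cjN, Commute.refl]
  | one => exact hc
  | more n ih0 ih1 =>
    have hu1 : cjN a u 1 = MulAut.conj (a ^ 1) u := rfl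
    have h11 : Commute (cjN a u 1) (cjN a u (n + 1)) := by
      rw [hu1, show n + 1 = 1 + n by omega, ← cjN_add]
      exact ih0.map (MulAut.conj (a ^ 1))
    have h12 : Commute (cjN a u 1) (cjN a u (n + 2)) := by
      rw [hu1, show n + 2 = 1 + (n + 1) by omega, ← cjN_add]
      exact ih1.map (MulAut.conj (a ^ 1))
    have hbig := ih1.map (MulAut.conj b)
    rw [MulAut.conj_apply, hb, hbn] at hbig
    have hbig' := hbig.eq
    generalize cjN a u 1 = c at *
    generalize cjN a u (n + 1) = A at *
    generalize cjN a u (n + 2) = B at *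
    have e1 : u * c * (A * B) = A * (u * B) * c := by
      calc u * c * (A * B) = u * (c * A) * B := by group
        _ = u * A * (c * B) := by rw [h11.eq]; group
        _ = A * (u * B) * c := by rw [h12.eq, ih1.eq]; group
    have e2 : A * B * (u * c) = A * (B * u) * c := by group
    rw [e1, e2] at hbig'
    exact mul_left_cancel (mul_right_cancel hbig')

/-- Commutation from a monic relation word of degree at most two. -/
theorem commute_cjN_small {a u : H} (hc : Commute u (cjN a u 1)) {g : (ZMod p)[X]} (hg : g.Monic)
    (hg0 : 0 < g.natDegree) (hg2 : g.natDegree ≤ 2) (hrel : pw a u g = 1) :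
    ∀ n, Commute u (cjN a u n) := by
  set S := Subgroup.closure ({u, cjN a u 1} : Set H) with hS
  have hu : u ∈ S := Subgroup.subset_closure (Or.inl rfl)
  have hu1 : cjN a u 1 ∈ S := Subgroup.subset_closure (Or.inr rfl)
  have hu0 : cjN a u 0 = u := by simp [cjN]
  have hu2 : cjN a u 2 ∈ S := by
    have hlead : g.coeff g.natDegree = 1 := hg
    rcases (show g.natDegree = 1 ∨ g.natDegree = 2 by omega) with h | h
    · rw [h] at hlead
      have hrel' : u ^ (g.coeff 0).val * cjN a u 1 = 1 := by
        simpa [pw, h, List.range_succ, hu0, hlead, ZMod.val_one] using hrel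
      have h1 : cjN a u 1 = (u ^ (g.coeff 0).val)⁻¹ := eq_inv_of_mul_eq_one_right hrel'
      have h2 : cjN a u 2 = ((cjN a u 1) ^ (g.coeff 0).val)⁻¹ := by
        rw [show (2 : ℕ) = 1 + 1 from rfl, ← cjN_add]
        conv_lhs => rw [h1]
        rw [map_inv, map_pow]
        simp [cjN]
      rw [h2]
      exact S.inv_mem (S.pow_mem hu1 _)
    · rw [h] at hlead
      have hrel' : u ^ (g.coeff 0).val * cjN a u 1 ^ (g.coeff 1).val * cjN a u 2 = 1 := by
        simpa [pw, h, List.range_succ, hu0, hlead, ZMod.val_one, mul_assoc] using hrel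
      rw [eq_inv_of_mul_eq_one_right hrel']
      exact S.inv_mem (S.mul_mem (S.pow_mem hu _) (S.pow_mem hu1 _))
  have hconj : ∀ x ∈ S, MulAut.conj a x ∈ S := by
    intro x hx
    induction hx using Subgroup.closure_induction with
    | mem y hy =>
      rcases hy with rfl | rfl
      · simpa [cjN] using hu1
      · have := cjN_add a u 1 1
        rw [pow_one] at this
        rw [this]; exact hu2
    | one => simp
    | mul y z _ _ hy hz => rw [map_mul]; exact S.mul_mem hy hz
    | inv y _ hy => rw [map_inv]; exact S.inv_mem hy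
  have hall : ∀ n, cjN a u n ∈ S := fun n => by
    induction n with
    | zero => rwa [hu0]
    | succ n ih =>
      have := hconj _ ih
      rw [show MulAut.conj a (cjN a u n) = MulAut.conj (a ^ 1) (cjN a u n) by rw [pow_one], cjN_add,
        add_comm] at this
      exact this
  intro n
  have hle : S ≤ Subgroup.centralizer ({u} : Set H) := by
    rw [hS, Subgroup.closure_le]
    rintro y (rfl | rfl) <;> rw [SetLike.mem_coe, Subgroup.mem_centralizer_singleton_iff]
    exact hc.eq.symm
  exact (Subgroup.mem_centralizer_singleton_iff.1 (hle (hall n))).symm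

/-- The parametrisation of the generated subgroup by the field. -/
theorem exists_param {R : Type*} [CommRing R] [Algebra (ZMod p) R] {a u : H} (hp : u ^ p = 1)
    (hcomm : ∀ n, Commute u (cjN a u n)) (g : (ZMod p)[X]) (hrel : pw a u g = 1) (A : R)
    (hsurj : ∀ t : R, ∃ f : (ZMod p)[X], aeval A f = t)
    (hker : ∀ f : (ZMod p)[X], aeval A f = 0 → g ∣ f) :
    ∃ x : R → H, (∀ s t, x (s + t) = x s * x t) ∧ x 1 = u ∧ ∀ t, a * x t * a⁻¹ = x (A * t) := by
  classical
  set U := Subgroup.closure (Set.range (cjN a u)) with hU
  have hpair : ∀ i j, Commute (cjN a u i) (cjN a u j) := by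
    suffices h : ∀ i n, Commute (cjN a u i) (cjN a u (i + n)) by
      intro i j
      rcases le_total i j with hij | hij
      · simpa [Nat.add_sub_cancel' hij] using h i (j - i)
      · simpa [Nat.add_sub_cancel' hij] using (h j (i - j)).symm
    intro i n
    have h := (hcomm n).map (MulAut.conj (a ^ i))
    rw [cjN_add] at h
    simpa [cjN, MulAut.conj_apply, -map_pow] using h
  haveI hUc : IsMulCommutative U := Subgroup.isMulCommutative_closure <| by
    rintro _ ⟨i, rfl⟩ _ ⟨j, rfl⟩
    exact (hpair i j).eq
  letI : CommGroup U := { (inferInstance : Group U) with mul_comm := hUc.is_comm.comm }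
  let v : ℕ → Additive U := fun n => Additive.ofMul ⟨cjN a u n, Subgroup.subset_closure ⟨n, rfl⟩⟩
  have hv : ∀ n, p • v n = 0 := fun n => by
    apply Additive.toMul.injective
    apply Subtype.ext
    show cjN a u n ^ p = 1
    simp [cjN, conj_pow, hp]
  have hmod : ∀ (c : ℕ) n, (c % p) • v n = c • v n := fun c n => by
    conv_rhs => rw [← Nat.div_add_mod c p, add_nsmul, mul_comm, mul_nsmul', hv, smul_zero, zero_add]
  let Φ : (ZMod p)[X] → Additive U := fun f => f.sum fun n c => c.val • v n
  have hΦadd : ∀ f f', Φ (f + f') = Φ f + Φ f' := fun f f' => by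
    refine sum_add_index f f' _ (fun n => by simp) fun n c c' => ?_
    rw [ZMod.val_add, hmod, add_nsmul]
  have hΦmon : ∀ n (c : ZMod p), Φ (monomial n c) = c.val • v n := fun n c =>
    sum_monomial_index c _ (by simp)
  let z : (ZMod p)[X] → H := fun f => ((Φ f).toMul : U)
  have hzadd : ∀ f f', z (f + f') = z f * z f' := fun f f' => by
    simp only [z, hΦadd, toMul_add, Subgroup.coe_mul]
  have hzmon : ∀ n (c : ZMod p), z (monomial n c) = cjN a u n ^ c.val := fun n c => by
    simp only [z, hΦmon, toMul_nsmul, SubgroupClass.coe_pow]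
    rfl
  have hz0 : z 0 = 1 := by
    have := hzadd 0 0
    rw [add_zero] at this
    exact left_eq_mul.1 this
  have hz1 : z 1 = u := by
    rw [← monomial_zero_one, hzmon, ZMod.val_one, pow_one]
    simp [cjN]
  have hzX : ∀ f, a * z f * a⁻¹ = z (X * f) := by
    intro f
    induction f using Polynomial.induction_on' with
    | add f f' hf hf' => rw [mul_add, hzadd, hzadd, ← hf, ← hf']; group
    | monomial n c =>
      rw [X_mul_monomial, hzmon, hzmon, ← conj_pow]
      congr 1
      simp [cjN, pow_succ', mul_assoc]
  have hzg : z g = 1 := by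
    have h := pw_eq (X : (ZMod p)[X]) z hzadd hz1 hzX g
    rwa [aeval_X_left_apply, hrel, eq_comm] at h
  have hzn : ∀ f, z f = 1 → ∀ (c : ℕ), z (c • f) = 1 := fun f hf c => by
    induction c with
    | zero => simpa using hz0
    | succ c ih => rw [succ_nsmul, hzadd, ih, hf, one_mul]
  have hXn : ∀ (n : ℕ) f, z f = 1 → z (X ^ n * f) = 1 := fun n f hf => by
    induction n with
    | zero => simpa using hf
    | succ n ih => rw [pow_succ', mul_assoc, ← hzX, ih, mul_one, mul_inv_cancel]
  have hmul : ∀ f, z (f * g) = 1 := by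
    intro f
    induction f using Polynomial.induction_on' with
    | add f f' hf hf' => rw [add_mul, hzadd, hf, hf', one_mul]
    | monomial n c =>
      rw [← C_mul_X_pow_eq_monomial, mul_assoc, ← smul_eq_C_mul, val_smul]
      exact hzn _ (hXn n g hzg) _
  have hwd : ∀ f f', aeval A f = aeval A f' → z f = z f' := by
    intro f f' hff
    obtain ⟨q, hq⟩ := hker (f - f') (by rw [map_sub, hff, sub_self])
    rw [show f = f' + q * g by rw [mul_comm, ← hq]; ring, hzadd, hmul, mul_one]
  choose pre hpre using hsurj
  refine ⟨fun t => z (pre t), fun s t => ?_, ?_, fun t => ?_⟩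
  · rw [← hzadd]
    exact hwd _ _ (by simp [hpre])
  · rw [← hz1]
    exact hwd _ _ (by simp [hpre])
  · rw [hzX]
    exact hwd _ _ (by simp [hpre])

end Cfsg.Agent.SL2Pres
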