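import Cfsg.Agent.Lib.Root.SLTwoField
import Cfsg.Agent.Lib.SL2.PresWords

/-!
# A group satisfying a few relations receives `SL₂`
-/

set_option autoImplicit false

namespace Cfsg.Agent.SL2Pres

open Polynomial Cfsg.Agent.RootLib Cfsg.Agent.RootLibK

/-- The data attached to a finite field. -/
structure Data (p : ℕ) [Fact p.Prime] (F : Type*) [Field F] [Algebra (ZMod p) F] where
  ζ : F
  ne : ζ ≠ 0
  gen : ∀ t : F, t ≠ 0 → ∃ k : ℕ, ζ ^ k = t
  i : ℕ
  m : (ZMod p)[X]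
  monic : m.Monic
  deg_pos : 0 < m.natDegree
  eval_m : aeval ((ζ ^ i) ^ 2) m = 0
  ker : ∀ f : (ZMod p)[X], aeval ((ζ ^ i) ^ 2) f = 0 → m ∣ f
  fh : (ZMod p)[X]
  eval_h : aeval ((ζ ^ i) ^ 2) fh = ζ ^ 2
  fz : (ZMod p)[X]
  eval_z : aeval ((ζ ^ i) ^ 2) fz = ζ
  fzi : (ZMod p)[X]
  eval_zi : aeval ((ζ ^ i) ^ 2) fzi = ζ⁻¹
  surj : ∀ t : F, ∃ f : (ZMod p)[X], aeval ((ζ ^ i) ^ 2) f = t

variable {p : ℕ} [Fact p.Prime] {F : Type*} [Field F] [Algebra (ZMod p) F]

/-- The relations needed in the target group. -/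
structure Holds (D : Data p F) {H : Type*} [Group H] (u h w : H) : Prop where
  pow_u : u ^ p = 1
  comm : Commute u (cjN (h ^ D.i) u 1)
  spread : D.m.natDegree ≤ 2 ∨ ∃ j : ℕ, h ^ j * u * (h ^ j)⁻¹ = u * cjN (h ^ D.i) u 1
  rel_m : pw (h ^ D.i) u D.m = 1
  rel_h : h * u * h⁻¹ = pw (h ^ D.i) u D.fh
  sq_w : Commute (w * w) u
  inv_h : w * h * w⁻¹ = h⁻¹
  rel_one : u * (w * u * w⁻¹) * u = w
  rel_zeta : pw (h ^ D.i) u D.fz * (w * pw (h ^ D.i) u D.fzi * w⁻¹) * pw (h ^ D.i) u D.fz = h * w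

/-- The image of the torus generator. -/
noncomputable def hS (D : Data p F) : Matrix.SpecialLinearGroup (Fin 2) F :=
  diagEl (fun t : F => uEl t) (fun t : F => lEl (-t)) D.ζ

/-- The image of the Weyl element. -/
noncomputable def wS (F : Type*) [Field F] : Matrix.SpecialLinearGroup (Fin 2) F :=
  monEl (fun t : F => uEl t) (fun t : F => lEl (-t)) (1 : F)

/-- Relations imply a homomorphism from `SL₂` matching the generators. -/
theorem exists_hom [Finite F] (D : Data p F) {H : Type*} [Group H] {u h w : H} (R : Holds D u h w) :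
    ∃ φ : Matrix.SpecialLinearGroup (Fin 2) F →* H, φ (uEl 1) = u ∧ φ (hS D) = h ∧ φ (wS F) = w := by
  classical
  set a := h ^ D.i with ha
  set A := (D.ζ ^ D.i) ^ 2 with hA
  have hcomm : ∀ n, Commute u (cjN a u n) := by
    rcases R.spread with hd | ⟨j, hj⟩
    · exact commute_cjN_small R.comm D.monic D.deg_pos hd R.rel_m
    · exact commute_cjN R.comm ((Commute.refl h).pow_pow D.i j) hj
  obtain ⟨x, hx, hx1, hxa⟩ := exists_param R.pow_u hcomm D.m R.rel_m A D.surj D.ker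
  have hpw : ∀ f : (ZMod p)[X], pw a u f = x (aeval A f) := fun f => pw_eq A x hx hx1 hxa f
  have hx0 : x 0 = 1 := by
    have := hx 0 0
    rw [add_zero] at this
    exact left_eq_mul.1 this
  -- the torus action
  have hha : Commute h a := Commute.self_pow h D.i
  have hh : ∀ t, h * x t * h⁻¹ = x (D.ζ ^ 2 * t) := by
    intro t
    obtain ⟨f, rfl⟩ := D.surj t
    have e1 : h * u * h⁻¹ = x (D.ζ ^ 2) := by rw [R.rel_h, hpw, D.eval_h]
    have e2 : x (D.ζ ^ 2 * aeval A f) = pw a (h * u * h⁻¹) f := by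
      refine (pw_eq (a := a) (u := h * u * h⁻¹) A (fun t => x (D.ζ ^ 2 * t)) (fun s t => ?_) ?_ (fun t => ?_) f).symm
      · rw [mul_add, hx]
      · rw [mul_one, e1]
      · rw [hxa, mul_left_comm]
    rw [e2, ← hpw f]
    have := map_pw (p := p) (MulAut.conj h).toMonoidHom a u f
    simp only [MulEquiv.toMonoidHom_eq_coe, MonoidHom.coe_coe, MulAut.conj_apply] at this
    rw [this, show h * a * h⁻¹ = a from mul_inv_eq_of_eq_mul hha.eq]
  have hhn : ∀ (n : ℕ) t, h ^ n * x t = x (D.ζ ^ (2 * n) * t) * h ^ n := by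
    intro n
    induction n with
    | zero => intro t; simp
    | succ n ih =>
      intro t
      have e : h * x t = x (D.ζ ^ 2 * t) * h := by rw [← hh t]; group
      rw [pow_succ, mul_assoc, e, ← mul_assoc, ih, mul_assoc]
      congr 2
      ring_nf
  -- the second root group
  let y : F → H := fun t => w * x t * w⁻¹
  have hy : ∀ s t, y (s + t) = y s * y t := fun s t => by
    simp only [y, hx]; group
  have hhinv : ∀ n : ℕ, w * h ^ n = (h ^ n)⁻¹ * w := fun n => by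
    have := congrArg (· ^ n) R.inv_h
    simp only [conj_pow, inv_pow] at this
    rw [← this]; group
  have hinvx : ∀ (n : ℕ) t, (h ^ n)⁻¹ * x t = x (t / D.ζ ^ (2 * n)) * (h ^ n)⁻¹ := fun n t => by
    have h2 := hhn n (t / D.ζ ^ (2 * n))
    rw [mul_div_cancel₀ _ (pow_ne_zero _ D.ne)] at h2
    calc (h ^ n)⁻¹ * x t = (h ^ n)⁻¹ * (x t * h ^ n) * (h ^ n)⁻¹ := by group
      _ = x (t / D.ζ ^ (2 * n)) * (h ^ n)⁻¹ := by rw [← h2]; group
  have hhy : ∀ (n : ℕ) t, h ^ n * y t = y (t / D.ζ ^ (2 * n)) * h ^ n := by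
    intro n t
    have e : h ^ n * w = w * (h ^ n)⁻¹ := by
      have := hhinv n
      calc h ^ n * w = h ^ n * (w * h ^ n) * (h ^ n)⁻¹ := by group
        _ = w * (h ^ n)⁻¹ := by rw [this]; group
    calc h ^ n * y t = h ^ n * w * x t * w⁻¹ := by simp only [y]; group
      _ = w * ((h ^ n)⁻¹ * x t) * w⁻¹ := by rw [e]; group
      _ = w * x (t / D.ζ ^ (2 * n)) * w⁻¹ * (w * (h ^ n)⁻¹ * w⁻¹) := by rw [hinvx]; group
      _ = y (t / D.ζ ^ (2 * n)) * h ^ n := by rw [← e]; simp only [y]; group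
  -- the square of the Weyl element is central on the root groups
  have hww : ∀ t, w * w * x t = x t * (w * w) := by
    intro t
    obtain ⟨f, rfl⟩ := D.surj t
    rw [← hpw]
    have hwh : Commute (w * w) h := by
      have h1 := R.inv_h
      show w * w * h = h * (w * w)
      calc w * w * h = w * (w * h * w⁻¹) * w := by group
        _ = w * h⁻¹ * w⁻¹ * (w * w) := by rw [h1]; group
        _ = (w * h * w⁻¹)⁻¹ * (w * w) := by group
        _ = h * (w * w) := by rw [h1, inv_inv]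
    have := map_pw (p := p) (MulAut.conj (w * w)).toMonoidHom a u f
    simp only [MulEquiv.toMonoidHom_eq_coe, MonoidHom.coe_coe, MulAut.conj_apply] at this
    rw [show w * w * a * (w * w)⁻¹ = a from mul_inv_eq_of_eq_mul (hwh.pow_right D.i).eq,
      show w * w * u * (w * w)⁻¹ = u from mul_inv_eq_of_eq_mul R.sq_w.eq] at this
    exact mul_inv_eq_iff_eq_mul.1 this
  have hW1 : x 1 * y 1 * x 1 = w := by
    simp only [y, hx1]; exact R.rel_one
  have hWz : x D.ζ * y D.ζ⁻¹ * x D.ζ = h * w := by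
    have := R.rel_zeta
    rwa [hpw, hpw, D.eval_z, D.eval_zi] at this
  have hW : ∀ r : F, r ≠ 0 → ∃ k : ℕ, x r * y r⁻¹ * x r = h ^ k * w ∧ D.ζ ^ k = r := by
    intro r hr
    obtain ⟨k, rfl⟩ := D.gen r hr
    refine ⟨k, ?_, rfl⟩
    have step : ∀ (n : ℕ) (s : F), x (D.ζ ^ (2 * n) * s) * y (D.ζ ^ (2 * n) * s)⁻¹ * x (D.ζ ^ (2 * n) * s) * h ^ n
        = h ^ n * (x s * y s⁻¹ * x s) := by
      intro n s
      symm
      rw [show (D.ζ ^ (2 * n) * s)⁻¹ = s⁻¹ / D.ζ ^ (2 * n) by rw [mul_inv, div_eq_mul_inv, mul_comm]]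
      calc h ^ n * (x s * y s⁻¹ * x s) = (h ^ n * x s) * y s⁻¹ * x s := by group
        _ = x (D.ζ ^ (2 * n) * s) * (h ^ n * y s⁻¹) * x s := by rw [hhn]; group
        _ = x (D.ζ ^ (2 * n) * s) * y (s⁻¹ / D.ζ ^ (2 * n)) * (h ^ n * x s) := by rw [hhy]; group
        _ = _ := by rw [hhn]; group
    rcases Nat.even_or_odd k with ⟨n, rfl⟩ | ⟨n, rfl⟩
    · have := step n 1
      rw [mul_one, inv_one, hW1, ← eq_mul_inv_iff_mul_eq] at this
      rw [← two_mul, this, mul_assoc, ← inv_pow]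
      rw [show w * (h⁻¹) ^ n = h ^ n * w by
        rw [inv_pow]; have := hhinv n
        calc w * (h ^ n)⁻¹ = h ^ n * ((h ^ n)⁻¹ * w) * (h ^ n)⁻¹ := by group
          _ = h ^ n * w := by rw [← this]; group]
      rw [← mul_assoc, ← pow_add, two_mul]
    · have := step n D.ζ
      rw [hWz, ← eq_mul_inv_iff_mul_eq] at this
      rw [pow_succ, this]
      have e : w * (h ^ n)⁻¹ = h ^ n * w := by
        have := hhinv n
        calc w * (h ^ n)⁻¹ = h ^ n * ((h ^ n)⁻¹ * w) * (h ^ n)⁻¹ := by group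
          _ = h ^ n * w := by rw [← this]; group
      calc h ^ n * (h * w) * (h ^ n)⁻¹ = h ^ n * h * (w * (h ^ n)⁻¹) := by group
        _ = h ^ (2 * n + 1) * w := by rw [e, ← mul_assoc, ← pow_succ, ← pow_add]; congr 2; ring
  have hR : Rels x y := by
    refine ⟨hx, hy, fun {r} hr t => ?_, fun {r} hr t => ?_⟩
    · obtain ⟨k, hk, rfl⟩ := hW r hr
      rw [monEl, hk, ← pow_mul, mul_comm k 2]
      calc h ^ k * w * x t = h ^ k * y t * w := by simp only [y]; group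
        _ = y (t / D.ζ ^ (2 * k)) * (h ^ k * w) := by rw [hhy]; group
    · obtain ⟨k, hk, rfl⟩ := hW r hr
      rw [monEl, hk, ← pow_mul, mul_comm k 2]
      calc h ^ k * w * y t = h ^ k * (w * w * x t) * w⁻¹ := by simp only [y]; group
        _ = h ^ k * x t * w := by rw [hww]; group
        _ = x (t * D.ζ ^ (2 * k)) * (h ^ k * w) := by rw [hhn, mul_comm (D.ζ ^ (2 * k)) t]; group
  obtain ⟨φ, hφx, hφy⟩ := hR.exists_hom
  have hmon : ∀ r, φ (monEl (fun t : F => uEl t) (fun t : F => lEl (-t)) r) = x r * y r⁻¹ * x r := fun r => by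
    simp [monEl, hφx, hφy]
  refine ⟨φ, by rw [hφx, hx1], ?_, ?_⟩
  · rw [hS, diagEl, map_mul, map_inv, hmon, hmon, inv_one, hW1, hWz, mul_inv_cancel_right]
  · rw [wS, hmon, inv_one, hW1]

/-- The relations hold in `SL₂`. -/
theorem holds_sl [Finite F] (D : Data p F)
    (hspread : D.m.natDegree ≤ 2 ∨ ∃ j : ℕ, (D.ζ ^ j) ^ 2 = 1 + (D.ζ ^ D.i) ^ 2) :
    Holds D (uEl 1) (hS D) (wS F) := by
  have R := rels_sl_two (K := F)
  set X' := fun t : F => (uEl t : Matrix.SpecialLinearGroup (Fin 2) F) with hX'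
  set Y' := fun t : F => (lEl (-t) : Matrix.SpecialLinearGroup (Fin 2) F) with hY'
  have hhn : ∀ n : ℕ, hS D ^ n = diagEl X' Y' (D.ζ ^ n) := fun n => by
    induction n with
    | zero => rw [pow_zero, pow_zero, R.diag_one]
    | succ n ih => rw [pow_succ, pow_succ, ih, R.diag_mul (pow_ne_zero _ D.ne) D.ne]; rfl
  have hdx : ∀ (n : ℕ) t, hS D ^ n * uEl t * (hS D ^ n)⁻¹ = uEl ((D.ζ ^ n) ^ 2 * t) := fun n t => by
    have := R.diag_x (pow_ne_zero n D.ne) t
    rw [hhn, mul_inv_eq_iff_eq_mul, mul_comm ((D.ζ ^ n) ^ 2) t]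
    exact this
  have hpw : ∀ f : (ZMod p)[X], pw (hS D ^ D.i) (uEl 1) f = uEl (aeval ((D.ζ ^ D.i) ^ 2) f) := fun f =>
    pw_eq _ (fun t : F => uEl t) (fun s t => (uEl_mul s t).symm) rfl (hdx D.i) f
  have hw1 : ∀ t : F, wS F * uEl t * (wS F)⁻¹ = lEl (-t) := fun t => by
    have := R.mon_x (one_ne_zero (α := F)) t
    rw [one_pow, div_one] at this
    rw [mul_inv_eq_iff_eq_mul]
    exact this
  have hu1 : cjN (hS D ^ D.i) (uEl (1 : F)) 1 = uEl ((D.ζ ^ D.i) ^ 2) := by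
    rw [cjN, pow_one, hdx, mul_one]
  refine ⟨?_, ?_, ?_, ?_, ?_, ?_, ?_, ?_, ?_⟩
  · haveI := charP_of_injective_algebraMap (algebraMap (ZMod p) F).injective p
    have : ∀ n : ℕ, (uEl (1 : F)) ^ n = uEl (n : F) := fun n => by
      induction n with
      | zero => simp [uEl_zero]
      | succ n ih => rw [pow_succ, ih, uEl_mul, Nat.cast_succ]
    rw [this, CharP.cast_eq_zero, uEl_zero]
  · rw [hu1, Commute, SemiconjBy, uEl_mul, uEl_mul, add_comm]
  · refine hspread.imp id fun ⟨j, hj⟩ => ⟨j, ?_⟩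
    rw [hdx, mul_one, hu1, uEl_mul, hj]
  · rw [hpw, D.eval_m, uEl_zero]
  · rw [hpw, D.eval_h, ← pow_one (hS D), hdx, pow_one, mul_one]
  · show wS F * wS F * uEl 1 = uEl 1 * (wS F * wS F)
    have h2 := R.mon_y (one_ne_zero (α := F)) (1 : F)
    rw [one_pow, mul_one] at h2
    have h1 := R.mon_x (one_ne_zero (α := F)) (1 : F)
    rw [one_pow, div_one] at h1
    change wS F * uEl 1 = Y' 1 * wS F at h1
    change wS F * Y' 1 = uEl 1 * wS F at h2
    rw [mul_assoc, h1, ← mul_assoc, h2, mul_assoc]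
  · have h := R.mon_mon (one_ne_zero (α := F)) D.ne
    rw [one_pow, one_div] at h
    have hinv : diagEl X' Y' D.ζ⁻¹ = (diagEl X' Y' D.ζ)⁻¹ := eq_inv_of_mul_eq_one_left (by
      rw [← R.diag_mul (inv_ne_zero D.ne) D.ne, inv_mul_cancel₀ D.ne, R.diag_one])
    calc wS F * hS D * (wS F)⁻¹ = wS F * monEl X' Y' D.ζ * (wS F)⁻¹ * (wS F)⁻¹ := by
          simp only [hS, diagEl, wS, hX', hY']; group
      _ = monEl X' Y' D.ζ⁻¹ * (wS F)⁻¹ := by rw [show wS F = monEl X' Y' 1 from rfl, h]; group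
      _ = (hS D)⁻¹ := hinv
  · rw [hw1]
    show _ = monEl X' Y' 1
    rw [monEl, inv_one]
  · rw [hpw, hpw, hw1, D.eval_z, D.eval_zi]
    show _ = diagEl X' Y' D.ζ * monEl X' Y' 1
    rw [diagEl, inv_mul_cancel_right]
    rfl

end Cfsg.Agent.SL2Pres
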