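import Cfsg.Agent.Lib.SL2.PresCore

/-!
# Choices in a finite field for the presentation of `SL₂`
-/

set_option autoImplicit false

namespace Cfsg.Agent.SL2Pres

open Polynomial

variable {p : ℕ} [Fact p.Prime] {F : Type*} [Field F] [Fintype F] [Algebra (ZMod p) F]

/-- An element outside the proper subfields generates. -/
theorem surj_aeval {d : ℕ} (hd : Fintype.card F = p ^ d) (A : F)
    (hA : ∀ e, 1 ≤ e → 2 * e ≤ d → A ^ (p ^ e) ≠ A) : ∀ t : F, ∃ f : (ZMod p)[X], aeval A f = t := by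
  classical
  set K := IntermediateField.adjoin (ZMod p) ({A} : Set F) with hK
  have hd' : Module.finrank (ZMod p) F = d := by
    have h := Module.card_eq_pow_finrank (K := ZMod p) (V := F)
    rw [ZMod.card, hd] at h
    exact (Nat.pow_right_injective (Fact.out : p.Prime).two_le h).symm
  have htop : K = ⊤ := by
    by_contra hne
    set e := Module.finrank (ZMod p) K with he
    have hmul : e * Module.finrank K F = d := by rw [he, Module.finrank_mul_finrank, hd']
    have he1 : 1 ≤ e := Module.finrank_pos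
    have h2 : 2 ≤ Module.finrank K F := by
      have hpos : 0 < Module.finrank K F := Module.finrank_pos
      have hne1 : Module.finrank K F ≠ 1 := fun h1 => hne (by
        refine IntermediateField.eq_of_le_of_finrank_eq le_top ?_
        rw [IntermediateField.finrank_top', hd', ← hmul, h1, mul_one])
      omega
    refine hA e he1 (by nlinarith) ?_
    haveI := Fintype.ofFinite K
    have hc : Fintype.card K = p ^ e := by
      rw [Module.card_eq_pow_finrank (K := ZMod p) (V := K), ZMod.card]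
    have h := FiniteField.pow_card (⟨A, IntermediateField.mem_adjoin_simple_self (ZMod p) A⟩ : K)
    rw [hc] at h
    simpa using congrArg Subtype.val h
  intro t
  have h1 : t ∈ K.toSubalgebra := by rw [htop]; trivial
  rw [hK, IntermediateField.adjoin_simple_toSubalgebra_of_isAlgebraic (Algebra.IsAlgebraic.isAlgebraic A),
    Algebra.adjoin_singleton_eq_range_aeval] at h1
  exact h1

theorem exists_gen : ∃ ζ : F, ζ ≠ 0 ∧ orderOf ζ = Fintype.card F - 1 ∧ ∀ t : F, t ≠ 0 → ∃ k : ℕ, ζ ^ k = t := by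
  classical
  obtain ⟨g, hg⟩ := IsCyclic.exists_generator (α := Fˣ)
  refine ⟨g, g.ne_zero, ?_, fun t ht => ?_⟩
  · rw [orderOf_units, orderOf_eq_card_of_forall_mem_zpowers hg, Nat.card_eq_fintype_card, Fintype.card_units]
  · obtain ⟨k, hk⟩ := (isOfFinOrder_of_finite g).mem_powers_iff_mem_zpowers.mpr (hg (Units.mk0 t ht))
    exact ⟨k, by simpa using congrArg (fun u : Fˣ => (u : F)) hk⟩

/-- The square of a generator lies in no proper subfield. -/
theorem sq_gen_ne {d : ℕ} (hd : Fintype.card F = p ^ d) {ζ : F} (h0 : ζ ≠ 0)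
    (ho : orderOf ζ = Fintype.card F - 1) :
    ∀ e, 1 ≤ e → 2 * e ≤ d → (ζ ^ 2) ^ (p ^ e) ≠ ζ ^ 2 := by
  intro e he hed h
  have hp := (Fact.out : p.Prime).two_le
  obtain ⟨s, hs⟩ : ∃ s, p ^ e = s + 1 := ⟨p ^ e - 1, by have := Nat.one_le_pow e p (by omega); omega⟩
  rw [hs, pow_succ, mul_eq_right₀ (pow_ne_zero 2 h0), ← pow_mul, ← orderOf_dvd_iff_pow_eq_one, ho, hd] at h
  have h1 : p ^ (2 * e) ≤ p ^ d := Nat.pow_le_pow_right (by omega) hed
  have h2 : 2 ≤ p ^ e := le_trans hp (Nat.le_self_pow (by omega) p)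
  rw [two_mul, pow_add, hs] at h1
  have h3 := Nat.le_of_dvd (by omega) h
  have : (s + 1) * (s + 1) = s * s + 2 * s + 1 := by ring
  have h4 : 1 ≤ s * s := Nat.one_le_iff_ne_zero.mpr (Nat.mul_ne_zero (by omega) (by omega))
  omega

/-- In odd characteristic two consecutive squares, the first one generating. -/
theorem exists_squares {d : ℕ} (hd : Fintype.card F = p ^ d) (hp : p ≠ 2) (h3 : 3 ≤ d) :
    ∃ s r : F, s ≠ 0 ∧ r ≠ 0 ∧ r ^ 2 = 1 + s ^ 2 ∧
      ∀ e, 1 ≤ e → 2 * e ≤ d → (s ^ 2) ^ (p ^ e) ≠ s ^ 2 := by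
  classical
  haveI := charP_of_injective_algebraMap (algebraMap (ZMod p) F).injective p
  have hp3 : 3 ≤ p := by have := (Fact.out : p.Prime).two_le; omega
  have h2 : (2 : F) ≠ 0 := by
    have : ((2 : ℕ) : F) ≠ 0 := by
      rw [Ne, CharP.cast_eq_zero_iff F p]
      exact fun h => hp ((Nat.prime_dvd_prime_iff_eq Fact.out Nat.prime_two).mp h)
    simpa using this
  let quart : F → F[X] := fun c => X ^ 4 - C (4 * c + 2) * X ^ 2 + 1
  let fixed : ℕ → Finset F := fun e => (X ^ (p ^ e) - X : F[X]).roots.toFinset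
  let bad : Finset F := insert 0 ((Finset.Icc 1 (d / 2)).biUnion fun e =>
    (fixed e).biUnion fun c => (quart c).roots.toFinset)
  have hq4 : ∀ c, (quart c).natDegree = 4 := fun c => by simp only [quart]; compute_degree!
  have hqne : ∀ c, quart c ≠ 0 := fun c h => by have := hq4 c; rw [h] at this; simp at this
  have hbadcard : bad.card ≤ 1 + 6 * p ^ (d / 2) := by
    refine (Finset.card_insert_le _ _).trans ?_
    have h1 : ∀ e ∈ Finset.Icc 1 (d / 2), ((fixed e).biUnion fun c => (quart c).roots.toFinset).card ≤ p ^ e * 4 := by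
      intro e he
      refine (Finset.card_biUnion_le_card_mul _ _ 4 fun c _ => ?_).trans (Nat.mul_le_mul_right _ ?_)
      · exact (Multiset.toFinset_card_le _).trans ((card_roots' _).trans (hq4 c).le)
      · refine (Multiset.toFinset_card_le _).trans ((card_roots' _).trans ?_)
        rw [FiniteField.X_pow_card_sub_X_natDegree_eq F]
        exact Nat.one_lt_pow (by have := (Finset.mem_Icc.mp he).1; omega) (by omega)
    have h2 : ∀ D : ℕ, 2 * ∑ e ∈ Finset.Icc 1 D, p ^ e ≤ 3 * p ^ D := fun D => by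
      induction D with
      | zero => simp
      | succ D ih =>
        rw [Finset.sum_Icc_succ_top (by omega), mul_add, pow_succ]
        have : 3 * p ^ D ≤ p ^ D * p := by rw [mul_comm 3]; exact Nat.mul_le_mul_left _ hp3
        omega
    have h3 := (Finset.card_biUnion_le.trans (Finset.sum_le_sum h1))
    rw [← Finset.sum_mul] at h3
    have := h2 (d / 2)
    omega
  obtain ⟨v, hv⟩ : ∃ v, v ∉ bad := by
    by_contra hno
    push Not at hno
    have h1 : Fintype.card F ≤ bad.card := by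
      rw [← Finset.card_univ]; exact Finset.card_le_card fun x _ => hno x
    rw [hd] at h1
    have h2 : p ^ (d / 2) * (3 * 3) ≤ p ^ d := by
      calc p ^ (d / 2) * (3 * 3) ≤ p ^ (d / 2) * (p * p) := Nat.mul_le_mul_left _ (Nat.mul_le_mul hp3 hp3)
        _ = p ^ (d / 2 + 2) := by rw [pow_add, pow_two]
        _ ≤ p ^ d := Nat.pow_le_pow_right (by omega) (by omega)
    have := Nat.one_le_pow (d / 2) p (by omega)
    omega
  have hv0 : v ≠ 0 := fun h => hv (h ▸ Finset.mem_insert_self _ _)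
  obtain ⟨s, hsdef⟩ : ∃ s, s = (v - v⁻¹) / 2 := ⟨_, rfl⟩
  have hsne : ∀ e, 1 ≤ e → 2 * e ≤ d → (s ^ 2) ^ (p ^ e) ≠ s ^ 2 := by
    intro e he hed hfix
    refine hv (Finset.mem_insert_of_mem (Finset.mem_biUnion.mpr ⟨e, Finset.mem_Icc.mpr ⟨he, by omega⟩,
      Finset.mem_biUnion.mpr ⟨s ^ 2, ?_, ?_⟩⟩))
    · rw [Multiset.mem_toFinset, mem_roots (FiniteField.X_pow_card_sub_X_ne_zero F
        (Nat.one_lt_pow (by omega) (by omega)))]
      simp [hfix]
    · rw [Multiset.mem_toFinset, mem_roots (hqne _)]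
      simp only [quart, IsRoot.def, eval_add, eval_sub, eval_mul, eval_pow, eval_X, eval_C, eval_one]
      rw [hsdef]
      field_simp
      ring
  refine ⟨s, (v + v⁻¹) / 2, fun h => hsne 1 le_rfl (by omega) ?_, fun h => hsne 1 le_rfl (by omega) ?_, ?_, hsne⟩
  · rw [h]
    have hpe : p ≠ 0 := by omega
    simp [hpe]
  · have : s ^ 2 = -1 := by
      have e : ((v + v⁻¹) / 2) ^ 2 = 1 + s ^ 2 := by rw [hsdef]; field_simp; ring
      rw [h] at e
      linear_combination -e
    rw [this, pow_one]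
    exact ((Fact.out : p.Prime).odd_of_ne_two hp).neg_one_pow
  · rw [hsdef]
    field_simp
    ring

/-- The data of an exponent whose squared power generates. -/
theorem exists_data {ζ : F} (h0 : ζ ≠ 0) (hgen : ∀ t : F, t ≠ 0 → ∃ k : ℕ, ζ ^ k = t) (i : ℕ)
    (hs : ∀ t : F, ∃ f : (ZMod p)[X], aeval ((ζ ^ i) ^ 2) f = t) :
    ∃ D : Data p F, D.ζ = ζ ∧ D.i = i ∧ (i = 1 → D.fh = X) ∧ D.m.natDegree ≤ Module.finrank (ZMod p) F := by
  classical
  have hint := Algebra.IsIntegral.isIntegral (R := ZMod p) ((ζ ^ i) ^ 2)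
  obtain ⟨fh, hfh⟩ := hs (ζ ^ 2)
  obtain ⟨fz, hfz⟩ := hs ζ
  obtain ⟨fzi, hfzi⟩ := hs ζ⁻¹
  refine ⟨⟨ζ, h0, hgen, i, minpoly (ZMod p) ((ζ ^ i) ^ 2), minpoly.monic hint, minpoly.natDegree_pos hint,
    minpoly.aeval _ _, fun f hf => minpoly.dvd _ _ hf, if i = 1 then X else fh, ?_, fz, hfz, fzi, hfzi, hs⟩,
    rfl, rfl, fun h => if_pos h, minpoly.natDegree_le _⟩
  split_ifs with h
  · rw [aeval_X, h, pow_one]
  · exact hfh

end Cfsg.Agent.SL2Pres
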