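import Cfsg.Agent.Lib.SL2.PresData

/-!
# Short presentations of `SL₂` and its projective quotient
-/

set_option autoImplicit false

namespace Cfsg.Agent.SL2Pres

open Polynomial Cfsg.Agent.RootLib Cfsg.Agent.RootLibK
open scoped commutatorElement

variable {p : ℕ} [Fact p.Prime] {F : Type*} [Field F] [Algebra (ZMod p) F]

local notation "SLF" => Matrix.SpecialLinearGroup (Fin 2) F
local notation "FG" => FreeGroup (Fin 3)

theorem lift_eq {H : Type*} [Group H] (f : Fin 3 → H) (i : Fin 3) : FreeGroup.lift f (FreeGroup.of i) = f i :=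
  FreeGroup.lift_apply_of

/-- The common word of the torus exponent. -/
noncomputable def aW (D : Data p F) : FG := FreeGroup.of 1 ^ D.i

/-- The word relating two torus conjugates of the first generator. -/
noncomputable def spreadW (D : Data p F) (j : ℕ) : FG :=
  FreeGroup.of 1 ^ j * FreeGroup.of 0 * (FreeGroup.of 1 ^ j)⁻¹ * (FreeGroup.of 0 * cjN (aW D) (FreeGroup.of 0) 1)⁻¹

/-- The word of the second monomial relation. -/
noncomputable def zetaW (D : Data p F) : FG :=
  pw (aW D) (FreeGroup.of 0) D.fz * (FreeGroup.of 2 * pw (aW D) (FreeGroup.of 0) D.fzi * (FreeGroup.of 2)⁻¹) *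
    pw (aW D) (FreeGroup.of 0) D.fz * (FreeGroup.of 1 * FreeGroup.of 2)⁻¹

section present

variable [Finite F]

theorem closure_gens (D : Data p F) :
    Subgroup.closure ({uEl 1, hS D, wS F} : Set SLF) = ⊤ := by
  set S := Subgroup.closure ({uEl 1, hS D, wS F} : Set SLF) with hSdef
  have hu : (uEl 1 : SLF) ∈ S := Subgroup.subset_closure (Or.inl rfl)
  have hh : hS D ∈ S := Subgroup.subset_closure (Or.inr (Or.inl rfl))
  have hw : wS F ∈ S := Subgroup.subset_closure (Or.inr (Or.inr rfl))
  have R := rels_sl_two (K := F)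
  have hhn : ∀ n : ℕ, hS D ^ n = diagEl (fun t : F => uEl t) (fun t : F => lEl (-t)) (D.ζ ^ n) := fun n => by
    induction n with
    | zero => rw [pow_zero, pow_zero, R.diag_one]
    | succ n ih => rw [pow_succ, pow_succ, ih, R.diag_mul (pow_ne_zero _ D.ne) D.ne]; rfl
  have hdx : ∀ t, hS D ^ D.i * uEl t * (hS D ^ D.i)⁻¹ = uEl ((D.ζ ^ D.i) ^ 2 * t) := fun t => by
    have := R.diag_x (pow_ne_zero D.i D.ne) t
    rw [hhn, mul_inv_eq_iff_eq_mul, mul_comm ((D.ζ ^ D.i) ^ 2) t]
    exact this
  have hux : ∀ t : F, (uEl t : SLF) ∈ S := by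
    intro t
    obtain ⟨f, rfl⟩ := D.surj t
    rw [← pw_eq ((D.ζ ^ D.i) ^ 2) (fun t : F => (uEl t : SLF)) (fun s t => (uEl_mul s t).symm) rfl hdx f]
    refine S.list_prod_mem fun x hx => ?_
    obtain ⟨n, -, rfl⟩ := List.mem_map.1 hx
    exact S.pow_mem (S.mul_mem (S.mul_mem (S.pow_mem (S.pow_mem hh _) _) hu)
      (S.inv_mem (S.pow_mem (S.pow_mem hh _) _))) _
  have hly : ∀ t : F, (lEl (-t) : SLF) ∈ S := by
    intro t
    have := R.mon_x (one_ne_zero (α := F)) t
    rw [one_pow, div_one] at this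
    rw [show (lEl (-t) : SLF) = wS F * uEl t * (wS F)⁻¹ from (mul_inv_eq_iff_eq_mul.2 this).symm]
    exact S.mul_mem (S.mul_mem hw (hux t)) (S.inv_mem hw)
  rw [eq_top_iff]
  intro g _
  obtain ⟨b, rfl⟩ := bform_bijective.2 g
  refine (Subgroup.closure_le S).2 ?_ (R.bform_mem b)
  rintro _ (⟨t, rfl⟩ | ⟨t, rfl⟩)
  exacts [hux t, hly t]

theorem present (D : Data p F) (rels : Set FG) (N : Subgroup SLF) [N.Normal]
    (hH : Holds D (PresentedGroup.of (rels := rels) 0) (PresentedGroup.of 1) (PresentedGroup.of 2))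
    (hR : ∀ r ∈ rels, FreeGroup.lift ![QuotientGroup.mk' N (uEl 1), QuotientGroup.mk' N (hS D),
      QuotientGroup.mk' N (wS F)] r = 1)
    (hN : ∀ n ∈ N, n = 1 ∨ n = wS F * wS F ∧
      (PresentedGroup.of (rels := rels) 2) * PresentedGroup.of 2 = 1) :
    Nonempty (PresentedGroup rels ≃* SLF ⧸ N) := by
  obtain ⟨φ, hu, hh, hw⟩ := exists_hom D hH
  let ψ := PresentedGroup.toGroup hR
  have hker : N ≤ φ.ker := by
    intro n hn
    rw [MonoidHom.mem_ker]
    rcases hN n hn with rfl | ⟨rfl, h2⟩
    · exact map_one φ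
    · rw [map_mul, hw, h2]
  let φ' := QuotientGroup.lift N φ hker
  have h1 : ∀ i, φ' (ψ (PresentedGroup.of i)) = PresentedGroup.of i := by
    intro i
    simp only [ψ, φ', PresentedGroup.toGroup.of]
    fin_cases i
    exacts [hu, hh, hw]
  have h2 : ψ.comp φ = QuotientGroup.mk' N := by
    refine MonoidHom.eq_of_eqOn_dense (closure_gens D) ?_
    rintro _ (rfl | rfl | rfl)
    · rw [MonoidHom.comp_apply, hu]; exact PresentedGroup.toGroup.of hR
    · rw [MonoidHom.comp_apply, hh]; exact PresentedGroup.toGroup.of hR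
    · rw [MonoidHom.comp_apply, hw]; exact PresentedGroup.toGroup.of hR
  refine ⟨MonoidHom.toMulEquiv ψ φ' (PresentedGroup.ext h1) (QuotientGroup.monoidHom_ext _ ?_)⟩
  exact h2

end present

variable [Fintype F]

theorem center_eq (hn : ∀ r : F, r ^ 2 = 1 → r = 1 ∨ r = -1) :
    ∀ g ∈ Subgroup.center SLF, g = 1 ∨ g = wS F * wS F := by
  intro g hg
  obtain ⟨r, hr, he⟩ := Matrix.SpecialLinearGroup.mem_center_iff.1 hg
  rw [Fintype.card_fin] at hr
  rcases hn r hr with rfl | rfl
  · left
    apply Subtype.ext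
    rw [← he]; simp
  · right
    apply Subtype.ext
    show (g : Matrix (Fin 2) (Fin 2) F) = ((wS F * wS F : SLF) : Matrix (Fin 2) (Fin 2) F)
    rw [← he, Matrix.SpecialLinearGroup.coe_mul, show ((wS F : SLF) : Matrix (Fin 2) (Fin 2) F) = !![0, 1; -1⁻¹, 0]
      from monEl_sl one_ne_zero]
    ext i j
    fin_cases i <;> fin_cases j <;> simp [Matrix.mul_apply, Fin.sum_univ_two]

theorem ww_mem_center : wS F * wS F ∈ Subgroup.center SLF := by
  refine Matrix.SpecialLinearGroup.mem_center_iff.2 ⟨-1, by simp, ?_⟩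
  rw [Matrix.SpecialLinearGroup.coe_mul, show ((wS F : SLF) : Matrix (Fin 2) (Fin 2) F) = !![0, 1; -1⁻¹, 0]
    from monEl_sl one_ne_zero]
  ext i j
  fin_cases i <;> fin_cases j <;> simp [Matrix.mul_apply, Fin.sum_univ_two]

/-- Nine relations in odd characteristic. -/
theorem present_odd (hp : p ≠ 2) {d : ℕ} (hd : Fintype.card F = p ^ d) :
    (∃ rels : Finset FG, rels.card ≤ 9 ∧ Nonempty (PresentedGroup (↑rels : Set FG) ≃* SLF)) ∧
    (∃ rels : Finset FG, rels.card ≤ 9 ∧
      Nonempty (PresentedGroup (↑rels : Set FG) ≃* Matrix.ProjectiveSpecialLinearGroup (Fin 2) F)) := by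
  classical
  obtain ⟨ζ, h0, ho, hgen⟩ := exists_gen (F := F)
  have hfr : Module.finrank (ZMod p) F = d := by
    have h := Module.card_eq_pow_finrank (K := ZMod p) (V := F)
    rw [ZMod.card, hd] at h
    exact (Nat.pow_right_injective (Fact.out : p.Prime).two_le h).symm
  obtain ⟨D, hspread⟩ : ∃ D : Data p F, D.m.natDegree ≤ 2 ∨ ∃ j : ℕ, (D.ζ ^ j) ^ 2 = 1 + (D.ζ ^ D.i) ^ 2 := by
    by_cases h2 : d ≤ 2
    · obtain ⟨D, -, -, -, hdeg⟩ := exists_data (p := p) h0 hgen 1
        (surj_aeval hd _ (by simpa using sq_gen_ne hd h0 ho))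
      exact ⟨D, Or.inl (by omega)⟩
    · obtain ⟨s, r, hs, hr, hrs, hsne⟩ := exists_squares hd hp (by omega)
      obtain ⟨i, rfl⟩ := hgen s hs
      obtain ⟨j, rfl⟩ := hgen r hr
      obtain ⟨D, hζ, hi, -, -⟩ := exists_data (p := p) h0 hgen i (surj_aeval hd _ hsne)
      exact ⟨D, Or.inr ⟨j, by rw [hζ, hi]; exact hrs⟩⟩
  obtain ⟨B, hB, hBimp⟩ : ∃ B : FG, FreeGroup.lift ![uEl 1, hS D, wS F] B = (1 : SLF) ∧
      ∀ (R : Set FG), B ∈ R → D.m.natDegree ≤ 2 ∨ ∃ j : ℕ,
        (PresentedGroup.of (rels := R) 1) ^ j * PresentedGroup.of 0 * ((PresentedGroup.of 1) ^ j)⁻¹ =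
          PresentedGroup.of 0 * cjN ((PresentedGroup.of 1) ^ D.i) (PresentedGroup.of 0) 1 := by
    rcases hspread with h | ⟨j, hj⟩
    · exact ⟨1, map_one _, fun R _ => Or.inl h⟩
    · by_cases hdeg : D.m.natDegree ≤ 2
      · exact ⟨1, map_one _, fun R _ => Or.inl hdeg⟩
      refine ⟨spreadW D j, ?_, fun R hR => Or.inr ⟨j, ?_⟩⟩
      · rcases (holds_sl D (Or.inr ⟨j, hj⟩)).spread with h | ⟨k, hk⟩
        · exact absurd h hdeg
        have R' := rels_sl_two (K := F)
        have hu1 : cjN (hS D ^ D.i) (uEl (1 : F)) 1 = uEl ((D.ζ ^ D.i) ^ 2) := by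
          have := pw_eq (p := p) (a := hS D ^ D.i) (u := uEl (1 : F)) ((D.ζ ^ D.i) ^ 2) (fun t : F => (uEl t : SLF))
            (fun s t => (uEl_mul s t).symm) rfl (fun t => ?_) X
          · simpa [pw, List.range_succ, aeval_X, ZMod.val_one, cjN] using this
          have hhn : ∀ n : ℕ, hS D ^ n = diagEl (fun t : F => uEl t) (fun t : F => lEl (-t)) (D.ζ ^ n) := fun n => by
            induction n with
            | zero => rw [pow_zero, pow_zero, R'.diag_one]
            | succ n ih => rw [pow_succ, pow_succ, ih, R'.diag_mul (pow_ne_zero _ D.ne) D.ne]; rfl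
          have := R'.diag_x (pow_ne_zero D.i D.ne) t
          rw [hhn, mul_inv_eq_iff_eq_mul, mul_comm ((D.ζ ^ D.i) ^ 2) t]
          exact this
        have hhj : hS D ^ j * uEl (1 : F) * (hS D ^ j)⁻¹ = uEl ((D.ζ ^ j) ^ 2) := by
          have hhn : ∀ n : ℕ, hS D ^ n = diagEl (fun t : F => uEl t) (fun t : F => lEl (-t)) (D.ζ ^ n) := fun n => by
            induction n with
            | zero => rw [pow_zero, pow_zero, R'.diag_one]
            | succ n ih => rw [pow_succ, pow_succ, ih, R'.diag_mul (pow_ne_zero _ D.ne) D.ne]; rfl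
          have := R'.diag_x (pow_ne_zero j D.ne) (1 : F)
          rw [one_mul] at this
          rw [hhn, mul_inv_eq_iff_eq_mul]
          exact this
        have e : (cjN (FreeGroup.lift ![uEl 1, hS D, wS F] (aW D)) (uEl (1 : F)) 1) = uEl ((D.ζ ^ D.i) ^ 2) := by
          simp only [aW, map_pow, lift_eq]; exact hu1
        simp only [spreadW, map_mul, map_inv, map_pow, lift_eq, cjN, Matrix.cons_val_zero, Matrix.cons_val_one]
        simp only [cjN] at e
        rw [e, mul_inv_eq_one, uEl_mul, ← hj]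
        exact hhj
      · have := PresentedGroup.one_of_mem hR
        simp only [spreadW, aW, cjN, map_mul, map_inv, map_pow, mul_inv_eq_one] at this
        exact this
  have hS' := holds_sl D hspread
  let U : FG := FreeGroup.of 0
  let Hh : FG := FreeGroup.of 1
  let W : FG := FreeGroup.of 2
  let base : List FG := [U ^ p, ⁅U, cjN (aW D) U 1⁆, B, pw (aW D) U D.m, Hh * U * Hh⁻¹ * (pw (aW D) U D.fh)⁻¹,
    W * Hh * W⁻¹ * Hh, U * (W * U * W⁻¹) * U * W⁻¹, zetaW D]
  have hholds : ∀ (R : Set FG), (∀ r ∈ base, r ∈ R) →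
      Commute ((PresentedGroup.of (rels := R) 2) * PresentedGroup.of 2) (PresentedGroup.of 0) →
      Holds D (PresentedGroup.of (rels := R) 0) (PresentedGroup.of 1) (PresentedGroup.of 2) := by
    intro R hb hc
    have h1 : ∀ r ∈ base, PresentedGroup.mk R r = 1 := fun r hr => PresentedGroup.one_of_mem (hb r hr)
    simp only [base, List.mem_cons, List.not_mem_nil, or_false, forall_eq_or_imp, forall_eq] at h1
    obtain ⟨e1, e2, e3, e4, e5, e6, e7, e8⟩ := h1
    refine ⟨?_, ?_, hBimp R (hb B (by simp [base])), ?_, ?_, hc, ?_, ?_, ?_⟩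
    · simp only [U, map_pow] at e1
      exact e1
    · simp only [map_commutatorElement, commutatorElement_eq_one_iff_commute] at e2
      simp only [U, aW, cjN, map_mul, map_inv, map_pow] at e2
      exact e2
    · simp only [U, map_pw, aW, map_pow] at e4
      exact e4
    · simp only [U, Hh, map_pw, aW, map_mul, map_inv, map_pow, mul_inv_eq_one] at e5
      exact e5
    · simp only [W, Hh, map_mul, map_inv] at e6
      exact eq_inv_of_mul_eq_one_left e6
    · simp only [W, U, map_mul, map_inv, mul_inv_eq_one] at e7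
      exact e7
    · simp only [zetaW, map_pw, aW, map_mul, map_inv, map_pow, mul_inv_eq_one] at e8
      exact e8
  have hbase : ∀ r ∈ base, FreeGroup.lift ![uEl 1, hS D, wS F] r = (1 : SLF) := by
    obtain ⟨h1, h2, -, h4, h5, -, h6, h7, h8⟩ := hS'
    simp only [base, List.mem_cons, List.not_mem_nil, or_false, forall_eq_or_imp, forall_eq, U, Hh, W, zetaW, aW,
      map_commutatorElement, map_mul, map_inv, map_pow, map_pw, lift_eq, Matrix.cons_val_zero, Matrix.cons_val_one,
      Matrix.cons_val, commutatorElement_eq_one_iff_commute, mul_inv_eq_one]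
    refine ⟨h1, ?_, hB, h4, h5, ?_, h7, h8⟩
    · simpa [cjN] using h2
    · rw [h6, inv_mul_cancel]
  constructor
  · let rels := (base ++ [W * W * U * (W * W)⁻¹ * U⁻¹]).toFinset
    refine ⟨rels, (List.toFinset_card_le _).trans (by simp [base]), ?_⟩
    obtain ⟨e⟩ := present D (↑rels : Set FG) ⊥ (hholds _ (fun r hr => by simp [rels, hr]) (by
        have h := PresentedGroup.one_of_mem (rels := (↑rels : Set FG)) (x := W * W * U * (W * W)⁻¹ * U⁻¹)
          (by simp [rels])
        simp only [W, U, map_mul, map_inv, mul_inv_eq_one] at h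
        exact mul_inv_eq_iff_eq_mul.1 h)) (fun r hr => by
        have hcomp : FreeGroup.lift ![QuotientGroup.mk' ⊥ (uEl 1), QuotientGroup.mk' ⊥ (hS D),
            QuotientGroup.mk' ⊥ (wS F)] = (QuotientGroup.mk' (⊥ : Subgroup SLF)).comp
              (FreeGroup.lift ![uEl 1, hS D, wS F]) := by
          refine FreeGroup.ext_hom _ _ fun i => ?_
          simp only [MonoidHom.comp_apply, lift_eq]
          fin_cases i <;> rfl
        rw [hcomp, MonoidHom.comp_apply]
        simp only [rels, List.coe_toFinset, List.mem_append, List.mem_singleton, Set.mem_setOf_eq] at hr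
        rcases hr with hr | rfl
        · rw [hbase r hr, map_one]
        · have e : FreeGroup.lift ![uEl 1, hS D, wS F] (W * W * U * (W * W)⁻¹ * U⁻¹) = (1 : SLF) := by
            simp only [W, U, map_mul, map_inv, lift_eq, Matrix.cons_val_zero, Matrix.cons_val]
            rw [hS'.sq_w.eq]
            group
          rw [e, map_one]) (fun n hn => Or.inl (Subgroup.mem_bot.1 hn))
    exact ⟨e.trans QuotientGroup.quotientBot⟩
  · let rels := (base ++ [W * W]).toFinset
    refine ⟨rels, (List.toFinset_card_le _).trans (by simp [base]), ?_⟩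
    have hww : (PresentedGroup.of (rels := (↑rels : Set FG)) 2) * PresentedGroup.of 2 = 1 := by
      have h := PresentedGroup.one_of_mem (rels := (↑rels : Set FG)) (x := W * W) (by simp [rels])
      simp only [W, map_mul] at h
      exact h
    exact present D (↑rels : Set FG) (Subgroup.center SLF) (hholds _ (fun r hr => by simp [rels, hr]) (by
        rw [hww]; exact Commute.one_left _)) (fun r hr => by
        have hcomp : FreeGroup.lift ![QuotientGroup.mk' (Subgroup.center SLF) (uEl 1),
            QuotientGroup.mk' (Subgroup.center SLF) (hS D), QuotientGroup.mk' (Subgroup.center SLF) (wS F)] =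
              (QuotientGroup.mk' (Subgroup.center SLF)).comp (FreeGroup.lift ![uEl 1, hS D, wS F]) := by
          refine FreeGroup.ext_hom _ _ fun i => ?_
          simp only [MonoidHom.comp_apply, lift_eq]
          fin_cases i <;> rfl
        rw [hcomp, MonoidHom.comp_apply]
        simp only [rels, List.coe_toFinset, List.mem_append, List.mem_singleton, Set.mem_setOf_eq] at hr
        rcases hr with hr | rfl
        · rw [hbase r hr, map_one]
        · simp only [W, map_mul, lift_eq, Matrix.cons_val]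
          exact (QuotientGroup.eq_one_iff _).2 ww_mem_center)
      fun n hn => (center_eq (fun r hr => sq_eq_one_iff.1 hr) n hn).imp id fun h => ⟨h, hww⟩

/-- Five relations in characteristic two. -/
theorem present_even (hp : p = 2) {d : ℕ} (hd : Fintype.card F = p ^ d) :
    ∃ rels : Finset FG, rels.card ≤ 5 ∧ Nonempty (PresentedGroup (↑rels : Set FG) ≃* SLF) ∧
      Nonempty (PresentedGroup (↑rels : Set FG) ≃* Matrix.ProjectiveSpecialLinearGroup (Fin 2) F) := by
  classical
  subst hp
  haveI := charP_of_injective_algebraMap (algebraMap (ZMod 2) F).injective 2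
  obtain ⟨ζ, h0, ho, hgen⟩ := exists_gen (F := F)
  have hfr : Module.finrank (ZMod 2) F = d := by
    have h := Module.card_eq_pow_finrank (K := ZMod 2) (V := F)
    rw [ZMod.card, hd] at h
    exact (Nat.pow_right_injective le_rfl h).symm
  obtain ⟨D, hζ, hi, hfhX, hdeg⟩ := exists_data (p := 2) h0 hgen 1
    (surj_aeval hd _ (by simpa using sq_gen_ne hd h0 ho))
  have hfh := hfhX rfl
  let U : FG := FreeGroup.of 0
  let Hh : FG := FreeGroup.of 1
  let W : FG := FreeGroup.of 2
  -- the spreading relation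
  obtain ⟨B, hB, hBimp⟩ : ∃ B : FG, (∀ S : Holds D (uEl 1) (hS D) (wS F), FreeGroup.lift ![uEl 1, hS D, wS F] B = (1 : SLF)) ∧
      ∀ (R : Set FG), B ∈ R → (PresentedGroup.of (rels := R) 0) ^ 2 = 1 →
        Commute (PresentedGroup.of (rels := R) 0) (cjN ((PresentedGroup.of 1) ^ D.i) (PresentedGroup.of 0) 1) ∧
        (D.m.natDegree ≤ 2 ∨ ∃ j : ℕ,
        (PresentedGroup.of (rels := R) 1) ^ j * PresentedGroup.of 0 * ((PresentedGroup.of 1) ^ j)⁻¹ =
          PresentedGroup.of 0 * cjN ((PresentedGroup.of 1) ^ D.i) (PresentedGroup.of 0) 1) := by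
    by_cases hz : ζ ^ 2 + 1 = 0
    · have hd2 : d ≤ 2 := by
        have h1 : ζ ^ 2 = 1 := by
          rw [eq_neg_of_add_eq_zero_left hz]; exact CharTwo.neg_eq 1
        rw [← orderOf_dvd_iff_pow_eq_one, ho, hd] at h1
        have := Nat.le_of_dvd two_pos h1
        by_contra hd2
        have : 2 ^ 3 ≤ 2 ^ d := Nat.pow_le_pow_right two_pos (by omega)
        omega
      refine ⟨⁅U, cjN (aW D) U 1⁆, fun S => ?_, fun R hR _ => ⟨?_, Or.inl (by omega)⟩⟩
      · simp only [U, aW, map_commutatorElement, map_pow, lift_eq, cjN, map_mul, map_inv, Matrix.cons_val_zero,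
          Matrix.cons_val_one, commutatorElement_eq_one_iff_commute]
        exact S.comm
      · have := PresentedGroup.one_of_mem hR
        simp only [map_commutatorElement, commutatorElement_eq_one_iff_commute] at this
        simp only [U, aW, cjN, map_mul, map_inv, map_pow] at this
        exact this
    · obtain ⟨k, hk⟩ := hgen _ hz
      obtain ⟨s, hs⟩ : ∃ s : F, s ^ 2 = ζ ^ 2 + 1 := ⟨ζ + 1, by rw [CharTwo.add_sq, one_pow]⟩
      obtain ⟨j, hj⟩ := hgen s (fun h => hz (by rw [← hs, h]; simp))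
      subst hj
      refine ⟨spreadW D j, fun S => ?_, fun R hR hu2 => ?_⟩
      · have R' := rels_sl_two (K := F)
        have hhn : ∀ n : ℕ, hS D ^ n = diagEl (fun t : F => uEl t) (fun t : F => lEl (-t)) (D.ζ ^ n) := fun n => by
          induction n with
          | zero => rw [pow_zero, pow_zero, R'.diag_one]
          | succ n ih => rw [pow_succ, pow_succ, ih, R'.diag_mul (pow_ne_zero _ D.ne) D.ne]; rfl
        have hconj : ∀ n : ℕ, hS D ^ n * uEl (1 : F) * (hS D ^ n)⁻¹ = uEl ((D.ζ ^ n) ^ 2) := fun n => by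
          have := R'.diag_x (pow_ne_zero n D.ne) (1 : F)
          rw [one_mul] at this
          rw [hhn, mul_inv_eq_iff_eq_mul]
          exact this
        simp only [spreadW, aW, map_mul, map_inv, map_pow, lift_eq, cjN, Matrix.cons_val_zero, Matrix.cons_val_one,
          pow_one]
        rw [hconj, hconj, mul_inv_eq_one, uEl_mul, hi, hζ, pow_one, hs, add_comm]
      · have hb := PresentedGroup.one_of_mem hR
        simp only [spreadW, aW, cjN, map_mul, map_inv, map_pow, mul_inv_eq_one] at hb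
        refine ⟨?_, Or.inr ⟨j, hb⟩⟩
        set u := PresentedGroup.of (rels := R) 0
        set v := cjN ((PresentedGroup.of (rels := R) 1) ^ D.i) u 1
        have h3 : (u * v) ^ 2 = 1 := by
          have hb' : (PresentedGroup.of (rels := R) 1) ^ j * u * ((PresentedGroup.of 1) ^ j)⁻¹ = u * v := hb
          rw [← hb', conj_pow, hu2, mul_one, mul_inv_cancel]
        have hv2 : v ^ 2 = 1 := by
          simp only [v, cjN, conj_pow, hu2, mul_one, mul_inv_cancel]
        show u * v = v * u
        calc u * v = (u * v)⁻¹ := eq_inv_of_mul_eq_one_left (by rw [← pow_two, h3])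
          _ = v * u := by
            rw [mul_inv_rev, inv_eq_of_mul_eq_one_right (a := v) (by rw [← pow_two, hv2]),
              inv_eq_of_mul_eq_one_right (a := u) (by rw [← pow_two, hu2])]
  have hspread : D.m.natDegree ≤ 2 ∨ ∃ j : ℕ, (D.ζ ^ j) ^ 2 = 1 + (D.ζ ^ D.i) ^ 2 := by
    by_cases hz : ζ ^ 2 + 1 = 0
    · left
      have h1 : ζ ^ 2 = 1 := by
        rw [eq_neg_of_add_eq_zero_left hz]; exact CharTwo.neg_eq 1
      rw [← orderOf_dvd_iff_pow_eq_one, ho, hd] at h1
      have := Nat.le_of_dvd two_pos h1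
      have hd2 : d ≤ 2 := by
        by_contra hd2
        have : 2 ^ 3 ≤ 2 ^ d := Nat.pow_le_pow_right two_pos (by omega)
        omega
      omega
    · right
      obtain ⟨j, hj⟩ := hgen (ζ + 1) (fun h => hz (by
        have : (ζ + 1) ^ 2 = 0 := by rw [h]; simp
        rwa [CharTwo.add_sq, one_pow] at this))
      exact ⟨j, by rw [hζ, hi, hj, CharTwo.add_sq, one_pow, pow_one, add_comm]⟩
  have hS' := holds_sl D hspread
  let base : List FG := [U ^ 2, B, pw (aW D) U D.m, U * W * U * (W * U * W)⁻¹, zetaW D]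
  refine ⟨base.toFinset, (List.toFinset_card_le _).trans (by simp [base]), ?_⟩
  set R : Set FG := ↑base.toFinset with hR
  have hmem : ∀ r ∈ base, r ∈ R := fun r hr => by simp [hR, hr]
  have h1 : ∀ r ∈ base, PresentedGroup.mk R r = 1 := fun r hr => PresentedGroup.one_of_mem (hmem r hr)
  simp only [base, List.mem_cons, List.not_mem_nil, or_false, forall_eq_or_imp, forall_eq] at h1
  obtain ⟨e1, -, e3, e4, e5⟩ := h1
  simp only [U, W, zetaW, aW, map_pw, map_mul, map_inv, map_pow, mul_inv_eq_one] at e1 e3 e4 e5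
  set u := PresentedGroup.of (rels := R) 0 with hu
  set h := PresentedGroup.of (rels := R) 1 with hh
  set w := PresentedGroup.of (rels := R) 2 with hw
  change u ^ 2 = 1 at e1
  change u * w * u = w * u * w at e4
  obtain ⟨hc, hsp⟩ := hBimp R (hmem B (by simp [base])) e1
  -- the Weyl element is an involution
  have huinv : u⁻¹ = u := inv_eq_of_mul_eq_one_right (by rw [← pow_two, e1])
  have hwconj : (u * w) * u * (u * w)⁻¹ = w := by
    rw [mul_inv_eq_iff_eq_mul, e4]
    group
  have hw2 : w * w = 1 := by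
    rw [← hwconj]
    calc u * w * u * (u * w)⁻¹ * (u * w * u * (u * w)⁻¹) = u * w * (u ^ 2) * (u * w)⁻¹ := by rw [pow_two]; group
      _ = 1 := by rw [e1, mul_one, mul_inv_cancel]
  have hwinv : w⁻¹ = w := inv_eq_of_mul_eq_one_right hw2
  have hrel1 : u * (w * u * w⁻¹) * u = w := by
    rw [hwinv, ← e4]
    calc u * (u * w * u) * u = (u * u) * w * (u * u) := by group
      _ = w := by rw [← pow_two, e1, one_mul, mul_one]
  have hpz : ∀ f : (ZMod 2)[X], (pw (h ^ D.i) u f) ^ 2 = 1 := by
    intro f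
    have hcomm : ∀ n, Commute u (cjN (h ^ D.i) u n) := by
      rcases hsp with hd' | ⟨j, hj⟩
      · exact commute_cjN_small hc D.monic D.deg_pos hd' e3
      · exact commute_cjN hc ((Commute.refl h).pow_pow D.i j) hj
    obtain ⟨x, hx, hx1, hxa⟩ := exists_param e1 hcomm D.m e3 _ D.surj D.ker
    rw [pw_eq _ x hx hx1 hxa f, pow_two, ← hx, CharTwo.add_self_eq_zero]
    have := hx 0 0
    rw [add_zero] at this
    exact left_eq_mul.1 this
  have hinv : w * h * w⁻¹ = h⁻¹ := by
    set X' := pw (h ^ D.i) u D.fz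
    set Y' := pw (h ^ D.i) u D.fzi
    have e5' : X' * (w * Y' * w⁻¹) * X' = h * w := e5
    have hsq : (h * w) * (h * w) = 1 := by
      rw [← e5']
      calc X' * (w * Y' * w⁻¹) * X' * (X' * (w * Y' * w⁻¹) * X')
          = X' * (w * Y' * w⁻¹) * (X' ^ 2) * (w * Y' * w⁻¹) * X' := by rw [pow_two]; group
        _ = X' * (w * Y' ^ 2 * w⁻¹) * X' := by rw [hpz, mul_one, pow_two]; group
        _ = X' ^ 2 := by rw [hpz, mul_one, mul_inv_cancel, mul_one, pow_two]
        _ = 1 := hpz _
    rw [hwinv]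
    refine eq_inv_of_mul_eq_one_left ?_
    calc w * h * w * h = h⁻¹ * (h * w * (h * w)) * h := by group
      _ = 1 := by rw [hsq]; group
  have hH : Holds D u h w := by
    refine ⟨e1, hc, hsp, e3, ?_, by rw [hw2]; exact Commute.one_left _, hinv, hrel1, e5⟩
    rw [hfh]
    simp [pw, List.range_succ, ZMod.val_one, cjN, hi]
  have hbase : ∀ r ∈ base, FreeGroup.lift ![uEl 1, hS D, wS F] r = (1 : SLF) := by
    have hb := hB hS'
    obtain ⟨h1, h2, -, h4, h5, -, h6, h7, h8⟩ := hS'
    simp only [base, List.mem_cons, List.not_mem_nil, or_false, forall_eq_or_imp, forall_eq, U, W, zetaW, aW,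
      map_mul, map_inv, map_pow, map_pw, lift_eq, Matrix.cons_val_zero, Matrix.cons_val_one,
      Matrix.cons_val, mul_inv_eq_one]
    refine ⟨h1, hb, h4, ?_, h8⟩
    have hw' : (wS F)⁻¹ = wS F := by
      have hc2 := ww_mem_center (F := F)
      obtain ⟨r, hr, he⟩ := Matrix.SpecialLinearGroup.mem_center_iff.1 hc2
      rw [Fintype.card_fin] at hr
      have hr1 : r = 1 := by
        rcases sq_eq_one_iff.1 hr with h | h
        · exact h
        · rw [h]; exact CharTwo.neg_eq 1
      refine inv_eq_of_mul_eq_one_right (Subtype.ext ?_)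
      rw [← he, hr1]; simp
    have hu' : (uEl (1 : F) : SLF) * uEl 1 = 1 := by rw [← pow_two]; exact h1
    have hww' : wS F * wS F = (1 : SLF) := by nth_rewrite 1 [← hw']; exact inv_mul_cancel _
    have e7 : uEl 1 * (wS F * uEl 1 * wS F) * uEl 1 = wS F := by rw [← hw'] at h7 ⊢; simpa [hw'] using h7
    calc uEl 1 * wS F * uEl 1 = uEl 1 * (uEl 1 * (wS F * uEl 1 * wS F) * uEl 1) * uEl 1 := by rw [e7]
      _ = (uEl 1 * uEl 1) * (wS F * uEl 1 * wS F) * (uEl 1 * uEl 1) := by group
      _ = wS F * uEl 1 * wS F := by rw [hu', one_mul, mul_one]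
  have hpres := fun (N : Subgroup SLF) (_ : N.Normal) (hN : ∀ n ∈ N, n = 1 ∨ n = wS F * wS F) =>
    present D R N hH (fun r hr => by
        have hcomp : FreeGroup.lift ![QuotientGroup.mk' N (uEl 1), QuotientGroup.mk' N (hS D),
            QuotientGroup.mk' N (wS F)] = (QuotientGroup.mk' N).comp (FreeGroup.lift ![uEl 1, hS D, wS F]) := by
          refine FreeGroup.ext_hom _ _ fun i => ?_
          simp only [MonoidHom.comp_apply, lift_eq]
          fin_cases i <;> rfl
        rw [hcomp, MonoidHom.comp_apply, hbase r (by simpa [hR] using hr), map_one])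
      fun n hn => (hN n hn).imp id fun e => ⟨e, hw2⟩
  obtain ⟨e⟩ := hpres ⊥ inferInstance fun n hn => Or.inl (Subgroup.mem_bot.1 hn)
  exact ⟨⟨e.trans QuotientGroup.quotientBot⟩, hpres (Subgroup.center SLF) inferInstance
    (center_eq fun r hr => sq_eq_one_iff.1 hr)⟩

end Cfsg.Agent.SL2Pres
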