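import Cfsg.Agent.Lib.SL2.Summation
import Cfsg.Agent.Lib.SL2.Borel
import Cfsg.Agent.Lib.CT.Induced
import Cfsg.Prelude.Def_ParabolicCharacters

/-!
# The principal series `R(α)` of `SL(2, q)`
-/

set_option autoImplicit false
set_option linter.unusedSectionVars false

namespace Cfsg.Agent.SL2

open Matrix

variable {F : Type*} [Field F]

local notation "G" => Matrix.SpecialLinearGroup (Fin 2) F
local notation "M2" => Matrix (Fin 2) (Fin 2) F

/-- The Borel subgroup. -/
abbrev borel (F : Type*) [Field F] : Subgroup (Matrix.SpecialLinearGroup (Fin 2) F) :=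
  (Cfsg.upperTriangularGL 2 F).comap Matrix.SpecialLinearGroup.toGL

theorem mem_borel {g : G} : g ∈ borel F ↔ (g : M2) 1 0 = 0 := by
  rw [Subgroup.mem_comap]
  constructor
  · intro h
    exact h (show (id (0 : Fin 2)) < id 1 by decide)
  · intro h i j hij
    fin_cases i <;> fin_cases j <;> first
      | exact absurd hij (by decide)
      | exact h

variable [Fintype F] [DecidableEq F]

local notation "q" => Fintype.card F

/-- `R(α)`. -/
noncomputable def princ (α : MulChar F ℂ) : G → ℂ :=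
  Cfsg.indFun (borel F) (fun b => α (((b : G) : M2) 0 0))

theorem princ_conj (α : MulChar F ℂ) (g x : G) : princ α (x * g * x⁻¹) = princ α g :=
  CT.isClassFunction_indFun _ _ g x

theorem extend_borel (α : MulChar F ℂ) (y : G) :
    Cfsg.extendByZero (borel F) (fun b => α (((b : G) : M2) 0 0)) y =
      if (y : M2) 1 0 = 0 then α ((y : M2) 0 0) else 0 := by
  classical
  split_ifs with h
  · exact Subtype.val_injective.extend_apply _ _ (⟨y, mem_borel.2 h⟩ : borel F)
  · exact Function.extend_apply' _ _ _ fun ⟨b, hb⟩ => h (hb ▸ mem_borel.1 b.2)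

theorem card_borel : Nat.card (borel F) = (q - 1) * q := by
  rw [Nat.card_congr ((Equiv.subtypeEquivRight fun g : G => mem_borel).trans upperEquiv),
    Nat.card_prod, Nat.card_units, Nat.card_eq_fintype_card]

theorem card_borel_ne : (Nat.card (borel F) : ℂ) ≠ 0 := by
  exact_mod_cast Nat.card_pos.ne'

theorem card_filter_borel [DecidablePred fun x : G => (x : M2) 1 0 = 0] :
    (Finset.univ.filter fun x : G => (x : M2) 1 0 = 0).card = Nat.card (borel F) := by
  rw [← Fintype.card_subtype, ← Nat.card_eq_fintype_card]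
  exact Nat.card_congr (Equiv.subtypeEquivRight fun g => mem_borel.symm)

theorem princ_noEig (α : MulChar F ℂ) {g : G} (hg : NoEig g) : princ α g = 0 := by
  rw [princ, Cfsg.indFun]
  simp only [extend_borel]
  rw [Finset.sum_eq_zero, mul_zero]
  intro x _
  rw [if_neg]
  intro h
  have hn : NoEig (x⁻¹ * g * x) := by
    have := (noEig_conj g x⁻¹).2 hg
    rwa [inv_inv] at this
  exact (noEig_iff _).1 hn _ (upper_root h).1

theorem princ_scal (α : MulChar F ℂ) {g : G} (hg : Scal g) :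
    princ α g = ((q : ℂ) + 1) * α ((g : M2) 0 0) := by
  rw [princ, Cfsg.indFun]
  simp only [extend_borel]
  have e : ∀ x : G, x⁻¹ * g * x = g := fun x => by
    have := scal_conj hg x⁻¹
    rwa [inv_inv] at this
  simp only [e, if_pos hg.2.1]
  rw [Finset.sum_const, Finset.card_univ, nsmul_eq_mul, ← mul_assoc, ← Nat.card_eq_fintype_card,
    card_G, card_borel]
  have hq := two_le_q (F := F)
  have h1 : (q : ℂ) ≠ 0 := by exact_mod_cast (by omega : q ≠ 0)
  have h2 : (q : ℂ) - 1 ≠ 0 := sub_ne_zero.2 (by exact_mod_cast (by omega : q ≠ 1))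
  push_cast [Nat.cast_sub (by omega : 1 ≤ q)]
  field_simp

theorem princ_upper_unip (α : MulChar F ℂ) {g : G} (h : (g : M2) 1 0 = 0)
    (he : (g : M2) 0 0 = (g : M2) 1 1) (hs : (g : M2) 0 1 ≠ 0) :
    princ α g = α ((g : M2) 0 0) := by
  classical
  rw [princ, Cfsg.indFun]
  simp only [extend_borel]
  have key : ∀ x : G, (if ((x⁻¹ * g * x : G) : M2) 1 0 = 0 then α (((x⁻¹ * g * x : G) : M2) 0 0)
      else 0) = if (x : M2) 1 0 = 0 then α ((g : M2) 0 0) else 0 := by
    intro x
    have hd := det_eq x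
    have e10 : ((x⁻¹ * g * x : G) : M2) 1 0 = -(g : M2) 0 1 * (x : M2) 1 0 ^ 2 := by
      rw [Matrix.SpecialLinearGroup.coe_mul, Matrix.SpecialLinearGroup.coe_mul, coe_inv']
      simp [tr, Matrix.mul_apply, Fin.sum_univ_two, h, ← he]
      ring
    have e00 : ((x⁻¹ * g * x : G) : M2) 0 0 = (g : M2) 0 0 +
        (g : M2) 0 1 * (x : M2) 1 0 * (x : M2) 1 1 := by
      rw [Matrix.SpecialLinearGroup.coe_mul, Matrix.SpecialLinearGroup.coe_mul, coe_inv']
      simp [tr, Matrix.mul_apply, Fin.sum_univ_two, h, ← he]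
      linear_combination (g : M2) 0 0 * hd
    by_cases hx : (x : M2) 1 0 = 0
    · rw [if_pos hx, if_pos (by rw [e10, hx]; ring), e00, hx]; simp
    · rw [if_neg hx, if_neg]
      rw [e10]
      exact mul_ne_zero (neg_ne_zero.2 hs) (pow_ne_zero 2 hx)
  rw [Finset.sum_congr rfl (fun x _ => key x), Finset.sum_ite, Finset.sum_const, Finset.sum_const_zero,
    add_zero, card_filter_borel, nsmul_eq_mul, ← mul_assoc, inv_mul_cancel₀ card_borel_ne, one_mul]

theorem princ_diag (α : MulChar F ℂ) {a : Fˣ} (ha : (a : F) ^ 2 ≠ 1) :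
    princ α (dd a) = α (a : F) + α ((a : F)⁻¹) := by
  classical
  rw [princ, Cfsg.indFun]
  simp only [extend_borel]
  have hne : (a : F)⁻¹ - (a : F) ≠ 0 := by
    intro h
    apply ha
    have := mul_inv_cancel₀ a.ne_zero
    linear_combination this - (a : F) * h
  have key : ∀ x : G, (if ((x⁻¹ * dd a * x : G) : M2) 1 0 = 0 then
      α (((x⁻¹ * dd a * x : G) : M2) 0 0) else 0) =
      (if (x : M2) 1 0 = 0 then α (a : F) else 0) +
        (if (x : M2) 0 0 = 0 then α ((a : F)⁻¹) else 0) := by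
    intro x
    have hd := det_eq x
    have e10 : ((x⁻¹ * dd a * x : G) : M2) 1 0 =
        (x : M2) 0 0 * (x : M2) 1 0 * ((a : F)⁻¹ - (a : F)) := by
      rw [Matrix.SpecialLinearGroup.coe_mul, Matrix.SpecialLinearGroup.coe_mul, coe_inv']
      simp [tr, dd, Matrix.mul_apply, Fin.sum_univ_two]
      ring
    have e00 : ((x⁻¹ * dd a * x : G) : M2) 0 0 =
        (x : M2) 0 0 * (x : M2) 1 1 * (a : F) - (x : M2) 0 1 * (x : M2) 1 0 * (a : F)⁻¹ := by
      rw [Matrix.SpecialLinearGroup.coe_mul, Matrix.SpecialLinearGroup.coe_mul, coe_inv']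
      simp [tr, dd, Matrix.mul_apply, Fin.sum_univ_two]
      ring
    by_cases hx : (x : M2) 1 0 = 0
    · have hx0 : (x : M2) 0 0 ≠ 0 := fun h => by rw [hx, h] at hd; simp at hd
      rw [if_pos hx, if_neg hx0, add_zero, if_pos (by rw [e10, hx]; ring), e00, hx]
      congr 1
      rw [hx] at hd
      linear_combination (a : F) * hd
    · rw [if_neg hx, zero_add]
      by_cases hx0 : (x : M2) 0 0 = 0
      · rw [if_pos hx0, if_pos (by rw [e10, hx0]; ring), e00, hx0]
        congr 1
        rw [hx0] at hd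
        linear_combination (a : F)⁻¹ * hd
      · rw [if_neg hx0, if_neg]
        rw [e10]
        exact mul_ne_zero (mul_ne_zero hx0 hx) hne
  let w : G := ⟨!![0, 1; -1, 0], by simp [Matrix.det_fin_two]⟩
  have hc : (Finset.univ.filter fun x : G => (x : M2) 0 0 = 0).card = Nat.card (borel F) := by
    rw [← card_filter_borel]
    refine Finset.card_equiv (Equiv.mulLeft w) fun x => ?_
    simp only [Finset.mem_filter, Finset.mem_univ, true_and, Equiv.coe_mulLeft,
      Matrix.SpecialLinearGroup.coe_mul]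
    simp [w, Matrix.mul_apply, Fin.sum_univ_two]
  rw [Finset.sum_congr rfl (fun x _ => key x), Finset.sum_add_distrib, Finset.sum_ite,
    Finset.sum_const, Finset.sum_const_zero, add_zero, Finset.sum_ite, Finset.sum_const,
    Finset.sum_const_zero, add_zero, card_filter_borel, hc, ← smul_add, nsmul_eq_mul, ← mul_assoc,
    inv_mul_cancel₀ card_borel_ne, one_mul]

theorem princ_unip (hodd : Odd q) (α : MulChar F ℂ) {ε : F} (hε : ε ^ 2 = 1) {g : G}
    (hg : ¬ Scal g) (ht : tr g = 2 * ε) : princ α g = α ε := by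
  obtain ⟨ε', s, P, -, hs, ht', hP⟩ := exists_unip_conj hg (by rw [ht]; linear_combination 4 * hε)
  have he : ε' = ε := mul_left_cancel₀ (two_ne_zero' hodd) (ht'.symm.trans ht)
  subst he
  have h := princ_conj α g P⁻¹
  rw [inv_inv] at h
  rw [← h, princ_upper_unip α (by rw [hP]; simp) (by rw [hP]; simp) (by rw [hP]; simpa using hs), hP]
  simp

theorem sum_units_char (α : MulChar F ℂ) [Decidable (α = 1)] :
    ∑ a : Fˣ, α (a : F) = if α = 1 then ((q : ℂ) - 1) else 0 := by
  classical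
  by_cases h : α = 1
  · subst h
    simp [Fintype.card_units, Nat.cast_sub (Fintype.card_pos (α := F))]
  · rw [if_neg h, ← MulChar.sum_eq_zero_of_ne_one h]
    rw [← Finset.add_sum_erase _ _ (Finset.mem_univ (0 : F)), MulChar.map_zero, zero_add]
    refine Finset.sum_nbij (fun a : Fˣ => (a : F)) (fun a _ => by simp) (fun a _ b _ h => Units.ext h)
      (fun x hx => ?_) fun a _ => rfl
    simp at hx
    exact ⟨Units.mk0 x hx, by simp⟩

theorem inner_princ (hodd : Odd q) (α β : MulChar F ℂ) [Decidable (α = β)] [Decidable (α = β⁻¹)] :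
    Cfsg.classInner (princ α) (princ β) =
      (if α = β then 1 else 0) + (if α = β⁻¹ then 1 else 0) := by
  classical
  obtain ⟨g0, h0⟩ := exists_noEig (F := F)
  have hstar : ∀ x : F, (starRingEnd ℂ) (β x) = β⁻¹ x := fun x => MulChar.star_apply' β x
  set f : G → ℂ := fun g => princ α g * (starRingEnd ℂ) (princ β g) with hf
  have hcl : ∀ g x : G, f (x * g * x⁻¹) = f g := fun g x => by simp only [hf, princ_conj]
  have hu : ∀ (ε : F) (g : G), ε ^ 2 = 1 → ¬ Scal g → tr g = 2 * ε → f g = α ε * β⁻¹ ε :=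
    fun ε g hε hs ht => by
      simp only [hf, princ_unip hodd _ hε hs ht, hstar]
  have hsum := sum_classFun hodd h0 f hcl (α 1 * β⁻¹ 1) (α (-1) * β⁻¹ (-1))
    (fun g hs ht => hu 1 g (one_pow 2) hs (by rw [ht, mul_one]))
    (fun g hs ht => hu (-1) g (by ring) hs (by rw [ht]; ring))
  have h1 : f 1 = ((q : ℂ) + 1) ^ 2 * (α 1 * β⁻¹ 1) := by
    simp only [hf, princ_scal _ ((scal_iff (1 : G)).2 (Or.inl rfl))]
    simp [hstar, Complex.conj_natCast]
    ring
  have h2 : f (-1) = ((q : ℂ) + 1) ^ 2 * (α (-1) * β⁻¹ (-1)) := by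
    simp only [hf, princ_scal _ ((scal_iff (-1 : G)).2 (Or.inr rfl))]
    simp [hstar, Complex.conj_natCast]
    ring
  have hT : ∑ c ∈ Finset.univ.filter (fun c : G => c ∈ cent g0 ∧ ¬ Scal c), f c = 0 :=
    Finset.sum_eq_zero fun c hc => by
      have hc' := (Finset.mem_filter.1 hc).2
      simp only [hf, princ_noEig α (noEig_of_mem_cent h0 hc'.1 hc'.2), zero_mul]
  set X : Fˣ → ℂ := fun a => (α (a : F) + α ((a : F)⁻¹)) * (β⁻¹ (a : F) + β⁻¹ ((a : F)⁻¹)) with hX
  have hD : ∑ a ∈ Finset.univ.filter (fun a : Fˣ => (a : F) ^ 2 ≠ 1), f (dd a) =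
      ∑ a ∈ Finset.univ.filter (fun a : Fˣ => (a : F) ^ 2 ≠ 1), X a :=
    Finset.sum_congr rfl fun a ha => by
      simp only [hf, hX, princ_diag _ (Finset.mem_filter.1 ha).2, map_add, hstar]
  have hDε : ∑ a ∈ Finset.univ.filter (fun a : Fˣ => (a : F) ^ 2 = 1), X a =
      4 * (α 1 * β⁻¹ 1) + 4 * (α (-1) * β⁻¹ (-1)) := by
    have : Finset.univ.filter (fun a : Fˣ => (a : F) ^ 2 = 1) = {1, -1} := by
      ext a; simp only [Finset.mem_filter, Finset.mem_univ, true_and, Finset.mem_insert,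
        Finset.mem_singleton, sq_eq_one_iff, Units.ext_iff, Units.val_one, Units.val_neg]
    rw [this, Finset.sum_pair]
    · simp only [hX, Units.val_one, Units.val_neg, inv_one, inv_neg]; ring
    · intro h
      have := congrArg (fun a : Fˣ => (a : F)) h
      simp at this
      exact two_ne_zero' hodd (by linear_combination this)
  have hall : ∑ a : Fˣ, X a = ((q : ℂ) - 1) *
      (2 * (if α = β then (1 : ℂ) else 0) + 2 * (if α = β⁻¹ then (1 : ℂ) else 0)) := by
    have s1 : ∀ γ : MulChar F ℂ, ∑ a : Fˣ, γ ((a : F)⁻¹) = ∑ a : Fˣ, γ (a : F) := fun γ =>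
      Fintype.sum_equiv (Equiv.inv Fˣ) _ _ fun a => by simp
    have e1 : ∀ a : Fˣ, α ((a : F)) * β⁻¹ ((a : F)⁻¹) = (α * β) (a : F) := fun a => by
      rw [MulChar.mul_apply, MulChar.inv_apply', inv_inv]
    have e2 : ∀ a : Fˣ, α ((a : F)⁻¹) * β⁻¹ (a : F) = (α * β) ((a : F)⁻¹) := fun a => by
      rw [MulChar.mul_apply, MulChar.inv_apply']
    have e3 : ∀ a : Fˣ, X a = (α * β⁻¹) (a : F) + (α * β⁻¹) ((a : F)⁻¹) + (α * β) (a : F) +
        (α * β) ((a : F)⁻¹) := fun a => by
      simp only [hX, add_mul, mul_add, e1, e2, MulChar.mul_apply]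
      ring
    rw [Finset.sum_congr rfl (fun a _ => e3 a), Finset.sum_add_distrib, Finset.sum_add_distrib,
      Finset.sum_add_distrib, s1, s1, sum_units_char, sum_units_char]
    simp only [mul_inv_eq_one]
    simp only [mul_eq_one_iff_eq_inv]
    split_ifs <;> ring
  have htot : ∑ a ∈ Finset.univ.filter (fun a : Fˣ => (a : F) ^ 2 ≠ 1), X a =
      ∑ a : Fˣ, X a - (4 * (α 1 * β⁻¹ 1) + 4 * (α (-1) * β⁻¹ (-1))) := by
    rw [← hDε, eq_sub_iff_add_eq, add_comm]
    exact Finset.sum_filter_add_sum_filter_not _ _ _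
  rw [h1, h2, hT, hD, htot, hall] at hsum
  have hq := two_le_q (F := F)
  have hG : (Nat.card G : ℂ) = (q : ℂ) * (((q : ℂ) - 1) * ((q : ℂ) + 1)) := by
    rw [card_G]; push_cast [Nat.cast_sub (by omega : 1 ≤ q)]; ring
  have hGne : (Nat.card G : ℂ) ≠ 0 := by exact_mod_cast Nat.card_pos.ne'
  rw [Cfsg.classInner, inv_mul_eq_iff_eq_mul₀ hGne, hG]
  linear_combination (hsum : _) / 2

end Cfsg.Agent.SL2
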