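import Cfsg.Agent.Lib.SL2.DicksonApps
import Cfsg.Agent.Lib.SL2.DicksonMinimal
import Cfsg.Agent.Lib.Invol.Dihedral

/-!
# Solvabilisers in `PSL(2, 2^p)`, `p` prime
-/

set_option autoImplicit false
set_option linter.unusedSectionVars false

namespace Cfsg.Agent.SL2

open Matrix

variable {F : Type*} [Field F] [Fintype F] [CharP F 2]

local notation "G" => Matrix.SpecialLinearGroup (Fin 2) F
local notation "M2" => Matrix (Fin 2) (Fin 2) F
local notation "PS" => Matrix.ProjectiveSpecialLinearGroup (Fin 2) F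
local notation "q" => Fintype.card F

theorem π_inj : Function.Injective (π (F := F)) := fun a b h => by
  rcases π_eq_iff.1 h with e | e
  · exact e.symm
  · rw [e, neg_eq_self]

theorem two_eq_zero' : (2 : F) = 0 := CharTwo.two_eq_zero

/-- Proper subgroups lie in a Borel subgroup or a torus normaliser. -/
theorem proper_cases {p : ℕ} (hp : p.Prime) (hq : q = 2 ^ p) {H : Subgroup PS} (hH : H ≠ ⊤) :
    (∃ r : G, tr r ^ 2 ≠ 4 ∧ H ≤ NT r) ∨ ∃ g : PS, ∀ x ∈ H, g * x * g⁻¹ ∈ (B0 : Subgroup PS) := by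
  classical
  haveI : Fact (Nat.Prime 2) := ⟨Nat.prime_two⟩
  rcases dickson 2 H with ⟨r, ht, hle, -⟩ | ⟨r, ht, hle, -⟩ | h | ⟨h2, -⟩ | ⟨h2, -⟩ | ⟨h2, -⟩ |
    ⟨K, γ, hK, hcase⟩
  · exact Or.inl ⟨r, ht, hle.trans Subgroup.le_normalizer⟩
  · exact Or.inl ⟨r, ht, hle⟩
  · exact Or.inr h
  · exact absurd rfl h2
  · exact absurd rfl h2
  · exact absurd rfl h2
  · exfalso
    have hsq := lt_card_of_ne_top hH (hcase.imp And.left And.left)
    have hd := Module.card_eq_pow_finrank (K := K) (V := F)
    rw [hq, ← Nat.card_eq_fintype_card (α := K)] at hd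
    rw [hq] at hsq
    obtain ⟨a, -, ha⟩ := (Nat.dvd_prime_pow Nat.prime_two).1
      (show Nat.card K ∣ 2 ^ p from hd ▸ dvd_pow_self _ (Module.finrank_pos.ne'))
    rw [ha, ← pow_mul] at hd
    have := Nat.pow_right_injective le_rfl hd
    rcases hp.eq_one_or_self_of_dvd a (this ▸ Dvd.intro _ rfl) with h | h
    · rw [ha, h] at hK; omega
    · rw [ha, h] at hsq
      have : 2 ^ p * 2 ^ p ≤ 2 ^ p := hsq
      have h4 : 2 ≤ 2 ^ p := le_self_pow₀ (by norm_num) hp.ne_zero
      nlinarith

theorem four_le {p : ℕ} (hp : p.Prime) (hq : q = 2 ^ p) : 4 ≤ q := by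
  rw [hq, show 4 = 2 ^ 2 by norm_num]
  exact Nat.pow_le_pow_right (by norm_num) hp.two_le

theorem solvable_of_le_proper {p : ℕ} (hp : p.Prime) (hq : q = 2 ^ p) {H M : Subgroup PS}
    (hle : H ≤ M) (hM : M ≠ ⊤) : Group.IsSolvable H := by
  haveI : Fact (Nat.Prime 2) := ⟨Nat.prime_two⟩
  have hH : H ≠ ⊤ := fun h => hM (eq_top_iff.2 (h ▸ hle))
  rcases proper_cases hp hq hH with ⟨r, ht, h⟩ | ⟨g, hg⟩
  · obtain ⟨e⟩ := NT_equiv_dihedral ht
    haveI := isSolvable_dihedral (Nat.card (torus r))
    exact Group.isSolvable_of_isSolvable_injective (f := e.toMonoidHom.comp (Subgroup.inclusion h))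
      (e.injective.comp (Subgroup.inclusion_injective h))
  · haveI := isSolvable_B0 (F := F)
    refine Group.isSolvable_of_isSolvable_injective
      (f := ((MulAut.conj g).toMonoidHom.comp H.subtype).codRestrict (B0 : Subgroup PS) fun x => hg x x.2)
      fun a b hab => Subtype.ext ((MulAut.conj g).injective (congrArg Subtype.val hab))

theorem ne_top_of_solvable (h4 : 4 ≤ q) {H : Subgroup PS} (hs : Group.IsSolvable H) : H ≠ ⊤ :=
  fun h => not_solvable_psl (F := F) h4 (by
    haveI := hs
    exact Group.isSolvable_of_isSolvable_injective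
      (f := ((Subgroup.topEquiv.symm.trans (MulEquiv.subgroupCongr h.symm)).toMonoidHom))
      (Subgroup.topEquiv.symm.trans (MulEquiv.subgroupCongr h.symm)).injective)

/-- A group generated by two elements of order at most two is solvable. -/
theorem solvable_two_sq_one {x y : PS} (hx : x * x = 1) (hy : y * y = 1) :
    Group.IsSolvable ↥(Subgroup.closure ({x, y} : Set PS)) := by
  have hinv : x * (x * y) * x⁻¹ = (x * y)⁻¹ := by
    rw [_root_.mul_inv_rev, inv_eq_of_mul_eq_one_right hx, inv_eq_of_mul_eq_one_right hy, ← mul_assoc, hx,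
      one_mul]
  have hcl : Subgroup.closure ({x, y} : Set PS) ≤ Subgroup.closure ({x, x * y} : Set PS) := by
    rw [Subgroup.closure_le]
    rintro z (rfl | rfl)
    · exact Subgroup.subset_closure (by simp)
    · have h := mul_mem (inv_mem (Subgroup.subset_closure (show x ∈ ({x, x * z} : Set PS) by simp)))
        (Subgroup.subset_closure (show x * z ∈ ({x, x * z} : Set PS) by simp))
      simpa using h
  by_cases hm : x ∈ Subgroup.zpowers (x * y)
  · have hle : Subgroup.closure ({x, x * y} : Set PS) ≤ Subgroup.zpowers (x * y) := by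
      rw [Subgroup.closure_le]
      rintro z (rfl | rfl)
      · exact hm
      · exact Subgroup.mem_zpowers _
    refine Group.isSolvable_of_comm fun a b => Subtype.ext ?_
    obtain ⟨i, hi⟩ := hle (hcl a.2)
    obtain ⟨j, hj⟩ := hle (hcl b.2)
    show (a : PS) * b = b * a
    rw [← hi, ← hj]
    exact (Commute.zpow_zpow (Commute.refl _) i j).eq
  · obtain ⟨e⟩ := Invol.nonempty_dihedralEquiv hx hinv hm
    haveI := isSolvable_dihedral (orderOf (x * y))
    exact Group.isSolvable_of_isSolvable_injective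
      (f := e.symm.toMonoidHom.comp (Subgroup.inclusion hcl))
      (e.symm.injective.comp (Subgroup.inclusion_injective hcl))

theorem sq_one_iff (s : G) : s * s = 1 ↔ tr s = 0 := by
  have h2 := two_eq_zero' (F := F)
  have hd := det_eq s
  constructor
  · intro h
    have h00 := congrArg (fun m : G => (m : M2) 0 0) h
    have h11 := congrArg (fun m : G => (m : M2) 1 1) h
    simp [Matrix.mul_apply, Fin.sum_univ_two] at h00 h11
    refine (pow_eq_zero_iff two_ne_zero).1 ?_
    rw [tr]
    linear_combination h00 + h11 + 2 * hd + 2 * h2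
  · intro ht
    rw [tr] at ht
    apply Subtype.ext
    ext i j
    fin_cases i <;> fin_cases j <;> simp [Matrix.mul_apply, Fin.sum_univ_two]
    · linear_combination (s : M2) 0 0 * ht - hd - h2
    · linear_combination (s : M2) 0 1 * ht
    · linear_combination (s : M2) 1 0 * ht
    · linear_combination (s : M2) 1 1 * ht - hd - h2

theorem card_sq_one_elements : Nat.card {s : G // tr s = 0} = q * q := by
  classical
  have hn : nroots (0 : F) = 1 := by
    refine Nat.card_eq_one_iff_unique.2 ⟨⟨fun a b => Subtype.ext ?_⟩, ⟨⟨1, by rw [one_mul, zero_sub, CharTwo.neg_eq]⟩⟩⟩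
    have key : ∀ a : {a : F // a * (0 - a) = 1}, a.1 = 1 := fun a => by
      have h2 := two_eq_zero' (F := F)
      have : (a.1 - 1) ^ 2 = 0 := by linear_combination -a.2 - a.1 * h2
      exact sub_eq_zero.1 ((pow_eq_zero_iff two_ne_zero).1 this)
    rw [key a, key b]
  rw [card_trace, hn, mul_one, Nat.card_eq_fintype_card]
  have := two_le_q (F := F)
  obtain ⟨j, hj⟩ : ∃ j, q = j + 1 := ⟨q - 1, by omega⟩
  rw [hj, Nat.add_sub_cancel]; ring

theorem card_upper : Nat.card {s : G // (s : M2) 1 0 = 0} = q * (q - 1) := by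
  classical
  rw [Nat.card_congr upperEquiv, Nat.card_prod, Nat.card_units, Nat.card_eq_fintype_card, mul_comm]

theorem card_uu_range : Nat.card {s : G // (s : M2) 1 0 = 0 ∧ tr s = 0} = q := by
  rw [← nat_card_F (F := F)]
  refine (Nat.card_congr (Equiv.ofBijective
    (fun b : F => (⟨uu b, by simp [uu], by simpa using two_eq_zero' (F := F)⟩ :
      {s : G // (s : M2) 1 0 = 0 ∧ tr s = 0})) ⟨fun a b h => ?_, fun s => ?_⟩)).symm
  · simpa [uu] using congrArg (fun z : {s : G // (s : M2) 1 0 = 0 ∧ tr s = 0} => (z.1 : M2) 0 1) h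
  · obtain ⟨s, h10, ht⟩ := s
    obtain ⟨h, -, h11⟩ := upper_root h10
    have h00 : (s : M2) 0 0 = 1 := by
      rw [ht] at h
      have h2 := two_eq_zero' (F := F)
      exact sub_eq_zero.1 ((pow_eq_zero_iff two_ne_zero).1 (show ((s : M2) 0 0 - 1) ^ 2 = 0 by
        linear_combination -h - (s : M2) 0 0 * h2))
    refine ⟨(s : M2) 0 1, Subtype.ext ?_⟩
    apply ext4 <;> simp [uu, h00, h10, h11]

theorem tr_uu_mul (b : F) (s : G) : tr (uu b * s) = tr s + b * (s : M2) 1 0 := by
  rw [tr, tr, Matrix.SpecialLinearGroup.coe_mul]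
  simp [uu, Matrix.mul_apply, Fin.sum_univ_two]
  ring

theorem solvabilizer_uu {p : ℕ} (hp : p.Prime) (hq : q = 2 ^ p) {b : F} (hb : b ≠ 0) :
    Nat.card {y : PS // Group.IsSolvable ↥(Subgroup.closure ({π (uu b), y} : Set PS))} =
      3 * q * (q - 1) := by
  classical
  have h4 := four_le hp hq
  have hx2 : π (uu b) * π (uu b) = (1 : PS) := by
    rw [← map_mul, uu_mul, show b + b = 0 from CharTwo.add_self_eq_zero b, uu_zero, map_one]
  have hx1 : π (uu b) ≠ (1 : PS) := fun h => not_scal_uu hb (π_eq_one.1 h)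
  have hiff : ∀ s : G, Group.IsSolvable ↥(Subgroup.closure ({π (uu b), π s} : Set PS)) ↔
      ((s : M2) 1 0 = 0 ∨ (tr s = 0 ∧ (s : M2) 1 0 ≠ 0) ∨ (tr (uu b * s) = 0 ∧ (s : M2) 1 0 ≠ 0)) := by
    intro s
    constructor
    · intro hs
      by_cases h10 : (s : M2) 1 0 = 0
      · exact Or.inl h10
      rcases proper_cases hp hq (ne_top_of_solvable h4 hs) with ⟨r, ht, hle⟩ | ⟨g, hg⟩
      · have hxN : π (uu b) ∈ NT r := hle (Subgroup.subset_closure (by simp))
        have hyN : π s ∈ NT r := hle (Subgroup.subset_closure (by simp))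
        rw [pi_mem_NT] at hxN hyN
        have hxc : uu b ∉ cent r := by
          intro h
          have h1 : orderOf (uu b) ∣ Nat.card (cent r) := Subgroup.orderOf_dvd_natCard _ h
          have h2 : orderOf (uu b : G) = 2 := by
            refine orderOf_eq_prime ?_ fun e => hx1 (by rw [e, map_one])
            rw [pow_two, uu_mul, show b + b = 0 from CharTwo.add_self_eq_zero b, uu_zero]
          rw [h2] at h1
          have heven : 2 ∣ q := hq ▸ dvd_pow_self 2 hp.ne_zero
          rcases card_cent_regular ht with ⟨-, hc, -⟩ | ⟨-, hc, -⟩ <;> rw [hc] at h1 <;> omega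
        rcases normalizer_act ht hyN with ⟨hyc, -⟩ | ⟨hyc, -⟩
        · refine Or.inr (Or.inr ⟨(sq_one_iff _).1 ?_, h10⟩)
          rcases normalizer_act ht hxN with ⟨h, -⟩ | ⟨-, h⟩
          · exact absurd h hxc
          · have e := h s hyc
            rw [show (uu b)⁻¹ = uu b from inv_eq_of_mul_eq_one_right (by
              rw [uu_mul, show b + b = 0 from CharTwo.add_self_eq_zero b, uu_zero])] at e
            calc uu b * s * (uu b * s) = (uu b * s * uu b) * s := by group
              _ = s⁻¹ * s := by rw [e]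
              _ = 1 := inv_mul_cancel s
        · refine Or.inr (Or.inl ⟨(sq_one_iff s).1 ?_, h10⟩)
          rw [(sq_of_mem_normalizer ht hyN hyc).2, neg_eq_self]
      · have hgB := conj_uu_upper hb (hg _ (Subgroup.subset_closure (by simp)))
        have hy := hg _ (Subgroup.subset_closure (show π s ∈ ({π (uu b), π s} : Set PS) by simp))
        have := mul_mem (mul_mem (inv_mem hgB) hy) hgB
        rw [show g⁻¹ * (g * π s * g⁻¹) * g = π s by group, pi_mem_B0] at this
        exact absurd this h10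
    · rintro (h | ⟨h, -⟩ | ⟨h, -⟩)
      · refine solvable_of_le_proper hp hq ((Subgroup.closure_le _).2 ?_) B0_ne_top
        rintro z (rfl | rfl)
        · exact pi_mem_B0.2 (by simp [uu])
        · exact pi_mem_B0.2 h
      · exact solvable_two_sq_one hx2 (by rw [← map_mul, (sq_one_iff s).2 h, map_one])
      · have hs := solvable_two_sq_one hx2 (y := π (uu b * s))
          (by rw [← map_mul, (sq_one_iff _).2 h, map_one])
        have hle : Subgroup.closure ({π (uu b), π s} : Set PS) ≤
            Subgroup.closure ({π (uu b), π (uu b * s)} : Set PS) := by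
          rw [Subgroup.closure_le]
          rintro z (rfl | rfl)
          · exact Subgroup.subset_closure (by simp)
          · have h := mul_mem (inv_mem (Subgroup.subset_closure
              (show π (uu b) ∈ ({π (uu b), π (uu b * s)} : Set PS) by simp)))
              (Subgroup.subset_closure (show π (uu b * s) ∈ ({π (uu b), π (uu b * s)} : Set PS) by simp))
            simpa [← mul_assoc] using h
        haveI := hs
        exact Group.isSolvable_of_isSolvable_injective (f := Subgroup.inclusion hle)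
          (Subgroup.inclusion_injective hle)
  rw [show Nat.card {y : PS // Group.IsSolvable ↥(Subgroup.closure ({π (uu b), y} : Set PS))} =
      Nat.card {s : G // (s : M2) 1 0 = 0 ∨ (tr s = 0 ∧ (s : M2) 1 0 ≠ 0) ∨
      (tr (uu b * s) = 0 ∧ (s : M2) 1 0 ≠ 0)} from
    (Nat.card_congr ((Equiv.ofBijective _ ⟨π_inj (F := F), π_surjective⟩).subtypeEquiv
      fun s => (hiff s).symm)).symm]
  have e : ∀ P : G → Prop, Nat.card {x // P x} = {x : G | P x}.ncard := fun P =>
    Nat.card_coe_set_eq {x | P x}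
  have hI : {s : G | tr s = 0 ∧ (s : M2) 1 0 ≠ 0}.ncard + q = q * q := by
    have hsplit := Set.ncard_inter_add_ncard_sdiff_eq_ncard {s : G | tr s = 0}
      {s : G | (s : M2) 1 0 = 0}
    have e1 : ({s : G | tr s = 0} ∩ {s : G | (s : M2) 1 0 = 0}) =
        {s : G | (s : M2) 1 0 = 0 ∧ tr s = 0} := by ext; simp [and_comm]
    have e2 : ({s : G | tr s = 0} \ {s : G | (s : M2) 1 0 = 0}) =
        {s : G | tr s = 0 ∧ (s : M2) 1 0 ≠ 0} := by ext; simp
    rw [e1, e2, ← e, ← e, ← e, card_uu_range, card_sq_one_elements] at hsplit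
    rw [← e]; omega
  have hJ : {s : G | tr (uu b * s) = 0 ∧ (s : M2) 1 0 ≠ 0}.ncard =
      {s : G | tr s = 0 ∧ (s : M2) 1 0 ≠ 0}.ncard := by
    rw [← e, ← e]
    refine Nat.card_congr ((Equiv.mulLeft (uu b)).subtypeEquiv fun s => ?_)
    show _ ↔ tr (uu b * s) = 0 ∧ ((uu b * s : G) : M2) 1 0 ≠ 0
    have e10 : ((uu b * s : G) : M2) 1 0 = (s : M2) 1 0 := by
      rw [Matrix.SpecialLinearGroup.coe_mul]
      simp [uu, Matrix.mul_apply, Fin.sum_univ_two]
    rw [e10]
  rw [e, show {s : G | (s : M2) 1 0 = 0 ∨ (tr s = 0 ∧ (s : M2) 1 0 ≠ 0) ∨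
      (tr (uu b * s) = 0 ∧ (s : M2) 1 0 ≠ 0)} = {s : G | (s : M2) 1 0 = 0} ∪
      ({s : G | tr s = 0 ∧ (s : M2) 1 0 ≠ 0} ∪ {s : G | tr (uu b * s) = 0 ∧ (s : M2) 1 0 ≠ 0})
      from rfl, Set.ncard_union_eq, Set.ncard_union_eq, hJ, ← e (fun s => (s : M2) 1 0 = 0), card_upper]
  · obtain ⟨j, hj⟩ : ∃ j, q = j + 1 := ⟨q - 1, by omega⟩
    rw [hj] at hI ⊢
    simp only [Nat.add_sub_cancel]
    linear_combination 2 * hI
  · rw [Set.disjoint_left]
    rintro s ⟨h1, h10⟩ ⟨h2, -⟩
    rw [tr_uu_mul, h1, zero_add] at h2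
    exact h10 ((mul_eq_zero.1 h2).resolve_left hb)
  · rw [Set.disjoint_left]
    rintro s h (⟨-, h'⟩ | ⟨-, h'⟩) <;> exact h' h

theorem solvabilizer_dd {p : ℕ} (hp : p.Prime) (hq : q = 2 ^ p) {a : Fˣ} (ha : (a : F) ^ 2 ≠ 1) :
    Nat.card {y : PS // Group.IsSolvable ↥(Subgroup.closure ({π (dd a), y} : Set PS))} =
      2 * q * (q - 1) := by
  classical
  have h4 := four_le hp hq
  have ht : tr (dd a) ^ 2 ≠ 4 := tr_sq_dd ha
  have hai : (a : F) - (a : F)⁻¹ ≠ 0 := fun h => ha ((unit_sub_inv a).1 h)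
  have hiff : ∀ s : G, Group.IsSolvable ↥(Subgroup.closure ({π (dd a), π s} : Set PS)) ↔
      ((s : M2) 1 0 = 0 ∨ (s : M2) 0 1 = 0 ∨ ((s : M2) 0 0 = 0 ∧ (s : M2) 1 1 = 0)) := by
    intro s
    constructor
    · intro hs
      rcases proper_cases hp hq (ne_top_of_solvable h4 hs) with ⟨r, htr, hle⟩ | ⟨g, hg⟩
      · have hxN : π (dd a) ∈ NT r := hle (Subgroup.subset_closure (by simp))
        have hyN : π s ∈ NT r := hle (Subgroup.subset_closure (by simp))
        rw [pi_mem_NT] at hxN
        have hxc : dd a ∈ cent r := by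
          by_contra hxc
          have hsq := (sq_of_mem_normalizer htr hxN hxc).2
          rw [neg_eq_self, dd_mul] at hsq
          have h00 := congrArg (fun m : G => (m : M2) 0 0) hsq
          rw [Matrix.SpecialLinearGroup.coe_one] at h00
          simp [dd, ← pow_two] at h00
          rcases h00 with h00 | h00 <;> exact ha (by simp [h00])
        have hT : torus r = torus (dd a) :=
          torus_eq_of_mem (scal_of_tr_sq_ne htr) (scal_of_tr_sq_ne ht) (y := π (dd a))
            (fun h => scal_of_tr_sq_ne ht (π_eq_one.1 h)) (pi_mem_torus.2 hxc)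
            (pi_mem_torus.2 (self_mem_cent _))
        rw [show NT r = NT (dd a) by rw [NT, NT, hT], pi_mem_NT, mem_normalizer_cent ht] at hyN
        rcases hyN with h | h
        · exact Or.inl ((mem_cent_dd ha).1 (mem_cent.2 (mul_inv_eq_iff_eq_mul.1 h).symm)).2
        · rw [mul_inv_eq_iff_eq_mul, dd_inv] at h
          have h0 := congrArg (fun m : G => (m : M2) 0 0) h
          have h1 := congrArg (fun m : G => (m : M2) 1 1) h
          rw [Matrix.SpecialLinearGroup.coe_mul, Matrix.SpecialLinearGroup.coe_mul] at h0 h1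
          simp [dd, Matrix.mul_apply, Fin.sum_univ_two] at h0 h1
          refine Or.inr (Or.inr ⟨?_, ?_⟩)
          · exact (mul_eq_zero.1 (show (s : M2) 0 0 * ((a : F) - (a : F)⁻¹) = 0 by
              linear_combination h0)).resolve_right hai
          · exact (mul_eq_zero.1 (show (s : M2) 1 1 * ((a : F) - (a : F)⁻¹) = 0 by
              linear_combination -h1)).resolve_right hai
      · obtain ⟨P, rfl⟩ := π_surjective g
        have hx := hg _ (Subgroup.subset_closure (show π (dd a) ∈ ({π (dd a), π s} : Set PS) by simp))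
        have hy := hg _ (Subgroup.subset_closure (show π s ∈ ({π (dd a), π s} : Set PS) by simp))
        rw [← π_conj, pi_mem_B0, Matrix.SpecialLinearGroup.coe_mul, Matrix.SpecialLinearGroup.coe_mul,
          coe_inv'] at hx hy
        simp [dd, tr, Matrix.mul_apply, Fin.sum_univ_two] at hx hy
        have hd := det_eq P
        rcases mul_eq_zero.1 (show (P : M2) 1 0 * (P : M2) 1 1 = 0 from
          (mul_eq_zero.1 (show (P : M2) 1 0 * (P : M2) 1 1 * ((a : F) - (a : F)⁻¹) = 0 by
            linear_combination hx)).resolve_right hai) with h | h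
        · left
          rw [h, mul_zero, sub_zero] at hd
          refine (mul_eq_zero.1 (show (P : M2) 1 1 * (P : M2) 1 1 * (s : M2) 1 0 = 0 by
            rw [h] at hy; linear_combination hy)).resolve_left ?_
          exact mul_ne_zero (right_ne_zero_of_mul_eq_one hd) (right_ne_zero_of_mul_eq_one hd)
        · right; left
          rw [h, mul_zero, zero_sub] at hd
          refine (mul_eq_zero.1 (show (P : M2) 1 0 * (P : M2) 1 0 * (s : M2) 0 1 = 0 by
            rw [h] at hy; linear_combination -hy)).resolve_left ?_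
          have h10 : (P : M2) 1 0 ≠ 0 := fun e => by rw [e, mul_zero, neg_zero] at hd; exact zero_ne_one hd
          exact mul_ne_zero h10 h10
    · intro h
      have mk : ∀ {M : Subgroup PS}, M ≠ ⊤ → π (dd a) ∈ M → π s ∈ M →
          Group.IsSolvable ↥(Subgroup.closure ({π (dd a), π s} : Set PS)) := fun {M} hM h1 h2 =>
        solvable_of_le_proper hp hq ((Subgroup.closure_le _).2 (by
          rintro z (rfl | rfl) <;> assumption)) hM
      rcases h with h | h | ⟨h0, h1⟩
      · exact mk B0_ne_top (pi_mem_B0.2 (by simp [dd])) (pi_mem_B0.2 h)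
      · let w : G := ⟨!![0, 1; -1, 0], by simp [Matrix.det_fin_two]⟩
        refine mk (M := (B0 : Subgroup PS).comap (MulAut.conj (π w)).toMonoidHom) (fun e => ?_) ?_ ?_
        · apply B0_ne_top (F := F)
          rw [eq_top_iff]
          intro z _
          have : (MulAut.conj (π w)).symm z ∈
              (B0 : Subgroup PS).comap (MulAut.conj (π w)).toMonoidHom := e ▸ Subgroup.mem_top _
          simpa [Subgroup.mem_comap, mul_assoc] using this
        all_goals
          rw [Subgroup.mem_comap, MulEquiv.coe_toMonoidHom, MulAut.conj_apply]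
          rw [← π_conj, pi_mem_B0, Matrix.SpecialLinearGroup.coe_mul, Matrix.SpecialLinearGroup.coe_mul,
            coe_inv']
          simp [w, dd, tr, Matrix.mul_apply, Matrix.vecMul, dotProduct, Fin.sum_univ_two, h]
      · refine mk (NT_ne_top ht (by omega)) (Subgroup.le_normalizer (pi_mem_torus.2 (self_mem_cent _))) ?_
        rw [pi_mem_NT, mem_normalizer_cent ht]
        right
        rw [mul_inv_eq_iff_eq_mul, dd_inv]
        apply Subtype.ext
        ext i j
        rw [Matrix.SpecialLinearGroup.coe_mul, Matrix.SpecialLinearGroup.coe_mul]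
        fin_cases i <;> fin_cases j <;> simp [dd, Matrix.mul_apply, Fin.sum_univ_two, h0, h1] <;> ring
  rw [show Nat.card {y : PS // Group.IsSolvable ↥(Subgroup.closure ({π (dd a), y} : Set PS))} =
      Nat.card {s : G // (s : M2) 1 0 = 0 ∨ (s : M2) 0 1 = 0 ∨ ((s : M2) 0 0 = 0 ∧ (s : M2) 1 1 = 0)} from
    (Nat.card_congr ((Equiv.ofBijective _ ⟨π_inj (F := F), π_surjective⟩).subtypeEquiv
      fun s => (hiff s).symm)).symm]
  have e : ∀ P : G → Prop, Nat.card {x // P x} = {x : G | P x}.ncard := fun P =>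
    Nat.card_coe_set_eq {x | P x}
  have hU := card_upper (F := F)
  have hL : Nat.card {s : G // (s : M2) 0 1 = 0} = q * (q - 1) := by
    rw [← hU]
    exact Nat.card_congr
      { toFun := fun s => ⟨s.1.transpose, by simpa using s.2⟩
        invFun := fun s => ⟨s.1.transpose, by simpa using s.2⟩
        left_inv := fun s => by ext; simp
        right_inv := fun s => by ext; simp }
  have hD : Nat.card {s : G // (s : M2) 1 0 = 0 ∧ (s : M2) 0 1 = 0} = q - 1 := by
    rw [← Nat.card_eq_fintype_card, ← Nat.card_units]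
    refine (Nat.card_congr (Equiv.ofBijective (fun b : Fˣ => (⟨dd b, by simp [dd], by simp [dd]⟩ :
      {s : G // (s : M2) 1 0 = 0 ∧ (s : M2) 0 1 = 0})) ⟨fun x y h => dd_injective
        (congrArg Subtype.val h), fun s => ?_⟩)).symm
    obtain ⟨s, h10, h01⟩ := s
    obtain ⟨-, h00, h11⟩ := upper_root h10
    exact ⟨Units.mk0 _ h00, Subtype.ext (by apply ext4 <;> simp [dd, h10, h01, h11])⟩
  have hA : Nat.card {s : G // (s : M2) 0 0 = 0 ∧ (s : M2) 1 1 = 0} = q - 1 := by
    rw [← hD]
    let w : G := ⟨!![0, 1; -1, 0], by simp [Matrix.det_fin_two]⟩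
    refine Nat.card_congr ((Equiv.mulLeft w).subtypeEquiv fun s => ?_)
    show _ ↔ ((w * s : G) : M2) 1 0 = 0 ∧ ((w * s : G) : M2) 0 1 = 0
    have e10 : ((w * s : G) : M2) 1 0 = -(s : M2) 0 0 := by
      rw [Matrix.SpecialLinearGroup.coe_mul]
      simp [w, Matrix.mul_apply, Fin.sum_univ_two]
    have e01 : ((w * s : G) : M2) 0 1 = (s : M2) 1 1 := by
      rw [Matrix.SpecialLinearGroup.coe_mul]
      simp [w, Matrix.mul_apply, Fin.sum_univ_two]
    rw [e10, e01, neg_eq_zero]
  rw [e] at hU hL hD hA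
  rw [e, show {s : G | (s : M2) 1 0 = 0 ∨ (s : M2) 0 1 = 0 ∨ ((s : M2) 0 0 = 0 ∧ (s : M2) 1 1 = 0)} =
      ({s : G | (s : M2) 1 0 = 0} ∪ {s : G | (s : M2) 0 1 = 0}) ∪
      {s : G | (s : M2) 0 0 = 0 ∧ (s : M2) 1 1 = 0} from by ext; simp [or_assoc],
    Set.ncard_union_eq, hA]
  · have h := Set.ncard_union_add_ncard_inter {s : G | (s : M2) 1 0 = 0} {s : G | (s : M2) 0 1 = 0}
    rw [show ({s : G | (s : M2) 1 0 = 0} ∩ {s : G | (s : M2) 0 1 = 0}) =
      {s : G | (s : M2) 1 0 = 0 ∧ (s : M2) 0 1 = 0} from rfl, hD, hU, hL] at h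
    rw [show 2 * q * (q - 1) = q * (q - 1) + q * (q - 1) by ring]
    exact h
  · rw [Set.disjoint_left]
    rintro s (h | h) ⟨h0, h1⟩ <;>
    · have hd := det_eq s
      simp only [Set.mem_setOf_eq] at h
      rw [h, h0] at hd
      simp at hd

theorem solvabilizer_noEig {p : ℕ} (hp : p.Prime) (hq : q = 2 ^ p) {r : G} (hr : NoEig r)
    (hsq : π r * π r ≠ (1 : PS)) :
    Nat.card {y : PS // Group.IsSolvable ↥(Subgroup.closure ({π r, y} : Set PS))} = 2 * (q + 1) := by
  classical
  haveI : Finite PS := Finite.of_surjective _ π_surjective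
  have h4 := four_le hp hq
  have ht := hr.tr_sq
  have hiff : ∀ y : PS, Group.IsSolvable ↥(Subgroup.closure ({π r, y} : Set PS)) ↔ y ∈ NT r := by
    intro y
    constructor
    · intro hs
      rcases proper_cases hp hq (ne_top_of_solvable h4 hs) with ⟨r', ht', hle⟩ | ⟨g, hg⟩
      · have hxN : π r ∈ NT r' := hle (Subgroup.subset_closure (by simp))
        rw [pi_mem_NT] at hxN
        have hxc : r ∈ cent r' := by
          by_contra hxc
          exact hsq (by rw [← map_mul, (sq_of_mem_normalizer ht' hxN hxc).2, π_neg, map_one])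
        have hT : torus r' = torus r :=
          torus_eq_of_mem (scal_of_tr_sq_ne ht') (scal_of_tr_sq_ne ht) (y := π r)
            (fun h => scal_of_tr_sq_ne ht (π_eq_one.1 h)) (pi_mem_torus.2 hxc)
            (pi_mem_torus.2 (self_mem_cent _))
        rw [NT, ← hT]
        exact hle (Subgroup.subset_closure (by simp))
      · exfalso
        obtain ⟨P, rfl⟩ := π_surjective g
        have hx := hg _ (Subgroup.subset_closure (show π r ∈ ({π r, y} : Set PS) by simp))
        rw [← π_conj, pi_mem_B0] at hx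
        have h := (noEig_conj r P).2 hr
        exact (noEig_iff _).1 h _ (upper_root hx).1
    · intro hy
      refine solvable_of_le_proper hp hq ((Subgroup.closure_le _).2 ?_) (NT_ne_top ht (by omega))
      rintro z (rfl | rfl)
      · exact Subgroup.le_normalizer (pi_mem_torus.2 (self_mem_cent _))
      · exact hy
  rw [Nat.card_congr (Equiv.subtypeEquivRight hiff)]
  show Nat.card (NT r) = _
  rw [card_NT ht]
  have hd : Nat.gcd 2 (q - 1) = 1 := by
    refine (Nat.Prime.coprime_iff_not_dvd Nat.prime_two).2 ?_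
    have : 2 ∣ q := hq ▸ dvd_pow_self 2 hp.ne_zero
    omega
  have h := card_torus r
  rw [hd, one_mul, (card_cent_noEig hr).1] at h
  rw [h]

theorem card_solvabilizer_conj (g x : PS) :
    Nat.card {y : PS // Group.IsSolvable ↥(Subgroup.closure ({g * x * g⁻¹, y} : Set PS))} =
      Nat.card {y : PS // Group.IsSolvable ↥(Subgroup.closure ({x, y} : Set PS))} := by
  refine (Nat.card_congr ((MulAut.conj g).toEquiv.subtypeEquiv fun y => ?_)).symm
  have e : Subgroup.closure ({g * x * g⁻¹, g * y * g⁻¹} : Set PS) =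
      (Subgroup.closure ({x, y} : Set PS)).map (MulAut.conj g).toMonoidHom := by
    rw [MonoidHom.map_closure, Set.image_pair]; rfl
  let φ : ↥(Subgroup.closure ({x, y} : Set PS)) ≃*
      ↥(Subgroup.closure ({g * x * g⁻¹, g * y * g⁻¹} : Set PS)) :=
    ((Subgroup.closure ({x, y} : Set PS)).equivMapOfInjective _ (MulAut.conj g).injective).trans
      (MulEquiv.subgroupCongr e.symm)
  show _ ↔ Group.IsSolvable ↥(Subgroup.closure ({g * x * g⁻¹, g * y * g⁻¹} : Set PS))
  exact ⟨fun h => by
    haveI := h; exact Group.isSolvable_of_isSolvable_injective (f := φ.symm.toMonoidHom) φ.symm.injective,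
    fun h => by
    haveI := h; exact Group.isSolvable_of_isSolvable_injective (f := φ.toMonoidHom) φ.injective⟩

/-- Semisimple elements. -/
theorem orderOf_dvd_cases {p : ℕ} (hp : p.Prime) (hq : q = 2 ^ p) {x : PS} (hx : x ≠ 1)
    (hodd : ¬ 2 ∣ orderOf x) :
    (∃ (g : PS) (a : Fˣ), (a : F) ^ 2 ≠ 1 ∧ g * x * g⁻¹ = π (dd a) ∧ orderOf x ∣ q - 1) ∨
    (∃ r : G, NoEig r ∧ π r * π r ≠ (1 : PS) ∧ x = π r ∧ orderOf x ∣ q + 1) := by
  obtain ⟨s, rfl⟩ := π_surjective x
  have hne : π s * π s ≠ (1 : PS) := by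
    intro h
    rcases (Nat.dvd_prime Nat.prime_two).1
      (orderOf_dvd_of_pow_eq_one (x := π s) (n := 2) (by rw [pow_two]; exact h)) with h1 | h1
    · exact hx (orderOf_eq_one_iff.1 h1)
    · exact hodd (by rw [h1])
  have ht : tr s ^ 2 ≠ 4 := by
    intro h
    apply hne
    rw [← map_mul, (sq_one_iff s).2 ?_, map_one]
    exact (pow_eq_zero_iff two_ne_zero).1 (by rw [h]; linear_combination 2 * two_eq_zero' (F := F))
  have h1 : orderOf (π s) ∣ Nat.card (cent s) :=
    (orderOf_map_dvd π s).trans (Subgroup.orderOf_dvd_natCard _ (self_mem_cent s))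
  rcases card_cent_regular ht with ⟨hno, hc, -⟩ | ⟨⟨a, ha⟩, hc, -⟩
  · exact Or.inr ⟨s, (noEig_iff s).2 hno, hne, rfl, hc ▸ h1⟩
  · obtain ⟨a', P, -, ha', hP⟩ := exists_dd_conj ht ha
    exact Or.inl ⟨π P⁻¹, a', ha', by rw [← π_conj, ← hP]; congr 1; group, hc ▸ h1⟩

end Cfsg.Agent.SL2
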