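import Cfsg.Agent.Lib.SL2.DicksonApps
import Cfsg.Agent.Lib.SL2.DicksonMinimal
import Cfsg.Agent.Lib.SL2.Quaternion
import Cfsg.Agent.Lib.Invol.Dihedral
import Cfsg.Agent.Lib.CT.Integral

/-!
# Solvabilisers in `PSL(2, 3^p)`, `p` an odd prime
-/

set_option autoImplicit false
set_option linter.unusedSectionVars false

namespace Cfsg.Agent.SL2.Three

open Matrix

variable {F : Type*} [Field F] [Fintype F] [CharP F 3] {p : ℕ}

local notation "G" => Matrix.SpecialLinearGroup (Fin 2) F
local notation "M2" => Matrix (Fin 2) (Fin 2) F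
local notation "PS" => Matrix.ProjectiveSpecialLinearGroup (Fin 2) F
local notation "q" => Fintype.card F

/-- `x` and `y` generate a solvable group. -/
abbrev Sol (x y : PS) : Prop := Group.IsSolvable ↥(Subgroup.closure ({x, y} : Set PS))

theorem three_zero : (3 : F) = 0 := CharP.cast_eq_zero F 3

theorem two_eq : (2 : F) = -1 := by linear_combination three_zero (F := F)

theorem four_eq : (4 : F) = 1 := by linear_combination three_zero (F := F)

theorem two_ne : (2 : F) ≠ 0 := by rw [two_eq]; exact neg_ne_zero.2 one_ne_zero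

theorem mod_four {p : ℕ} (hodd : Odd p) : 3 ^ p % 4 = 3 ∧ 3 ^ p % 8 = 3 := by
  obtain ⟨k, rfl⟩ := hodd
  rw [pow_succ, pow_mul]
  constructor <;> simp [Nat.mul_mod, Nat.pow_mod]

theorem neg_one_not_sq (hodd : Odd p) (hq : q = 3 ^ p) : ¬ IsSquare (-1 : F) := by
  rw [FiniteField.isSquare_neg_one_iff, hq, (mod_four hodd).1]
  simp

theorem q_facts (hp : p.Prime) (hodd : Odd p) (hq : q = 3 ^ p) :
    27 ≤ q ∧ q % 4 = 3 ∧ 3 ∣ q ∧ Nat.gcd 2 (q - 1) = 2 := by
  have h3 : 3 ≤ p := by
    have := hp.two_le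
    obtain ⟨k, hk⟩ := hodd
    omega
  have h4 := (mod_four hodd).1
  rw [hq]
  refine ⟨(show 3 ^ 3 ≤ 3 ^ p from Nat.pow_le_pow_right (by norm_num) h3), h4,
    dvd_pow_self 3 hp.ne_zero, Nat.gcd_eq_left ?_⟩
  omega

/-- Proper subgroups lie in a Borel subgroup or a torus normaliser, or are `A₄`. -/
theorem proper_cases (hp : p.Prime) (hodd : Odd p) (hq : q = 3 ^ p) {H : Subgroup PS} (hH : H ≠ ⊤) :
    (∃ r : G, tr r ^ 2 ≠ 4 ∧ H ≤ NT r) ∨ (∃ g : PS, ∀ x ∈ H, g * x * g⁻¹ ∈ (B0 : Subgroup PS)) ∨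
      Nonempty (H ≃* alternatingGroup (Fin 4)) := by
  classical
  haveI : Fact (Nat.Prime 3) := ⟨Nat.prime_three⟩
  haveI : Finite PS := Finite.of_surjective _ π_surjective
  obtain ⟨hq27, hq4, -, hgcd⟩ := q_facts hp hodd hq
  have hcard := card_psl (F := F)
  rw [hgcd] at hcard
  have hdvd : Nat.card H ∣ Nat.card PS := Subgroup.card_subgroup_dvd_card H
  rcases dickson 3 H with ⟨r, ht, hle, -⟩ | ⟨r, ht, hle, -⟩ | h | ⟨-, h⟩ | ⟨-, ⟨e⟩⟩ | ⟨-, -, ⟨e⟩⟩ |
    ⟨K, γ, hK, hcase⟩
  · exact Or.inl ⟨r, ht, hle.trans Subgroup.le_normalizer⟩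
  · exact Or.inl ⟨r, ht, hle⟩
  · exact Or.inr (Or.inl h)
  · exact Or.inr (Or.inr h)
  · exfalso
    rw [Nat.card_congr e.toEquiv, card_perm_four] at hdvd
    obtain ⟨d, hd⟩ := hdvd
    obtain ⟨j, hj⟩ : ∃ j, q = 8 * j + 3 := ⟨q / 8, by
      have := (mod_four hodd).2
      rw [← hq] at this
      omega⟩
    rw [hd, hj, show 8 * j + 3 - 1 = 8 * j + 2 by omega] at hcard
    have h16 : 16 ∣ (8 * j + 3) * ((8 * j + 2) * (8 * j + 3 + 1)) :=
      ⟨3 * d, by rw [← hcard]; ring⟩
    have hmod : (8 * j + 3) * ((8 * j + 2) * (8 * j + 3 + 1)) % 16 = 8 := by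
      rw [show (8 * j + 3) * ((8 * j + 2) * (8 * j + 3 + 1)) =
        16 * (32 * j * j * j + 36 * j * j + 13 * j + 1) + 8 by ring]
      omega
    omega
  · exfalso
    rw [Nat.card_congr e.toEquiv, card_alt_five] at hdvd
    obtain ⟨d, hd⟩ := hdvd
    have h5 : q % 5 = 2 ∨ q % 5 = 3 := by
      obtain ⟨k, rfl⟩ := hodd
      rw [hq, pow_succ, pow_mul]
      rcases Nat.even_or_odd' k with ⟨j, rfl | rfl⟩
      · rw [pow_mul]; simp [Nat.mul_mod, Nat.pow_mod]
      · rw [pow_succ, pow_mul]; simp [Nat.mul_mod, Nat.pow_mod]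
    have h0 : q * ((q - 1) * (q + 1)) % 5 = 0 := by
      rw [← hcard, hd, show 2 * (60 * d) = 5 * (24 * d) by ring]
      exact Nat.mul_mod_right 5 _
    rcases h5 with h | h
    · obtain ⟨j, hj⟩ : ∃ j, q = 5 * j + 2 := ⟨q / 5, by omega⟩
      rw [hj, show 5 * j + 2 - 1 = 5 * j + 1 by omega, show 5 * j + 2 + 1 = 5 * j + 3 by omega] at h0
      simp [Nat.mul_mod, Nat.add_mod] at h0
    · obtain ⟨j, hj⟩ : ∃ j, q = 5 * j + 3 := ⟨q / 5, by omega⟩
      rw [hj, show 5 * j + 3 - 1 = 5 * j + 2 by omega, show 5 * j + 3 + 1 = 5 * j + 4 by omega] at h0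
      simp [Nat.mul_mod, Nat.add_mod] at h0
  · exfalso
    have hsq := lt_card_of_ne_top hH (hcase.imp And.left And.left)
    have hd := Module.card_eq_pow_finrank (K := K) (V := F)
    rw [hq, ← Nat.card_eq_fintype_card (α := K)] at hd
    rw [hq] at hsq
    obtain ⟨a, -, ha⟩ := (Nat.dvd_prime_pow Nat.prime_three).1
      (show Nat.card K ∣ 3 ^ p from hd ▸ dvd_pow_self _ (Module.finrank_pos.ne'))
    rw [ha, ← pow_mul] at hd
    have := Nat.pow_right_injective (show 2 ≤ 3 by norm_num) hd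
    rcases hp.eq_one_or_self_of_dvd a (this ▸ Dvd.intro _ rfl) with h | h
    · rw [ha, h] at hK; omega
    · rw [ha, h] at hsq
      have : 3 ≤ 3 ^ p := le_self_pow₀ (by norm_num) hp.ne_zero
      nlinarith

theorem solvable_of_le {K : Type*} [Group K] {A B : Subgroup K} (h : A ≤ B)
    (hB : Group.IsSolvable B) : Group.IsSolvable A := by
  haveI := hB
  exact Group.isSolvable_of_isSolvable_injective (f := Subgroup.inclusion h)
    (Subgroup.inclusion_injective h)

theorem sol_of_mem (hp : p.Prime) (hodd : Odd p) (hq : q = 3 ^ p) {x y : PS} {M : Subgroup PS}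
    (hM : M ≠ ⊤) (hx : x ∈ M) (hy : y ∈ M) : Sol x y := by
  have hle : Subgroup.closure ({x, y} : Set PS) ≤ M := (Subgroup.closure_le _).2 (by
    rintro z (rfl | rfl) <;> assumption)
  refine solvable_of_le hle ?_
  rcases proper_cases hp hodd hq hM with ⟨r, ht, h⟩ | ⟨g, hg⟩ | ⟨⟨e⟩⟩
  · obtain ⟨e⟩ := NT_equiv_dihedral ht
    haveI := isSolvable_dihedral (Nat.card (torus r))
    exact solvable_of_le h (Group.isSolvable_of_isSolvable_injective (f := e.toMonoidHom) e.injective)
  · haveI := isSolvable_B0 (F := F)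
    refine Group.isSolvable_of_isSolvable_injective
      (f := ((MulAut.conj g).toMonoidHom.comp M.subtype).codRestrict (B0 : Subgroup PS) fun x => hg x x.2)
      fun a b hab => Subtype.ext ((MulAut.conj g).injective (congrArg Subtype.val hab))
  · haveI : Group.IsSolvable (Equiv.Perm (Fin 4)) := Zassenhaus.perm_fin_four_isSolvable
    exact Group.isSolvable_of_isSolvable_injective
      (f := (alternatingGroup (Fin 4)).subtype.comp e.toMonoidHom)
      ((Subgroup.subtype_injective _).comp e.injective)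

/-- The three kinds of containing subgroups. -/
theorem sol_cases (hp : p.Prime) (hodd : Odd p) (hq : q = 3 ^ p) {x y : PS} (h : Sol x y) :
    (∃ r : G, tr r ^ 2 ≠ 4 ∧ x ∈ NT r ∧ y ∈ NT r) ∨
      (∃ g : PS, g * x * g⁻¹ ∈ (B0 : Subgroup PS) ∧ g * y * g⁻¹ ∈ (B0 : Subgroup PS)) ∨
      ∃ (H : Subgroup PS) (_ : H ≃* alternatingGroup (Fin 4)), x ∈ H ∧ y ∈ H := by
  have hne : Subgroup.closure ({x, y} : Set PS) ≠ ⊤ := fun he =>
    not_solvable_psl (F := F) (by have := (q_facts hp hodd hq).1; omega) (by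
      let e : PS ≃* ↥(Subgroup.closure ({x, y} : Set PS)) :=
        Subgroup.topEquiv.symm.trans (MulEquiv.subgroupCongr he.symm)
      haveI := h
      exact Group.isSolvable_of_isSolvable_injective (f := e.toMonoidHom) e.injective)
  have hx : x ∈ Subgroup.closure ({x, y} : Set PS) := Subgroup.subset_closure (by simp)
  have hy : y ∈ Subgroup.closure ({x, y} : Set PS) := Subgroup.subset_closure (by simp)
  rcases proper_cases hp hodd hq hne with ⟨r, ht, h⟩ | ⟨g, hg⟩ | ⟨⟨e⟩⟩
  · exact Or.inl ⟨r, ht, h hx, h hy⟩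
  · exact Or.inr (Or.inl ⟨g, hg _ hx, hg _ hy⟩)
  · exact Or.inr (Or.inr ⟨_, e, hx, hy⟩)

set_option synthInstance.maxSize 2000 in
set_option synthInstance.maxHeartbeats 400000 in
theorem tetra_check : ∀ a b : alternatingGroup (Fin 4),
    (a * a = 1 ∨ a ^ 3 = 1) ∧
    (a * a = 1 → a ≠ 1 → b * b = 1 ∨ (b ^ 3 = 1 ∧ (a * b) ^ 3 = 1)) ∧
    (a ^ 3 = 1 → a ≠ 1 → (b = 1 ∨ b = a ∨ b = a⁻¹) ∨ (b * b = 1 ∧ (a * b) ^ 3 = 1) ∨
      (b ^ 3 = 1 ∧ ((a * b) * (a * b) = 1 ∨ (a⁻¹ * b) * (a⁻¹ * b) = 1))) := by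
  decide +kernel

theorem tetra {H : Subgroup PS} (e : H ≃* alternatingGroup (Fin 4)) {x y : PS} (hx : x ∈ H) (hy : y ∈ H) :
    (x * x = 1 ∨ x ^ 3 = 1) ∧
    (x * x = 1 → x ≠ 1 → y * y = 1 ∨ (y ^ 3 = 1 ∧ (x * y) ^ 3 = 1)) ∧
    (x ^ 3 = 1 → x ≠ 1 → (y = 1 ∨ y = x ∨ y = x⁻¹) ∨ (y * y = 1 ∧ (x * y) ^ 3 = 1) ∨
      (y ^ 3 = 1 ∧ ((x * y) * (x * y) = 1 ∨ (x⁻¹ * y) * (x⁻¹ * y) = 1))) := by
  have h := tetra_check (e ⟨x, hx⟩) (e ⟨y, hy⟩)
  simp only [← map_mul, ← map_pow, ← map_inv, ne_eq, EmbeddingLike.map_eq_one_iff,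
    EmbeddingLike.apply_eq_iff_eq] at h
  simp only [Subtype.ext_iff, Subgroup.coe_mul, SubgroupClass.coe_pow, Subgroup.coe_inv,
    Subgroup.coe_one] at h
  exact h

/-- Squares in `PSL`. -/
theorem sq_iff (s : G) : π s * π s = (1 : PS) ↔ tr s = 0 ∨ Scal s := by
  rw [← map_mul, π_eq_one]
  constructor
  · rintro ⟨h01, h10, hd⟩
    rw [Matrix.SpecialLinearGroup.coe_mul, mul_self] at h01 h10 hd
    simp at h01 h10 hd
    by_cases ht : tr s = 0
    · exact Or.inl ht
    · exact Or.inr ⟨h01.resolve_left ht, h10.resolve_left ht, hd.resolve_right ht⟩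
  · rintro (ht | hs)
    · refine ⟨?_, ?_, ?_⟩ <;> rw [Matrix.SpecialLinearGroup.coe_mul, mul_self, ht] <;> simp
    · rcases (scal_iff s).1 hs with rfl | rfl
      · rw [one_mul]; exact (scal_iff _).2 (Or.inl rfl)
      · rw [neg_mul_neg, one_mul]; exact (scal_iff _).2 (Or.inl rfl)

theorem cube_iff (s : G) : π s ^ 3 = (1 : PS) ↔ tr s ^ 2 = 1 := by
  rw [← map_pow, π_eq_one]
  have e : ((s ^ 3 : G) : M2) = (tr s ^ 2 - 1) • (s : M2) - tr s • 1 := by
    rw [pow_succ, pow_two, Matrix.SpecialLinearGroup.coe_mul, Matrix.SpecialLinearGroup.coe_mul, mul_self,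
      sub_mul, smul_mul_assoc, mul_self, one_mul]
    simp only [smul_sub, smul_smul, sub_smul, one_smul, pow_two]
    abel
  constructor
  · rintro ⟨h01, h10, hd⟩
    rw [e] at h01 h10 hd
    simp at h01 h10 hd
    by_contra ht
    have ht' : tr s ^ 2 - 1 ≠ 0 := sub_ne_zero.2 ht
    have hs : Scal s := ⟨h01.resolve_left ht', h10.resolve_left ht', hd.resolve_right ht'⟩
    exact ht (by rw [tr_sq_of_scal' hs, four_eq])
  · intro ht
    refine ⟨?_, ?_, ?_⟩ <;> rw [e, ht, sub_self] <;> simp
where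
  tr_sq_of_scal' {s : G} (h : Scal s) : tr s ^ 2 = 4 := by
    rcases (scal_iff s).1 h with rfl | rfl
    · simp [tr]; norm_num
    · rw [tr_neg]; simp [tr]; norm_num

theorem scal_tr {s : G} (h : Scal s) : tr s ^ 2 = 1 := by
  rw [← cube_iff, π_eq_one.2 h, one_pow]

theorem card_pre (P : PS → Prop) :
    Nat.card {s : G // P (π s)} = 2 * Nat.card {y : PS // P y} := by
  classical
  haveI : Finite PS := Finite.of_surjective _ π_surjective
  haveI := Fintype.ofFinite {y : PS // P y}
  let e : {s : G // P (π s)} ≃ Σ y : {y : PS // P y}, {s : G // π s = y.1} :=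
    { toFun := fun s => ⟨⟨π s.1, s.2⟩, ⟨s.1, rfl⟩⟩
      invFun := fun z => ⟨z.2.1, z.2.2.symm ▸ z.1.2⟩
      left_inv := fun s => rfl
      right_inv := fun ⟨⟨y, hy⟩, ⟨s, hs⟩⟩ => by
        change π s = y at hs
        subst hs
        rfl }
  rw [Nat.card_congr e, Nat.card_sigma]
  have hf : ∀ y : {y : PS // P y}, Nat.card {s : G // π s = y.1} = 2 := by
    rintro ⟨y, -⟩
    obtain ⟨s, rfl⟩ := π_surjective y
    have hne : s ≠ -s := fun h => two_ne (F := F) (by
      have hd := det_eq s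
      have h' : ∀ i j, (s : M2) i j = 0 := fun i j => by
        have hij := congrArg (fun m : G => (m : M2) i j) h
        simp [coe_neg'] at hij
        exact (mul_eq_zero.1 (show (2 : F) * (s : M2) i j = 0 by linear_combination hij)).resolve_left two_ne
      rw [h', h', h', h'] at hd
      simp at hd)
    rw [show {t : G // π t = π s} = ({s, -s} : Set G) from by
      congr 1
      ext t
      rw [π_eq_iff]
      constructor
      · rintro (h | h)
        · exact Or.inl h.symm
        · exact Or.inr (by rw [h, neg_neg]; rfl)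
      · rintro (h | h)
        · exact Or.inl h.symm
        · exact Or.inr (by rw [h, neg_neg]), Nat.card_coe_set_eq, Set.ncard_pair hne]
  rw [Finset.sum_congr rfl fun y _ => hf y, Finset.sum_const, smul_eq_mul, Finset.card_univ,
    ← Nat.card_eq_fintype_card, mul_comm]

theorem sol_conj (g x y : PS) : Sol (g * x * g⁻¹) (g * y * g⁻¹) ↔ Sol x y := by
  have e : Subgroup.closure ({g * x * g⁻¹, g * y * g⁻¹} : Set PS) =
      (Subgroup.closure ({x, y} : Set PS)).map (MulAut.conj g).toMonoidHom := by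
    rw [MonoidHom.map_closure, Set.image_pair]; rfl
  let φ : ↥(Subgroup.closure ({x, y} : Set PS)) ≃*
      ↥(Subgroup.closure ({g * x * g⁻¹, g * y * g⁻¹} : Set PS)) :=
    ((Subgroup.closure ({x, y} : Set PS)).equivMapOfInjective _ (MulAut.conj g).injective).trans
      (MulEquiv.subgroupCongr e.symm)
  exact ⟨fun h => by
    haveI : Group.IsSolvable _ := h
    exact Group.isSolvable_of_isSolvable_injective (f := φ.toMonoidHom) φ.injective, fun h => by
    haveI : Group.IsSolvable _ := h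
    exact Group.isSolvable_of_isSolvable_injective (f := φ.symm.toMonoidHom) φ.symm.injective⟩

theorem card_sol_conj (g x : PS) :
    Nat.card {y : PS // Sol (g * x * g⁻¹) y} = Nat.card {y : PS // Sol x y} :=
  (Nat.card_congr ((MulAut.conj g).toEquiv.subtypeEquiv fun y => (sol_conj g x y).symm)).symm

/-- Two elements squaring to one generate a solvable group. -/
theorem sol_two {x y : PS} (hx : x * x = 1) (hy : y * y = 1) : Sol x y := by
  have hinv : x * (x * y) * x⁻¹ = (x * y)⁻¹ := by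
    rw [_root_.mul_inv_rev, inv_eq_of_mul_eq_one_right hx, inv_eq_of_mul_eq_one_right hy, ← mul_assoc, hx,
      one_mul]
  have hcl : Subgroup.closure ({x, y} : Set PS) ≤ Subgroup.closure ({x, x * y} : Set PS) := by
    rw [Subgroup.closure_le]
    rintro z (rfl | rfl)
    · exact Subgroup.subset_closure (by simp)
    · have h := mul_mem (inv_mem (Subgroup.subset_closure (show x ∈ ({x, x * z} : Set PS) by simp)))
        (Subgroup.subset_closure (show x * z ∈ ({x, x * z} : Set PS) by simp))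
      simpa using h
  by_cases hm : x ∈ Subgroup.zpowers (x * y)
  · have hle : Subgroup.closure ({x, x * y} : Set PS) ≤ Subgroup.zpowers (x * y) := by
      rw [Subgroup.closure_le]
      rintro z (rfl | rfl)
      · exact hm
      · exact Subgroup.mem_zpowers _
    refine Group.isSolvable_of_comm fun a b => Subtype.ext ?_
    obtain ⟨i, hi⟩ := hle (hcl a.2)
    obtain ⟨j, hj⟩ := hle (hcl b.2)
    show (a : PS) * b = b * a
    rw [← hi, ← hj]
    exact (Commute.zpow_zpow (Commute.refl _) i j).eq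
  · obtain ⟨e⟩ := Invol.nonempty_dihedralEquiv hx hinv hm
    haveI := isSolvable_dihedral (orderOf (x * y))
    exact Group.isSolvable_of_isSolvable_injective
      (f := e.symm.toMonoidHom.comp (Subgroup.inclusion hcl))
      (e.symm.injective.comp (Subgroup.inclusion_injective hcl))

theorem sol_mul_left {x y : PS} (h : Sol x (x * y)) : Sol x y := by
  refine solvable_of_le ((Subgroup.closure_le _).2 ?_) h
  rintro z (rfl | rfl)
  · exact Subgroup.subset_closure (by simp)
  · simpa using mul_mem (inv_mem (Subgroup.subset_closure (show x ∈ ({x, x * z} : Set PS) by simp)))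
      (Subgroup.subset_closure (show x * z ∈ ({x, x * z} : Set PS) by simp))

theorem sol_comm {x y : PS} (h : Commute x y) : Sol x y := by
  haveI : IsMulCommutative ↥(Subgroup.closure ({x, y} : Set PS)) :=
    Subgroup.isMulCommutative_closure (by
      rintro a (rfl | rfl) b (rfl | rfl)
      exacts [rfl, h.eq, h.eq.symm, rfl])
  exact Group.isSolvable_of_comm fun a b => mul_comm' a b

/-- Conjugation by `diag(b, 1)`. -/
noncomputable def diagConj (b : Fˣ) : G →* G :=
  MonoidHom.mk'
    (fun m => ⟨!![(m : M2) 0 0, (b : F) * (m : M2) 0 1; (b : F)⁻¹ * (m : M2) 1 0, (m : M2) 1 1], by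
      rw [Matrix.det_fin_two]
      simp
      have := det_eq m
      have hb : (b : F) * (b : F)⁻¹ = 1 := mul_inv_cancel₀ b.ne_zero
      linear_combination this - (m : M2) 0 1 * (m : M2) 1 0 * hb⟩)
    (fun m m' => by
      have hb : (b : F) * (b : F)⁻¹ = 1 := mul_inv_cancel₀ b.ne_zero
      apply Subtype.ext
      show !![((m * m' : G) : M2) 0 0, (b : F) * ((m * m' : G) : M2) 0 1;
          (b : F)⁻¹ * ((m * m' : G) : M2) 1 0, ((m * m' : G) : M2) 1 1] =
        !![(m : M2) 0 0, (b : F) * (m : M2) 0 1; (b : F)⁻¹ * (m : M2) 1 0, (m : M2) 1 1] *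
          !![(m' : M2) 0 0, (b : F) * (m' : M2) 0 1; (b : F)⁻¹ * (m' : M2) 1 0, (m' : M2) 1 1]
      rw [Matrix.SpecialLinearGroup.coe_mul]
      apply mext <;> simp [Matrix.mul_apply, Fin.sum_univ_two] <;> field_simp)

theorem diagConj_coe (b : Fˣ) (m : G) : ((diagConj b m : G) : M2) =
    !![(m : M2) 0 0, (b : F) * (m : M2) 0 1; (b : F)⁻¹ * (m : M2) 1 0, (m : M2) 1 1] := rfl

theorem map_coe {R : Type*} [CommRing R] (f : R →+* F) (g : Matrix.SpecialLinearGroup (Fin 2) R) :
    ((Matrix.SpecialLinearGroup.map f g : G) : M2) = (g : Matrix (Fin 2) (Fin 2) R).map f := rfl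

/-- The tetrahedral pairs. -/
theorem sol_tetra {b : F} (hb : b ≠ 0) {s : G} (hc : (b * (s : M2) 1 0) ^ 2 = 1)
    (ht : tr s = 0 ∨ tr s ^ 2 = 1) : Sol (π (uu b)) (π s) := by
  classical
  set a := (s : M2) 0 0 with ha
  set c := (s : M2) 1 0 with hc'
  have hc0 : c ≠ 0 := fun h => by simp [h] at hc
  let φ : ZMod 3 →+* F := ZMod.castHom (dvd_refl 3) F
  obtain ⟨u3, hu3⟩ : ∃ u : ZMod 3, φ u = b * c := by
    rcases sq_eq_one_iff.1 hc with h | h
    · exact ⟨1, by rw [map_one, h]⟩
    · exact ⟨-1, by rw [map_neg, map_one, h]⟩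
  obtain ⟨t3, ht3⟩ : ∃ t : ZMod 3, φ t = tr s := by
    rcases ht with h | h
    · exact ⟨0, by rw [map_zero, h]⟩
    rcases sq_eq_one_iff.1 h with h | h
    · exact ⟨1, by rw [map_one, h]⟩
    · exact ⟨-1, by rw [map_neg, map_one, h]⟩
  let θ : Matrix.SpecialLinearGroup (Fin 2) (ZMod 3) →* PS :=
    (π.comp (MulAut.conj (uu (a / c) : G)).toMonoidHom).comp ((diagConj (Units.mk0 b hb)).comp (Matrix.SpecialLinearGroup.map φ))
  have h24 : Nat.card (Matrix.SpecialLinearGroup (Fin 2) (ZMod 3)) = 2 ^ 3 * 3 ^ 1 := by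
    rw [Nat.card_eq_fintype_card]
    decide +kernel
  haveI hs : Group.IsSolvable θ.range := by
    haveI := CT.isSolvable_of_card_two_primes Nat.prime_two Nat.prime_three _
      (Matrix.SpecialLinearGroup (Fin 2) (ZMod 3)) 3 1 rfl h24
    exact Group.isSolvable_of_surjective (f := θ.rangeRestrict) θ.rangeRestrict_surjective
  refine solvable_of_le ((Subgroup.closure_le _).2 ?_) hs
  rintro z (rfl | rfl)
  · refine ⟨uu 1, ?_⟩
    show π (uu (a / c) * diagConj (Units.mk0 b hb) (Matrix.SpecialLinearGroup.map φ (uu 1)) * (uu (a / c))⁻¹) = π (uu b)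
    rw [show Matrix.SpecialLinearGroup.map φ (uu 1) = (uu 1 : G) from
      ext4 (map_one φ) (map_one φ) (map_zero φ) (map_one φ)]
    rw [mul_inv_eq_iff_eq_mul.2]
    apply Subtype.ext
    rw [Matrix.SpecialLinearGroup.coe_mul, Matrix.SpecialLinearGroup.coe_mul, diagConj_coe]
    apply mext <;> simp [uu, Matrix.mul_apply, Fin.sum_univ_two, add_comm]
  · have hdet := det_eq s
    have hu : u3 * u3 = 1 := by
      apply φ.injective
      rw [map_mul, hu3, map_one, ← pow_two, hc]
    let M3 : Matrix.SpecialLinearGroup (Fin 2) (ZMod 3) := ⟨!![0, -u3; u3, t3], by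
      rw [Matrix.det_fin_two]
      simp
      linear_combination hu⟩
    refine ⟨M3, ?_⟩
    show π (uu (a / c) * diagConj (Units.mk0 b hb) (Matrix.SpecialLinearGroup.map φ M3) * (uu (a / c))⁻¹) = π s
    have m00 : ((Matrix.SpecialLinearGroup.map φ M3 : G) : M2) 0 0 = 0 := map_zero φ
    have m01 : ((Matrix.SpecialLinearGroup.map φ M3 : G) : M2) 0 1 = -(b * c) :=
      (map_neg φ u3).trans (congrArg _ hu3)
    have m10 : ((Matrix.SpecialLinearGroup.map φ M3 : G) : M2) 1 0 = b * c := hu3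
    have m11 : ((Matrix.SpecialLinearGroup.map φ M3 : G) : M2) 1 1 = tr s := ht3
    rw [mul_inv_eq_iff_eq_mul.2]
    apply Subtype.ext
    rw [Matrix.SpecialLinearGroup.coe_mul, Matrix.SpecialLinearGroup.coe_mul]
    have hbc : b * c * (b * c) = 1 := by rw [← pow_two, hc]
    apply mext <;> simp [diagConj_coe, uu, Matrix.mul_apply, Fin.sum_univ_two, m00, m01, m10, m11, tr, ← ha, ← hc'] <;>
      field_simp
    · ring_nf
      linear_combination hdet - hbc

theorem card_nonsq_root (hodd : Odd p) (hq : q = 3 ^ p) : nroots (0 : F) = 0 := by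
  refine Nat.card_eq_zero.2 (Or.inl ⟨fun a => neg_one_not_sq hodd hq ⟨a.1, ?_⟩⟩)
  linear_combination a.2

theorem card_tr_zero (hodd : Odd p) (hq : q = 3 ^ p) : Nat.card {s : G // tr s = 0} = q * (q - 1) := by
  rw [card_trace, card_nonsq_root hodd hq, mul_zero, add_zero, Nat.card_eq_fintype_card]

theorem card_upper : Nat.card {s : G // (s : M2) 1 0 = 0} = q * (q - 1) := by
  classical
  rw [Nat.card_congr upperEquiv, Nat.card_prod, Nat.card_units, Nat.card_eq_fintype_card, mul_comm]

/-- Elements of order three. -/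
theorem solvabilizer_uu (hp : p.Prime) (hodd : Odd p) (hq : q = 3 ^ p) {b : F} (hb : b ≠ 0) :
    2 * Nat.card {y : PS // Sol (π (uu b)) y} = q * (q + 5) := by
  classical
  obtain ⟨hq27, hq4, hq3, hgcd⟩ := q_facts hp hodd hq
  have hx3 : π (uu b) ^ 3 = (1 : PS) := by rw [cube_iff, tr_uu, two_eq, neg_one_sq]
  have hx1 : π (uu b) ≠ (1 : PS) := fun h => not_scal_uu hb (π_eq_one.1 h)
  have htm : ∀ (β : F) (s : G), tr (uu β * s) = tr s + β * (s : M2) 1 0 := fun β s => by
    rw [tr, tr, Matrix.SpecialLinearGroup.coe_mul]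
    simp [uu, Matrix.mul_apply, Fin.sum_univ_two]
    ring
  have hinvx : (π (uu b) : PS)⁻¹ = π (uu (-b)) := by
    rw [inv_eq_iff_mul_eq_one, ← map_mul, uu_mul, add_neg_cancel, uu_zero, map_one]
  have hiff : ∀ s : G, Sol (π (uu b)) (π s) ↔
      ((s : M2) 1 0 = 0 ∨ ((b * (s : M2) 1 0) ^ 2 = 1 ∧ (tr s = 0 ∨ tr s ^ 2 = 1))) := by
    intro s
    constructor
    · intro hs
      by_cases h10 : (s : M2) 1 0 = 0
      · exact Or.inl h10
      have hnscal : ∀ β, ¬ Scal (uu β * s) := fun β h => h10 (by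
        have := h.2.1
        rw [Matrix.SpecialLinearGroup.coe_mul] at this
        simpa [uu, Matrix.mul_apply, Fin.sum_univ_two] using this)
      rcases sol_cases hp hodd hq hs with ⟨r, ht, hxN, -⟩ | ⟨g, hgx, hgy⟩ | ⟨H, e, hxH, hyH⟩
      · exfalso
        rw [pi_mem_NT] at hxN
        have hxc : uu b ∈ cent r := by
          by_contra hxc
          have h2 : π (uu b) * π (uu b) = (1 : PS) := by
            rw [← map_mul, (sq_of_mem_normalizer ht hxN hxc).2, π_neg, map_one]
          rw [pow_succ, pow_two, h2, one_mul] at hx3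
          exact hx1 hx3
        have h1 : orderOf (π (uu b) : PS) ∣ Nat.card (cent r) :=
          (orderOf_map_dvd π _).trans (Subgroup.orderOf_dvd_natCard _ hxc)
        rw [orderOf_eq_prime hx3 hx1] at h1
        rcases card_cent_regular ht with ⟨-, hc, -⟩ | ⟨-, hc, -⟩ <;> rw [hc] at h1 <;> omega
      · exfalso
        have hgB := conj_uu_upper hb hgx
        have := mul_mem (mul_mem (inv_mem hgB) hgy) hgB
        rw [show g⁻¹ * (g * π s * g⁻¹) * g = π s by group, pi_mem_B0] at this
        exact h10 this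
      · refine Or.inr ?_
        rcases (tetra e hxH hyH).2.2 hx3 hx1 with (h | h | h) | ⟨hy, hxy⟩ | ⟨hy, hxy⟩
        · exact absurd (π_eq_one.1 h).2.1 h10
        · exfalso
          rcases π_eq_iff.1 h with e | e
          · exact h10 (by simpa [uu] using (congrArg (fun m : G => (m : M2) 1 0) e).symm)
          · have := congrArg (fun m : G => (m : M2) 1 0) e
            simp [uu, coe_neg'] at this
            exact h10 this
        · exfalso
          rw [hinvx] at h
          rcases π_eq_iff.1 h with e | e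
          · exact h10 (by simpa [uu] using (congrArg (fun m : G => (m : M2) 1 0) e).symm)
          · have := congrArg (fun m : G => (m : M2) 1 0) e
            simp [uu, coe_neg'] at this
            exact h10 this
        · have ht : tr s = 0 := ((sq_iff s).1 hy).resolve_right fun h => h10 h.2.1
          rw [← map_mul, cube_iff, htm, ht, zero_add] at hxy
          exact ⟨hxy, Or.inl ht⟩
        · rw [cube_iff] at hy
          rw [hinvx, ← map_mul (π (F := F)) (uu b) s, ← map_mul (π (F := F)) (uu (-b)) s, sq_iff, sq_iff] at hxy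
          refine ⟨?_, Or.inr hy⟩
          rcases hxy with h | h <;> have h' := h.resolve_right (hnscal _) <;> rw [htm] at h'
          · linear_combination hy + (b * (s : M2) 1 0 - tr s) * h'
          · linear_combination hy + (-(b * (s : M2) 1 0) - tr s) * h'
    · rintro (h | ⟨hc, ht⟩)
      · exact sol_of_mem hp hodd hq B0_ne_top (pi_mem_B0.2 (by simp [uu])) (pi_mem_B0.2 h)
      · exact sol_tetra hb hc ht
  rw [← card_pre (P := fun y => Sol (π (uu b)) y), Nat.card_congr (Equiv.subtypeEquivRight hiff)]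
  have e : ∀ P : G → Prop, Nat.card {x // P x} = {x : G | P x}.ncard := fun P =>
    Nat.card_coe_set_eq {x | P x}
  have hT : Nat.card {s : G // (b * (s : M2) 1 0) ^ 2 = 1 ∧ (tr s = 0 ∨ tr s ^ 2 = 1)} = 6 * q := by
    have h2 : Nat.card {u : F // (b * u) ^ 2 = 1} = 2 := by
      rw [show {u : F // (b * u) ^ 2 = 1} = ({b⁻¹, -b⁻¹} : Set F) from by
        congr 1
        ext u
        rw [sq_eq_one_iff]
        show _ ↔ u = b⁻¹ ∨ u = -b⁻¹
        constructor
        · rintro (h | h)
          · exact Or.inl (eq_inv_of_mul_eq_one_right h)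
          · exact Or.inr (by rw [← neg_eq_iff_eq_neg]; exact eq_inv_of_mul_eq_one_right (by rw [mul_neg, h, neg_neg]))
        · rintro (rfl | rfl)
          · exact Or.inl (mul_inv_cancel₀ hb)
          · exact Or.inr (by rw [mul_neg, mul_inv_cancel₀ hb]), Nat.card_coe_set_eq, Set.ncard_pair]
      intro h
      exact two_ne (F := F) (by
        have : (2 : F) * b⁻¹ = 0 := by linear_combination h
        exact (mul_eq_zero.1 this).resolve_right (inv_ne_zero hb))
    have h3 : Nat.card {t : F // t = 0 ∨ t ^ 2 = 1} = 3 := by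
      rw [show {t : F // t = 0 ∨ t ^ 2 = 1} = ({0, 1, -1} : Set F) from by
        congr 1
        ext t
        rw [sq_eq_one_iff]
        rfl, Nat.card_coe_set_eq, Set.ncard_insert_of_notMem, Set.ncard_pair]
      · intro h
        exact two_ne (F := F) (by linear_combination h)
      · simp
    let f : {s : G // (b * (s : M2) 1 0) ^ 2 = 1 ∧ (tr s = 0 ∨ tr s ^ 2 = 1)} →
        {u : F // (b * u) ^ 2 = 1} × {t : F // t = 0 ∨ t ^ 2 = 1} × F :=
      fun s => (⟨(s.1 : M2) 1 0, s.2.1⟩, ⟨tr s.1, s.2.2⟩, (s.1 : M2) 0 0)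
    have hf : Function.Bijective f := by
      constructor
      · rintro ⟨s, hs⟩ ⟨s', hs'⟩ h
        simp only [f, Prod.mk.injEq, Subtype.mk.injEq] at h
        obtain ⟨h10, ht, h00⟩ := h
        have h11 : (s : M2) 1 1 = (s' : M2) 1 1 := by
          rw [tr, tr] at ht; linear_combination ht - h00
        have hne : (s : M2) 1 0 ≠ 0 := fun h => by simp [h] at hs
        refine Subtype.ext (ext4 h00 ?_ h10 h11)
        have hd := det_eq s
        have hd' := det_eq s'
        rw [← h00, ← h10, ← h11] at hd'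
        exact mul_right_cancel₀ hne (by linear_combination hd' - hd)
      · rintro ⟨⟨u, hu⟩, ⟨t, ht⟩, a⟩
        have hu0 : u ≠ 0 := fun h => by simp [h] at hu
        refine ⟨⟨⟨!![a, (a * (t - a) - 1) / u; u, t - a], ?_⟩, ?_⟩, ?_⟩
        · rw [Matrix.det_fin_two]; simp; field_simp; ring
        · exact ⟨by simpa using hu, by simpa [tr] using ht⟩
        · simp [f, tr]
    rw [Nat.card_eq_of_bijective f hf, Nat.card_prod, Nat.card_prod, h2, h3, Nat.card_eq_fintype_card]
    ring
  rw [e] at hT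
  rw [e, Set.setOf_or, Set.ncard_union_eq, ← e (fun s => (s : M2) 1 0 = 0), card_upper, hT]
  · obtain ⟨j, hj⟩ : ∃ j, q = j + 1 := ⟨q - 1, by omega⟩
    rw [hj, Nat.add_sub_cancel]
    ring
  · rw [Set.disjoint_left]
    rintro s h ⟨h', -⟩
    simp only [Set.mem_setOf_eq] at h
    simp [h] at h'

/-- The standard involution. -/
def ww : G := ⟨!![0, 1; -1, 0], by simp [Matrix.det_fin_two]⟩

theorem tr_ww_mul (s : G) : tr (ww * s) = (s : M2) 1 0 - (s : M2) 0 1 := by
  rw [tr, Matrix.SpecialLinearGroup.coe_mul]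
  simp [ww, Matrix.mul_apply, Fin.sum_univ_two]
  ring

theorem noEig_ww (hodd : Odd p) (hq : q = 3 ^ p) : NoEig (ww : G) := by
  rw [noEig_iff]
  intro a ha
  refine neg_one_not_sq hodd hq ⟨a, ?_⟩
  simp [tr, ww] at ha
  linear_combination ha

/-- Coordinates. -/
noncomputable def coordEquiv :
    G ≃ {v : (F × F) × (F × F) // v.2.1 ^ 2 + v.2.2 ^ 2 = v.1.1 ^ 2 + v.1.2 ^ 2 - 1} where
  toFun s := ⟨((tr s, (s : M2) 1 0 - (s : M2) 0 1),
      ((s : M2) 0 0 - (s : M2) 1 1, (s : M2) 1 0 + (s : M2) 0 1)), by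
    have := det_eq s
    simp only [tr]
    linear_combination -4 * this - (three_zero (F := F))⟩
  invFun v := ⟨!![-(v.1.1.1 + v.1.2.1), -(v.1.2.2 - v.1.1.2); -(v.1.1.2 + v.1.2.2), -(v.1.1.1 - v.1.2.1)], by
    rw [Matrix.det_fin_two]
    simp
    linear_combination -v.2⟩
  left_inv s := by
    have h3 := three_zero (F := F)
    apply ext4 <;> simp [tr] <;> [linear_combination (-(s : M2) 0 0) * h3;
      linear_combination (-(s : M2) 0 1) * h3; linear_combination (-(s : M2) 1 0) * h3;
      linear_combination (-(s : M2) 1 1) * h3]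
  right_inv v := by
    have h3 := three_zero (F := F)
    apply Subtype.ext
    obtain ⟨⟨⟨t, u⟩, m, n⟩, h⟩ := v
    simp [tr]
    refine ⟨⟨?_, ?_⟩, ?_, ?_⟩
    · linear_combination -t * h3
    · linear_combination -u * h3
    · linear_combination -m * h3
    · linear_combination -n * h3

/-- Representations as sums of two squares. -/
noncomputable def nn (v : F) : ℕ := Nat.card {z : F × F // z.1 ^ 2 + z.2 ^ 2 = v}

theorem nn_one (hodd : Odd p) (hq : q = 3 ^ p) : nn (1 : F) = q + 1 := by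
  rw [← (card_cent_noEig (noEig_ww (F := F) hodd hq)).1]
  have key : ∀ s : G, s ∈ cent (ww : G) → (s : M2) 1 1 = (s : M2) 0 0 ∧ (s : M2) 1 0 = -(s : M2) 0 1 := by
    intro s hs
    have h := mem_cent.1 hs
    have h0 := congrArg (fun m : G => (m : M2) 0 0) h
    have h1 := congrArg (fun m : G => (m : M2) 0 1) h
    rw [Matrix.SpecialLinearGroup.coe_mul, Matrix.SpecialLinearGroup.coe_mul] at h0 h1
    simp [ww, Matrix.mul_apply, Fin.sum_univ_two] at h0 h1
    exact ⟨by first | exact h1 | exact h1.symm, by first | exact h0 | (linear_combination h0) | (linear_combination -h0)⟩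
  refine Nat.card_congr
    { toFun := fun z => ⟨⟨!![z.1.1, z.1.2; -z.1.2, z.1.1], by
        rw [Matrix.det_fin_two]; simp; linear_combination z.2⟩, mem_cent.2 ?_⟩
      invFun := fun s => ⟨((s.1 : M2) 0 0, (s.1 : M2) 0 1), ?_⟩
      left_inv := fun z => by simp
      right_inv := fun s => ?_ }
  · apply Subtype.ext
    show ((ww : G) : M2) * !![z.1.1, z.1.2; -z.1.2, z.1.1] = !![z.1.1, z.1.2; -z.1.2, z.1.1] * ((ww : G) : M2)
    apply mext <;> simp [ww, Matrix.mul_apply, Fin.sum_univ_two]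
  · obtain ⟨h11, h10⟩ := key s.1 s.2
    have hd := det_eq s.1
    rw [h11, h10] at hd
    linear_combination hd
  · obtain ⟨h11, h10⟩ := key s.1 s.2
    apply Subtype.ext
    apply ext4 <;> simp [h11, h10]

theorem nn_neg (v : F) : nn (-v) = nn v := by
  have h3 := three_zero (F := F)
  exact Nat.card_congr
    { toFun := fun z => ⟨(z.1.1 - z.1.2, z.1.1 + z.1.2), by linear_combination 2 * z.2 - v * h3⟩
      invFun := fun z => ⟨(-(z.1.1 + z.1.2), -(z.1.2 - z.1.1)), by linear_combination 2 * z.2 + v * h3⟩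
      left_inv := fun z => by
        ext <;> simp
        · linear_combination -z.1.1 * h3
        · linear_combination -z.1.2 * h3
      right_inv := fun z => by
        ext <;> simp
        · linear_combination -z.1.1 * h3
        · linear_combination -z.1.2 * h3 }

theorem card_sq_one' : Nat.card {x : F // x ^ 2 = 1} = 2 := by
  rw [show {x : F // x ^ 2 = 1} = ({1, -1} : Set F) from by
    congr 1
    ext x
    rw [sq_eq_one_iff]
    rfl, Nat.card_coe_set_eq, Set.ncard_pair]
  intro h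
  exact two_ne (F := F) (by linear_combination h)

theorem exists_conj_ww (hodd : Odd p) (hq : q = 3 ^ p) {s : G} (hs : tr s = 0) :
    ∃ g : PS, g * π s * g⁻¹ = π ww := by
  have key : ∀ (s : G), tr s = 0 → IsSquare (-(s : M2) 1 0) →
      ∃ g : PS, g * π s * g⁻¹ = π ww := by
    intro s hs hsq
    have hd := det_eq s
    have hc : (s : M2) 1 0 ≠ 0 := by
      intro h
      refine neg_one_not_sq hodd hq ⟨(s : M2) 0 0, ?_⟩
      rw [h] at hd
      rw [tr] at hs
      linear_combination hd - (s : M2) 0 0 * hs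
    obtain ⟨μ, hμ⟩ := hsq
    have hμ0 : μ ≠ 0 := fun h => hc (neg_eq_zero.1 (by rw [hμ, h, zero_mul]))
    let P : G := ⟨!![μ⁻¹, -(μ⁻¹ * (s : M2) 0 0); 0, -(μ⁻¹ * (s : M2) 1 0)], by
      rw [Matrix.det_fin_two]
      simp
      field_simp
      linear_combination hμ⟩
    have e : s * P = P * ww := by
      apply Subtype.ext
      rw [Matrix.SpecialLinearGroup.coe_mul, Matrix.SpecialLinearGroup.coe_mul]
      rw [tr] at hs
      apply mext <;> simp [P, ww, Matrix.mul_apply, Fin.sum_univ_two]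
      · ring
      · linear_combination μ⁻¹ * hd - μ⁻¹ * (s : M2) 0 0 * hs
      · ring
      · linear_combination (-(μ⁻¹ * (s : M2) 1 0)) * hs
    refine ⟨π P⁻¹, ?_⟩
    rw [← π_conj, inv_inv, mul_assoc, e, inv_mul_cancel_left]
  classical
  by_cases h : IsSquare (-(s : M2) 1 0)
  · exact key s hs h
  · rw [← π_neg s]
    refine key (-s) (by rw [tr_neg, hs, neg_zero]) ?_
    have : IsSquare ((-1 : F) * -(s : M2) 1 0) := by
      by_cases h0 : (s : M2) 1 0 = 0
      · simp [h0]
      have h1 := neg_one_not_sq (F := F) hodd hq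
      have h2 : quadraticChar F ((-1 : F) * -(s : M2) 1 0) = 1 := by
        classical
        rw [map_mul, quadraticChar_neg_one_iff_not_isSquare.2 h1,
          quadraticChar_neg_one_iff_not_isSquare.2 h]
        rfl
      classical
      exact (quadraticChar_one_iff_isSquare (by simpa using h0)).1 h2
    simpa [coe_neg'] using this

/-- Involutions. -/
theorem solvabilizer_ww (hp : p.Prime) (hodd : Odd p) (hq : q = 3 ^ p) :
    Nat.card {y : PS // Sol (π ww) y} = q * (q + 1) := by
  classical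
  obtain ⟨hq27, hq4, hq3, hgcd⟩ := q_facts hp hodd hq
  have hns := neg_one_not_sq (F := F) hodd hq
  have htw : tr (ww : G) = 0 := by simp [tr, ww]
  have hx2 : π ww * π ww = (1 : PS) := (sq_iff _).2 (Or.inl htw)
  have hx1 : π ww ≠ (1 : PS) := fun h => by simpa [ww] using (π_eq_one.1 h).1
  have hscal : ∀ s : G, (Scal s ∨ Scal (ww * s)) →
      ((s : M2) 0 0 = (s : M2) 1 1 ∧ (s : M2) 1 0 + (s : M2) 0 1 = 0) := by
    rintro s (⟨h1, h2, h3⟩ | ⟨h1, h2, h3⟩)
    · exact ⟨h3, by rw [h1, h2, add_zero]⟩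
    · rw [Matrix.SpecialLinearGroup.coe_mul] at h1 h2 h3
      simp [ww, Matrix.mul_apply, Fin.sum_univ_two] at h1 h2 h3
      exact ⟨by rw [h1, h2], by linear_combination h3⟩
  have hiff : ∀ s : G, Sol (π ww) (π s) ↔
      (((tr s = 0 ∨ (s : M2) 1 0 - (s : M2) 0 1 = 0) ∨
        ((s : M2) 0 0 = (s : M2) 1 1 ∧ (s : M2) 1 0 + (s : M2) 0 1 = 0)) ∨
        (tr s ^ 2 = 1 ∧ ((s : M2) 1 0 - (s : M2) 0 1) ^ 2 = 1)) := by
    intro s
    constructor
    · intro hs
      rcases sol_cases hp hodd hq hs with ⟨r, ht, hxN, hyN⟩ | ⟨g, hgx, -⟩ | ⟨H, e, hxH, hyH⟩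
      · left
        rw [pi_mem_NT] at hxN hyN
        rcases normalizer_act ht hyN with ⟨hyc, -⟩ | ⟨hyc, -⟩
        · rcases normalizer_act ht hxN with ⟨hxc, hcomm⟩ | ⟨-, h⟩
          · refine Or.inr ?_
            have h := hcomm s hyc
            rw [mul_inv_eq_iff_eq_mul] at h
            have h0 := congrArg (fun m : G => (m : M2) 0 0) h
            have h1 := congrArg (fun m : G => (m : M2) 0 1) h
            rw [Matrix.SpecialLinearGroup.coe_mul, Matrix.SpecialLinearGroup.coe_mul] at h0 h1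
            simp [ww, Matrix.mul_apply, Fin.sum_univ_two] at h0 h1
            exact ⟨h1.symm, by linear_combination h0⟩
          · have e := h s hyc
            have hsq : π (ww * s) * π (ww * s) = (1 : PS) := by
              have h' : π (ww * s * ww⁻¹) = (π s : PS)⁻¹ := by rw [e, map_inv]
              rw [map_mul, map_mul, map_inv, inv_eq_of_mul_eq_one_right hx2] at h'
              rw [map_mul, ← mul_assoc, h', inv_mul_cancel]
            rcases (sq_iff _).1 hsq with h | h
            · exact Or.inl (Or.inr (tr_ww_mul s ▸ h))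
            · exact Or.inr (hscal s (Or.inr h))
        · have hsq : π s * π s = (1 : PS) := by
            rw [← map_mul, (sq_of_mem_normalizer ht hyN hyc).2, π_neg, map_one]
          rcases (sq_iff _).1 hsq with h | h
          · exact Or.inl (Or.inl h)
          · exact Or.inr (hscal s (Or.inl h))
      · exfalso
        obtain ⟨P, rfl⟩ := π_surjective g
        rw [← π_conj, pi_mem_B0] at hgx
        exact (noEig_iff _).1 ((noEig_conj ww P).2 (noEig_ww hodd hq)) _ (upper_root hgx).1
      · rcases (tetra e hxH hyH).2.1 hx2 hx1 with h | ⟨h, h'⟩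
        · left
          rcases (sq_iff _).1 h with h | h
          · exact Or.inl (Or.inl h)
          · exact Or.inr (hscal s (Or.inl h))
        · rw [cube_iff] at h
          rw [← map_mul, cube_iff, tr_ww_mul] at h'
          exact Or.inr ⟨h, h'⟩
    · rintro (((h | h) | ⟨h1, h2⟩) | ⟨h1, h2⟩)
      · exact sol_two hx2 ((sq_iff s).2 (Or.inl h))
      · refine sol_mul_left (sol_two hx2 ?_)
        rw [← map_mul]
        exact (sq_iff _).2 (Or.inl (by rw [tr_ww_mul, h]))
      · refine sol_comm (Commute.map ?_ π)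
        apply Subtype.ext
        rw [Matrix.SpecialLinearGroup.coe_mul, Matrix.SpecialLinearGroup.coe_mul]
        apply mext <;> simp [ww, Matrix.mul_apply, Fin.sum_univ_two]
        · linear_combination h2
        · linear_combination -h1
        · linear_combination h1
        · linear_combination -h2
      · have hy3 : π s ^ 3 = (1 : PS) := (cube_iff s).2 h1
        have hy1 : π s ≠ (1 : PS) := fun h => by
          obtain ⟨a, b, -⟩ := π_eq_one.1 h
          simp [a, b] at h2
        haveI : Fact (Nat.Prime 3) := ⟨Nat.prime_three⟩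
        obtain ⟨g, b, hb, hg⟩ := exists_conj_uu (p := 3) (x := π s) (k := 1) hy1
          (by rw [pow_one]; exact hy3)
        rw [← sol_conj g, hg]
        obtain ⟨w', hw'⟩ := π_surjective (g * π ww * g⁻¹)
        rw [← hw']
        have htw' : tr w' = 0 := by
          have hsq : π w' * π w' = (1 : PS) := by
            rw [hw', show g * π ww * g⁻¹ * (g * π ww * g⁻¹) = g * (π ww * π ww) * g⁻¹ by group, hx2]
            group
          rcases (sq_iff _).1 hsq with h | h
          · exact h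
          · exfalso
            apply hx1
            rw [show π ww = g⁻¹ * (g * π ww * g⁻¹) * g by group, ← hw', π_eq_one.2 h]
            group
        have h3 : π (uu b * w') ^ 3 = (1 : PS) := by
          have h3' : (π ww * π s) ^ 3 = (1 : PS) := by
            rw [← map_mul]; exact (cube_iff _).2 (by rw [tr_ww_mul, h2])
          have h4 : (π s * π ww) ^ 3 = (1 : PS) := by
            rw [show π s * π ww = (π ww : PS)⁻¹ * (π ww * π s) * π ww by group]
            rw [show ((π ww : PS)⁻¹ * (π ww * π s) * π ww) ^ 3 =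
              (π ww : PS)⁻¹ * (π ww * π s) ^ 3 * π ww by simp only [pow_succ, pow_zero, one_mul]; group, h3']
            group
          rw [map_mul, hw', ← hg, show g * π s * g⁻¹ * (g * π ww * g⁻¹) = g * (π s * π ww) * g⁻¹ by group,
            conj_pow, h4]
          group
        have h := sol_tetra (b := b) (s := w') hb ?_ (Or.inl htw')
        · show Group.IsSolvable _
          rw [Set.pair_comm]
          exact h
        · have := (cube_iff _).1 h3
          have htm : tr (uu b * w') = tr w' + b * (w' : M2) 1 0 := by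
            rw [tr, tr, Matrix.SpecialLinearGroup.coe_mul]
            simp [uu, Matrix.mul_apply, Fin.sum_univ_two]
            ring
          rwa [htm, htw', zero_add] at this
  have hpre := card_pre (P := fun y : PS => Sol (π ww) y)
  have E : {s : G // (((tr s = 0 ∨ (s : M2) 1 0 - (s : M2) 0 1 = 0) ∨
        ((s : M2) 0 0 = (s : M2) 1 1 ∧ (s : M2) 1 0 + (s : M2) 0 1 = 0)) ∨
        (tr s ^ 2 = 1 ∧ ((s : M2) 1 0 - (s : M2) 0 1) ^ 2 = 1))} ≃
      {v : {v : (F × F) × (F × F) // v.2.1 ^ 2 + v.2.2 ^ 2 = v.1.1 ^ 2 + v.1.2 ^ 2 - 1} //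
        ((v.1.1.1 = 0 ∨ v.1.1.2 = 0) ∨ (v.1.2.1 = 0 ∧ v.1.2.2 = 0)) ∨
        (v.1.1.1 ^ 2 = 1 ∧ v.1.1.2 ^ 2 = 1)} :=
    (coordEquiv (F := F)).subtypeEquiv fun s =>
      or_congr (or_congr Iff.rfl (and_congr sub_eq_zero.symm Iff.rfl)) Iff.rfl
  rw [Nat.card_congr (Equiv.subtypeEquivRight hiff), Nat.card_congr E] at hpre
  set V := {v : (F × F) × (F × F) // v.2.1 ^ 2 + v.2.2 ^ 2 = v.1.1 ^ 2 + v.1.2 ^ 2 - 1}
  have e : ∀ P : V → Prop, Nat.card {x // P x} = {x : V | P x}.ncard := fun P =>
    Nat.card_coe_set_eq {x | P x}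
  set A := {v : V | v.1.1.1 = 0}
  set B := {v : V | v.1.1.2 = 0}
  set C := {v : V | v.1.2.1 = 0 ∧ v.1.2.2 = 0}
  set D := {v : V | v.1.1.1 ^ 2 = 1 ∧ v.1.1.2 ^ 2 = 1}
  have h3 := three_zero (F := F)
  have hA : A.ncard = q * (q - 1) := by
    rw [← e, ← card_tr_zero (F := F) hodd hq]
    exact (Nat.card_congr (coordEquiv.subtypeEquiv fun s => Iff.rfl)).symm
  have hB : B.ncard = q * (q - 1) := by
    rw [← e, ← card_tr_zero (F := F) hodd hq,
      Nat.card_congr ((Equiv.mulLeft (ww : G)).symm.subtypeEquiv (fun s => by simp) :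
        {s : G // tr s = 0} ≃ {s : G // tr (ww * s) = 0})]
    exact (Nat.card_congr (coordEquiv.subtypeEquiv fun s => by rw [tr_ww_mul]; exact Iff.rfl)).symm
  have hAB : (A ∩ B).ncard = q + 1 := by
    show {v : V | v.1.1.1 = 0 ∧ v.1.1.2 = 0}.ncard = _
    rw [← e, ← nn_one (F := F) hodd hq, ← nn_neg]
    exact Nat.card_congr
      { toFun := fun v => ⟨v.1.1.2, by
          have h := v.1.2
          rw [v.2.1, v.2.2] at h
          rw [h]; ring⟩
        invFun := fun z => ⟨⟨((0, 0), z.1), by rw [z.2]; ring⟩, rfl, rfl⟩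
        left_inv := fun v => by
          apply Subtype.ext; apply Subtype.ext
          obtain ⟨⟨⟨⟨t, u⟩, mn⟩, h⟩, ht, hu⟩ := v
          change t = 0 at ht
          change u = 0 at hu
          subst ht hu
          rfl
        right_inv := fun z => rfl }
  have hC : C.ncard = q + 1 := by
    rw [← e, ← nn_one (F := F) hodd hq]
    exact Nat.card_congr
      { toFun := fun v => ⟨v.1.1.1, by
          have h := v.1.2
          rw [v.2.1, v.2.2] at h
          linear_combination -h⟩
        invFun := fun z => ⟨⟨(z.1, (0, 0)), by linear_combination -z.2⟩, rfl, rfl⟩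
        left_inv := fun v => by
          apply Subtype.ext; apply Subtype.ext
          obtain ⟨⟨⟨tu, m, n⟩, h⟩, hm, hn⟩ := v
          change m = 0 at hm
          change n = 0 at hn
          subst hm hn
          rfl
        right_inv := fun z => rfl }
  have hAC : (A ∩ C).ncard = 2 := by
    show {v : V | v.1.1.1 = 0 ∧ v.1.2.1 = 0 ∧ v.1.2.2 = 0}.ncard = _
    rw [← e]
    refine Eq.trans ?_ (card_sq_one' (F := F))
    exact Nat.card_congr
      { toFun := fun v => ⟨v.1.1.1.2, by
          have h := v.1.2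
          have ha : v.1.1.1.1 = 0 := v.2.1
          rw [ha, v.2.2.1, v.2.2.2] at h
          linear_combination -h⟩
        invFun := fun z => ⟨⟨((0, z.1), (0, 0)), by linear_combination -z.2⟩, rfl, rfl, rfl⟩
        left_inv := fun v => by
          apply Subtype.ext; apply Subtype.ext
          obtain ⟨⟨⟨⟨t, u⟩, m, n⟩, h⟩, ht, hm, hn⟩ := v
          change t = 0 at ht
          change m = 0 at hm
          change n = 0 at hn
          subst ht hm hn
          rfl
        right_inv := fun z => rfl }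
  have hBC : (B ∩ C).ncard = 2 := by
    show {v : V | v.1.1.2 = 0 ∧ v.1.2.1 = 0 ∧ v.1.2.2 = 0}.ncard = _
    rw [← e]
    refine Eq.trans ?_ (card_sq_one' (F := F))
    exact Nat.card_congr
      { toFun := fun v => ⟨v.1.1.1.1, by
          have h := v.1.2
          have ha : v.1.1.1.2 = 0 := v.2.1
          rw [ha, v.2.2.1, v.2.2.2] at h
          linear_combination -h⟩
        invFun := fun z => ⟨⟨((z.1, 0), (0, 0)), by linear_combination -z.2⟩, rfl, rfl, rfl⟩
        left_inv := fun v => by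
          apply Subtype.ext; apply Subtype.ext
          obtain ⟨⟨⟨⟨t, u⟩, m, n⟩, h⟩, ht, hm, hn⟩ := v
          change u = 0 at ht
          change m = 0 at hm
          change n = 0 at hn
          subst ht hm hn
          rfl
        right_inv := fun z => rfl }
  have hD : D.ncard = 4 * (q + 1) := by
    rw [← e, ← nn_one (F := F) hodd hq,
      Nat.card_congr (show {v : V // v.1.1.1 ^ 2 = 1 ∧ v.1.1.2 ^ 2 = 1} ≃
          {x : F // x ^ 2 = 1} × {x : F // x ^ 2 = 1} × {z : F × F // z.1 ^ 2 + z.2 ^ 2 = 1} from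
        { toFun := fun v => (⟨v.1.1.1.1, v.2.1⟩, ⟨v.1.1.1.2, v.2.2⟩, ⟨v.1.1.2, by
            linear_combination v.1.2 + v.2.1 + v.2.2⟩)
          invFun := fun z => ⟨⟨((z.1.1, z.2.1.1), z.2.2.1), by
            linear_combination z.2.2.2 - z.1.2 - z.2.1.2⟩, z.1.2, z.2.1.2⟩
          left_inv := fun v => rfl
          right_inv := fun z => rfl }), Nat.card_prod, Nat.card_prod, card_sq_one', nn]
    ring
  have hdisj : Disjoint ((A ∪ B) ∪ C) D := by
    rw [Set.disjoint_left]
    rintro v ((h | h) | ⟨h, h'⟩) ⟨h1, h2⟩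
    · change v.1.1.1 = 0 at h; simp [h] at h1
    · change v.1.1.2 = 0 at h; simp [h] at h2
    · have := v.2
      rw [h, h', h1, h2] at this
      simp at this
  have hdisjC : Disjoint (A ∩ C) (B ∩ C) := by
    rw [Set.disjoint_left]
    rintro v ⟨ha, h, h'⟩ ⟨hb, -, -⟩
    have := v.2
    change v.1.1.1 = 0 at ha
    change v.1.1.2 = 0 at hb
    rw [ha, hb, h, h'] at this
    simp at this
  rw [e, show {v : V | ((v.1.1.1 = 0 ∨ v.1.1.2 = 0) ∨ (v.1.2.1 = 0 ∧ v.1.2.2 = 0)) ∨
        (v.1.1.1 ^ 2 = 1 ∧ v.1.1.2 ^ 2 = 1)} = ((A ∪ B) ∪ C) ∪ D from rfl,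
    Set.ncard_union_eq hdisj] at hpre
  have h1 := Set.ncard_union_add_ncard_inter A B
  have h2 := Set.ncard_union_add_ncard_inter (A ∪ B) C
  rw [Set.union_inter_distrib_right, Set.ncard_union_eq hdisjC, hAC, hBC, hC] at h2
  rw [hA, hB, hAB] at h1
  rw [hD] at hpre
  rw [Nat.mul_add, mul_one]
  have : q ≤ q * q := Nat.le_mul_self q
  rw [Nat.mul_sub, mul_one] at h1
  omega

/-- Split semisimple elements. -/
theorem solvabilizer_dd (hp : p.Prime) (hodd : Odd p) (hq : q = 3 ^ p) {a : Fˣ}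
    (ha : (a : F) ^ 2 ≠ 1) (h6 : π (dd a) ^ 3 ≠ (1 : PS)) :
    Nat.card {y : PS // Sol (π (dd a)) y} = q * (q - 1) := by
  classical
  obtain ⟨hq27, hq4, hq3, hgcd⟩ := q_facts hp hodd hq
  have ht : tr (dd a) ^ 2 ≠ 4 := tr_sq_dd ha
  have hai : (a : F) - (a : F)⁻¹ ≠ 0 := fun h => ha ((unit_sub_inv a).1 h)
  have hsqne : π (dd a) * π (dd a) ≠ (1 : PS) := by
    intro h
    rcases (sq_iff _).1 h with h | h
    · refine neg_one_not_sq hodd hq ⟨(a : F), ?_⟩
      rw [tr_dd] at h
      have hm : (a : F) * (a : F)⁻¹ = 1 := mul_inv_cancel₀ a.ne_zero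
      linear_combination -(a : F) * h + hm
    · exact scal_of_tr_sq_ne ht h
  have hiff : ∀ s : G, Sol (π (dd a)) (π s) ↔
      ((s : M2) 1 0 = 0 ∨ (s : M2) 0 1 = 0 ∨ ((s : M2) 0 0 = 0 ∧ (s : M2) 1 1 = 0)) := by
    intro s
    constructor
    · intro hs
      rcases sol_cases hp hodd hq hs with ⟨r, htr, hxN, hyN⟩ | ⟨g, hx, hy⟩ | ⟨H, e, hxH, -⟩
      · rw [pi_mem_NT] at hxN
        have hxc : dd a ∈ cent r := by
          by_contra hxc
          exact hsqne (by rw [← map_mul, (sq_of_mem_normalizer htr hxN hxc).2, π_neg, map_one])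
        have hT : torus r = torus (dd a) :=
          torus_eq_of_mem (scal_of_tr_sq_ne htr) (scal_of_tr_sq_ne ht) (y := π (dd a))
            (fun h => scal_of_tr_sq_ne ht (π_eq_one.1 h)) (pi_mem_torus.2 hxc)
            (pi_mem_torus.2 (self_mem_cent _))
        rw [show NT r = NT (dd a) by rw [NT, NT, hT], pi_mem_NT, mem_normalizer_cent ht] at hyN
        rcases hyN with h | h
        · exact Or.inl ((mem_cent_dd ha).1 (mem_cent.2 (mul_inv_eq_iff_eq_mul.1 h).symm)).2
        · rw [mul_inv_eq_iff_eq_mul, dd_inv] at h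
          have h0 := congrArg (fun m : G => (m : M2) 0 0) h
          have h1 := congrArg (fun m : G => (m : M2) 1 1) h
          rw [Matrix.SpecialLinearGroup.coe_mul, Matrix.SpecialLinearGroup.coe_mul] at h0 h1
          simp [dd, Matrix.mul_apply, Fin.sum_univ_two] at h0 h1
          refine Or.inr (Or.inr ⟨?_, ?_⟩)
          · exact (mul_eq_zero.1 (show (s : M2) 0 0 * ((a : F) - (a : F)⁻¹) = 0 by
              linear_combination h0)).resolve_right hai
          · exact (mul_eq_zero.1 (show (s : M2) 1 1 * ((a : F) - (a : F)⁻¹) = 0 by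
              linear_combination -h1)).resolve_right hai
      · obtain ⟨P, rfl⟩ := π_surjective g
        rw [← π_conj, pi_mem_B0, Matrix.SpecialLinearGroup.coe_mul, Matrix.SpecialLinearGroup.coe_mul,
          coe_inv'] at hx hy
        simp [dd, tr, Matrix.mul_apply, Fin.sum_univ_two] at hx hy
        have hd := det_eq P
        rcases mul_eq_zero.1 (show (P : M2) 1 0 * (P : M2) 1 1 = 0 from
          (mul_eq_zero.1 (show (P : M2) 1 0 * (P : M2) 1 1 * ((a : F) - (a : F)⁻¹) = 0 by
            linear_combination hx)).resolve_right hai) with h | h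
        · left
          rw [h, mul_zero, sub_zero] at hd
          refine (mul_eq_zero.1 (show (P : M2) 1 1 * (P : M2) 1 1 * (s : M2) 1 0 = 0 by
            rw [h] at hy; linear_combination hy)).resolve_left ?_
          exact mul_ne_zero (right_ne_zero_of_mul_eq_one hd) (right_ne_zero_of_mul_eq_one hd)
        · right; left
          rw [h, mul_zero, zero_sub] at hd
          refine (mul_eq_zero.1 (show (P : M2) 1 0 * (P : M2) 1 0 * (s : M2) 0 1 = 0 by
            rw [h] at hy; linear_combination -hy)).resolve_left ?_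
          have h10 : (P : M2) 1 0 ≠ 0 := fun e => by rw [e, mul_zero, neg_zero] at hd; exact zero_ne_one hd
          exact mul_ne_zero h10 h10
      · rcases (tetra e hxH hxH).1 with h | h
        · exact absurd h hsqne
        · exact absurd h h6
    · rintro (h | h | ⟨h0, h1⟩)
      · exact sol_of_mem hp hodd hq B0_ne_top (pi_mem_B0.2 (by simp [dd])) (pi_mem_B0.2 h)
      · refine sol_of_mem hp hodd hq
          (M := (B0 : Subgroup PS).comap (MulAut.conj (π ww)).toMonoidHom) (fun e => ?_) ?_ ?_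
        · apply B0_ne_top (F := F)
          rw [eq_top_iff]
          intro z _
          have : (MulAut.conj (π ww)).symm z ∈
              (B0 : Subgroup PS).comap (MulAut.conj (π ww)).toMonoidHom := e ▸ Subgroup.mem_top _
          simpa [Subgroup.mem_comap, mul_assoc] using this
        all_goals
          rw [Subgroup.mem_comap, MulEquiv.coe_toMonoidHom, MulAut.conj_apply]
          rw [← π_conj, pi_mem_B0, Matrix.SpecialLinearGroup.coe_mul, Matrix.SpecialLinearGroup.coe_mul,
            coe_inv']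
          simp [ww, dd, tr, Matrix.mul_apply, Matrix.vecMul, dotProduct, Fin.sum_univ_two, h]
      · refine sol_of_mem hp hodd hq (NT_ne_top ht (by omega))
          (Subgroup.le_normalizer (pi_mem_torus.2 (self_mem_cent _))) ?_
        rw [pi_mem_NT, mem_normalizer_cent ht]
        right
        rw [mul_inv_eq_iff_eq_mul, dd_inv]
        apply Subtype.ext
        ext i j
        rw [Matrix.SpecialLinearGroup.coe_mul, Matrix.SpecialLinearGroup.coe_mul]
        fin_cases i <;> fin_cases j <;> simp [dd, Matrix.mul_apply, Fin.sum_univ_two, h0, h1] <;> ring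
  have hpre := card_pre (P := fun y : PS => Sol (π (dd a)) y)
  rw [Nat.card_congr (Equiv.subtypeEquivRight hiff)] at hpre
  have e : ∀ P : G → Prop, Nat.card {x // P x} = {x : G | P x}.ncard := fun P =>
    Nat.card_coe_set_eq {x | P x}
  have hU := card_upper (F := F)
  have hL : Nat.card {s : G // (s : M2) 0 1 = 0} = q * (q - 1) := by
    rw [← hU]
    exact Nat.card_congr
      { toFun := fun s => ⟨s.1.transpose, by simpa using s.2⟩
        invFun := fun s => ⟨s.1.transpose, by simpa using s.2⟩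
        left_inv := fun s => by ext; simp
        right_inv := fun s => by ext; simp }
  have hD : Nat.card {s : G // (s : M2) 1 0 = 0 ∧ (s : M2) 0 1 = 0} = q - 1 := by
    rw [← Nat.card_eq_fintype_card, ← Nat.card_units]
    refine (Nat.card_congr (Equiv.ofBijective (fun b : Fˣ => (⟨dd b, by simp [dd], by simp [dd]⟩ :
      {s : G // (s : M2) 1 0 = 0 ∧ (s : M2) 0 1 = 0})) ⟨fun x y h => dd_injective
        (congrArg Subtype.val h), fun s => ?_⟩)).symm
    obtain ⟨s, h10, h01⟩ := s
    obtain ⟨-, h00, h11⟩ := upper_root h10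
    exact ⟨Units.mk0 _ h00, Subtype.ext (by apply ext4 <;> simp [dd, h10, h01, h11])⟩
  have hA : Nat.card {s : G // (s : M2) 0 0 = 0 ∧ (s : M2) 1 1 = 0} = q - 1 := by
    rw [← hD]
    refine Nat.card_congr ((Equiv.mulLeft (ww : G)).subtypeEquiv fun s => ?_)
    show _ ↔ ((ww * s : G) : M2) 1 0 = 0 ∧ ((ww * s : G) : M2) 0 1 = 0
    have e10 : ((ww * s : G) : M2) 1 0 = -(s : M2) 0 0 := by
      rw [Matrix.SpecialLinearGroup.coe_mul]
      simp [ww, Matrix.mul_apply, Fin.sum_univ_two]
    have e01 : ((ww * s : G) : M2) 0 1 = (s : M2) 1 1 := by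
      rw [Matrix.SpecialLinearGroup.coe_mul]
      simp [ww, Matrix.mul_apply, Fin.sum_univ_two]
    rw [e10, e01, neg_eq_zero]
  rw [e] at hU hL hD hA
  rw [e, show {s : G | (s : M2) 1 0 = 0 ∨ (s : M2) 0 1 = 0 ∨ ((s : M2) 0 0 = 0 ∧ (s : M2) 1 1 = 0)} =
      ({s : G | (s : M2) 1 0 = 0} ∪ {s : G | (s : M2) 0 1 = 0}) ∪
      {s : G | (s : M2) 0 0 = 0 ∧ (s : M2) 1 1 = 0} from by ext; simp [or_assoc],
    Set.ncard_union_eq (by
      rw [Set.disjoint_left]
      rintro s (h | h) ⟨h0, h1⟩ <;>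
      · have hd := det_eq s
        simp only [Set.mem_setOf_eq] at h
        rw [h, h0] at hd
        simp at hd), hA] at hpre
  have h := Set.ncard_union_add_ncard_inter {s : G | (s : M2) 1 0 = 0} {s : G | (s : M2) 0 1 = 0}
  rw [show ({s : G | (s : M2) 1 0 = 0} ∩ {s : G | (s : M2) 0 1 = 0}) =
    {s : G | (s : M2) 1 0 = 0 ∧ (s : M2) 0 1 = 0} from rfl, hD, hU, hL] at h
  omega

/-- Non-split semisimple elements. -/
theorem solvabilizer_noEig (hp : p.Prime) (hodd : Odd p) (hq : q = 3 ^ p) {r : G} (hr : NoEig r)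
    (hsq : π r * π r ≠ (1 : PS)) (h3 : π r ^ 3 ≠ (1 : PS)) :
    Nat.card {y : PS // Sol (π r) y} = q + 1 := by
  classical
  obtain ⟨hq27, hq4, hq3, hgcd⟩ := q_facts hp hodd hq
  have ht := hr.tr_sq
  have hiff : ∀ y : PS, Sol (π r) y ↔ y ∈ NT r := by
    intro y
    constructor
    · intro hs
      rcases sol_cases hp hodd hq hs with ⟨r', ht', hxN, hyN⟩ | ⟨g, hx, -⟩ | ⟨H, e, hxH, -⟩
      · rw [pi_mem_NT] at hxN
        have hxc : r ∈ cent r' := by
          by_contra hxc
          exact hsq (by rw [← map_mul, (sq_of_mem_normalizer ht' hxN hxc).2, π_neg, map_one])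
        have hT : torus r' = torus r :=
          torus_eq_of_mem (scal_of_tr_sq_ne ht') (scal_of_tr_sq_ne ht) (y := π r)
            (fun h => scal_of_tr_sq_ne ht (π_eq_one.1 h)) (pi_mem_torus.2 hxc)
            (pi_mem_torus.2 (self_mem_cent _))
        rw [NT, ← hT]
        exact hyN
      · exfalso
        obtain ⟨P, rfl⟩ := π_surjective g
        rw [← π_conj, pi_mem_B0] at hx
        exact (noEig_iff _).1 ((noEig_conj r P).2 hr) _ (upper_root hx).1
      · rcases (tetra e hxH hxH).1 with h | h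
        · exact absurd h hsq
        · exact absurd h h3
    · intro hy
      exact sol_of_mem hp hodd hq (NT_ne_top ht (by omega))
        (Subgroup.le_normalizer (pi_mem_torus.2 (self_mem_cent _))) hy
  rw [Nat.card_congr (Equiv.subtypeEquivRight hiff)]
  show Nat.card (NT r) = _
  rw [card_NT ht]
  have h := card_torus r
  rw [hgcd, (card_cent_noEig hr).1] at h
  exact h

/-- Semisimple elements. -/
theorem semisimple_cases (hp : p.Prime) (hodd : Odd p) (hq : q = 3 ^ p) {x : PS}
    (h3 : x ^ 3 ≠ 1) (h2 : x * x ≠ 1) :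
    (∃ (g : PS) (a : Fˣ), (a : F) ^ 2 ≠ 1 ∧ π (dd a) ^ 3 ≠ (1 : PS) ∧ g * x * g⁻¹ = π (dd a) ∧
      orderOf x ∣ q - 1) ∨
    (∃ r : G, NoEig r ∧ π r * π r ≠ (1 : PS) ∧ π r ^ 3 ≠ (1 : PS) ∧ x = π r ∧ orderOf x ∣ q + 1) := by
  obtain ⟨s, rfl⟩ := π_surjective x
  have ht : tr s ^ 2 ≠ 4 := fun h => h3 ((cube_iff s).2 (by rw [h, four_eq]))
  have h1 : orderOf (π s) ∣ Nat.card (cent s) :=
    (orderOf_map_dvd π s).trans (Subgroup.orderOf_dvd_natCard _ (self_mem_cent s))
  rcases card_cent_regular ht with ⟨hno, hc, -⟩ | ⟨⟨a, ha⟩, hc, -⟩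
  · exact Or.inr ⟨s, (noEig_iff s).2 hno, h2, h3, rfl, hc ▸ h1⟩
  · obtain ⟨a', P, -, ha', hP⟩ := exists_dd_conj ht ha
    have e : (π P⁻¹ : PS) * π s * (π P⁻¹)⁻¹ = π (dd a') := by
      rw [← π_conj, ← hP]; congr 1; group
    refine Or.inl ⟨π P⁻¹, a', ha', ?_, e, hc ▸ h1⟩
    rw [← e, conj_pow]
    intro h
    exact h3 (by
      have := congrArg (fun z : PS => (π P⁻¹)⁻¹ * z * π P⁻¹) h
      simpa [mul_assoc] using this)

end Cfsg.Agent.SL2.Three
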