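import Cfsg.Agent.Lib.SL2.Tori
import Cfsg.Prelude.Def_Characters

/-!
# Summation of class functions over `SL(2, q)`, `q` odd
-/

set_option autoImplicit false
set_option linter.unusedSectionVars false

namespace Cfsg.Agent.SL2

open Matrix

variable {F : Type*} [Field F]

local notation "G" => Matrix.SpecialLinearGroup (Fin 2) F
local notation "M2" => Matrix (Fin 2) (Fin 2) F

/-- The elements conjugate into the regular part of `T`. -/
def regSet (T : Subgroup G) : Set G := {g | ¬ Scal g ∧ ∃ P : G, P⁻¹ * g * P ∈ T}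

theorem sum_regSet [Fintype F] [DecidableEq F] (T : Subgroup G)
    (hT : ∀ c ∈ T, ¬ Scal c → tr c ^ 2 ≠ 4 ∧ cent c = T)
    [DecidablePred (· ∈ regSet T)] [DecidablePred fun c : G => c ∈ T ∧ ¬ Scal c]
    (f : G → ℂ) (hf : ∀ g x : G, f (x * g * x⁻¹) = f g) :
    (2 * Nat.card T : ℂ) * ∑ g ∈ Finset.univ.filter (· ∈ regSet T), f g =
      (Nat.card G : ℂ) * ∑ c ∈ Finset.univ.filter (fun c : G => c ∈ T ∧ ¬ Scal c), f c := by
  classical
  set D := Finset.univ.filter (fun c : G => c ∈ T ∧ ¬ Scal c) with hD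
  have hfib : ∀ g ∈ Finset.univ.filter (· ∈ regSet T),
      ((Finset.univ ×ˢ D).filter fun p : G × G => p.1 * p.2 * p.1⁻¹ = g).card = 2 * Nat.card T := by
    intro g hg
    obtain ⟨hgs, P, hP⟩ := (Finset.mem_filter.1 hg).2
    set c0 := P⁻¹ * g * P with hc0
    have hc0s : ¬ Scal c0 := by
      have := not_scal_conj hgs P⁻¹
      rwa [inv_inv] at this
    obtain ⟨htc, hcc⟩ := hT c0 hP hc0s
    rw [← hcc, ← card_normalizer_cent htc, ← Fintype.card_coe, ← Nat.card_eq_fintype_card]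
    refine Nat.card_congr
      { toFun := fun p => ⟨P⁻¹ * p.1.1, ?_⟩
        invFun := fun y => ⟨(P * y.1, y.1⁻¹ * c0 * y.1), ?_⟩
        left_inv := ?_
        right_inv := fun y => Subtype.ext (by simp) }
    · obtain ⟨⟨x, c⟩, hp⟩ := p
      simp only [Finset.mem_filter, Finset.mem_product, hD, Finset.mem_univ, true_and] at hp
      obtain ⟨⟨hc, hcs⟩, hx⟩ := hp
      rw [Subgroup.mem_normalizer_iff]
      intro z
      have e : P⁻¹ * x * c * (P⁻¹ * x)⁻¹ = c0 := by rw [hc0, ← hx]; group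
      have h1 : cent c0 = cent c := hcc.trans (hT c hc hcs).2.symm
      conv_rhs => rw [← e, cent_conj,
        show (P⁻¹ * x)⁻¹ * (P⁻¹ * x * z * (P⁻¹ * x)⁻¹) * (P⁻¹ * x) = z by group, ← h1]
    · obtain ⟨y, hy⟩ := y
      simp only [Finset.mem_filter, Finset.mem_product, hD, Finset.mem_univ, true_and]
      have hy' := inv_mem hy
      rw [mem_normalizer_cent htc, inv_inv] at hy'
      refine ⟨⟨?_, ?_⟩, ?_⟩
      · rcases hy' with h | h <;> rw [h]
        · exact hP
        · exact T.inv_mem hP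
      · have := not_scal_conj hc0s y⁻¹
        rwa [inv_inv] at this
      · rw [hc0]; group
    · rintro ⟨⟨x, c⟩, hp⟩
      simp only [Finset.mem_filter, Finset.mem_product, hD, Finset.mem_univ, true_and] at hp
      apply Subtype.ext
      apply Prod.ext
      · simp
      · show (P⁻¹ * x)⁻¹ * c0 * (P⁻¹ * x) = c
        rw [hc0, ← hp.2]; group
  have hcalc : ∑ p ∈ Finset.univ ×ˢ D, f (p.1 * p.2 * p.1⁻¹) =
      (Nat.card G : ℂ) * ∑ c ∈ D, f c := by
    rw [Finset.sum_product]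
    simp only [hf]
    rw [Finset.sum_const, Finset.card_univ, nsmul_eq_mul, Nat.card_eq_fintype_card]
  rw [← hcalc, ← Finset.sum_fiberwise_of_maps_to (t := Finset.univ.filter (· ∈ regSet T))
    (g := fun p : G × G => p.1 * p.2 * p.1⁻¹) (fun p hp => ?_), Finset.mul_sum]
  · refine Finset.sum_congr rfl fun g hg => ?_
    rw [Finset.sum_congr rfl (fun p hp => show f (p.1 * p.2 * p.1⁻¹) = f g by
      rw [(Finset.mem_filter.1 hp).2]), Finset.sum_const, hfib g hg, nsmul_eq_mul]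
    push_cast
    rfl
  · simp only [Finset.mem_filter, Finset.mem_product, hD, Finset.mem_univ, true_and] at hp ⊢
    exact ⟨not_scal_conj hp.2 _, p.1, by
      rw [show p.1⁻¹ * (p.1 * p.2 * p.1⁻¹) * p.1 = p.2 by group]; exact hp.1⟩

variable [Fintype F]

local notation "q" => Fintype.card F

theorem mem_diag (c : G) :
    c ∈ (ddHom : Fˣ →* G).range ↔ (c : M2) 0 1 = 0 ∧ (c : M2) 1 0 = 0 := by
  constructor
  · rintro ⟨a, rfl⟩; simp [ddHom, dd]
  · rintro ⟨h1, h2⟩
    obtain ⟨-, h0, h11⟩ := upper_root h2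
    refine ⟨Units.mk0 _ h0, ?_⟩
    apply ext4 <;> simp [ddHom, dd, h1, h2, h11]

theorem scal_dd_iff (a : Fˣ) : Scal (dd a) ↔ (a : F) ^ 2 = 1 := by
  rw [← unit_sub_inv' a]
  simp [Scal, dd, sub_eq_zero]
where
  unit_sub_inv' (a : Fˣ) : ((a : F) - (a : F)⁻¹ = 0) ↔ (a : F) ^ 2 = 1 := by
    rw [sub_eq_zero, pow_two]
    constructor
    · intro h; nth_rewrite 2 [h]; exact mul_inv_cancel₀ a.ne_zero
    · intro h; exact eq_inv_of_mul_eq_one_left h

theorem tr_sq_of_diag {c : G} (hc : c ∈ (ddHom : Fˣ →* G).range) (hs : ¬ Scal c) :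
    tr c ^ 2 ≠ 4 ∧ cent c = (ddHom : Fˣ →* G).range := by
  obtain ⟨a, rfl⟩ := hc
  have ha : (a : F) ^ 2 ≠ 1 := fun h => hs ((scal_dd_iff a).2 h)
  exact ⟨tr_sq_dd ha, Subgroup.ext fun x => (mem_cent_dd ha).trans (mem_diag x).symm⟩

theorem card_diag : Nat.card (ddHom : Fˣ →* G).range = q - 1 := by
  rw [← Nat.card_congr (MonoidHom.ofInjective (f := (ddHom : Fˣ →* G)) dd_injective).toEquiv,
    Nat.card_units, Nat.card_eq_fintype_card]

theorem tr_sq_of_cent {g0 : G} (h0 : NoEig g0) {c : G} (hc : c ∈ cent g0) (hs : ¬ Scal c) :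
    tr c ^ 2 ≠ 4 ∧ cent c = cent g0 := by
  have e := cent_eq (scal_of_tr_sq_ne h0.tr_sq) hc hs
  refine ⟨fun h4 => ?_, e⟩
  have h1 := card_cent_unip hs h4
  rw [e, (card_cent_noEig h0).1] at h1
  have hd : q ∣ q + 1 := ⟨_, h1.trans (mul_comm _ _)⟩
  have := Nat.eq_one_of_dvd_one ((Nat.dvd_add_right dvd_rfl).1 hd)
  have := two_le_q (F := F)
  omega

theorem noEig_of_mem_cent {g0 : G} (h0 : NoEig g0) {c : G} (hc : c ∈ cent g0) (hs : ¬ Scal c) :
    NoEig c := by
  obtain ⟨ht, he⟩ := tr_sq_of_cent h0 hc hs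
  rw [noEig_iff]
  intro a ha
  have h1 := (card_cent_split ht ha).1
  rw [he, (card_cent_noEig h0).1] at h1
  omega

theorem not_noEig_dd (a : Fˣ) : ¬ NoEig (dd a) := fun h => (noEig_iff _).1 h (a : F) (by
  rw [tr_dd, add_sub_cancel_left, mul_inv_cancel₀ a.ne_zero])

theorem card_unip (ε : F) (hε : ε ^ 2 = 1) [DecidablePred fun g : G => ¬ Scal g ∧ tr g = 2 * ε]
    [DecidableEq F] (hodd : Odd q) :
    (Finset.univ.filter fun g : G => ¬ Scal g ∧ tr g = 2 * ε).card = q ^ 2 - 1 := by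
  classical
  have hr : nroots (2 * ε) = 1 := by
    rw [nroots, Nat.card_eq_one_iff_unique]
    refine ⟨⟨fun a b => ?_⟩, ⟨⟨ε, by linear_combination hε⟩⟩⟩
    have key : ∀ x : {a : F // a * (2 * ε - a) = 1}, x.1 = ε := fun x =>
      sub_eq_zero.1 (pow_eq_zero_iff two_ne_zero |>.1 (by linear_combination hε - x.2))
    exact Subtype.ext ((key a).trans (key b).symm)
  have h := card_trace (2 * ε)
  rw [hr, mul_one, Nat.card_eq_fintype_card, Fintype.card_subtype, nat_card_F] at h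
  let z : G := ⟨!![ε, 0; 0, ε], by rw [Matrix.det_fin_two]; simp; linear_combination hε⟩
  have e : (Finset.univ.filter fun g : G => ¬ Scal g ∧ tr g = 2 * ε) =
      (Finset.univ.filter fun g : G => tr g = 2 * ε).erase z := by
    ext g
    simp only [Finset.mem_filter, Finset.mem_univ, true_and, Finset.mem_erase]
    constructor
    · rintro ⟨h1, h2⟩
      exact ⟨fun h => h1 (by subst h; simp [Scal, z]), h2⟩
    · rintro ⟨h1, h2⟩
      refine ⟨fun hs => h1 ?_, h2⟩
      obtain ⟨a, b, c⟩ := hs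
      have he : (g : M2) 0 0 = ε := mul_left_cancel₀ (two_ne_zero' hodd) (by
        rw [tr, ← c] at h2; linear_combination h2)
      apply ext4 <;> simp [z, a, b, he, ← c]
  rw [e, Finset.card_erase_of_mem (Finset.mem_filter.2 ⟨Finset.mem_univ _, by simp [z, tr, two_mul]⟩), h]
  have hq := two_le_q (F := F)
  obtain ⟨j, hj⟩ : ∃ j, q = j + 1 := ⟨q - 1, by omega⟩
  rw [hj, show j + 1 - 1 = j from rfl, show (j + 1) ^ 2 = (j + 1) * j + (j + 1) by ring]

/-- Summing a class function over `SL(2, q)`. -/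
theorem sum_classFun [DecidableEq F] (hodd : Odd q) {g0 : G} (h0 : NoEig g0)
    [DecidablePred fun c : G => c ∈ cent g0 ∧ ¬ Scal c]
    (f : G → ℂ) (hf : ∀ g x : G, f (x * g * x⁻¹) = f g) (U V : ℂ)
    (hU : ∀ g : G, ¬ Scal g → tr g = 2 → f g = U) (hV : ∀ g : G, ¬ Scal g → tr g = -2 → f g = V) :
    2 * ∑ g : G, f g = 2 * (f 1 + f (-1) + ((q : ℂ) ^ 2 - 1) * (U + V)) +
      (q : ℂ) * ((q : ℂ) + 1) * ∑ a ∈ Finset.univ.filter (fun a : Fˣ => (a : F) ^ 2 ≠ 1), f (dd a) +
      (q : ℂ) * ((q : ℂ) - 1) *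
        ∑ c ∈ Finset.univ.filter (fun c : G => c ∈ cent g0 ∧ ¬ Scal c), f c := by
  classical
  have h2 := two_ne_zero' hodd
  have hq := two_le_q (F := F)
  set D := (ddHom : Fˣ →* G).range with hD
  have hmem : ∀ g : G, Scal g ∨ (¬ Scal g ∧ tr g = 2) ∨ (¬ Scal g ∧ tr g = -2) ∨ g ∈ regSet D ∨
      g ∈ regSet (cent g0) := by
    intro g
    by_cases hs : Scal g
    · exact Or.inl hs
    by_cases ht : tr g ^ 2 = 4
    · rcases mul_eq_zero.1 (show (tr g - 2) * (tr g + 2) = 0 by linear_combination ht) with h | h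
      · exact Or.inr (Or.inl ⟨hs, sub_eq_zero.1 h⟩)
      · exact Or.inr (Or.inr (Or.inl ⟨hs, eq_neg_of_add_eq_zero_left h⟩))
    by_cases hn : NoEig g
    · obtain ⟨P, hP⟩ := exists_conj_mem_cent hodd h0 hn
      exact Or.inr (Or.inr (Or.inr (Or.inr ⟨hs, P⁻¹, by rwa [inv_inv]⟩)))
    · rw [noEig_iff] at hn
      push Not at hn
      obtain ⟨a, ha⟩ := hn
      obtain ⟨u, P, -, -, hP⟩ := exists_dd_conj ht ha
      exact Or.inr (Or.inr (Or.inr (Or.inl ⟨hs, P, by
        rw [← hP, show P⁻¹ * (P * dd u * P⁻¹) * P = dd u by group]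
        exact ⟨u, rfl⟩⟩)))
  have hD4 : ∀ g ∈ regSet D, tr g ^ 2 ≠ 4 ∧ ¬ NoEig g := by
    rintro g ⟨hs, P, hP⟩
    have hs' := not_scal_conj hs P⁻¹
    rw [inv_inv] at hs'
    have ht : tr (P⁻¹ * g * P) = tr g := by simpa using tr_conj g P⁻¹
    obtain ⟨a, ha⟩ := hP
    refine ⟨ht ▸ (tr_sq_of_diag ⟨a, ha⟩ hs').1, fun hn => not_noEig_dd a ?_⟩
    have := (noEig_conj g P⁻¹).2 hn
    rw [inv_inv, ← ha] at this
    exact this
  have hT4 : ∀ g ∈ regSet (cent g0), tr g ^ 2 ≠ 4 ∧ NoEig g := by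
    rintro g ⟨hs, P, hP⟩
    have hs' := not_scal_conj hs P⁻¹
    rw [inv_inv] at hs'
    have hn := noEig_of_mem_cent h0 hP hs'
    have := (noEig_conj g P⁻¹).1 (by rwa [inv_inv])
    exact ⟨this.tr_sq, this⟩
  let A1 := Finset.univ.filter fun g : G => Scal g
  let A2 := Finset.univ.filter fun g : G => ¬ Scal g ∧ tr g = 2
  let A3 := Finset.univ.filter fun g : G => ¬ Scal g ∧ tr g = -2
  let A4 := Finset.univ.filter fun g : G => g ∈ regSet D
  let A5 := Finset.univ.filter fun g : G => g ∈ regSet (cent g0)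
  have hne : (2 : F) ≠ -2 := fun h => h2 (mul_left_cancel₀ h2 (by
    rw [mul_zero]; linear_combination h))
  have hsplit : ∑ g : G, f g = ∑ g ∈ A1, f g + ∑ g ∈ A2, f g + ∑ g ∈ A3, f g + ∑ g ∈ A4, f g +
      ∑ g ∈ A5, f g := by
    have hd : ∀ g : G, f g = (if Scal g then f g else 0) +
        (if ¬ Scal g ∧ tr g = 2 then f g else 0) + (if ¬ Scal g ∧ tr g = -2 then f g else 0) +
        (if g ∈ regSet D then f g else 0) + (if g ∈ regSet (cent g0) then f g else 0) := by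
      intro g
      have h4 : tr g = 2 ∨ tr g = -2 → g ∉ regSet D ∧ g ∉ regSet (cent g0) := fun h =>
        have h' : tr g ^ 2 = 4 := by rcases h with h | h <;> rw [h] <;> ring
        ⟨fun hh => (hD4 g hh).1 h', fun hh => (hT4 g hh).1 h'⟩
      rcases hmem g with h | h | h | h | h
      · have n4 : g ∉ regSet D := fun hh => hh.1 h
        have n5 : g ∉ regSet (cent g0) := fun hh => hh.1 h
        simp [h, n4, n5]
      · obtain ⟨n4, n5⟩ := h4 (Or.inl h.2)
        simp [h.1, h.2, hne, n4, n5]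
      · obtain ⟨n4, n5⟩ := h4 (Or.inr h.2)
        simp [h.1, h.2, hne.symm, n4, n5]
      · have n5 : g ∉ regSet (cent g0) := fun hh => (hD4 g h).2 (hT4 g hh).2
        have t1 : tr g ≠ 2 := fun e => (h4 (Or.inl e)).1 h
        have t2 : tr g ≠ -2 := fun e => (h4 (Or.inr e)).1 h
        simp [h.1, t1, t2, h, n5]
      · have n4 : g ∉ regSet D := fun hh => (hD4 g hh).2 (hT4 g h).2
        have t1 : tr g ≠ 2 := fun e => (h4 (Or.inl e)).2 h
        have t2 : tr g ≠ -2 := fun e => (h4 (Or.inr e)).2 h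
        simp [h.1, t1, t2, h, n4]
    simp only [A1, A2, A3, A4, A5, Finset.sum_filter, ← Finset.sum_add_distrib]
    exact Finset.sum_congr rfl fun g _ => hd g
  have hA1 : ∑ g ∈ A1, f g = f 1 + f (-1) := by
    have : A1 = {1, -1} := by ext g; simp [A1, scal_iff]
    rw [this, Finset.sum_pair]
    intro h
    have := congrArg (fun g : G => (g : M2) 0 0) h
    simp at this
    exact h2 (by linear_combination this)
  have hA2 : ∑ g ∈ A2, f g = ((q : ℂ) ^ 2 - 1) * U := by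
    rw [Finset.sum_congr rfl (fun g hg => hU g (Finset.mem_filter.1 hg).2.1
      (Finset.mem_filter.1 hg).2.2), Finset.sum_const, nsmul_eq_mul]
    have := card_unip (1 : F) (one_pow 2) hodd
    simp only [mul_one] at this
    rw [show A2.card = q ^ 2 - 1 from this, Nat.cast_sub (Nat.one_le_pow _ _ (by omega))]
    push_cast
    rfl
  have hA3 : ∑ g ∈ A3, f g = ((q : ℂ) ^ 2 - 1) * V := by
    rw [Finset.sum_congr rfl (fun g hg => hV g (Finset.mem_filter.1 hg).2.1
      (Finset.mem_filter.1 hg).2.2), Finset.sum_const, nsmul_eq_mul]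
    have := card_unip (-1 : F) (by ring) hodd
    simp only [mul_neg, mul_one] at this
    rw [show A3.card = q ^ 2 - 1 from this, Nat.cast_sub (Nat.one_le_pow _ _ (by omega))]
    push_cast
    rfl
  have hG : (Nat.card G : ℂ) = (q : ℂ) * (((q : ℂ) - 1) * ((q : ℂ) + 1)) := by
    rw [card_G]; push_cast [Nat.cast_sub (by omega : 1 ≤ q)]; ring
  have hA4 : 2 * ∑ g ∈ A4, f g = (q : ℂ) * ((q : ℂ) + 1) *
      ∑ a ∈ Finset.univ.filter (fun a : Fˣ => (a : F) ^ 2 ≠ 1), f (dd a) := by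
    have h := sum_regSet D (fun c hc hs => tr_sq_of_diag hc hs) f hf
    rw [card_diag, Nat.cast_sub (by omega : 1 ≤ q), Nat.cast_one, hG] at h
    have e : ∑ c ∈ Finset.univ.filter (fun c : G => c ∈ D ∧ ¬ Scal c), f c =
        ∑ a ∈ Finset.univ.filter (fun a : Fˣ => (a : F) ^ 2 ≠ 1), f (dd a) := by
      rw [← Finset.sum_image (g := dd) (fun a _ b _ h => dd_injective h)]
      refine Finset.sum_congr (Finset.ext fun c => ?_) fun _ _ => rfl
      simp only [Finset.mem_filter, Finset.mem_univ, true_and, Finset.mem_image]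
      constructor
      · rintro ⟨⟨a, rfl⟩, hs⟩
        exact ⟨a, fun h => hs ((scal_dd_iff a).2 h), rfl⟩
      · rintro ⟨a, ha, rfl⟩
        exact ⟨⟨a, rfl⟩, fun h => ha ((scal_dd_iff a).1 h)⟩
    rw [e] at h
    refine mul_left_cancel₀ (sub_ne_zero.2 (show (q : ℂ) ≠ 1 by exact_mod_cast (by omega : q ≠ 1))) ?_
    linear_combination h
  have hA5 : 2 * ∑ g ∈ A5, f g = (q : ℂ) * ((q : ℂ) - 1) *
      ∑ c ∈ Finset.univ.filter (fun c : G => c ∈ cent g0 ∧ ¬ Scal c), f c := by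
    have h := sum_regSet (cent g0) (fun c hc hs => tr_sq_of_cent h0 hc hs) f hf
    rw [(card_cent_noEig h0).1, hG] at h
    push_cast at h
    refine mul_left_cancel₀ (show (q : ℂ) + 1 ≠ 0 by exact_mod_cast (by omega : q + 1 ≠ 0)) ?_
    linear_combination h
  rw [hsplit, hA1, hA2, hA3]
  linear_combination hA4 + hA5

end Cfsg.Agent.SL2
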