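import Cfsg.Agent.Lib.SL2.Halves

/-!
# The irreducible characters of `SL(2, q)`, `q` odd

They are `1`, the Steinberg character `st`, the principal series `princ α` (`α ≠ α⁻¹`), the
cuspidal characters `cusp θ` (`θ ≠ θ⁻¹`), two halves of `princ sgn` and two halves of the cuspidal
`cusp θ₀` at the character `θ₀` of order two.
-/

set_option autoImplicit false
set_option linter.unusedSectionVars false

namespace Cfsg.Agent.SL2

open Matrix

variable {F : Type*} [Field F]

local notation "G" => Matrix.SpecialLinearGroup (Fin 2) F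
local notation "M2" => Matrix (Fin 2) (Fin 2) F

variable [Fintype F] [DecidableEq F]

local notation "q" => Fintype.card F

/-- The complex quadratic character. -/
noncomputable def sgnChar (F : Type*) [Field F] [Fintype F] [DecidableEq F] : MulChar F ℂ :=
  (quadraticChar F).ringHomComp (Int.castRingHom ℂ)

theorem sgnChar_apply (a : F) : sgnChar F a = (quadraticChar F a : ℂ) := rfl

theorem sgnChar_inv : (sgnChar F)⁻¹ = sgnChar F :=
  ((quadraticChar_isQuadratic F).comp (Int.castRingHom ℂ)).inv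

theorem sgnChar_ne_one (hodd : Odd q) : sgnChar F ≠ 1 :=
  (MulChar.ringHomComp_ne_one_iff (Int.cast_injective (α := ℂ))).2
    (quadraticChar_ne_one (ringChar_ne_two hodd))

/-- The Steinberg character. -/
noncomputable def st : G → ℂ := fun g => princ 1 g - 1

theorem isCharacter_princ (α : MulChar F ℂ) : Cfsg.IsCharacter G (princ α) := by
  let φ : borel F →* ℂ :=
    { toFun := fun b => α (((b : G) : M2) 0 0)
      map_one' := by simp
      map_mul' := fun a b => by
        rw [← map_mul]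
        congr 1
        simp [Subgroup.coe_mul, Matrix.SpecialLinearGroup.coe_mul, Matrix.mul_apply,
          Fin.sum_univ_two, mem_borel.1 b.2] }
  exact CT.isCharacter_indFun _ (CT.isCharacter_lin φ.toHomUnits)

theorem princ_one (α : MulChar F ℂ) : princ α (1 : G) = (q : ℂ) + 1 := by
  rw [princ_scal α ((scal_iff (1 : G)).2 (Or.inl rfl))]
  simp

theorem st_one : st (1 : G) = (q : ℂ) := by
  simp only [st, princ_one]; ring

theorem inner_princ_trivial (hodd : Odd q) (α : MulChar F ℂ) [Decidable (α = 1)] :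
    Cfsg.classInner (princ α) (fun _ : G => 1) = if α = 1 then 1 else 0 := by
  classical
  obtain ⟨g0, h0⟩ := exists_noEig (F := F)
  have hsum := sum_classFun hodd h0 (princ α) (princ_conj α) (α 1) (α (-1))
    (fun g hs ht => princ_unip hodd α (one_pow 2) hs (by rw [ht, mul_one]))
    (fun g hs ht => princ_unip hodd α (by ring) hs (by rw [ht]; ring))
  have hT : ∑ c ∈ Finset.univ.filter (fun c : G => c ∈ cent g0 ∧ ¬ Scal c), princ α c = 0 :=
    Finset.sum_eq_zero fun c hc => by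
      have hc' := (Finset.mem_filter.1 hc).2
      exact princ_noEig α (noEig_of_mem_cent h0 hc'.1 hc'.2)
  have hD : ∑ a ∈ Finset.univ.filter (fun a : Fˣ => (a : F) ^ 2 ≠ 1), princ α (dd a) =
      ∑ a ∈ Finset.univ.filter (fun a : Fˣ => (a : F) ^ 2 ≠ 1), (α (a : F) + α ((a : F)⁻¹)) :=
    Finset.sum_congr rfl fun a ha => princ_diag α (Finset.mem_filter.1 ha).2
  have hDε : ∑ a ∈ Finset.univ.filter (fun a : Fˣ => (a : F) ^ 2 = 1), (α (a : F) + α ((a : F)⁻¹)) =
      2 * α 1 + 2 * α (-1) := by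
    have : Finset.univ.filter (fun a : Fˣ => (a : F) ^ 2 = 1) = {1, -1} := by
      ext a; simp only [Finset.mem_filter, Finset.mem_univ, true_and, Finset.mem_insert,
        Finset.mem_singleton, sq_eq_one_iff, Units.ext_iff, Units.val_one, Units.val_neg]
    rw [this, Finset.sum_pair]
    · simp only [Units.val_one, Units.val_neg, inv_one, inv_neg]; ring
    · intro h
      have := congrArg (fun a : Fˣ => (a : F)) h
      simp at this
      exact two_ne_zero' hodd (by linear_combination this)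
  have hall : ∑ a : Fˣ, (α (a : F) + α ((a : F)⁻¹)) =
      2 * ((q : ℂ) - 1) * (if α = 1 then 1 else 0) := by
    rw [Finset.sum_add_distrib, Fintype.sum_equiv (Equiv.inv Fˣ) (fun a : Fˣ => α ((a : F)⁻¹))
      (fun a : Fˣ => α (a : F)) (fun a => by simp), sum_units_char]
    split_ifs <;> ring
  rw [← Finset.sum_filter_add_sum_filter_not Finset.univ (fun a : Fˣ => (a : F) ^ 2 = 1),
    hDε] at hall
  have h2 : princ α (-1 : G) = ((q : ℂ) + 1) * α (-1) := by
    rw [princ_scal α ((scal_iff (-1 : G)).2 (Or.inr rfl))]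
    simp
  rw [princ_one, h2, hT, hD, map_one] at hsum
  rw [map_one] at hall
  have hq := two_le_q (F := F)
  have hG : (Nat.card G : ℂ) = (q : ℂ) * (((q : ℂ) - 1) * ((q : ℂ) + 1)) := by
    rw [card_G]; push_cast [Nat.cast_sub (by omega : 1 ≤ q)]; ring
  have hGne : (Nat.card G : ℂ) ≠ 0 := by exact_mod_cast Nat.card_pos.ne'
  simp only [Cfsg.classInner, map_one, mul_one]
  rw [inv_mul_eq_iff_eq_mul₀ hGne, hG]
  linear_combination (hsum : _) / 2 + (q : ℂ) * ((q : ℂ) + 1) / 2 * hall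

theorem inner_princ_st (hodd : Odd q) (α : MulChar F ℂ) [Decidable (α = 1)] :
    Cfsg.classInner (princ α) st = if α = 1 then 1 else 0 := by
  classical
  have : (st : G → ℂ) = princ 1 - fun _ => 1 := rfl
  rw [this, CT.classInner_sub_right, inner_princ hodd, inner_princ_trivial hodd]
  by_cases h : α = 1 <;> simp [h, inv_one]

theorem isIrr_st (hodd : Odd q) : Cfsg.IsIrrCharacter G st := by
  classical
  have hgen : Cfsg.IsGeneralizedCharacter G (st : G → ℂ) :=
    CT.isGen_sub (CT.isGen_of_isCharacter (isCharacter_princ 1))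
      (CT.isGen_of_isIrr CT.isIrrCharacter_one)
  refine CT.isIrr_of_isGen_norm_one hgen ?_ ?_
  · have e : (st : G → ℂ) = princ 1 - fun _ => 1 := rfl
    have h1 : Cfsg.classInner (fun _ : G => (1 : ℂ)) st = 0 := by
      rw [e, CT.classInner_sub_right, CT.irr_inner_self CT.isIrrCharacter_one,
        CT.classInner_comm_of_char CT.isCharacter_one (isCharacter_princ 1),
        inner_princ_trivial hodd, if_pos rfl, sub_self]
    nth_rewrite 1 [e]
    rw [CT.classInner_sub_left, h1, inner_princ_st hodd, if_pos rfl, sub_zero]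
  · rw [st_one]; simpa using Fintype.card_pos (α := F)

theorem isIrr_princ (hodd : Odd q) {α : MulChar F ℂ} (h : α ≠ α⁻¹) :
    Cfsg.IsIrrCharacter G (princ α) := by
  classical
  refine CT.isIrr_of_inner_self (isCharacter_princ α) ?_
  rw [inner_princ hodd, if_pos rfl, if_neg h, add_zero]

theorem princ_fixed (hodd : Odd q) (α : MulChar F ℂ) (ν : Fˣ) (g : G) :
    princ α (diagAut ν g) = princ α g := by
  refine classFun_diagAut (f := princ α) (fun a b => princ_conj α a b) ?_ ν g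
  intro x y hx hy hxy h4
  obtain ⟨ε, s, P, hε, -, ht, -⟩ := exists_unip_conj hx h4
  rw [princ_unip hodd α hε hx ht, princ_unip hodd α hε hy (hxy ▸ ht)]

section torus

variable {g0 : Matrix.SpecialLinearGroup (Fin 2) F}

theorem cusp_fixed (hodd : Odd q) (h0 : NoEig g0) (θ : cent g0 →* ℂˣ) (ν : Fˣ) (g : G) :
    cusp θ (diagAut ν g) = cusp θ g := by
  refine classFun_diagAut (f := cusp θ) (fun a b => cusp_conj θ a b) ?_ ν g
  intro x y hx hy hxy h4
  obtain ⟨ε, s, P, hε, -, ht, -⟩ := exists_unip_conj hx h4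
  rw [cusp_unip θ hodd h0 hε hx ht, cusp_unip θ hodd h0 hε hy (hxy ▸ ht)]

theorem neg_one_ne_one' (hodd : Odd q) : (-1 : G) ≠ 1 :=
  fun h => two_ne_zero' hodd (by
    have := congrArg (fun g : G => (g : M2) 0 0) h
    simp at this
    linear_combination -this)

theorem pow_half (h0 : NoEig g0) (hodd : Odd q) (c : cent g0) :
    c ^ ((q + 1) / 2) = 1 ∨ c ^ ((q + 1) / 2) = negOne g0 := by
  obtain ⟨k, hk⟩ := hodd
  have h1 : (c ^ ((q + 1) / 2)) * (c ^ ((q + 1) / 2)) = 1 := by
    rw [← pow_add, show (q + 1) / 2 + (q + 1) / 2 = q + 1 by omega, ← (card_cent_noEig h0).1,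
      pow_card_eq_one']
  have h2 : ((c ^ ((q + 1) / 2) : cent g0) : G) * ((c ^ ((q + 1) / 2) : cent g0) : G) = 1 :=
    congrArg Subtype.val h1
  set x : G := ((c ^ ((q + 1) / 2) : cent g0) : G) with hx
  have hs : x = 1 ∨ x = -1 := by
    have h3 : x⁻¹ = x := inv_eq_of_mul_eq_one_left h2
    by_contra hh
    have hns : ¬ Scal x := fun h => hh ((scal_iff x).1 h)
    by_cases ht : tr x ^ 2 = 4
    · obtain ⟨-, -, -⟩ := exists_unip_conj hns ht
      have e := mul_self x
      have hc := congrArg (Subtype.val) h2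
      rw [Matrix.SpecialLinearGroup.coe_mul, Matrix.SpecialLinearGroup.coe_one, e] at hc
      have e01 := congrFun (congrFun hc 0) 1
      have e10 := congrFun (congrFun hc 1) 0
      have e00 := congrFun (congrFun hc 0) 0
      have e11 := congrFun (congrFun hc 1) 1
      simp at e01 e10 e00 e11
      have htn : tr x ≠ 0 := fun h => by
        rw [h, zero_pow two_ne_zero] at ht
        exact two_ne_zero' ⟨k, hk⟩ (pow_eq_zero_iff two_ne_zero |>.1
          (by linear_combination -ht))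
      refine hns ⟨by simpa [htn] using e01, by simpa [htn] using e10, ?_⟩
      exact mul_left_cancel₀ htn (by linear_combination e00 - e11)
    · exact ne_inv ht h3.symm
  rcases hs with h | h
  · exact Or.inl (Subtype.ext h)
  · exact Or.inr (Subtype.ext h)

theorem negOne_ne_one (hodd : Odd q) : negOne g0 ≠ 1 := fun h =>
  neg_one_ne_one' hodd (congrArg Subtype.val h)

theorem cent_mul_comm (h0 : NoEig g0) (a b : cent g0) : a * b = b * a :=
  Subtype.ext (cent_comm (scal_of_tr_sq_ne h0.tr_sq) a.2 b.2)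

/-- The character of order two of the torus. -/
theorem exists_theta0 (h0 : NoEig g0) (hodd : Odd q) :
    ∃ θ : cent g0 →* ℂˣ, θ ≠ 1 ∧ θ = θ⁻¹ ∧
      ∀ c : cent g0, ((θ c : ℂˣ) : ℂ) = if c ^ ((q + 1) / 2) = 1 then 1 else -1 := by
  classical
  set m := (q + 1) / 2 with hm
  have hn1 := negOne_ne_one (g0 := g0) hodd
  let θ : cent g0 →* ℂˣ :=
    { toFun := fun c => if c ^ m = 1 then 1 else -1
      map_one' := by simp
      map_mul' := fun a b => by
        have e : (a * b) ^ m = a ^ m * b ^ m := (Commute.mul_pow (cent_mul_comm h0 a b) m)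
        rw [e]
        rcases pow_half h0 hodd a with ha | ha <;> rcases pow_half h0 hodd b with hb | hb <;>
          rw [← hm] at ha hb <;> simp [ha, hb, hn1, negOne_mul_self] }
  have hsq : ∀ c : cent g0, θ c * θ c = 1 := fun c => by
    show (if c ^ m = 1 then (1 : ℂˣ) else -1) * (if c ^ m = 1 then (1 : ℂˣ) else -1) = 1
    split_ifs <;> simp
  refine ⟨θ, ?_, MonoidHom.ext fun c => eq_inv_of_mul_eq_one_left (hsq c), fun c => ?_⟩
  · intro h
    haveI := isCyclic_cent h0.tr_sq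
    obtain ⟨γ, hγ⟩ := IsCyclic.exists_generator (α := cent g0)
    have hord : orderOf γ = q + 1 := by
      rw [orderOf_eq_card_of_forall_mem_zpowers hγ, (card_cent_noEig h0).1]
    have hne : ¬ γ ^ m = 1 := fun h1 => by
      have := two_le_q (F := F)
      have := Nat.le_of_dvd (by omega) (orderOf_dvd_of_pow_eq_one h1)
      have := two_le_q (F := F)
      omega
    have h2 : θ γ = 1 := by rw [h]; rfl
    rw [show θ γ = if γ ^ m = 1 then 1 else -1 from rfl, if_neg hne, Units.ext_iff] at h2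
    norm_num at h2
  · show (((if c ^ m = 1 then (1 : ℂˣ) else -1) : ℂˣ) : ℂ) = _
    split_ifs <;> simp

theorem card_fibres {A : Type*} [CommGroup A] [Fintype A] [DecidableEq A] {B : Type*}
    [DecidableEq B] (f : A → B) [hA : IsCyclic A] (h2 : ∃ a : A, a ≠ 1 ∧ a = a⁻¹)
    (hf : ∀ a b : A, a ≠ a⁻¹ → b ≠ b⁻¹ → (f a = f b ↔ b = a ∨ b = a⁻¹)) :
    (Finset.univ.filter fun a : A => a = a⁻¹).card = 2 ∧
      2 * ((Finset.univ.filter fun a : A => a ≠ a⁻¹).image f).card + 2 = Fintype.card A ∧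
      ∀ a : A, a = a⁻¹ → a = 1 ∨ a = h2.choose := by
  classical
  obtain ⟨h21, h22⟩ := h2.choose_spec
  set t := h2.choose
  have e : (Finset.univ.filter fun a : A => a = a⁻¹) = Finset.univ.filter fun a : A => a ^ 2 = 1 := by
    ext a; simp [pow_two, eq_inv_iff_mul_eq_one]
  have hle : (Finset.univ.filter fun a : A => a = a⁻¹).card ≤ 2 := by
    rw [e]; exact IsCyclic.card_pow_eq_one_le two_pos
  have hsub : ({1, t} : Finset A) ⊆ Finset.univ.filter fun a : A => a = a⁻¹ := by
    intro a ha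
    simp only [Finset.mem_insert, Finset.mem_singleton] at ha
    rcases ha with rfl | rfl
    · simp
    · exact Finset.mem_filter.2 ⟨Finset.mem_univ _, h22⟩
  have heq := Finset.eq_of_subset_of_card_le hsub (by rw [Finset.card_pair h21.symm]; exact hle)
  have hcard : (Finset.univ.filter fun a : A => a = a⁻¹).card = 2 := by
    rw [← heq, Finset.card_pair h21.symm]
  refine ⟨hcard, ?_, fun a ha => ?_⟩
  · set S := Finset.univ.filter fun a : A => a ≠ a⁻¹ with hS
    have hfib : ∀ y ∈ S.image f, (S.filter fun a => f a = y).card = 2 := by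
      intro y hy
      obtain ⟨a, ha, rfl⟩ := Finset.mem_image.1 hy
      have ha' := (Finset.mem_filter.1 ha).2
      have : (S.filter fun b => f b = f a) = {a, a⁻¹} := by
        ext b
        simp only [hS, Finset.mem_filter, Finset.mem_univ, true_and, Finset.mem_insert,
          Finset.mem_singleton]
        constructor
        · rintro ⟨hb, hfb⟩
          exact (hf a b ha' hb).1 hfb.symm
        · intro hb
          have hb' : b ≠ b⁻¹ := by
            rcases hb with rfl | rfl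
            · exact ha'
            · rw [inv_inv]; exact ha'.symm
          exact ⟨hb', ((hf a b ha' hb').2 hb).symm⟩
      rw [this, Finset.card_pair ha']
    have h1 : S.card = (S.image f).card * 2 := by
      rw [Finset.card_eq_sum_card_image f S, Finset.sum_congr rfl hfib, Finset.sum_const,
        smul_eq_mul]
    have h3 : (Finset.univ.filter fun a : A => a = a⁻¹).card + S.card = Fintype.card A :=
      Finset.card_filter_add_card_filter_not _
    omega
  · have : a ∈ ({1, t} : Finset A) := by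
      rw [heq]; exact Finset.mem_filter.2 ⟨Finset.mem_univ _, ha⟩
    simpa using this

theorem fibres_mulChar (hodd : Odd q) [DecidableEq (MulChar F ℂ)] [Fintype (MulChar F ℂ)] :
    2 * ((Finset.univ.filter fun α : MulChar F ℂ => α ≠ α⁻¹).image
        (fun α => (princ α : G → ℂ))).card + 3 = q ∧
      ∀ α : MulChar F ℂ, α = α⁻¹ → α = 1 ∨ α = sgnChar F := by
  classical
  obtain ⟨e⟩ := MulChar.mulEquiv_units F ℂ
  haveI : IsCyclic (MulChar F ℂ) := isCyclic_of_surjective e.symm.toMonoidHom e.symm.surjective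
  have h2 : ∃ a : MulChar F ℂ, a ≠ 1 ∧ a = a⁻¹ := ⟨_, sgnChar_ne_one hodd, sgnChar_inv.symm⟩
  obtain ⟨-, hcard, hcase⟩ := card_fibres (fun α => (princ α : G → ℂ)) h2 fun α β hα hβ => by
    constructor
    · intro h
      by_contra hh
      push Not at hh
      have h1 := inner_princ hodd α β
      rw [← h, inner_princ hodd α α, if_pos rfl, if_neg hα, if_neg (fun e => hh.1 e.symm),
        if_neg (fun e => hh.2 (by rw [e, inv_inv]))] at h1
      norm_num at h1
    · intro h
      refine CT.eq_of_inner_ne_zero (isIrr_princ hodd hα) (isIrr_princ hodd hβ) ?_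
      rw [inner_princ hodd]
      rcases h with rfl | rfl
      · rw [if_pos rfl, if_neg hα]; norm_num
      · rw [if_neg hα, if_pos (inv_inv α).symm]; norm_num
  refine ⟨?_, fun α hα => ?_⟩
  · have := Nat.card_congr e.toEquiv
    rw [Nat.card_units, Nat.card_eq_fintype_card, Nat.card_eq_fintype_card] at this
    have := two_le_q (F := F)
    omega
  · rcases hcase α hα with h | h
    · exact Or.inl h
    · rcases hcase _ sgnChar_inv.symm with h' | h'
      · exact absurd h' (sgnChar_ne_one hodd)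
      · exact Or.inr (h.trans h'.symm)

theorem fibres_theta (h0 : NoEig g0) (hodd : Odd q) {θ0 : cent g0 →* ℂˣ} (h01 : θ0 ≠ 1)
    (h02 : θ0 = θ0⁻¹) [DecidableEq (cent g0 →* ℂˣ)] [Fintype (cent g0 →* ℂˣ)] :
    2 * ((Finset.univ.filter fun θ : cent g0 →* ℂˣ => θ ≠ θ⁻¹).image
        (fun θ => (cusp θ : G → ℂ))).card + 1 = q ∧
      ∀ θ : cent g0 →* ℂˣ, θ = θ⁻¹ → θ = 1 ∨ θ = θ0 := by
  classical
  haveI := isCyclic_cent h0.tr_sq
  letI : CommGroup (cent g0) := IsCyclic.commGroup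
  obtain ⟨e⟩ := CommGroup.monoidHom_mulEquiv_of_hasEnoughRootsOfUnity (cent g0) ℂ
  haveI : IsCyclic (cent g0 →* ℂˣ) := isCyclic_of_surjective e.symm.toMonoidHom e.symm.surjective
  have hinv : ∀ η : cent g0 →* ℂˣ, η⁻¹⁻¹ = η := fun η => MonoidHom.ext fun c => inv_inv (η c)
  obtain ⟨-, hcard, hcase⟩ := card_fibres (fun θ => (cusp θ : G → ℂ)) ⟨θ0, h01, h02⟩
    fun α β hα hβ => by
      constructor
      · intro h
        by_contra hh
        push Not at hh
        have h1 := inner_cusp hodd h0 α β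
        rw [← h, inner_cusp hodd h0 α α, if_pos rfl, if_neg hα, if_neg (fun e => hh.1 e.symm),
          if_neg (fun e => hh.2 (by rw [e]; exact (hinv _).symm))] at h1
        norm_num at h1
      · intro h
        refine CT.eq_of_inner_ne_zero (isIrr_cusp hodd h0 hα) (isIrr_cusp hodd h0 hβ) ?_
        rw [inner_cusp hodd h0]
        rcases h with rfl | rfl
        · rw [if_pos rfl, if_neg hα]; norm_num
        · rw [if_neg hα, if_pos (hinv α).symm]; norm_num
  refine ⟨?_, fun θ hθ => ?_⟩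
  · have := Nat.card_congr e.toEquiv
    rw [(card_cent_noEig h0).1, Nat.card_eq_fintype_card] at this
    omega
  · rcases hcase θ hθ with h | h
    · exact Or.inl h
    · rcases hcase θ0 h02 with h' | h'
      · exact absurd h' h01
      · exact Or.inr (h.trans h'.symm)

/-- A half of `princ sgn`. -/
def IsHalfP (χ : Matrix.SpecialLinearGroup (Fin 2) F → ℂ) : Prop :=
  χ 1 = ((q : ℂ) + 1) / 2 ∧
    (∀ g, Scal g ∨ tr g ^ 2 ≠ 4 → χ g = princ (sgnChar F) g / 2) ∧ ∑ r : F, χ (uu r) = (q : ℂ)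

/-- A half of the cuspidal character at a character of order two. -/
def IsHalfC (θ0 : cent g0 →* ℂˣ) (χ : Matrix.SpecialLinearGroup (Fin 2) F → ℂ) : Prop :=
  χ 1 = ((q : ℂ) - 1) / 2 ∧
    (∀ g, Scal g ∨ tr g ^ 2 ≠ 4 → χ g = cusp θ0 g / 2) ∧ ∑ r : F, χ (uu r) = 0

theorem sum_uu_const (f : G → ℂ) {A : ℂ} (h : ∀ r : F, r ≠ 0 → f (uu r) = A) :
    ∑ r : F, f (uu r) = f 1 + ((q : ℂ) - 1) * A := by
  classical
  rw [← Finset.add_sum_erase _ _ (Finset.mem_univ (0 : F)), uu_zero,
    Finset.sum_congr rfl (fun r hr => h r (Finset.ne_of_mem_erase hr)), Finset.sum_const,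
    Finset.card_erase_of_mem (Finset.mem_univ _), Finset.card_univ, nsmul_eq_mul,
    Nat.cast_sub (Fintype.card_pos (α := F)), Nat.cast_one]

theorem princ_uu (hodd : Odd q) (α : MulChar F ℂ) {r : F} (hr : r ≠ 0) : princ α (uu r) = 1 := by
  rw [princ_unip hodd α (one_pow 2) (not_scal_uu hr) (by rw [tr_uu, mul_one]), map_one]

theorem cusp_uu (h0 : NoEig g0) (hodd : Odd q) (θ : cent g0 →* ℂˣ) {r : F} (hr : r ≠ 0) :
    cusp θ (uu r) = -1 := by
  rw [cusp_unip θ hodd h0 (one_pow 2) (not_scal_uu hr) (by rw [tr_uu, mul_one]), sgnAt_one θ]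

set_option maxHeartbeats 800000 in
/-- The classification of the irreducible characters and the sum of a function of the degree. -/
theorem table (h0 : NoEig g0) (hodd : Odd q) {θ0 : cent g0 →* ℂˣ} (h01 : θ0 ≠ 1)
    (h02 : θ0 = θ0⁻¹) :
    (∀ χ : Cfsg.IrrCharacter G, (χ : G → ℂ) = (fun _ => 1) ∨ (χ : G → ℂ) = st ∨
      (∃ α : MulChar F ℂ, α ≠ α⁻¹ ∧ (χ : G → ℂ) = princ α) ∨
      (∃ θ : cent g0 →* ℂˣ, θ ≠ θ⁻¹ ∧ (χ : G → ℂ) = cusp θ) ∨
      IsHalfP (χ : G → ℂ) ∨ IsHalfC θ0 (χ : G → ℂ)) ∧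
    (∀ f : ℂ → ℂ, 2 * ∑ χ : Cfsg.IrrCharacter G, f ((χ : G → ℂ) 1) =
      2 * f 1 + 2 * f (q : ℂ) + ((q : ℂ) - 3) * f ((q : ℂ) + 1) +
        ((q : ℂ) - 1) * f ((q : ℂ) - 1) + 4 * f (((q : ℂ) + 1) / 2) +
        4 * f (((q : ℂ) - 1) / 2)) := by
  classical
  haveI : Fintype (MulChar F ℂ) := Fintype.ofFinite _
  haveI := isCyclic_cent h0.tr_sq
  letI : CommGroup (cent g0) := IsCyclic.commGroup
  haveI : Finite (cent g0 →* ℂˣ) := Finite.of_equiv _
    (CommGroup.monoidHom_mulEquiv_of_hasEnoughRootsOfUnity (cent g0) ℂ).some.symm.toEquiv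
  haveI : Fintype (cent g0 →* ℂˣ) := Fintype.ofFinite _
  obtain ⟨hAc, hAcase⟩ := fibres_mulChar (F := F) hodd
  obtain ⟨hTc, hTcase⟩ := fibres_theta h0 hodd h01 h02
  have hq := two_le_q (F := F)
  -- the halves of `princ sgn`
  have hs2 : Cfsg.classInner (princ (sgnChar F)) (princ (sgnChar F)) = 2 := by
    rw [inner_princ hodd, if_pos rfl, if_pos sgnChar_inv.symm]; norm_num
  obtain ⟨P, Q, e, e', hPQ, he, he', hexp⟩ :=
    norm_two (CT.isGen_of_isCharacter (isCharacter_princ (sgnChar F))) hs2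
  have hcomb : ∀ (a b : Cfsg.IrrCharacter G) (x : G → ℂ) (u v : ℤ), a ≠ b →
      x = (u : ℂ) • (a : G → ℂ) + (v : ℂ) • (b : G → ℂ) →
      Cfsg.classInner x (a : G → ℂ) = u ∧ Cfsg.classInner x (b : G → ℂ) = v := by
    intro a b x u v hab hx
    subst hx
    rw [CT.classInner_add_left, CT.classInner_add_left, CT.classInner_smul_left,
      CT.classInner_smul_left, CT.classInner_smul_left, CT.classInner_smul_left,
      CT.irr_inner_self a.2, CT.irr_inner_self b.2,
      CT.irr_inner_of_ne b.2 a.2 (fun h => hab (Subtype.ext h.symm)),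
      CT.irr_inner_of_ne a.2 b.2 (fun h => hab (Subtype.ext h))]
    constructor <;> ring
  obtain ⟨hP, hQ⟩ := hcomb P Q _ e e' hPQ hexp
  have he1 : e = 1 := by
    obtain ⟨n, hn⟩ := CT.classInner_character_nat (isCharacter_princ (sgnChar F))
      (CT.isCharacter_of_isIrr P.2)
    rw [hP] at hn
    have : e = (n : ℤ) := by exact_mod_cast hn
    omega
  have he1' : e' = 1 := by
    obtain ⟨n, hn⟩ := CT.classInner_character_nat (isCharacter_princ (sgnChar F))
      (CT.isCharacter_of_isIrr Q.2)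
    rw [hQ] at hn
    have : e' = (n : ℤ) := by exact_mod_cast hn
    omega
  subst he1 he1'
  simp only [Int.cast_one, one_smul] at hexp
  rw [Int.cast_one] at hP hQ
  have hne1 : ∀ (a : Cfsg.IrrCharacter G) (x : G → ℂ),
      Cfsg.classInner x (fun _ : G => (1 : ℂ)) = 0 → Cfsg.classInner x (a : G → ℂ) = 1 →
      (a : G → ℂ) ≠ fun _ => 1 := fun a x h1 h2 h3 => by
    rw [h3, h1] at h2; exact zero_ne_one h2
  have hP1 := inner_princ_trivial hodd (sgnChar F)
  rw [if_neg (sgnChar_ne_one hodd)] at hP1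
  obtain ⟨hPval, hPU, hQU⟩ := halves hodd P.2 Q.2 (fun h => hPQ (Subtype.ext h)) hexp
    (fun g => princ_fixed hodd _ _ g)
    (fun r hr => by rw [princ_one, princ_uu hodd _ hr]; ring)
    (hne1 P _ hP1 hP) (hne1 Q _ hP1 hQ)
  have hUsum : ∑ r : F, princ (sgnChar F) (uu r) = 2 * (q : ℂ) := by
    rw [sum_uu_const _ (fun r hr => princ_uu hodd _ hr), princ_one]; ring
  have hhP : IsHalfP (P : G → ℂ) := ⟨by
      rw [(hPval 1 (Or.inl ((scal_iff (1 : G)).2 (Or.inl rfl)))).1, princ_one],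
    fun g hg => (hPval g hg).1, by rw [hPU, hUsum]; ring⟩
  have hhQ : IsHalfP (Q : G → ℂ) := ⟨by
      rw [(hPval 1 (Or.inl ((scal_iff (1 : G)).2 (Or.inl rfl)))).2, princ_one],
    fun g hg => (hPval g hg).2, by rw [hQU, hUsum]; ring⟩
  -- the known characters
  let one' : Cfsg.IrrCharacter G := CT.trivIrr G
  let st' : Cfsg.IrrCharacter G := ⟨st, isIrr_st hodd⟩
  let A := Finset.univ.filter fun χ : Cfsg.IrrCharacter G =>
    ∃ α : MulChar F ℂ, α ≠ α⁻¹ ∧ (χ : G → ℂ) = princ α
  let T := Finset.univ.filter fun χ : Cfsg.IrrCharacter G =>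
    ∃ θ : cent g0 →* ℂˣ, θ ≠ θ⁻¹ ∧ (χ : G → ℂ) = cusp θ
  have hAcard : 2 * A.card + 3 = q := by
    rw [← hAc]
    congr 2
    refine Finset.card_bij (fun χ _ => (χ : G → ℂ)) (fun χ hχ => ?_)
      (fun a _ b _ h => Subtype.ext h) fun y hy => ?_
    · obtain ⟨α, hα, he⟩ := (Finset.mem_filter.1 hχ).2
      exact Finset.mem_image.2 ⟨α, Finset.mem_filter.2 ⟨Finset.mem_univ _, hα⟩, he.symm⟩
    · obtain ⟨α, hα, rfl⟩ := Finset.mem_image.1 hy
      have hα' := (Finset.mem_filter.1 hα).2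
      exact ⟨⟨_, isIrr_princ hodd hα'⟩,
        Finset.mem_filter.2 ⟨Finset.mem_univ _, α, hα', rfl⟩, rfl⟩
  have hTcard : 2 * T.card + 1 = q := by
    rw [← hTc]
    congr 2
    refine Finset.card_bij (fun χ _ => (χ : G → ℂ)) (fun χ hχ => ?_)
      (fun a _ b _ h => Subtype.ext h) fun y hy => ?_
    · obtain ⟨α, hα, he⟩ := (Finset.mem_filter.1 hχ).2
      exact Finset.mem_image.2 ⟨α, Finset.mem_filter.2 ⟨Finset.mem_univ _, hα⟩, he.symm⟩
    · obtain ⟨α, hα, rfl⟩ := Finset.mem_image.1 hy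
      have hα' := (Finset.mem_filter.1 hα).2
      exact ⟨⟨_, isIrr_cusp hodd h0 hα'⟩,
        Finset.mem_filter.2 ⟨Finset.mem_univ _, α, hα', rfl⟩, rfl⟩
  -- inner products that separate them
  have iPQ : ∀ x : G → ℂ, Cfsg.IsCharacter G x → Cfsg.classInner (princ (sgnChar F)) x = 0 →
      Cfsg.classInner (P : G → ℂ) x = 0 ∧ Cfsg.classInner (Q : G → ℂ) x = 0 := by
    intro x hx h
    obtain ⟨n, hn⟩ := CT.classInner_character_nat (CT.isCharacter_of_isIrr P.2) hx
    obtain ⟨m, hm⟩ := CT.classInner_character_nat (CT.isCharacter_of_isIrr Q.2) hx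
    rw [hexp, CT.classInner_add_left, hn, hm] at h
    have hnm : n + m = 0 := by exact_mod_cast h
    rw [hn, hm, Nat.eq_zero_of_add_eq_zero_right hnm, Nat.eq_zero_of_add_eq_zero_left hnm,
      Nat.cast_zero]
    exact ⟨rfl, rfl⟩
  have hPst : Cfsg.classInner (princ (sgnChar F)) (st : G → ℂ) = 0 := by
    rw [inner_princ_st hodd, if_neg (sgnChar_ne_one hodd)]
  obtain ⟨hP_st, hQ_st⟩ := iPQ _ (CT.isCharacter_of_isIrr (isIrr_st hodd)) hPst
  have ne_of_inner : ∀ (a b : Cfsg.IrrCharacter G),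
      Cfsg.classInner (a : G → ℂ) (b : G → ℂ) = 0 → a ≠ b := fun a b h hab => by
    rw [hab, CT.irr_inner_self b.2] at h; exact one_ne_zero h
  have hst1 : st' ≠ one' := fun h => by
    have := congrArg (fun χ : Cfsg.IrrCharacter G => (χ : G → ℂ) 1) h
    simp [st', one', st_one] at this
    omega
  have hPst' : P ≠ st' := ne_of_inner _ _ hP_st
  have hQst' : Q ≠ st' := ne_of_inner _ _ hQ_st
  have hP1' : P ≠ one' := fun h => hne1 P _ hP1 hP (congrArg Subtype.val h)
  have hQ1' : Q ≠ one' := fun h => hne1 Q _ hP1 hQ (congrArg Subtype.val h)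
  have h1A : one' ∉ A := fun h => by
    obtain ⟨α, hα, he⟩ := (Finset.mem_filter.1 h).2
    have := inner_princ_trivial hodd α
    rw [← he, if_neg (fun e => hα (by rw [e, inv_one]))] at this
    exact one_ne_zero ((CT.irr_inner_self one'.2).symm.trans this)
  have hstA : st' ∉ A := fun h => by
    obtain ⟨α, hα, he⟩ := (Finset.mem_filter.1 h).2
    have := inner_princ_st hodd α
    rw [← he, if_neg (fun e => hα (by rw [e, inv_one]))] at this
    exact one_ne_zero ((CT.irr_inner_self st'.2).symm.trans this)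
  have hθ1 : ∀ θ : cent g0 →* ℂˣ, θ ≠ θ⁻¹ → θ ≠ 1 := fun θ hθ e => hθ (by
    rw [e]; exact MonoidHom.ext fun c => by simp)
  have h1T : one' ∉ T := fun h => by
    obtain ⟨θ, hθ, he⟩ := (Finset.mem_filter.1 h).2
    have := inner_cusp_one hodd h0 θ (hθ1 θ hθ)
    rw [← he] at this
    exact one_ne_zero ((CT.irr_inner_self one'.2).symm.trans this)
  have hcst : ∀ θ : cent g0 →* ℂˣ, θ ≠ 1 → Cfsg.classInner (cusp θ) (st : G → ℂ) = 0 := by
    intro θ hθ
    rw [show (st : G → ℂ) = princ 1 - fun _ => 1 from rfl, CT.classInner_sub_right,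
      inner_cusp_one hodd h0 θ hθ, ← CT.classInner_conj_symm, inner_princ_cusp hodd h0, map_zero,
      sub_zero]
  have hstT : st' ∉ T := fun h => by
    obtain ⟨θ, hθ, he⟩ := (Finset.mem_filter.1 h).2
    have := hcst θ (hθ1 θ hθ)
    rw [← he] at this
    exact one_ne_zero ((CT.irr_inner_self st'.2).symm.trans this)
  have hPA : ∀ χ : Cfsg.IrrCharacter G, χ ∈ A →
      Cfsg.classInner (princ (sgnChar F)) (χ : G → ℂ) = 0 := fun χ h => by
    obtain ⟨α, hα, he⟩ := (Finset.mem_filter.1 h).2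
    rw [he, inner_princ hodd, if_neg (fun e => hα (by rw [← e, sgnChar_inv])),
      if_neg (fun e => hα (by
        have e' : α = sgnChar F := by rw [← inv_inv α, ← e, sgnChar_inv]
        rw [e', sgnChar_inv])), add_zero]
  have hPnA : P ∉ A := fun h => by
    have := hPA P h; rw [hP] at this; exact one_ne_zero this
  have hQnA : Q ∉ A := fun h => by
    have := hPA Q h; rw [hQ] at this; exact one_ne_zero this
  have hPnT : P ∉ T := fun h => by
    obtain ⟨θ, hθ, he⟩ := (Finset.mem_filter.1 h).2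
    have := inner_princ_cusp hodd h0 (sgnChar F) θ
    rw [← he, hP] at this; exact one_ne_zero this
  have hQnT : Q ∉ T := fun h => by
    obtain ⟨θ, hθ, he⟩ := (Finset.mem_filter.1 h).2
    have := inner_princ_cusp hodd h0 (sgnChar F) θ
    rw [← he, hQ] at this; exact one_ne_zero this
  have hAT : Disjoint A T := Finset.disjoint_left.2 fun χ hA hT => by
    obtain ⟨α, -, he⟩ := (Finset.mem_filter.1 hA).2
    obtain ⟨θ, -, he'⟩ := (Finset.mem_filter.1 hT).2
    have := inner_princ_cusp hodd h0 α θ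
    rw [← he, ← he', CT.irr_inner_self χ.2] at this
    exact one_ne_zero this
  let S0 : Finset (Cfsg.IrrCharacter G) := {one', st', P, Q} ∪ (A ∪ T)
  have hS0 : ∀ φ : Cfsg.IrrCharacter G → ℂ, ∑ χ ∈ S0, φ χ =
      φ one' + φ st' + φ P + φ Q + (∑ χ ∈ A, φ χ + ∑ χ ∈ T, φ χ) := by
    intro φ
    have hd : Disjoint ({one', st', P, Q} : Finset (Cfsg.IrrCharacter G)) (A ∪ T) := by
      simp only [Finset.disjoint_insert_left, Finset.disjoint_singleton_left, Finset.mem_union,
        not_or]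
      exact ⟨⟨h1A, h1T⟩, ⟨hstA, hstT⟩, ⟨hPnA, hPnT⟩, hQnA, hQnT⟩
    rw [Finset.sum_union hd, Finset.sum_union hAT, Finset.sum_insert (by
      simp only [Finset.mem_insert, Finset.mem_singleton, not_or]
      exact ⟨hst1.symm, hP1'.symm, hQ1'.symm⟩), Finset.sum_insert (by
      simp only [Finset.mem_insert, Finset.mem_singleton, not_or]
      exact ⟨hPst'.symm, hQst'.symm⟩), Finset.sum_pair hPQ]
    ring
  have hdA : ∀ χ ∈ A, (χ : G → ℂ) 1 = (q : ℂ) + 1 := fun χ h => by
    obtain ⟨α, -, he⟩ := (Finset.mem_filter.1 h).2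
    rw [he, princ_one]
  have hdT : ∀ χ ∈ T, (χ : G → ℂ) 1 = (q : ℂ) - 1 := fun χ h => by
    obtain ⟨θ, -, he⟩ := (Finset.mem_filter.1 h).2
    rw [he, cusp_one θ hodd h0]
  have hAc' : (A.card : ℂ) = ((q : ℂ) - 3) / 2 := by
    rw [show (q : ℂ) = ((2 * A.card + 3 : ℕ) : ℂ) from by rw [hAcard]]
    push_cast; ring
  have hTc' : (T.card : ℂ) = ((q : ℂ) - 1) / 2 := by
    rw [show (q : ℂ) = ((2 * T.card + 1 : ℕ) : ℂ) from by rw [hTcard]]
    push_cast; ring
  have hS0f : ∀ f : ℂ → ℂ, ∑ χ ∈ S0, f ((χ : G → ℂ) 1) = f 1 + f (q : ℂ) +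
      2 * f (((q : ℂ) + 1) / 2) + ((q : ℂ) - 3) / 2 * f ((q : ℂ) + 1) +
      ((q : ℂ) - 1) / 2 * f ((q : ℂ) - 1) := fun f => by
    rw [hS0, Finset.sum_congr rfl (fun χ h => by rw [hdA χ h]),
      Finset.sum_congr (s₁ := T) rfl (fun χ h => by rw [hdT χ h]), Finset.sum_const,
      Finset.sum_const, nsmul_eq_mul, nsmul_eq_mul, hAc', hTc', hhP.1, hhQ.1]
    simp only [st', one', CT.trivIrr_apply, st_one]
    ring
  have hrest : ∑ χ ∈ S0ᶜ, (χ : G → ℂ) 1 ^ 2 = ((q : ℂ) - 1) ^ 2 / 2 := by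
    have h : ∑ χ : Cfsg.IrrCharacter G, (χ : G → ℂ) 1 ^ 2 = (Nat.card G : ℂ) := CT.sum_degree_sq
    rw [← Finset.sum_add_sum_compl S0, hS0f (fun x => x ^ 2), card_G] at h
    push_cast [Nat.cast_sub (by omega : 1 ≤ q)] at h
    linear_combination h
  -- the halves of the cuspidal character
  have hc2 : Cfsg.classInner (cusp θ0) (cusp θ0) = 2 := by
    rw [inner_cusp hodd h0, if_pos rfl, if_pos h02]; norm_num
  obtain ⟨C, D, u, v, hCD, hu, hv, hexpC⟩ := norm_two (isGen_cusp θ0) hc2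
  obtain ⟨hC, hD⟩ := hcomb C D _ u v hCD hexpC
  have cuspP : ∀ X : Cfsg.IrrCharacter G, X = P ∨ X = Q →
      Cfsg.classInner (cusp θ0) (X : G → ℂ) = 0 := by
    have hswap : Cfsg.classInner (cusp θ0) (P : G → ℂ) + Cfsg.classInner (cusp θ0) (Q : G → ℂ) = 0 := by
      rw [← CT.classInner_add_right, ← hexp, ← CT.classInner_conj_symm,
        inner_princ_cusp hodd h0, map_zero]
    set ν := nsqU hodd
    have hPQφ : (fun g => (P : G → ℂ) (diagAut ν g)) = (Q : G → ℂ) :=
      halves_swap hodd P.2 Q.2 (fun h => hPQ (Subtype.ext h)) hexp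
        (fun g => princ_fixed hodd _ _ g)
        (fun r hr => by rw [princ_one, princ_uu hodd _ hr]; ring)
        (hne1 P _ hP1 hP) (hne1 Q _ hP1 hQ)
    have heq : Cfsg.classInner (cusp θ0) (P : G → ℂ) = Cfsg.classInner (cusp θ0) (Q : G → ℂ) := by
      rw [← hPQφ, ← classInner_diagAut ν (cusp θ0) (P : G → ℂ)]
      simp only [cusp_fixed hodd h0]
    intro X hX
    rcases hX with rfl | rfl
    · linear_combination (hswap + heq) / 2
    · linear_combination (hswap - heq) / 2
  have hnotS0 : ∀ χ : Cfsg.IrrCharacter G, Cfsg.classInner (cusp θ0) (χ : G → ℂ) ≠ 0 →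
      χ ∉ S0 := by
    intro χ hne hm
    simp only [S0, Finset.mem_union, Finset.mem_insert, Finset.mem_singleton] at hm
    rcases hm with (h | h | h | h) | h | h
    · rw [h] at hne; exact hne (inner_cusp_one hodd h0 θ0 h01)
    · rw [h] at hne; exact hne (hcst θ0 h01)
    · rw [h] at hne; exact hne (cuspP P (Or.inl rfl))
    · rw [h] at hne; exact hne (cuspP Q (Or.inr rfl))
    · obtain ⟨α, -, he⟩ := (Finset.mem_filter.1 h).2
      rw [he, ← CT.classInner_conj_symm, inner_princ_cusp hodd h0, map_zero] at hne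
      exact hne rfl
    · obtain ⟨θ, hθ, he⟩ := (Finset.mem_filter.1 h).2
      rw [he, inner_cusp hodd h0, if_neg (fun e => hθ (by rw [← e]; exact h02)),
        if_neg (fun e => hθ (by
          have e' : θ = θ0 := by rw [h02, e]; exact MonoidHom.ext fun c => (inv_inv (θ c)).symm
          rw [e']; exact h02)), add_zero] at hne
      exact hne rfl
  have hu0 : (u : ℂ) ≠ 0 := by rcases hu with rfl | rfl <;> norm_num
  have hv0 : (v : ℂ) ≠ 0 := by rcases hv with rfl | rfl <;> norm_num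
  have hCn : C ∉ S0 := hnotS0 C (hC ▸ hu0)
  have hDn : D ∉ S0 := hnotS0 D (hD ▸ hv0)
  obtain ⟨c, hc⟩ : ∃ c : ℕ, (C : G → ℂ) 1 = c := CT.exists_degree (CT.isCharacter_of_isIrr C.2)
  obtain ⟨d, hd⟩ : ∃ d : ℕ, (D : G → ℂ) 1 = d := CT.exists_degree (CT.isCharacter_of_isIrr D.2)
  have hc0 : c ≠ 0 := fun h => CT.irr_one_ne_zero C.2 (by rw [hc, h, Nat.cast_zero])
  have hd0 : d ≠ 0 := fun h => CT.irr_one_ne_zero D.2 (by rw [hd, h, Nat.cast_zero])
  set R := (S0ᶜ \ {C, D}) with hR
  have hsplit : ∀ φ : Cfsg.IrrCharacter G → ℂ, ∑ χ ∈ S0ᶜ, φ χ = ∑ χ ∈ R, φ χ + (φ C + φ D) := by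
    intro φ
    rw [← Finset.sum_pair hCD, hR, Finset.sum_sdiff]
    simp [Finset.insert_subset_iff, hCn, hDn]
  set Sq : ℕ := ∑ χ ∈ R, CT.deg (χ : G → ℂ) ^ 2 with hSq
  have hSqC : ∑ χ ∈ R, (χ : G → ℂ) 1 ^ 2 = (Sq : ℂ) := by
    rw [hSq, Nat.cast_sum]
    exact Finset.sum_congr rfl fun χ _ => by
      rw [CT.deg_eq (CT.isCharacter_of_isIrr χ.2)]; push_cast; ring
  have hbound : 2 * ((Sq : ℤ) + ((c : ℤ) ^ 2 + (d : ℤ) ^ 2)) = ((q : ℤ) - 1) ^ 2 := by
    have h := hrest
    rw [hsplit, hSqC, hc, hd] at h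
    have h' : ((2 * ((Sq : ℤ) + ((c : ℤ) ^ 2 + (d : ℤ) ^ 2)) : ℤ) : ℂ) =
        ((((q : ℤ) - 1) ^ 2 : ℤ) : ℂ) := by
      push_cast; linear_combination 2 * h
    exact_mod_cast h'
  have hlin : u * (c : ℤ) + v * (d : ℤ) = (q : ℤ) - 1 := by
    have h := congrFun hexpC 1
    rw [cusp_one θ0 hodd h0] at h
    simp only [Pi.add_apply, Pi.smul_apply, smul_eq_mul, hc, hd] at h
    exact_mod_cast h.symm
  have hcz : (1 : ℤ) ≤ c := by exact_mod_cast Nat.one_le_iff_ne_zero.2 hc0
  have hdz : (1 : ℤ) ≤ d := by exact_mod_cast Nat.one_le_iff_ne_zero.2 hd0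
  have hqz : (2 : ℤ) ≤ q := by exact_mod_cast hq
  have hSz : (0 : ℤ) ≤ Sq := Int.natCast_nonneg _
  obtain ⟨rfl, rfl⟩ : u = 1 ∧ v = 1 := by
    rcases hu with rfl | rfl <;> rcases hv with rfl | rfl
    · exact ⟨rfl, rfl⟩
    · exfalso
      have h1 : (q : ℤ) ≤ c := by linarith
      nlinarith [mul_le_mul h1 h1 (by linarith) (by linarith), sq_nonneg (d : ℤ)]
    · exfalso
      have h1 : (q : ℤ) ≤ d := by linarith
      nlinarith [mul_le_mul h1 h1 (by linarith) (by linarith), sq_nonneg (c : ℤ)]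
    · exfalso; linarith
  have hcd : (c : ℤ) = d := by nlinarith [sq_nonneg ((c : ℤ) - d)]
  have hSq0 : Sq = 0 := by
    have : (Sq : ℤ) = 0 := by rw [← hcd] at hbound hlin; nlinarith
    exact_mod_cast this
  have hRe : R = ∅ := by
    refine Finset.eq_empty_of_forall_notMem fun χ hχ => ?_
    have h := Finset.single_le_sum (f := fun χ : Cfsg.IrrCharacter G => CT.deg (χ : G → ℂ) ^ 2)
      (fun χ _ => Nat.zero_le _) hχ
    have := CT.deg_pos χ.2
    rw [← hSq, hSq0] at h
    have : 0 < CT.deg (χ : G → ℂ) ^ 2 := pow_pos this 2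
    omega
  simp only [Int.cast_one, one_smul] at hexpC
  rw [Int.cast_one] at hC hD
  have hC1 := inner_cusp_one hodd h0 θ0 h01
  obtain ⟨hCval, hCU, hDU⟩ := halves hodd C.2 D.2 (fun h => hCD (Subtype.ext h)) hexpC
    (fun g => cusp_fixed hodd h0 _ _ g)
    (fun r hr => by rw [cusp_one θ0 hodd h0, cusp_uu h0 hodd _ hr]; ring)
    (hne1 C _ hC1 hC) (hne1 D _ hC1 hD)
  have hUsumC : ∑ r : F, cusp θ0 (uu r) = 0 := by
    rw [sum_uu_const _ (fun r hr => cusp_uu h0 hodd θ0 hr), cusp_one θ0 hodd h0]; ring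
  have hhC : IsHalfC θ0 (C : G → ℂ) := ⟨by
      rw [(hCval 1 (Or.inl ((scal_iff (1 : G)).2 (Or.inl rfl)))).1, cusp_one θ0 hodd h0],
    fun g hg => (hCval g hg).1, by rw [hCU, hUsumC]; ring⟩
  have hhD : IsHalfC θ0 (D : G → ℂ) := ⟨by
      rw [(hCval 1 (Or.inl ((scal_iff (1 : G)).2 (Or.inl rfl)))).2, cusp_one θ0 hodd h0],
    fun g hg => (hCval g hg).2, by rw [hDU, hUsumC]; ring⟩
  refine ⟨fun χ => ?_, fun f => ?_⟩
  · by_cases hχ : χ ∈ S0
    · simp only [S0, Finset.mem_union, Finset.mem_insert, Finset.mem_singleton] at hχ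
      rcases hχ with (rfl | rfl | rfl | rfl) | h | h
      · exact Or.inl rfl
      · exact Or.inr (Or.inl rfl)
      · exact Or.inr (Or.inr (Or.inr (Or.inr (Or.inl hhP))))
      · exact Or.inr (Or.inr (Or.inr (Or.inr (Or.inl hhQ))))
      · exact Or.inr (Or.inr (Or.inl (Finset.mem_filter.1 h).2))
      · exact Or.inr (Or.inr (Or.inr (Or.inl (Finset.mem_filter.1 h).2)))
    · have hm : χ ∈ ({C, D} : Finset (Cfsg.IrrCharacter G)) := by
        by_contra hh
        have : χ ∈ R := Finset.mem_sdiff.2 ⟨Finset.mem_compl.2 hχ, hh⟩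
        rw [hRe] at this
        exact Finset.notMem_empty _ this
      simp only [Finset.mem_insert, Finset.mem_singleton] at hm
      rcases hm with rfl | rfl
      · exact Or.inr (Or.inr (Or.inr (Or.inr (Or.inr hhC))))
      · exact Or.inr (Or.inr (Or.inr (Or.inr (Or.inr hhD))))
  · rw [← Finset.sum_add_sum_compl S0, hS0f f, hsplit, hRe, Finset.sum_empty, hhC.1, hhD.1]
    ring

end torus

end Cfsg.Agent.SL2
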